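import Mathlib

set_option autoImplicit false

namespace Groth.Agent.Lib.Helper58.HenselPair

open Polynomial

universe u

variable {A : Type u} [CommRing A] {I : Ideal A}

lemma eval_mem_of_coeff_mem {p : A[X]} (hp : ∀ i, p.coeff i ∈ I) (x : A) : p.eval x ∈ I := by
  rw [eval_eq_sum_range]
  exact I.sum_mem fun i _ => I.mul_mem_right _ (hp i)

lemma isUnit_of_isUnit_mk (hI : I ≤ Ideal.jacobson ⊥) {a : A}
    (h : IsUnit (Ideal.Quotient.mk I a)) : IsUnit a :=
  (isLocalHom_of_le_jacobson_bot I hI).map_nonunit a h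

lemma mk_eq_one_of_sub_one_mem {a : A} (h : a - 1 ∈ I) : Ideal.Quotient.mk I a = 1 := by
  rw [← sub_eq_zero, ← map_one (Ideal.Quotient.mk I), ← map_sub]
  exact Ideal.Quotient.eq_zero_iff_mem.2 h

lemma isUnit_of_sub_one_mem (hI : I ≤ Ideal.jacobson ⊥) {a : A} (h : a - 1 ∈ I) : IsUnit a := by
  apply isUnit_of_isUnit_mk hI
  rw [mk_eq_one_of_sub_one_mem h]; exact isUnit_one

lemma gabber_monic {n : ℕ} {p : A[X]} (hp : p.natDegree ≤ n) :
    (X ^ n * (X - 1) + p : A[X]).Monic := by
  nontriviality A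
  have h1 : (X ^ n * (X - 1) : A[X]).Monic :=
    (monic_X_pow n).mul (by simpa using monic_X_sub_C (1 : A))
  have h2 : (X ^ n * (X - 1) : A[X]).natDegree = n + 1 := by
    rw [Monic.natDegree_mul (monic_X_pow n) (by simpa using monic_X_sub_C (1 : A))]
    have : (X - 1 : A[X]).natDegree = 1 := by simpa using natDegree_X_sub_C (1 : A)
    rw [this, natDegree_X_pow]
  apply h1.add_of_left
  rw [degree_eq_natDegree h1.ne_zero, h2]
  exact lt_of_le_of_lt degree_le_natDegree (by exact_mod_cast Nat.lt_succ_of_le hp)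

/-- Henselian (Mathlib sense) implies Gabber's criterion: existence. -/
theorem exists_root_gabber [HenselianRing A I] {n : ℕ} {p : A[X]}
    (hp : p.natDegree ≤ n) (hpI : ∀ i, p.coeff i ∈ I) :
    ∃ α : A, α - 1 ∈ I ∧ IsRoot (X ^ n * (X - 1) + p) α := by
  have h1 : (X ^ n * (X - 1) + p : A[X]).eval 1 ∈ I := by
    simpa using eval_mem_of_coeff_mem hpI 1
  have h2 : IsUnit (Ideal.Quotient.mk I ((X ^ n * (X - 1) + p : A[X]).derivative.eval 1)) := by
    have e : (derivative (X ^ n * (X - 1) + p : A[X])).eval 1 = 1 + p.derivative.eval 1 := by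
      simp [derivative_mul]
    have e2 : Ideal.Quotient.mk I (p.derivative.eval 1) = 0 :=
      Ideal.Quotient.eq_zero_iff_mem.2 (eval_mem_of_coeff_mem (fun i => by
        rw [coeff_derivative]; exact I.mul_mem_right _ (hpI _)) 1)
    rw [e, map_add, map_one, e2, add_zero]; exact isUnit_one
  obtain ⟨a, ha, ha'⟩ := HenselianRing.is_henselian _ (gabber_monic hp) 1 h1 h2
  exact ⟨a, ha', ha⟩

/-- Roots congruent modulo `I ⊆ rad` to a simple root are equal. -/
theorem root_unique (hI : I ≤ Ideal.jacobson ⊥) (f : A[X]) {α β : A} (hα : f.IsRoot α)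
    (hβ : f.IsRoot β) (hαβ : β - α ∈ I)
    (hu : IsUnit (Ideal.Quotient.mk I (f.derivative.eval α))) : α = β := by
  obtain ⟨k, hk⟩ := f.binomExpansion α (β - α)
  rw [add_sub_cancel, hα.eq_zero, hβ.eq_zero] at hk
  have hunit : IsUnit (f.derivative.eval α + k * (β - α)) := by
    apply isUnit_of_isUnit_mk hI
    rw [map_add, map_mul, Ideal.Quotient.eq_zero_iff_mem.2 hαβ, mul_zero, add_zero]; exact hu
  have h0 : (f.derivative.eval α + k * (β - α)) * (β - α) = 0 := by linear_combination -hk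
  have := (hunit.mul_right_eq_zero).1 h0
  exact (sub_eq_zero.1 this).symm

theorem gabber_unique (hI : I ≤ Ideal.jacobson ⊥) {n : ℕ} {p : A[X]}
    (hpI : ∀ i, p.coeff i ∈ I) {α β : A} (hα1 : α - 1 ∈ I) (hβ1 : β - 1 ∈ I)
    (hα : IsRoot (X ^ n * (X - 1) + p) α) (hβ : IsRoot (X ^ n * (X - 1) + p) β) : α = β := by
  refine root_unique hI _ hα hβ (by simpa using I.sub_mem hβ1 hα1) ?_
  have e : (derivative (X ^ n * (X - 1) + p : A[X])).eval α
      = (derivative (X ^ n : A[X])).eval α * (α - 1) + α ^ n + p.derivative.eval α := by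
    simp [derivative_mul]
  have e2 : Ideal.Quotient.mk I (p.derivative.eval α) = 0 :=
    Ideal.Quotient.eq_zero_iff_mem.2 (eval_mem_of_coeff_mem (fun i => by
      rw [coeff_derivative]; exact I.mul_mem_right _ (hpI _)) α)
  have e3 : Ideal.Quotient.mk I ((derivative (X ^ n : A[X])).eval α * (α - 1)) = 0 :=
    Ideal.Quotient.eq_zero_iff_mem.2 (I.mul_mem_left _ hα1)
  rw [e, map_add, map_add, e2, e3, add_zero, zero_add, map_pow, mk_eq_one_of_sub_one_mem hα1,
    one_pow]
  exact isUnit_one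


/-- Core computation for Gabber ⇒ Henselian: a monic `F` of degree `m + 2` with `F(0) ∈ I` and
`F'(0)` a unit has a root in `I`. -/
lemma exists_root_of_gabber_aux (hI : I ≤ Ideal.jacobson ⊥)
    (H : ∀ (n : ℕ), 0 < n → ∀ p : A[X], p.natDegree ≤ n → (∀ i, p.coeff i ∈ I) →
      ∃ α : A, α - 1 ∈ I ∧ IsRoot (X ^ n * (X - 1) + p) α)
    (F : A[X]) (m : ℕ) (hd : F.natDegree = m + 2) (h0 : F.coeff 0 ∈ I)
    (h1 : IsUnit (F.coeff 1)) : ∃ x ∈ I, F.IsRoot x := by
  obtain ⟨b', hb'⟩ := h1.exists_right_inv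
  set c0 := F.coeff 0 with hc0
  set a : A := -F.coeff 1 with ha
  set b : A := -b' with hb
  have hab : a * b = 1 := by rw [ha, hb]; linear_combination hb'
  have hc1 : F.coeff 1 = -a := by rw [ha]; ring
  -- the auxiliary polynomial
  set p : A[X] := ∑ j ∈ Finset.range (m + 1),
    C (F.coeff (j + 2) * c0 ^ (j + 1) * b ^ (j + 2)) * X ^ (m - j) with hp
  have hpdeg : p.natDegree ≤ m + 1 := by
    refine natDegree_sum_le_of_forall_le _ _ fun j _ => ?_
    exact (natDegree_C_mul_X_pow_le _ _).trans (by omega)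
  have hpI : ∀ i, p.coeff i ∈ I := by
    intro i
    rw [hp, finsetSum_coeff]
    refine I.sum_mem fun j _ => ?_
    rw [coeff_C_mul, coeff_X_pow]
    refine I.mul_mem_right _ (I.mul_mem_right _ (I.mul_mem_left _ ?_))
    exact Ideal.pow_mem_of_mem I h0 _ (Nat.succ_pos _)
  obtain ⟨w, hw1, hw⟩ := H (m + 1) (Nat.succ_pos _) p hpdeg hpI
  obtain ⟨w', hw'⟩ := (isUnit_of_sub_one_mem hI hw1).exists_right_inv
  have hzy : (a * w) * (b * w') = 1 := by linear_combination (w * w') * hab + hw'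
  refine ⟨c0 * (b * w'), I.mul_mem_right _ h0, ?_⟩
  have hroot : w ^ (m + 1) * (w - 1) + p.eval w = 0 := by
    have := hw.eq_zero
    simpa using this
  have hpe : p.eval w = ∑ j ∈ Finset.range (m + 1),
      F.coeff (j + 2) * c0 ^ (j + 1) * b ^ (j + 2) * w ^ (m - j) := by
    rw [hp, eval_finsetSum]
    refine Finset.sum_congr rfl fun j _ => ?_
    simp
  have S1 : (a * w) ^ (m + 2) * ∑ i ∈ Finset.range (m + 1),
        F.coeff (i + 2) * (c0 * (b * w')) ^ (i + 2)
      = c0 * a ^ (m + 2) * ∑ j ∈ Finset.range (m + 1),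
        F.coeff (j + 2) * c0 ^ (j + 1) * b ^ (j + 2) * w ^ (m - j) := by
    rw [Finset.mul_sum, Finset.mul_sum]
    refine Finset.sum_congr rfl fun j hj => ?_
    obtain ⟨t, rfl⟩ : ∃ t, m = t + j := ⟨m - j, by
      have := Finset.mem_range.1 hj; omega⟩
    rw [Nat.add_sub_cancel]
    have e1 : (a * w) ^ (t + j + 2) = (a * w) ^ t * (a * w) ^ (j + 2) := by
      rw [← pow_add]; congr 1
    have e2 : (a * w) ^ (j + 2) * (b * w') ^ (j + 2) = 1 := by
      rw [← mul_pow, hzy, one_pow]
    have e3 : a ^ (t + j + 2) = a ^ t * a ^ (j + 2) := by rw [← pow_add]; congr 1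
    have e4 : a ^ (j + 2) * b ^ (j + 2) = 1 := by rw [← mul_pow, hab, one_pow]
    rw [e1, e3, mul_pow c0, mul_pow a w t]
    linear_combination (F.coeff (j + 2) * c0 ^ (j + 2) * a ^ t * w ^ t) * e2
      - (c0 * a ^ t * F.coeff (j + 2) * c0 ^ (j + 1) * w ^ t) * e4
  have S2 : (a * w) ^ (m + 2) * (-a * (c0 * (b * w'))) = -(c0 * a ^ (m + 2) * w ^ (m + 1)) := by
    have e1 : (a * w) ^ (m + 2) = (a * w) ^ (m + 1) * (a * w) := by rw [pow_succ]
    rw [e1, mul_pow a w (m + 1)]
    linear_combination (-(a ^ (m + 1) * w ^ (m + 1) * a * c0)) * hzy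
  have S3 : (a * w) ^ (m + 2) * c0 = c0 * a ^ (m + 2) * w ^ (m + 2) := by
    rw [mul_pow]; ring
  have key : (a * w) ^ (m + 2) * F.eval (c0 * (b * w'))
      = c0 * a ^ (m + 2) * (w ^ (m + 1) * (w - 1) + p.eval w) := by
    rw [eval_eq_sum_range, hd, Finset.sum_range_succ', Finset.sum_range_succ', hpe]
    simp only [zero_add, pow_zero, mul_one, pow_one, ← hc0, hc1]
    linear_combination S1 + S2 + S3
  rw [hroot, mul_zero] at key
  have hz : IsUnit ((a * w) ^ (m + 2)) := by
    refine IsUnit.pow _ ?_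
    exact IsUnit.of_mul_eq_one _ hzy
  exact (hz.mul_right_eq_zero).1 key


/-- Gabber's criterion implies Henselian in Mathlib's sense. -/
theorem henselian_of_gabber (hI : I ≤ Ideal.jacobson ⊥)
    (H : ∀ (n : ℕ), 0 < n → ∀ p : A[X], p.natDegree ≤ n → (∀ i, p.coeff i ∈ I) →
      ∃ α : A, α - 1 ∈ I ∧ IsRoot (X ^ n * (X - 1) + p) α) : HenselianRing A I := by
  refine ⟨hI, fun f hf a₀ h₁ h₂ => ?_⟩
  rcases subsingleton_or_nontrivial A with hA | hA
  · exact ⟨a₀, Subsingleton.elim _ _, by simp⟩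
  set q : A[X] := X - C (a₀ + 1) with hq
  have hqm : (q ^ 2).Monic := (monic_X_sub_C _).pow 2
  have hqe : q.eval a₀ = -1 := by simp [hq]
  set F : A[X] := taylor a₀ (f * q ^ 2) with hFdef
  have hd : F.natDegree = f.natDegree + 2 := by
    rw [hFdef, natDegree_taylor, hf.natDegree_mul hqm, (monic_X_sub_C _).natDegree_pow,
      natDegree_X_sub_C]
  have h0 : F.coeff 0 ∈ I := by
    rw [hFdef, taylor_coeff_zero, eval_mul, eval_pow, hqe]
    simpa using h₁
  have h1 : IsUnit (F.coeff 1) := by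
    apply isUnit_of_isUnit_mk hI
    rw [hFdef, taylor_coeff_one, derivative_mul, eval_add, eval_mul, eval_mul, eval_pow, hqe,
      map_add, map_mul _ (eval a₀ f), Ideal.Quotient.eq_zero_iff_mem.2 h₁]
    simpa using h₂
  obtain ⟨x, hxI, hx⟩ := exists_root_of_gabber_aux hI H F f.natDegree hd h0 h1
  refine ⟨x + a₀, ?_, by simpa using hxI⟩
  have hx' := hx.eq_zero
  rw [hFdef, taylor_eval, eval_mul, eval_pow] at hx'
  have hu : IsUnit (q.eval (x + a₀) ^ 2) := by
    refine IsUnit.pow _ (isUnit_of_isUnit_mk hI ?_)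
    have : q.eval (x + a₀) = x - 1 := by simp [hq]; ring
    rw [this, map_sub, Ideal.Quotient.eq_zero_iff_mem.2 hxI, map_one, zero_sub]
    exact isUnit_one.neg
  exact (hu.mul_left_eq_zero).1 hx'

/-- Gabber's criterion, (1) ⇔ (5) of Stacks 09XI with uniqueness complement. -/
theorem henselian_iff_gabber :
    HenselianRing A I ↔ (I ≤ Ideal.jacobson ⊥ ∧
      ∀ (n : ℕ), 0 < n → ∀ p : Polynomial A, p.natDegree ≤ n → (∀ i, p.coeff i ∈ I) →
        ∃! α : A, α - 1 ∈ I ∧
          Polynomial.IsRoot (Polynomial.X ^ n * (Polynomial.X - 1) + p) α) := by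
  constructor
  · intro h
    refine ⟨h.jac, fun n _ p hp hpI => ?_⟩
    obtain ⟨α, hα1, hα⟩ := exists_root_gabber (I := I) hp hpI
    exact ⟨α, ⟨hα1, hα⟩, fun β hβ => (gabber_unique h.jac hpI hα1 hβ.1 hα hβ.2).symm⟩
  · rintro ⟨hI, H⟩
    exact henselian_of_gabber hI fun n hn p hp hpI => (H n hn p hp hpI).exists

universe v

section Retraction

variable {B : Type v} [CommRing B] [Algebra A B]

/-- Cayley–Hamilton for a spanning family. -/
lemma aeval_charpoly_of_represents {ι : Type*} [Fintype ι] [DecidableEq ι] {M : Type*}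
    [AddCommGroup M] [Module A M] (b : ι → M) (hb : Submodule.span A (Set.range b) = ⊤)
    (Mx : Matrix ι ι A) (f : Module.End A M) (h : Mx.Represents b f) :
    Polynomial.aeval f Mx.charpoly = 0 := by
  let A' : Matrix.isRepresentation A b := ⟨Mx, f, h⟩
  have h1 : Matrix.isRepresentation.toEnd A b hb A' = f :=
    Matrix.isRepresentation.eq_toEnd_of_represents A b hb A' h
  rw [← h1, Polynomial.aeval_algHom_apply, ← map_zero (Matrix.isRepresentation.toEnd A b hb)]
  congr 1
  ext1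
  rw [Polynomial.aeval_subalgebra_coe, Matrix.aeval_self_charpoly, Subalgebra.coe_zero]

lemma mk_eval (p : A[X]) (x : A) :
    Ideal.Quotient.mk I (p.eval x) = (p.map (Ideal.Quotient.mk I)).eval (Ideal.Quotient.mk I x) := by
  rw [eval_map, eval₂_at_apply]


lemma exists_root_of_map_eq [HenselianRing A I] (f : A[X]) (hf : f.Monic) (n : ℕ)
    (hfmap : f.map (Ideal.Quotient.mk I) = X ^ n * (X - 1)) :
    ∃ α : A, α - 1 ∈ I ∧ f.IsRoot α := by
  have h1 : f.eval 1 ∈ I := by
    rw [← Ideal.Quotient.eq_zero_iff_mem, mk_eval, hfmap, map_one]; simp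
  have h2 : IsUnit (Ideal.Quotient.mk I (f.derivative.eval 1)) := by
    rw [mk_eval, ← derivative_map, hfmap, map_one]; simp [derivative_mul]
  obtain ⟨a, ha, ha'⟩ := HenselianRing.is_henselian f hf 1 h1 h2
  exact ⟨a, ha', ha⟩

lemma isUnit_derivative_of_map_eq (hI : I ≤ Ideal.jacobson ⊥) (f : A[X]) (n : ℕ)
    (hfmap : f.map (Ideal.Quotient.mk I) = X ^ n * (X - 1)) {α : A} (hα1 : α - 1 ∈ I) :
    IsUnit (f.derivative.eval α) := by
  apply isUnit_of_isUnit_mk hI
  rw [mk_eval, ← derivative_map, hfmap, mk_eq_one_of_sub_one_mem hα1]; simp [derivative_mul]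

/-- Gabber's polynomial for an element `g` of a finite algebra which is an "idempotent of rank
one modulo `I`". -/
lemma exists_gabber_poly [Module.Finite A B] (g : B) (σ : B →ₐ[A] A ⧸ I) (hσg : σ g = 1)
    (hg : ∀ x, σ x = 0 → g * x ∈ I.map (algebraMap A B)) :
    ∃ (f : A[X]) (n : ℕ), f.Monic ∧ f.map (Ideal.Quotient.mk I) = X ^ n * (X - 1) ∧
      aeval g f = 0 := by
  classical
  obtain ⟨n, s, hs⟩ := Module.Finite.exists_fin (R := A) (M := B)
  have key : ∀ x : B, ∃ (a : A) (c : Fin n → A), Ideal.Quotient.mk I a = σ x ∧ (∀ k, c k ∈ I) ∧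
      g * x = a • g + ∑ k, c k • s k := by
    intro x
    obtain ⟨a, ha⟩ := Ideal.Quotient.mk_surjective (σ x)
    have h1 : σ (x - algebraMap A B a) = 0 := by
      rw [map_sub, AlgHom.commutes, Ideal.Quotient.algebraMap_eq, ha, sub_self]
    have h2 := hg _ h1
    have h3 : g * (x - algebraMap A B a) ∈ I • Submodule.span A (Set.range s) := by
      rw [hs, Ideal.smul_top_eq_map]; exact h2
    rw [Submodule.mem_ideal_smul_span_iff_exists_sum] at h3
    obtain ⟨c, hc, hsum⟩ := h3
    refine ⟨a, fun k => c k, ha, fun k => hc k, ?_⟩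
    rw [Finsupp.sum_fintype c (fun i c => c • s i) (fun i => zero_smul A (s i))] at hsum
    rw [hsum, Algebra.smul_def]; ring
  choose a c ha hc hgx using key
  let w : Fin (n + 1) → B := Fin.cons g s
  have hw0 : w 0 = g := rfl
  have hws : ∀ k : Fin n, w k.succ = s k := fun k => by simp [w]
  let Mx : Matrix (Fin (n + 1)) (Fin (n + 1)) A :=
    Matrix.of fun i j => (Fin.cons (a (w j)) (c (w j)) : Fin (n + 1) → A) i
  have hM0 : ∀ j, Mx 0 j = a (w j) := fun j => rfl
  have hMs : ∀ (k : Fin n) j, Mx k.succ j = c (w j) k := fun k j => by simp [Mx]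
  have hwspan : Submodule.span A (Set.range w) = ⊤ := by
    rw [eq_top_iff, ← hs]
    apply Submodule.span_mono
    rintro _ ⟨k, rfl⟩
    exact ⟨k.succ, hws k⟩
  have hrep : Mx.Represents w (Algebra.lmul A B g) := by
    rw [Matrix.represents_iff']
    intro j
    rw [Fin.sum_univ_succ]
    simp only [hM0, hMs, hw0, hws]
    simp [hgx]
  have hch : aeval g Mx.charpoly = 0 := by
    have h1 := aeval_charpoly_of_represents w hwspan Mx _ hrep
    rw [Polynomial.aeval_algHom_apply] at h1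
    have h2 := congrArg (fun φ : Module.End A B => φ 1) h1
    simpa using h2
  refine ⟨Mx.charpoly, n, Mx.charpoly_monic, ?_, hch⟩
  rw [← Matrix.charpoly_map]
  have htri : (Mx.map (Ideal.Quotient.mk I)).BlockTriangular id := by
    intro i j hij
    obtain ⟨k, rfl⟩ : ∃ k : Fin n, k.succ = i := by
      refine Fin.exists_succ_eq.2 ?_
      rintro rfl
      exact absurd hij (Fin.not_lt_zero _)
    rw [Matrix.map_apply, hMs]
    exact Ideal.Quotient.eq_zero_iff_mem.2 (hc _ _)
  rw [Matrix.charpoly_of_isUpperTriangular _ htri, Fin.prod_univ_succ]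
  have e0 : (Mx.map (Ideal.Quotient.mk I)) 0 0 = 1 := by
    rw [Matrix.map_apply, hM0, ha, hw0, hσg]
  have es : ∀ k : Fin n, (Mx.map (Ideal.Quotient.mk I)) k.succ k.succ = 0 := fun k => by
    rw [Matrix.map_apply, hMs]
    exact Ideal.Quotient.eq_zero_iff_mem.2 (hc _ _)
  simp only [e0, es, map_one, map_zero, sub_zero, Finset.prod_const, Finset.card_univ,
    Fintype.card_fin]
  ring


/-- If `B[1/Δ]` is formally unramified over `A` and `σ : B → A/I` inverts `Δ`, then the kernel of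
`σ` is idempotent modulo `IB`. -/
lemma ker_le_sq_sup (Δ : B) [Algebra.FormallyUnramified A (Localization.Away Δ)]
    (σ : B →ₐ[A] A ⧸ I) (hΔ : IsUnit (σ Δ)) :
    RingHom.ker σ ≤ (RingHom.ker σ) ^ 2 ⊔ I.map (algebraMap A B) := by
  set K := RingHom.ker σ with hK
  set L := K ^ 2 ⊔ I.map (algebraMap A B) with hL
  let T := B ⧸ L
  let J : Ideal T := K.map (Ideal.Quotient.mk L)
  have hJ : J ^ 2 = ⊥ := by
    rw [← Ideal.map_pow, eq_bot_iff]
    calc Ideal.map (Ideal.Quotient.mk L) (K ^ 2) ≤ Ideal.map (Ideal.Quotient.mk L) L :=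
          Ideal.map_mono le_sup_left
      _ = ⊥ := Ideal.map_quotient_self L
  obtain ⟨a', ha'⟩ := hΔ.exists_right_inv
  obtain ⟨a, rfl⟩ := Ideal.Quotient.mk_surjective a'
  have hκ : Δ * algebraMap A B a - 1 ∈ K := by
    rw [hK, RingHom.mem_ker, map_sub, map_mul, AlgHom.commutes, Ideal.Quotient.algebraMap_eq,
      ha', map_one, sub_self]
  have hu : IsUnit (Ideal.Quotient.mkₐ A L Δ) := by
    refine IsUnit.of_mul_eq_one (Ideal.Quotient.mkₐ A L
      (algebraMap A B a * (2 - Δ * algebraMap A B a))) ?_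
    rw [← map_mul, ← sub_eq_zero, ← map_one (Ideal.Quotient.mkₐ A L), ← map_sub]
    refine Ideal.Quotient.eq_zero_iff_mem.2 (Ideal.mem_sup_left ?_)
    have : Δ * (algebraMap A B a * (2 - Δ * algebraMap A B a)) - 1
        = -((Δ * algebraMap A B a - 1) * (Δ * algebraMap A B a - 1)) := by ring
    rw [this, pow_two]
    exact neg_mem (Ideal.mul_mem_mul hκ hκ)
  let f₁ : Localization.Away Δ →ₐ[A] T := IsLocalization.Away.liftAlgHom Δ hu
  let τ : A ⧸ I →ₐ[A] T := Ideal.Quotient.liftₐ I (Algebra.ofId A T) (fun x hx => by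
    rw [Algebra.ofId_apply, IsScalarTower.algebraMap_apply A B T, Ideal.Quotient.algebraMap_eq]
    exact Ideal.Quotient.eq_zero_iff_mem.2 (Ideal.mem_sup_right (Ideal.mem_map_of_mem _ hx)))
  have hu2 : IsUnit ((τ.comp σ) Δ) := by
    rw [AlgHom.comp_apply]; exact hΔ.map τ
  let f₂ : Localization.Away Δ →ₐ[A] T := IsLocalization.Away.liftAlgHom Δ hu2
  have hf : f₁ = f₂ := by
    refine Algebra.FormallyUnramified.ext J ⟨2, hJ⟩ (fun y => ?_)
    have : (Ideal.Quotient.mkₐ A J).comp f₁ = (Ideal.Quotient.mkₐ A J).comp f₂ := by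
      apply IsLocalization.algHom_ext (Submonoid.powers Δ)
      ext b
      change Ideal.Quotient.mk J (IsLocalization.Away.lift Δ hu (algebraMap B _ b))
        = Ideal.Quotient.mk J (IsLocalization.Away.lift Δ hu2 (algebraMap B _ b))
      rw [IsLocalization.Away.lift_eq, IsLocalization.Away.lift_eq]
      obtain ⟨c, hc⟩ := Ideal.Quotient.mk_surjective (σ b)
      have h1 : (τ.comp σ) b = Ideal.Quotient.mk L (algebraMap A B c) := by
        rw [AlgHom.comp_apply, ← hc]
        simp only [τ, Ideal.Quotient.liftₐ_apply, Ideal.Quotient.lift_mk]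
        rfl
      change Ideal.Quotient.mk J (Ideal.Quotient.mk L b) = Ideal.Quotient.mk J ((τ.comp σ) b)
      rw [h1, Ideal.Quotient.eq, ← map_sub]
      refine Ideal.mem_map_of_mem _ ?_
      rw [hK, RingHom.mem_ker, map_sub, AlgHom.commutes, Ideal.Quotient.algebraMap_eq, hc,
        sub_self]
    exact AlgHom.congr_fun this y
  intro x hx
  have h1 := AlgHom.congr_fun hf (algebraMap B _ x)
  simp only [f₁, f₂, IsLocalization.Away.liftAlgHom_apply, IsLocalization.Away.lift_eq] at h1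
  change Ideal.Quotient.mk L x = τ (σ x) at h1
  rw [(RingHom.mem_ker).1 hx, map_zero] at h1
  exact Ideal.Quotient.eq_zero_iff_mem.1 h1


/-- Existence of a lift of the idempotent cutting out the section `σ` modulo `I`. -/
lemma exists_idem_lift [Module.Finite A B] (σ : B →ₐ[A] A ⧸ I)
    (hK : RingHom.ker σ ≤ (RingHom.ker σ) ^ 2 ⊔ I.map (algebraMap A B)) :
    ∃ g₀ : B, σ g₀ = 1 ∧ ∀ x, σ x = 0 → g₀ * x ∈ I.map (algebraMap A B) := by
  classical
  set K := RingHom.ker σ with hKdef
  set IB := I.map (algebraMap A B) with hIB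
  obtain ⟨n, s, hs⟩ := Module.Finite.exists_fin (R := A) (M := B)
  have hlift : ∀ k : Fin n, ∃ a : A, Ideal.Quotient.mk I a = σ (s k) := fun k =>
    Ideal.Quotient.mk_surjective _
  choose a ha using hlift
  let N : Submodule B (B ⧸ IB) := Submodule.map (Submodule.mkQ IB) K
  have hmem : ∀ k, s k - algebraMap A B (a k) ∈ K := fun k => by
    rw [hKdef, RingHom.mem_ker, map_sub, AlgHom.commutes, Ideal.Quotient.algebraMap_eq, ha,
      sub_self]
  have hNspan : N = Submodule.span B
      (Set.range fun k => Submodule.mkQ IB (s k - algebraMap A B (a k))) := by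
    apply le_antisymm
    · rintro _ ⟨x, hx, rfl⟩
      have hx' : x ∈ Submodule.span A (Set.range s) := by rw [hs]; trivial
      rw [Submodule.mem_span_range_iff_exists_fun] at hx'
      obtain ⟨t, rfl⟩ := hx'
      have h0 : ∑ k, t k * a k ∈ I := by
        rw [← Ideal.Quotient.eq_zero_iff_mem, map_sum]
        have := (RingHom.mem_ker).1 hx
        rw [map_sum] at this
        rw [← this]
        refine Finset.sum_congr rfl fun k _ => ?_
        rw [map_mul, ha, map_smul, Algebra.smul_def, Ideal.Quotient.algebraMap_eq]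
      have h1 : (∑ k, t k • s k) = ∑ k, algebraMap A B (t k) * (s k - algebraMap A B (a k))
          + algebraMap A B (∑ k, t k * a k) := by
        rw [map_sum, ← Finset.sum_add_distrib]
        refine Finset.sum_congr rfl fun k _ => ?_
        rw [Algebra.smul_def, map_mul]; ring
      rw [h1, map_add, map_sum]
      have h2 : Submodule.mkQ IB (algebraMap A B (∑ k, t k * a k)) = 0 := by
        rw [Submodule.mkQ_apply, Submodule.Quotient.mk_eq_zero]
        exact Ideal.mem_map_of_mem _ h0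
      rw [h2, add_zero]
      refine Submodule.sum_mem _ fun k _ => ?_
      rw [← smul_eq_mul, map_smul]
      exact Submodule.smul_mem _ _ (Submodule.subset_span ⟨k, rfl⟩)
    · rw [Submodule.span_le]
      rintro _ ⟨k, rfl⟩
      exact ⟨_, hmem k, rfl⟩
  have hNfg : N.FG := by
    rw [hNspan]; exact Submodule.fg_span (Set.finite_range _)
  have hNle : N ≤ K • N := by
    have h1 : Submodule.map (Submodule.mkQ IB) (K ^ 2 ⊔ IB) = K • N := by
      rw [Submodule.map_sup, Submodule.mkQ_map_self, sup_bot_eq, pow_two, ← smul_eq_mul,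
        Submodule.map_smul'']
    rw [← h1]
    exact Submodule.map_mono hK
  obtain ⟨r, hr1, hr⟩ :=
    Submodule.exists_sub_one_mem_and_smul_eq_zero_of_fg_of_le_smul K N hNfg hNle
  refine ⟨r, ?_, fun x hx => ?_⟩
  · have := (RingHom.mem_ker).1 hr1
    rwa [map_sub, map_one, sub_eq_zero] at this
  · have h1 := hr (Submodule.mkQ IB x) ⟨x, (RingHom.mem_ker).2 hx, rfl⟩
    rw [← map_smul, Submodule.mkQ_apply, Submodule.Quotient.mk_eq_zero, smul_eq_mul] at h1
    exact h1


/-- **Gabber's retraction lemma.** Let `(A, I)` be henselian, `B` a finite, finitely presented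
`A`-algebra, `Δ ∈ B` with `B[1/Δ]` formally étale over `A`, and `σ : B → A/I` an `A`-algebra map
inverting `Δ`. Then `σ` lifts to an `A`-algebra map `B → A`. -/
theorem exists_retraction [HenselianRing A I] [Module.Finite A B] [Algebra.FinitePresentation A B]
    (Δ : B) [Algebra.FormallyEtale A (Localization.Away Δ)]
    (σ : B →ₐ[A] A ⧸ I) (hΔ : IsUnit (σ Δ)) :
    ∃ ρ : B →ₐ[A] A, (Ideal.Quotient.mkₐ A I).comp ρ = σ := by
  have hI : I ≤ Ideal.jacobson ⊥ := HenselianRing.jac
  obtain ⟨g₀, hg₀1, hg₀⟩ := exists_idem_lift σ (ker_le_sq_sup Δ σ hΔ)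
  obtain ⟨a', ha'⟩ := hΔ.exists_right_inv
  obtain ⟨a, rfl⟩ := Ideal.Quotient.mk_surjective a'
  set g : B := g₀ * (Δ * algebraMap A B a) with hgdef
  have hσg : σ g = 1 := by
    rw [hgdef, map_mul, map_mul, hg₀1, AlgHom.commutes, Ideal.Quotient.algebraMap_eq, ha',
      one_mul]
  have hg : ∀ x, σ x = 0 → g * x ∈ I.map (algebraMap A B) := fun x hx => by
    have e : g * x = (Δ * algebraMap A B a) * (g₀ * x) := by rw [hgdef]; ring
    rw [e]; exact Ideal.mul_mem_left _ _ (hg₀ x hx)
  obtain ⟨f, n, hfm, hfmap, hfg⟩ := exists_gabber_poly g σ hσg hg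
  obtain ⟨α, hα1, hα⟩ := exists_root_of_map_eq f hfm n hfmap
  have hαu : IsUnit α := isUnit_of_sub_one_mem hI hα1
  set f₁ := f /ₘ (X - C α) with hf₁
  have hfac : (X - C α) * f₁ = f := mul_divByMonic_eq_iff_isRoot.2 hα
  have hu : IsUnit (f₁.eval α) := by
    have h1 := isUnit_derivative_of_map_eq hI f n hfmap hα1
    have h2 : f.derivative.eval α = f₁.eval α := by
      rw [← hfac, derivative_mul]; simp
    rwa [h2] at h1
  set q := f₁ /ₘ (X - C α) with hq
  have hf₁' : f₁ = (X - C α) * q + C (f₁.eval α) := by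
    have := modByMonic_add_div f₁ (X - C α)
    rw [modByMonic_X_sub_C_eq_C_eval, ← hq] at this
    exact this.symm.trans (by ring)
  set x : B := g - algebraMap A B α with hxdef
  set y : B := aeval g f₁ with hydef
  have hxy : x * y = 0 := by
    have : aeval g f = x * y := by
      rw [← hfac, map_mul]; simp [hxdef, hydef]
    rw [← this, hfg]
  have hy : y = x * aeval g q + algebraMap A B (f₁.eval α) := by
    rw [hydef]; conv_lhs => rw [hf₁']
    simp [hxdef]
  let 𝔫 : Ideal B := Ideal.span {x}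
  have hx𝔫 : x ∈ 𝔫 := Ideal.subset_span rfl
  have hσx : σ x = 0 := by
    rw [hxdef, map_sub, hσg, AlgHom.commutes, Ideal.Quotient.algebraMap_eq,
      mk_eq_one_of_sub_one_mem hα1, sub_self]
  have h𝔫K : ∀ z ∈ 𝔫, σ z = 0 := by
    intro z hz
    obtain ⟨c, rfl⟩ := Ideal.mem_span_singleton'.1 hz
    rw [map_mul, hσx, mul_zero]
  -- (a) surjectivity of `A → B/𝔫`
  have hsurj : ∀ b : B, ∃ c : A, b - algebraMap A B c ∈ 𝔫 := by
    have htop : (⊤ : Submodule A B) ≤
        LinearMap.range (Algebra.linearMap A B) ⊔ 𝔫.restrictScalars A := by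
      apply Submodule.le_of_le_smul_of_le_jacobson_bot Module.Finite.fg_top hI
      intro b _
      obtain ⟨c, hc⟩ := Ideal.Quotient.mk_surjective (σ b)
      have hk : σ (b - algebraMap A B c) = 0 := by
        rw [map_sub, AlgHom.commutes, Ideal.Quotient.algebraMap_eq, hc, sub_self]
      have hgk : g * (b - algebraMap A B c) ∈ I • (⊤ : Submodule A B) := by
        rw [Ideal.smul_top_eq_map]; exact hg _ hk
      have e : b = algebraMap A B c + (-(x * (b - algebraMap A B c)))
          + (-((α - 1) • (b - algebraMap A B c)) + g * (b - algebraMap A B c)) := by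
        rw [hxdef, Algebra.smul_def, map_sub, map_one]; ring
      rw [e]
      refine Submodule.add_mem_sup (Submodule.add_mem_sup ⟨c, rfl⟩ ?_) ?_
      · exact neg_mem (𝔫.mul_mem_right _ hx𝔫)
      · exact add_mem (neg_mem (Submodule.smul_mem_smul hα1 Submodule.mem_top)) hgk
    intro b
    obtain ⟨_, ⟨c, rfl⟩, z, hz, hbz⟩ := Submodule.mem_sup.1 (htop (Submodule.mem_top : b ∈ ⊤))
    refine ⟨c, ?_⟩
    rw [← hbz]
    simpa using hz
  -- (b) the kernel
  let 𝔞 : Ideal A := 𝔫.comap (algebraMap A B)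
  have h𝔞I : 𝔞 ≤ I := fun c hc => by
    have := h𝔫K _ hc
    rw [AlgHom.commutes, Ideal.Quotient.algebraMap_eq] at this
    exact Ideal.Quotient.eq_zero_iff_mem.1 this
  let N := B ⧸ 𝔫
  let π : B →ₐ[A] N := Ideal.Quotient.mkₐ A 𝔫
  have hπ0 : ∀ c : A, algebraMap A N c = 0 ↔ c ∈ 𝔞 := fun c => by
    rw [IsScalarTower.algebraMap_apply A B N, Ideal.Quotient.algebraMap_eq,
      Ideal.Quotient.eq_zero_iff_mem]; rfl
  have hNsurj : Function.Surjective (algebraMap A N) := fun z => by
    obtain ⟨b, rfl⟩ := Ideal.Quotient.mk_surjective z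
    obtain ⟨c, hc⟩ := hsurj b
    refine ⟨c, ?_⟩
    rw [IsScalarTower.algebraMap_apply A B N, Ideal.Quotient.algebraMap_eq]
    exact (Ideal.Quotient.eq.2 hc).symm
  have h𝔞fg : 𝔞.FG := by
    have : Algebra.FinitePresentation A N :=
      Algebra.FinitePresentation.quotient (Submodule.fg_span_singleton x)
    have h1 := Algebra.FinitePresentation.ker_fG_of_surjective (Algebra.ofId A N) hNsurj
    have h2 : RingHom.ker (Algebra.ofId A N).toRingHom = 𝔞 := by
      ext c
      rw [RingHom.mem_ker]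
      exact hπ0 c
    rwa [h2] at h1
  have h𝔞sq : 𝔞 ≤ 𝔞 ^ 2 := by
    have hπg : π g = algebraMap A N α := by
      rw [IsScalarTower.algebraMap_apply A B N, Ideal.Quotient.algebraMap_eq]
      exact Ideal.Quotient.eq.2 hx𝔫
    have hπΔ : IsUnit (π Δ) := by
      have h1 : IsUnit (π g) := by rw [hπg]; exact hαu.map _
      rw [hgdef, map_mul, map_mul] at h1
      exact isUnit_of_mul_isUnit_left (isUnit_of_mul_isUnit_right h1)
    let π' : Localization.Away Δ →ₐ[A] N := IsLocalization.Away.liftAlgHom Δ hπΔ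
    let T := A ⧸ 𝔞 ^ 2
    let qT : T →ₐ[A] N := Ideal.Quotient.liftₐ (𝔞 ^ 2) (Algebra.ofId A N) (fun c hc => by
      rw [Algebra.ofId_apply, hπ0]; exact Ideal.pow_le_self two_ne_zero hc)
    have hqT : ∀ c : A, qT (Ideal.Quotient.mk _ c) = algebraMap A N c := fun c => rfl
    have hqT_surj : Function.Surjective qT := fun z => by
      obtain ⟨c, rfl⟩ := hNsurj z
      exact ⟨Ideal.Quotient.mk _ c, hqT c⟩
    have hqT_ker : IsNilpotent (RingHom.ker (qT : T →+* N)) := by
      refine ⟨2, ?_⟩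
      have hle : RingHom.ker (qT : T →+* N) ≤ 𝔞.map (Ideal.Quotient.mk (𝔞 ^ 2)) := by
        intro t ht
        obtain ⟨c, rfl⟩ := Ideal.Quotient.mk_surjective t
        refine Ideal.mem_map_of_mem _ ((hπ0 c).1 ?_)
        rw [← hqT c]; exact (RingHom.mem_ker).1 ht
      change _ = (⊥ : Ideal T)
      rw [eq_bot_iff]
      calc RingHom.ker (qT : T →+* N) ^ 2 ≤ (𝔞.map (Ideal.Quotient.mk (𝔞 ^ 2))) ^ 2 :=
            Ideal.pow_right_mono hle 2
        _ = (𝔞 ^ 2).map (Ideal.Quotient.mk (𝔞 ^ 2)) := (Ideal.map_pow _ _ _).symm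
        _ = ⊥ := Ideal.map_quotient_self _
    let φ : Localization.Away Δ →ₐ[A] T :=
      Algebra.FormallySmooth.liftOfSurjective π' qT hqT_surj hqT_ker
    have hφ : ∀ z, qT (φ z) = π' z :=
      Algebra.FormallySmooth.liftOfSurjective_apply π' qT hqT_surj hqT_ker
    let φ' : B →ₐ[A] T := φ.comp (IsScalarTower.toAlgHom A B (Localization.Away Δ))
    have hφ' : ∀ b, qT (φ' b) = π b := fun b => by
      change qT (φ (algebraMap B _ b)) = π b
      rw [hφ]
      change IsLocalization.Away.lift Δ hπΔ (algebraMap B _ b) = π b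
      rw [IsLocalization.Away.lift_eq]; rfl
    have hφy : IsUnit (φ' y) := by
      obtain ⟨c, hc⟩ := Ideal.Quotient.mk_surjective (φ' y)
      have h1 : algebraMap A N c = algebraMap A N (f₁.eval α) := by
        rw [← hqT c, hc, hφ', hy, map_add, map_mul]
        have : π x = 0 := Ideal.Quotient.eq_zero_iff_mem.2 hx𝔫
        rw [this, zero_mul, zero_add, AlgHom.commutes]
      have h2 : c - f₁.eval α ∈ I := h𝔞I ((hπ0 _).1 (by rw [map_sub, h1, sub_self]))
      have hcu : IsUnit c := by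
        apply isUnit_of_isUnit_mk hI
        have : Ideal.Quotient.mk I c = Ideal.Quotient.mk I (f₁.eval α) := Ideal.Quotient.eq.2 h2
        rw [this]; exact hu.map _
      rw [← hc]; exact hcu.map _
    have hφx : φ' x = 0 := by
      have : φ' x * φ' y = 0 := by rw [← map_mul, hxy, map_zero]
      exact (hφy.mul_left_eq_zero).1 this
    intro c hc
    obtain ⟨z, hz⟩ := Ideal.mem_span_singleton'.1 (show algebraMap A B c ∈ 𝔫 from hc)
    have h0 : φ' (algebraMap A B c) = 0 := by rw [← hz, map_mul, hφx, mul_zero]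
    rw [AlgHom.commutes, Ideal.Quotient.algebraMap_eq] at h0
    exact Ideal.Quotient.eq_zero_iff_mem.1 h0
  have h𝔞bot : 𝔞 = ⊥ :=
    Submodule.eq_bot_of_le_smul_of_le_jacobson_bot 𝔞 𝔞 h𝔞fg
      (by rwa [smul_eq_mul, ← pow_two]) (h𝔞I.trans hI)
  have hNinj : Function.Injective (algebraMap A N) := by
    rw [injective_iff_map_eq_zero]
    intro c hc
    have := (hπ0 c).1 hc
    rwa [h𝔞bot, Ideal.mem_bot] at this
  let e : A ≃ₐ[A] N := AlgEquiv.ofBijective (Algebra.ofId A N) ⟨hNinj, hNsurj⟩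
  refine ⟨e.symm.toAlgHom.comp π, ?_⟩
  ext b
  change Ideal.Quotient.mk I (e.symm (π b)) = σ b
  have hc : algebraMap A N (e.symm (π b)) = π b := e.apply_symm_apply (π b)
  have h1 : b - algebraMap A B (e.symm (π b)) ∈ 𝔫 := by
    rw [IsScalarTower.algebraMap_apply A B N, Ideal.Quotient.algebraMap_eq] at hc
    exact Ideal.Quotient.eq.1 hc.symm
  have h2 := h𝔫K _ h1
  rw [map_sub, sub_eq_zero, AlgHom.commutes, Ideal.Quotient.algebraMap_eq] at h2
  exact h2.symm

end Retraction


section Factor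

open Polynomial

/-- **Henselian ⇒ lifting of coprime monic factorizations** (Stacks 09XI (1), with coprimality of
the lifted factors as a bonus). -/
theorem exists_factor_lift [HenselianRing A I] (f : A[X]) (hf : f.Monic) (g₀ h₀ : (A ⧸ I)[X])
    (hg₀ : g₀.Monic) (hh₀ : h₀.Monic) (hcop : IsCoprime g₀ h₀)
    (hfac : f.map (Ideal.Quotient.mk I) = g₀ * h₀) :
    ∃ g h : A[X], g.Monic ∧ h.Monic ∧ f = g * h ∧ g.map (Ideal.Quotient.mk I) = g₀ ∧
      h.map (Ideal.Quotient.mk I) = h₀ ∧ IsCoprime g h := by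
  have hI : I ≤ Ideal.jacobson ⊥ := HenselianRing.jac
  rcases subsingleton_or_nontrivial (A ⧸ I) with hA | hA
  · have : Subsingleton A := by
      have h1 : (1 : A) ∈ I := Ideal.Quotient.eq_zero_iff_mem.1 (Subsingleton.elim _ _)
      have := Ideal.mem_jacobson_bot.1 (hI h1) (-1)
      simp only [mul_neg, mul_one, neg_add_cancel, isUnit_zero_iff] at this
      exact subsingleton_of_zero_eq_one this
    exact ⟨f, 1, hf, monic_one, (mul_one f).symm, Subsingleton.elim _ _, Subsingleton.elim _ _,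
      isCoprime_one_right⟩
  set m := g₀.natDegree with hm
  set k := h₀.natDegree with hk
  have hn : f.natDegree = m + k := by
    have := congrArg natDegree hfac
    rwa [hf.natDegree_map, hg₀.natDegree_mul hh₀] at this
  let p : MonicDegreeEq A f.natDegree := .mk f hf rfl
  let Δ : UniversalFactorizationRing m k hn p :=
    (UniversalFactorizationRing.presentation m k hn p).jacobian
  let σ₀ : UniversalCoprimeFactorizationRing m k hn p →ₐ[A] A ⧸ I :=
    (UniversalCoprimeFactorizationRing.homEquiv (A ⧸ I) m k hn p).symm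
      ⟨(.mk g₀ hg₀ rfl, .mk h₀ hh₀ rfl), hfac.symm, hcop⟩
  let σ : UniversalFactorizationRing m k hn p →ₐ[A] A ⧸ I :=
    σ₀.comp (IsScalarTower.toAlgHom A _ (UniversalCoprimeFactorizationRing m k hn p))
  have hΔ : IsUnit (σ Δ) :=
    (IsLocalization.Away.algebraMap_isUnit (S := UniversalCoprimeFactorizationRing m k hn p)
      Δ).map σ₀
  have : Algebra.FormallyEtale A (Localization.Away Δ) :=
    inferInstanceAs (Algebra.FormallyEtale A (UniversalCoprimeFactorizationRing m k hn p))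
  obtain ⟨ρ, hρ⟩ := exists_retraction Δ σ hΔ
  have hρΔ : IsUnit (ρ Δ) := by
    apply isUnit_of_isUnit_mk hI
    have := AlgHom.congr_fun hρ Δ
    rw [AlgHom.comp_apply, Ideal.Quotient.mkₐ_eq_mk] at this
    rw [this]; exact hΔ
  let ρ' : UniversalCoprimeFactorizationRing m k hn p →ₐ[A] A :=
    IsLocalization.Away.liftAlgHom Δ hρΔ
  have hρ' : (Ideal.Quotient.mkₐ A I).comp ρ' = σ₀ := by
    apply IsLocalization.algHom_ext (Submonoid.powers Δ)
    ext b
    have := AlgHom.congr_fun hρ b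
    change Ideal.Quotient.mkₐ A I (IsLocalization.Away.lift Δ hρΔ (algebraMap _ _ b)) = _
    rw [IsLocalization.Away.lift_eq]
    exact this
  let q := UniversalCoprimeFactorizationRing.homEquiv A m k hn p ρ'
  have h1 := UniversalCoprimeFactorizationRing.homEquiv_comp_fst A m k hn p ρ'
    (Ideal.Quotient.mkₐ A I)
  have h2 := UniversalCoprimeFactorizationRing.homEquiv_comp_snd A m k hn p ρ'
    (Ideal.Quotient.mkₐ A I)
  rw [hρ'] at h1 h2
  simp only [σ₀, Equiv.apply_symm_apply] at h1 h2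
  refine ⟨q.1.1.1, q.1.2.1, q.1.1.monic, q.1.2.monic, ?_, ?_, ?_, q.2.2⟩
  · have := q.2.1
    rw [this]
    simp [p, MonicDegreeEq.mk]
  · have := congrArg Subtype.val h1
    simp only [MonicDegreeEq.mk, MonicDegreeEq.map] at this
    exact this.symm
  · have := congrArg Subtype.val h2
    simp only [MonicDegreeEq.mk, MonicDegreeEq.map] at this
    exact this.symm

end Factor


section FactorConverse

open Polynomial

/-- Lifting of coprime monic factorizations implies Henselian in Mathlib's sense. -/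
theorem henselian_of_factor_lift (hI : I ≤ Ideal.jacobson ⊥)
    (H : ∀ f : A[X], f.Monic → ∀ g₀ h₀ : (A ⧸ I)[X], g₀.Monic → h₀.Monic →
        IsCoprime g₀ h₀ → f.map (Ideal.Quotient.mk I) = g₀ * h₀ →
        ∃ g h : A[X], g.Monic ∧ h.Monic ∧ f = g * h ∧
          g.map (Ideal.Quotient.mk I) = g₀ ∧ h.map (Ideal.Quotient.mk I) = h₀) :
    HenselianRing A I := by
  refine ⟨hI, fun f hf a₀ h₁ h₂ => ?_⟩
  rcases subsingleton_or_nontrivial (A ⧸ I) with hA | hA
  · have : Subsingleton A := by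
      have h1 : (1 : A) ∈ I := Ideal.Quotient.eq_zero_iff_mem.1 (Subsingleton.elim _ _)
      have := Ideal.mem_jacobson_bot.1 (hI h1) (-1)
      simp only [mul_neg, mul_one, neg_add_cancel, isUnit_zero_iff] at this
      exact subsingleton_of_zero_eq_one this
    exact ⟨a₀, Subsingleton.elim _ _, by simp⟩
  set fb := f.map (Ideal.Quotient.mk I) with hfb
  set b₀ := Ideal.Quotient.mk I a₀ with hb₀
  have hroot : fb.IsRoot b₀ := by
    rw [IsRoot.def, hfb, hb₀, ← mk_eval]; exact Ideal.Quotient.eq_zero_iff_mem.2 h₁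
  set h₀ := fb /ₘ (X - C b₀) with hh₀
  have hfac : (X - C b₀) * h₀ = fb := mul_divByMonic_eq_iff_isRoot.2 hroot
  have hh₀m : h₀.Monic := by
    have hfbm : fb.Monic := hf.map _
    rw [← hfac] at hfbm
    exact (monic_X_sub_C b₀).of_mul_monic_left hfbm
  have hu : IsUnit (h₀.eval b₀) := by
    have e : fb.derivative.eval b₀ = h₀.eval b₀ := by
      rw [← hfac, derivative_mul]; simp
    rw [← e, hfb, derivative_map, hb₀, ← mk_eval]; exact h₂
  have hcop : IsCoprime (X - C b₀) h₀ := by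
    obtain ⟨v, hv⟩ := hu.exists_left_inv
    have hdec := modByMonic_add_div h₀ (X - C b₀)
    rw [modByMonic_X_sub_C_eq_C_eval] at hdec
    refine ⟨-(C v * (h₀ /ₘ (X - C b₀))), C v, ?_⟩
    have : C v * C (h₀.eval b₀) = 1 := by rw [← C_mul, hv, C_1]
    linear_combination (-(C v)) * hdec + this
  obtain ⟨g, h, hgm, hhm, hfgh, hg, hh⟩ := H f hf _ _ (monic_X_sub_C b₀) hh₀m hcop hfac.symm
  have hgdeg : g.natDegree = 1 := by
    have := congrArg natDegree hg
    rwa [hgm.natDegree_map, natDegree_X_sub_C] at this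
  have hg' := hgm.eq_X_add_C hgdeg
  refine ⟨-(g.coeff 0), ?_, ?_⟩
  · rw [IsRoot.def, hfgh, eval_mul]
    have : g.eval (-(g.coeff 0)) = 0 := by rw [hg']; simp
    rw [this, zero_mul]
  · have h0 := congrArg (fun r => r.coeff 0) hg
    simp only [coeff_map, coeff_sub, coeff_X_zero, coeff_C_zero, zero_sub] at h0
    rw [← Ideal.Quotient.eq_zero_iff_mem, map_sub, map_neg, h0, hb₀]; ring

/-- (1) of Stacks 09XI: Mathlib's `HenselianRing` is equivalent to lifting of coprime monic
factorizations. -/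
theorem henselian_iff_factor_lift :
    HenselianRing A I ↔ (I ≤ Ideal.jacobson ⊥ ∧
      ∀ f : Polynomial A, f.Monic → ∀ g₀ h₀ : Polynomial (A ⧸ I), g₀.Monic → h₀.Monic →
        IsCoprime g₀ h₀ → Polynomial.map (Ideal.Quotient.mk I) f = g₀ * h₀ →
        ∃ g h : Polynomial A, g.Monic ∧ h.Monic ∧ f = g * h ∧
          Polynomial.map (Ideal.Quotient.mk I) g = g₀ ∧
          Polynomial.map (Ideal.Quotient.mk I) h = h₀) := by
  constructor
  · intro h
    refine ⟨h.jac, fun f hf g₀ h₀ hg₀ hh₀ hcop hfac => ?_⟩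
    obtain ⟨g, h, h1, h2, h3, h4, h5, -⟩ := exists_factor_lift f hf g₀ h₀ hg₀ hh₀ hcop hfac
    exact ⟨g, h, h1, h2, h3, h4, h5⟩
  · rintro ⟨hI, H⟩
    exact henselian_of_factor_lift hI H

end FactorConverse

end Groth.Agent.Lib.Helper58.HenselPair
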