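import Mathlib
import Groth.Agent.Lib.Helper58.HenselPair
import Groth.Agent.S17968

set_option autoImplicit false

namespace Groth.Agent.Lib.Helper58.HenselPair

open Polynomial

universe u v

variable {A : Type u} [CommRing A] {I : Ideal A}
variable {B : Type v} [CommRing B] [Algebra A B]

/-- For an integral extension, `I ⊆ rad A` implies `IB ⊆ rad B`. -/
lemma map_le_jacobson_of_isIntegral [Algebra.IsIntegral A B] (hI : I ≤ Ideal.jacobson ⊥) :
    I.map (algebraMap A B) ≤ Ideal.jacobson ⊥ := by
  refine le_sInf fun M hM => ?_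
  have hMmax : M.IsMaximal := hM.2
  rw [Ideal.map_le_iff_le_comap]
  have : (M.comap (algebraMap A B)).IsMaximal :=
    Ideal.isMaximal_comap_of_isIntegral_of_isMaximal M
  exact hI.trans (sInf_le ⟨bot_le, this⟩)

/-- Idempotents congruent modulo the Jacobson radical are equal. -/
lemma idempotent_eq_of_sub_mem_jacobson {R : Type*} [CommRing R] {e₁ e₂ : R}
    (h₁ : IsIdempotentElem e₁) (h₂ : IsIdempotentElem e₂)
    (h : e₁ - e₂ ∈ Ideal.jacobson (⊥ : Ideal R)) : e₁ = e₂ := by
  have hu := Ideal.mem_jacobson_bot.1 h (-(e₁ - e₂))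
  have h0 : ((e₁ - e₂) * -(e₁ - e₂) + 1) * (e₁ - e₂) = 0 := by
    have e1 : e₁ * e₁ = e₁ := h₁
    have e2 : e₂ * e₂ = e₂ := h₂
    linear_combination (-e₁ - 1 + 3 * e₂) * e1 + (-3 * e₁ + e₂ + 1) * e2
  exact sub_eq_zero.1 ((hu.mul_right_eq_zero).1 h0)


/-- A monic polynomial whose lower coefficients lie in `I` reduces to `X ^ n`. -/
lemma map_eq_X_pow_of_coeff_mem (Q : A[X]) (hQ : Q.Monic)
    (hc : ∀ k, Q.coeff k ∈ I ^ (Q.natDegree - k)) :
    Q.map (Ideal.Quotient.mk I) = X ^ Q.natDegree := by
  ext k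
  rw [coeff_map, coeff_X_pow]
  rcases lt_trichotomy k Q.natDegree with h | h | h
  · rw [if_neg h.ne]
    refine Ideal.Quotient.eq_zero_iff_mem.2 (Ideal.pow_le_self ?_ (hc k))
    omega
  · rw [if_pos h, h, hQ.coeff_natDegree, map_one]
  · rw [if_neg h.ne', coeff_eq_zero_of_natDegree_lt h, map_zero]

/-- For `b` in a finite `A`-algebra with `b² - b ∈ IB`, there is a monic `P` killing `b` with
`P ≡ X ^ n (X - 1) ^ n` modulo `I`, `n ≥ 1`. -/
lemma exists_monic_aeval_eq_zero_of_sq_sub_mem [Module.Finite A B] (b : B)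
    (hb : b ^ 2 - b ∈ I.map (algebraMap A B)) :
    ∃ (P : A[X]) (n : ℕ), P.Monic ∧
      P.map (Ideal.Quotient.mk I) = X ^ (n + 1) * (X - 1) ^ (n + 1) ∧ aeval b P = 0 := by
  rcases subsingleton_or_nontrivial A with hA | hA
  · have : Subsingleton B := by
      refine subsingleton_of_zero_eq_one ?_
      rw [← map_one (algebraMap A B), ← map_zero (algebraMap A B), Subsingleton.elim (0 : A) 1]
    exact ⟨1, 0, monic_one, Subsingleton.elim _ _, Subsingleton.elim _ _⟩
  set c := b ^ 2 - b with hc
  have hrange : LinearMap.range (Algebra.lmul A B c) ≤ I • (⊤ : Submodule A B) := by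
    rintro _ ⟨z, rfl⟩
    rw [Ideal.smul_top_eq_map]
    exact Ideal.mul_mem_right _ _ hb
  obtain ⟨Q, hQm, -, hQc, hQ0⟩ :=
    LinearMap.exists_monic_and_natDegree_eq_and_coeff_mem_pow_and_aeval_eq_zero A
      (Algebra.lmul A B c) I hrange
  have hQc0 : aeval c Q = 0 := by
    rw [Polynomial.aeval_algHom_apply] at hQ0
    have h2 := congrArg (fun φ : Module.End A B => φ 1) hQ0
    simpa using h2
  have hQmap := map_eq_X_pow_of_coeff_mem Q hQm hQc
  set n := Q.natDegree with hn
  have hXX : (X ^ 2 - X : A[X]).Monic := by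
    apply monic_X_pow_sub
    rw [degree_X]; norm_num
  have hXXdeg : (X ^ 2 - X : A[X]).natDegree ≠ 0 := by
    have : (X ^ 2 - X : A[X]).natDegree = 2 := by
      rw [natDegree_sub_eq_left_of_natDegree_lt] <;> simp
    omega
  refine ⟨(Q * X).comp (X ^ 2 - X), n, (hQm.mul monic_X).comp hXX hXXdeg, ?_, ?_⟩
  · rw [map_comp, Polynomial.map_mul, hQmap, map_X, Polynomial.map_sub, Polynomial.map_pow, map_X]
    simp only [mul_comp, X_comp, pow_comp]
    have e : (X ^ 2 - X : (A ⧸ I)[X]) = X * (X - 1) := by ring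
    rw [e, mul_pow, pow_succ, pow_succ]
    ring
  · rw [aeval_comp]
    have : aeval b (X ^ 2 - X : A[X]) = c := by simp [hc]
    rw [this, map_mul, hQc0, zero_mul]

/-- Evaluating a polynomial at an element of `B/IB` only depends on its reduction modulo `I`. -/
lemma aeval_quot_eq_of_map_eq (G : A[X]) (G₀ : A[X])
    (h : G.map (Ideal.Quotient.mk I) = G₀.map (Ideal.Quotient.mk I))
    (ε : B ⧸ I.map (algebraMap A B)) : aeval ε G = aeval ε G₀ := by
  let ψ : A ⧸ I →+* B ⧸ I.map (algebraMap A B) :=
    Ideal.quotientMap _ (algebraMap A B) Ideal.le_comap_map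
  have hψ : ψ.comp (Ideal.Quotient.mk I) = algebraMap A (B ⧸ I.map (algebraMap A B)) := by
    ext a; rfl
  rw [aeval_def, aeval_def, ← hψ, ← eval₂_map, ← eval₂_map, h]

/-- **Idempotent lifting for finite algebras over a henselian pair** (surjectivity). -/
theorem exists_idempotent_lift_of_finite [HenselianRing A I] [Module.Finite A B]
    (ε : B ⧸ I.map (algebraMap A B)) (hε : IsIdempotentElem ε) :
    ∃ e : B, IsIdempotentElem e ∧ Ideal.Quotient.mk _ e = ε := by
  obtain ⟨b, rfl⟩ := Ideal.Quotient.mk_surjective ε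
  have hb : b ^ 2 - b ∈ I.map (algebraMap A B) := by
    rw [← Ideal.Quotient.eq_zero_iff_mem, map_sub, map_pow, pow_two, hε.eq, sub_self]
  obtain ⟨P, n, hPm, hPmap, hP0⟩ := exists_monic_aeval_eq_zero_of_sq_sub_mem (I := I) b hb
  have hcop : IsCoprime ((X : (A ⧸ I)[X]) ^ (n + 1)) ((X - 1) ^ (n + 1)) :=
    IsCoprime.pow ⟨1, -1, by ring⟩
  have hXm : ((X : (A ⧸ I)[X]) - 1).Monic := by simpa using monic_X_sub_C (1 : A ⧸ I)
  obtain ⟨G, H, hGm, hHm, hPGH, hG, hH, U, V, hUV⟩ :=
    exists_factor_lift P hPm _ _ (monic_X_pow _) (hXm.pow _) hcop hPmap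
  set ε := Ideal.Quotient.mk (I.map (algebraMap A B)) b with hεdef
  refine ⟨aeval b (U * G), ?_, ?_⟩
  · have h1 : aeval b (U * G) + aeval b (V * H) = 1 := by
      rw [← map_add, hUV, map_one]
    have h2 : aeval b (U * G) * aeval b (V * H) = 0 := by
      have : aeval b (U * G) * aeval b (V * H) = aeval b (U * V) * aeval b (G * H) := by
        simp only [map_mul]; ring
      rw [this, ← hPGH, hP0, mul_zero]
    have h3 : aeval b (V * H) = 1 - aeval b (U * G) := by linear_combination h1
    rw [h3] at h2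
    change aeval b (U * G) * aeval b (U * G) = aeval b (U * G)
    linear_combination -h2
  · have hGε : aeval ε G = ε := by
      have : G.map (Ideal.Quotient.mk I) = (X ^ (n + 1) : A[X]).map (Ideal.Quotient.mk I) := by
        rw [hG]; simp
      rw [aeval_quot_eq_of_map_eq G _ this ε]
      simp [hε.pow_succ_eq]
    have hHε : aeval ε H = (ε - 1) ^ (n + 1) := by
      have : H.map (Ideal.Quotient.mk I)
          = ((X - 1) ^ (n + 1) : A[X]).map (Ideal.Quotient.mk I) := by
        rw [hH]; simp
      rw [aeval_quot_eq_of_map_eq H _ this ε]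
      simp
    have h1 : aeval ε U * ε + aeval ε V * (ε - 1) ^ (n + 1) = 1 := by
      have h1' := congrArg (aeval ε) hUV
      simp only [map_add, map_mul, map_one] at h1'
      rwa [hGε, hHε] at h1'
    have h0 : (ε - 1) ^ (n + 1) * ε = 0 := by
      rw [pow_succ, mul_assoc]
      have : (ε - 1) * ε = 0 := by
        have := hε.eq
        linear_combination this
      rw [this, mul_zero]
    have h2 : aeval ε U * ε = ε := by
      have := hε.eq
      linear_combination ε * h1 - (aeval ε V) * h0 + (- aeval ε U) * this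
    have : Ideal.Quotient.mk (I.map (algebraMap A B)) (aeval b (U * G)) = aeval ε (U * G) := by
      rw [hεdef, ← Ideal.Quotient.mkₐ_eq_mk A, ← Polynomial.aeval_algHom_apply]
    rw [this, map_mul, hGε, h2]


/-- **Idempotent lifting for integral algebras over a henselian pair** (surjectivity). -/
theorem exists_idempotent_lift_of_isIntegral [HenselianRing A I] [Algebra.IsIntegral A B]
    (ε : B ⧸ I.map (algebraMap A B)) (hε : IsIdempotentElem ε) :
    ∃ e : B, IsIdempotentElem e ∧ Ideal.Quotient.mk _ e = ε := by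
  classical
  obtain ⟨b, rfl⟩ := Ideal.Quotient.mk_surjective ε
  have hb : b ^ 2 - b ∈ I.map (algebraMap A B) := by
    rw [← Ideal.Quotient.eq_zero_iff_mem, map_sub, map_pow, pow_two, hε.eq, sub_self]
  rw [Ideal.map, Ideal.span, Submodule.mem_span_iff_exists_finset_subset] at hb
  obtain ⟨f, t, hts, -, hsum⟩ := hb
  have hi : ∀ a : B, a ∈ t → ∃ i : A, i ∈ I ∧ algebraMap A B i = a := fun a ha => by
    obtain ⟨i, hi, rfl⟩ := hts ha
    exact ⟨i, hi, rfl⟩
  choose! i hiI hia using hi
  let s : Set B := insert b (f '' (t : Set B))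
  have hsfin : s.Finite := (Set.Finite.image _ t.finite_toSet).insert _
  let S : Subalgebra A B := Algebra.adjoin A s
  have hSfin : Module.Finite A S :=
    Module.Finite.iff_fg.2 (fg_adjoin_of_finite hsfin fun x _ => Algebra.IsIntegral.isIntegral x)
  have hbS : b ∈ S := Algebra.subset_adjoin (Set.mem_insert _ _)
  have hfS : ∀ a ∈ t, f a ∈ S := fun a ha =>
    Algebra.subset_adjoin (Set.mem_insert_of_mem _ ⟨a, ha, rfl⟩)
  let b' : S := ⟨b, hbS⟩
  have hb' : b' ^ 2 - b' ∈ I.map (algebraMap A S) := by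
    have e : b' ^ 2 - b' = ∑ a ∈ t.attach, (⟨f a.1, hfS a.1 a.2⟩ : S) * algebraMap A S (i a.1) := by
      apply Subtype.val_injective
      rw [AddSubmonoidClass.coe_finsetSum]
      simp only [MulMemClass.coe_mul, Subalgebra.coe_algebraMap]
      rw [Finset.sum_attach t (fun a => f a * algebraMap A B (i a))]
      have e0 : ((b' ^ 2 - b' : S) : B) = b ^ 2 - b := by
        simp only [b', AddSubgroupClass.coe_sub, SubmonoidClass.coe_pow]
      rw [e0, ← hsum]
      refine Finset.sum_congr rfl fun a ha => ?_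
      rw [hia a ha, smul_eq_mul]
    rw [e]
    exact Ideal.sum_mem _ fun a _ => Ideal.mul_mem_left _ _ (Ideal.mem_map_of_mem _ (hiI _ a.2))
  have hε' : IsIdempotentElem (Ideal.Quotient.mk (I.map (algebraMap A S)) b') := by
    change _ * _ = _
    rw [← map_mul, Ideal.Quotient.eq, ← pow_two]; exact hb'
  obtain ⟨e', he', hmk⟩ := exists_idempotent_lift_of_finite (I := I) _ hε'
  refine ⟨(e' : B), ?_, ?_⟩
  · have := congrArg Subtype.val he'.eq
    simp only [MulMemClass.coe_mul] at this
    exact this
  · rw [Ideal.Quotient.eq] at hmk ⊢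
    have h1 := Ideal.mem_map_of_mem S.val.toRingHom hmk
    rw [Ideal.map_map] at h1
    have h2 : (S.val.toRingHom).comp (algebraMap A S) = algebraMap A B := by
      ext a; rfl
    rw [h2] at h1
    simpa using h1


/-- (4) of Stacks 09XI: over a henselian pair, idempotents of an integral algebra `B` correspond
bijectively to idempotents of `B/IB`. -/
theorem bijOn_idempotents_of_isIntegral [HenselianRing A I] [Algebra.IsIntegral A B] :
    Set.BijOn (Ideal.Quotient.mk (Ideal.map (algebraMap A B) I))
      {e : B | IsIdempotentElem e} {e | IsIdempotentElem e} := by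
  refine ⟨fun e he => he.map _, ?_, fun ε hε => ?_⟩
  · intro e₁ h₁ e₂ h₂ h
    exact idempotent_eq_of_sub_mem_jacobson h₁ h₂
      (map_le_jacobson_of_isIntegral HenselianRing.jac (Ideal.Quotient.eq.1 h))
  · obtain ⟨e, he, rfl⟩ := exists_idempotent_lift_of_isIntegral ε hε
    exact ⟨e, he, rfl⟩

/-- (3) ⇒ (1) of Stacks 09XI (uses helper7's landed S17968). -/
theorem henselian_of_bijOn_finite
    (H : ∀ (B : Type u) [CommRing B] [Algebra A B], Module.Finite A B →
      Set.BijOn (Ideal.Quotient.mk (Ideal.map (algebraMap A B) I))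
        {e : B | IsIdempotentElem e} {e | IsIdempotentElem e}) : HenselianRing A I := by
  have hI : I ≤ Ideal.jacobson ⊥ := by
    intro a ha
    rw [Ideal.mem_jacobson_bot]
    intro y
    let J : Ideal A := Ideal.span {a * y + 1}
    have hfin : Module.Finite A (A ⧸ J) := Module.Finite.of_surjective (Ideal.Quotient.mkₐ A J).toLinearMap
      (Ideal.Quotient.mkₐ_surjective A J)
    have hinj := (H (A ⧸ J) hfin).injOn
    have h1 : (1 : A ⧸ J) ∈ Ideal.map (algebraMap A (A ⧸ J)) I := by
      have e : (1 : A ⧸ J) = -(algebraMap A (A ⧸ J) a * algebraMap A (A ⧸ J) y) := by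
        rw [← map_mul, ← map_neg, Ideal.Quotient.algebraMap_eq, ← map_one (Ideal.Quotient.mk J),
          Ideal.Quotient.eq]
        have : (1 : A) - -(a * y) = a * y + 1 := by ring
        rw [this]; exact Ideal.subset_span rfl
      rw [e]
      exact neg_mem (Ideal.mul_mem_right _ _ (Ideal.mem_map_of_mem _ ha))
    have h2 : (1 : A ⧸ J) = 0 := by
      apply hinj (IsIdempotentElem.one) (IsIdempotentElem.zero)
      rw [map_zero, Ideal.Quotient.eq_zero_iff_mem]; exact h1
    have h3 : J = ⊤ := by
      rw [Ideal.eq_top_iff_one, ← Ideal.Quotient.eq_zero_iff_mem, map_one]; exact h2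
    exact Ideal.span_singleton_eq_top.1 h3
  refine Groth.Agent.S17968.result A I hI fun m p hp _ => ?_
  have hfin : Module.Finite A (AdjoinRoot p) := hp.finite_adjoinRoot
  exact (H (AdjoinRoot p) hfin).surjOn


/-- (1) ⇔ (3) of Stacks 09XI. -/
theorem henselian_iff_bijOn_finite :
    HenselianRing A I ↔ ∀ (B : Type u) [CommRing B] [Algebra A B], Module.Finite A B →
      Set.BijOn (Ideal.Quotient.mk (Ideal.map (algebraMap A B) I))
        {e : B | IsIdempotentElem e} {e | IsIdempotentElem e} := by
  constructor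
  · intro h B _ _ hfin
    have : Algebra.IsIntegral A B := Algebra.IsIntegral.of_finite A B
    exact bijOn_idempotents_of_isIntegral
  · exact henselian_of_bijOn_finite

/-- (1) ⇔ (4) of Stacks 09XI. -/
theorem henselian_iff_bijOn_isIntegral :
    HenselianRing A I ↔ ∀ (B : Type u) [CommRing B] [Algebra A B], Algebra.IsIntegral A B →
      Set.BijOn (Ideal.Quotient.mk (Ideal.map (algebraMap A B) I))
        {e : B | IsIdempotentElem e} {e | IsIdempotentElem e} := by
  constructor
  · intro h B _ _ hint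
    exact bijOn_idempotents_of_isIntegral
  · intro H
    exact henselian_of_bijOn_finite fun B _ _ hfin => H B (Algebra.IsIntegral.of_finite A B)

/-- Stacks 09XK: an integral extension of a henselian pair is a henselian pair. -/
theorem henselian_of_isIntegral [HenselianRing A I] (B : Type u) [CommRing B] [Algebra A B]
    [Algebra.IsIntegral A B] : HenselianRing B (Ideal.map (algebraMap A B) I) := by
  refine henselian_of_bijOn_finite fun C _ _ hfin => ?_
  let _ : Algebra A C := ((algebraMap B C).comp (algebraMap A B)).toAlgebra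
  have : IsScalarTower A B C := IsScalarTower.of_algebraMap_eq' rfl
  have : Algebra.IsIntegral B C := Algebra.IsIntegral.of_finite B C
  have : Algebra.IsIntegral A C := Algebra.IsIntegral.trans B
  have h := bijOn_idempotents_of_isIntegral (A := A) (I := I) (B := C)
  have e : (I.map (algebraMap A B)).map (algebraMap B C) = I.map (algebraMap A C) := by
    rw [Ideal.map_map]; rfl
  rw [e]; exact h


end Groth.Agent.Lib.Helper58.HenselPair
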