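import Mathlib
import Groth.Agent.Lib.Helper58.HenselPairIdem

set_option autoImplicit false

namespace Groth.Agent.Lib.Helper58.HenselPair

open Polynomial

universe u v

section Retraction'

variable {A : Type u} [CommRing A] {I : Ideal A}
variable {B : Type v} [CommRing B] [Algebra A B]

/-- **Gabber's retraction lemma, second form**: `B` only needs to be module-finite, as long as
`B[1/Δ]` is étale (in particular finitely presented) over `A`. -/
theorem exists_retraction' [HenselianRing A I] [Module.Finite A B]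
    (Δ : B) [Algebra.Etale A (Localization.Away Δ)]
    (σ : B →ₐ[A] A ⧸ I) (hΔ : IsUnit (σ Δ)) :
    ∃ ρ : B →ₐ[A] A, (Ideal.Quotient.mkₐ A I).comp ρ = σ := by
  have hI : I ≤ Ideal.jacobson ⊥ := HenselianRing.jac
  obtain ⟨g₀, hg₀1, hg₀⟩ := exists_idem_lift σ (ker_le_sq_sup Δ σ hΔ)
  obtain ⟨a', ha'⟩ := hΔ.exists_right_inv
  obtain ⟨a, rfl⟩ := Ideal.Quotient.mk_surjective a'
  set g : B := g₀ * (Δ * algebraMap A B a) with hgdef
  have hσg : σ g = 1 := by
    rw [hgdef, map_mul, map_mul, hg₀1, AlgHom.commutes, Ideal.Quotient.algebraMap_eq, ha',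
      one_mul]
  have hg : ∀ x, σ x = 0 → g * x ∈ I.map (algebraMap A B) := fun x hx => by
    have e : g * x = (Δ * algebraMap A B a) * (g₀ * x) := by rw [hgdef]; ring
    rw [e]; exact Ideal.mul_mem_left _ _ (hg₀ x hx)
  obtain ⟨f, n, hfm, hfmap, hfg⟩ := exists_gabber_poly g σ hσg hg
  obtain ⟨α, hα1, hα⟩ := exists_root_of_map_eq f hfm n hfmap
  have hαu : IsUnit α := isUnit_of_sub_one_mem hI hα1
  set f₁ := f /ₘ (X - C α) with hf₁
  have hfac : (X - C α) * f₁ = f := mul_divByMonic_eq_iff_isRoot.2 hα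
  have hu : IsUnit (f₁.eval α) := by
    have h1 := isUnit_derivative_of_map_eq hI f n hfmap hα1
    have h2 : f.derivative.eval α = f₁.eval α := by
      rw [← hfac, derivative_mul]; simp
    rwa [h2] at h1
  set q := f₁ /ₘ (X - C α) with hq
  have hf₁' : f₁ = (X - C α) * q + C (f₁.eval α) := by
    have := modByMonic_add_div f₁ (X - C α)
    rw [modByMonic_X_sub_C_eq_C_eval, ← hq] at this
    exact this.symm.trans (by ring)
  set x : B := g - algebraMap A B α with hxdef
  set y : B := aeval g f₁ with hydef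
  have hxy : x * y = 0 := by
    have : aeval g f = x * y := by
      rw [← hfac, map_mul]; simp [hxdef, hydef]
    rw [← this, hfg]
  have hy : y = x * aeval g q + algebraMap A B (f₁.eval α) := by
    rw [hydef]; conv_lhs => rw [hf₁']
    simp [hxdef]
  let 𝔫 : Ideal B := Ideal.span {x}
  have hx𝔫 : x ∈ 𝔫 := Ideal.subset_span rfl
  have hσx : σ x = 0 := by
    rw [hxdef, map_sub, hσg, AlgHom.commutes, Ideal.Quotient.algebraMap_eq,
      mk_eq_one_of_sub_one_mem hα1, sub_self]
  have h𝔫K : ∀ z ∈ 𝔫, σ z = 0 := by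
    intro z hz
    obtain ⟨c, rfl⟩ := Ideal.mem_span_singleton'.1 hz
    rw [map_mul, hσx, mul_zero]
  -- (a) surjectivity of `A → B/𝔫`
  have hsurj : ∀ b : B, ∃ c : A, b - algebraMap A B c ∈ 𝔫 := by
    have htop : (⊤ : Submodule A B) ≤
        LinearMap.range (Algebra.linearMap A B) ⊔ 𝔫.restrictScalars A := by
      apply Submodule.le_of_le_smul_of_le_jacobson_bot Module.Finite.fg_top hI
      intro b _
      obtain ⟨c, hc⟩ := Ideal.Quotient.mk_surjective (σ b)
      have hk : σ (b - algebraMap A B c) = 0 := by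
        rw [map_sub, AlgHom.commutes, Ideal.Quotient.algebraMap_eq, hc, sub_self]
      have hgk : g * (b - algebraMap A B c) ∈ I • (⊤ : Submodule A B) := by
        rw [Ideal.smul_top_eq_map]; exact hg _ hk
      have e : b = algebraMap A B c + (-(x * (b - algebraMap A B c)))
          + (-((α - 1) • (b - algebraMap A B c)) + g * (b - algebraMap A B c)) := by
        rw [hxdef, Algebra.smul_def, map_sub, map_one]; ring
      rw [e]
      refine Submodule.add_mem_sup (Submodule.add_mem_sup ⟨c, rfl⟩ ?_) ?_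
      · exact neg_mem (𝔫.mul_mem_right _ hx𝔫)
      · exact add_mem (neg_mem (Submodule.smul_mem_smul hα1 Submodule.mem_top)) hgk
    intro b
    obtain ⟨_, ⟨c, rfl⟩, z, hz, hbz⟩ := Submodule.mem_sup.1 (htop (Submodule.mem_top : b ∈ ⊤))
    refine ⟨c, ?_⟩
    rw [← hbz]
    simpa using hz
  -- (b) the kernel
  let 𝔞 : Ideal A := 𝔫.comap (algebraMap A B)
  have h𝔞I : 𝔞 ≤ I := fun c hc => by
    have := h𝔫K _ hc
    rw [AlgHom.commutes, Ideal.Quotient.algebraMap_eq] at this
    exact Ideal.Quotient.eq_zero_iff_mem.1 this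
  let N := B ⧸ 𝔫
  let π : B →ₐ[A] N := Ideal.Quotient.mkₐ A 𝔫
  have hπ0 : ∀ c : A, algebraMap A N c = 0 ↔ c ∈ 𝔞 := fun c => by
    rw [IsScalarTower.algebraMap_apply A B N, Ideal.Quotient.algebraMap_eq,
      Ideal.Quotient.eq_zero_iff_mem]; rfl
  have hNsurj : Function.Surjective (algebraMap A N) := fun z => by
    obtain ⟨b, rfl⟩ := Ideal.Quotient.mk_surjective z
    obtain ⟨c, hc⟩ := hsurj b
    refine ⟨c, ?_⟩
    rw [IsScalarTower.algebraMap_apply A B N, Ideal.Quotient.algebraMap_eq]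
    exact (Ideal.Quotient.eq.2 hc).symm
  have hπg : π g = algebraMap A N α := by
    rw [IsScalarTower.algebraMap_apply A B N, Ideal.Quotient.algebraMap_eq]
    exact Ideal.Quotient.eq.2 hx𝔫
  have hπΔ : IsUnit (π Δ) := by
    have h1 : IsUnit (π g) := by rw [hπg]; exact hαu.map _
    rw [hgdef, map_mul, map_mul] at h1
    exact isUnit_of_mul_isUnit_left (isUnit_of_mul_isUnit_right h1)
  let π' : Localization.Away Δ →ₐ[A] N := IsLocalization.Away.liftAlgHom Δ hπΔ
  have hπ'b : ∀ b : B, π' (algebraMap B _ b) = π b := fun b => by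
    change IsLocalization.Away.lift Δ hπΔ (algebraMap B _ b) = π b
    rw [IsLocalization.Away.lift_eq]; rfl
  have h𝔞fg : 𝔞.FG := by
    have hπ'surj : Function.Surjective π' := fun z => by
      obtain ⟨b, rfl⟩ := Ideal.Quotient.mk_surjective z
      exact ⟨algebraMap B _ b, hπ'b b⟩
    have hker : RingHom.ker π'.toRingHom
        = Ideal.span {algebraMap B (Localization.Away Δ) x} := by
      apply le_antisymm
      · intro z hz
        obtain ⟨b, ⟨_, k, rfl⟩, rfl⟩ := IsLocalization.exists_mk'_eq (Submonoid.powers Δ) z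
        have h1 : π' (IsLocalization.mk' (Localization.Away Δ) b
            (⟨Δ ^ k, k, rfl⟩ : Submonoid.powers Δ)) * π (Δ ^ k) = π b := by
          rw [← hπ'b (Δ ^ k), ← map_mul, IsLocalization.mk'_spec, hπ'b]
        have h2 : π b = 0 := by
          rw [← h1, show π' _ = 0 from hz, zero_mul]
        obtain ⟨c, hc⟩ := Ideal.mem_span_singleton'.1 (Ideal.Quotient.eq_zero_iff_mem.1 h2)
        rw [← hc, IsLocalization.mk'_eq_mul_mk'_one, map_mul]
        exact Ideal.mul_mem_right _ _ (Ideal.mul_mem_left _ _ (Ideal.subset_span rfl))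
      · rw [Ideal.span_le, Set.singleton_subset_iff]
        change π' (algebraMap B _ x) = 0
        rw [hπ'b]; exact Ideal.Quotient.eq_zero_iff_mem.2 hx𝔫
    have : Algebra.FinitePresentation A N :=
      Algebra.FinitePresentation.of_surjective (f := π') hπ'surj (by
        rw [hker]; exact Submodule.fg_span_singleton _)
    have h1 := Algebra.FinitePresentation.ker_fG_of_surjective (Algebra.ofId A N) hNsurj
    have h2 : RingHom.ker (Algebra.ofId A N).toRingHom = 𝔞 := by
      ext c
      rw [RingHom.mem_ker]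
      exact hπ0 c
    rwa [h2] at h1
  have h𝔞sq : 𝔞 ≤ 𝔞 ^ 2 := by
    let T := A ⧸ 𝔞 ^ 2
    let qT : T →ₐ[A] N := Ideal.Quotient.liftₐ (𝔞 ^ 2) (Algebra.ofId A N) (fun c hc => by
      rw [Algebra.ofId_apply, hπ0]; exact Ideal.pow_le_self two_ne_zero hc)
    have hqT : ∀ c : A, qT (Ideal.Quotient.mk _ c) = algebraMap A N c := fun c => rfl
    have hqT_surj : Function.Surjective qT := fun z => by
      obtain ⟨c, rfl⟩ := hNsurj z
      exact ⟨Ideal.Quotient.mk _ c, hqT c⟩
    have hqT_ker : IsNilpotent (RingHom.ker (qT : T →+* N)) := by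
      refine ⟨2, ?_⟩
      have hle : RingHom.ker (qT : T →+* N) ≤ 𝔞.map (Ideal.Quotient.mk (𝔞 ^ 2)) := by
        intro t ht
        obtain ⟨c, rfl⟩ := Ideal.Quotient.mk_surjective t
        refine Ideal.mem_map_of_mem _ ((hπ0 c).1 ?_)
        rw [← hqT c]; exact (RingHom.mem_ker).1 ht
      change _ = (⊥ : Ideal T)
      rw [eq_bot_iff]
      calc RingHom.ker (qT : T →+* N) ^ 2 ≤ (𝔞.map (Ideal.Quotient.mk (𝔞 ^ 2))) ^ 2 :=
            Ideal.pow_right_mono hle 2
        _ = (𝔞 ^ 2).map (Ideal.Quotient.mk (𝔞 ^ 2)) := (Ideal.map_pow _ _ _).symm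
        _ = ⊥ := Ideal.map_quotient_self _
    let φ : Localization.Away Δ →ₐ[A] T :=
      Algebra.FormallySmooth.liftOfSurjective π' qT hqT_surj hqT_ker
    have hφ : ∀ z, qT (φ z) = π' z :=
      Algebra.FormallySmooth.liftOfSurjective_apply π' qT hqT_surj hqT_ker
    let φ' : B →ₐ[A] T := φ.comp (IsScalarTower.toAlgHom A B (Localization.Away Δ))
    have hφ' : ∀ b, qT (φ' b) = π b := fun b => by
      change qT (φ (algebraMap B _ b)) = π b
      rw [hφ]
      change IsLocalization.Away.lift Δ hπΔ (algebraMap B _ b) = π b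
      rw [IsLocalization.Away.lift_eq]; rfl
    have hφy : IsUnit (φ' y) := by
      obtain ⟨c, hc⟩ := Ideal.Quotient.mk_surjective (φ' y)
      have h1 : algebraMap A N c = algebraMap A N (f₁.eval α) := by
        rw [← hqT c, hc, hφ', hy, map_add, map_mul]
        have : π x = 0 := Ideal.Quotient.eq_zero_iff_mem.2 hx𝔫
        rw [this, zero_mul, zero_add, AlgHom.commutes]
      have h2 : c - f₁.eval α ∈ I := h𝔞I ((hπ0 _).1 (by rw [map_sub, h1, sub_self]))
      have hcu : IsUnit c := by
        apply isUnit_of_isUnit_mk hI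
        have : Ideal.Quotient.mk I c = Ideal.Quotient.mk I (f₁.eval α) := Ideal.Quotient.eq.2 h2
        rw [this]; exact hu.map _
      rw [← hc]; exact hcu.map _
    have hφx : φ' x = 0 := by
      have : φ' x * φ' y = 0 := by rw [← map_mul, hxy, map_zero]
      exact (hφy.mul_left_eq_zero).1 this
    intro c hc
    obtain ⟨z, hz⟩ := Ideal.mem_span_singleton'.1 (show algebraMap A B c ∈ 𝔫 from hc)
    have h0 : φ' (algebraMap A B c) = 0 := by rw [← hz, map_mul, hφx, mul_zero]
    rw [AlgHom.commutes, Ideal.Quotient.algebraMap_eq] at h0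
    exact Ideal.Quotient.eq_zero_iff_mem.1 h0
  have h𝔞bot : 𝔞 = ⊥ :=
    Submodule.eq_bot_of_le_smul_of_le_jacobson_bot 𝔞 𝔞 h𝔞fg
      (by rwa [smul_eq_mul, ← pow_two]) (h𝔞I.trans hI)
  have hNinj : Function.Injective (algebraMap A N) := by
    rw [injective_iff_map_eq_zero]
    intro c hc
    have := (hπ0 c).1 hc
    rwa [h𝔞bot, Ideal.mem_bot] at this
  let e : A ≃ₐ[A] N := AlgEquiv.ofBijective (Algebra.ofId A N) ⟨hNinj, hNsurj⟩
  refine ⟨e.symm.toAlgHom.comp π, ?_⟩
  ext b
  change Ideal.Quotient.mk I (e.symm (π b)) = σ b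
  have hc : algebraMap A N (e.symm (π b)) = π b := e.apply_symm_apply (π b)
  have h1 : b - algebraMap A B (e.symm (π b)) ∈ 𝔫 := by
    rw [IsScalarTower.algebraMap_apply A B N, Ideal.Quotient.algebraMap_eq] at hc
    exact Ideal.Quotient.eq.1 hc.symm
  have h2 := h𝔫K _ h1
  rw [map_sub, sub_eq_zero, AlgHom.commutes, Ideal.Quotient.algebraMap_eq] at h2
  exact h2.symm

end Retraction'

section ZMT

variable (R : Type u) (S : Type v) [CommRing R] [CommRing S] [Algebra R S]

/-- Elements `r` integral over `R` such that every `x : S` becomes integral after multiplying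
by a power of `r` (the "Zariski main theorem" elements). An `R`-submodule of `S`. -/
def zmtSubmodule : Submodule R S where
  carrier := {r | IsIntegral R r ∧ ∀ x, ∃ m, IsIntegral R (r ^ m * x)}
  zero_mem' := ⟨isIntegral_zero, fun x => ⟨1, by simpa using isIntegral_zero⟩⟩
  add_mem' := by
    rintro r s ⟨hr, hr'⟩ ⟨hs, hs'⟩
    refine ⟨hr.add hs, fun x => ?_⟩
    obtain ⟨m, hm⟩ := hr' x
    obtain ⟨n, hn⟩ := hs' x
    refine ⟨m + n, ?_⟩
    rw [add_pow, Finset.sum_mul]
    refine IsIntegral.sum _ fun i hi => ?_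
    have hc : IsIntegral R (((m + n).choose i : ℕ) : S) := by
      rw [← map_natCast (algebraMap R S)]; exact isIntegral_algebraMap
    by_cases him : m ≤ i
    · obtain ⟨j, rfl⟩ := Nat.exists_eq_add_of_le him
      have e : r ^ (m + j) * s ^ (m + n - (m + j)) * ((m + n).choose (m + j) : S) * x
          = (r ^ j * s ^ (m + n - (m + j)) * ((m + n).choose (m + j) : S)) * (r ^ m * x) := by
        rw [pow_add]; ring
      rw [e]
      exact (((hr.pow _).mul (hs.pow _)).mul hc).mul hm
    · have hi' : i ≤ m + n := Nat.lt_succ_iff.1 (Finset.mem_range.1 hi)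
      obtain ⟨j, hj⟩ : ∃ j, m + n - i = n + j := ⟨m - i, by omega⟩
      have e : r ^ i * s ^ (m + n - i) * ((m + n).choose i : S) * x
          = (r ^ i * s ^ j * ((m + n).choose i : S)) * (s ^ n * x) := by
        rw [hj, pow_add]; ring
      rw [e]
      exact (((hr.pow _).mul (hs.pow _)).mul hc).mul hn
  smul_mem' := by
    rintro a r ⟨hr, hr'⟩
    refine ⟨hr.smul a, fun x => ?_⟩
    obtain ⟨m, hm⟩ := hr' x
    refine ⟨m, ?_⟩
    rw [_root_.smul_pow, smul_mul_assoc]
    exact hm.smul (a ^ m)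

variable {R S}

lemma mem_zmtSubmodule {r : S} :
    r ∈ zmtSubmodule R S ↔ IsIntegral R r ∧ ∀ x, ∃ m, IsIntegral R (r ^ m * x) := Iff.rfl

/-- Global form of Zariski's main theorem for quasi-finite algebras: the ZMT elements generate the
unit ideal. -/
lemma span_zmtSubmodule_eq_top [Algebra.FiniteType R S] [Algebra.QuasiFinite R S] :
    Ideal.span (zmtSubmodule R S : Set S) = ⊤ := by
  by_contra h
  obtain ⟨M, hM, hle⟩ := Ideal.exists_le_maximal _ h
  have : M.IsPrime := hM.isPrime
  obtain ⟨r, hrM, hr, hr'⟩ := Algebra.zariskisMainProperty_iff.1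
    (Algebra.ZariskisMainProperty.of_finiteType (R := R) M)
  exact hrM (hle (Ideal.subset_span ⟨hr, hr'⟩))

/-- A ZMT element mapping to `1` under a given section modulo `I`. -/
lemma exists_zmt_section_elem [Algebra.FiniteType R S] [Algebra.QuasiFinite R S] (I : Ideal R)
    (σ : S →ₐ[R] R ⧸ I) :
    ∃ r : S, σ r = 1 ∧ IsIntegral R r ∧ ∀ x, ∃ m, IsIntegral R (r ^ m * x) := by
  classical
  have h1 : (1 : S) ∈ Ideal.span (zmtSubmodule R S : Set S) := by
    rw [span_zmtSubmodule_eq_top]; trivial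
  rw [Ideal.span, Submodule.mem_span_iff_exists_finset_subset] at h1
  obtain ⟨f, t, hts, -, hsum⟩ := h1
  have hlift : ∀ x : S, ∃ a : R, Ideal.Quotient.mk I a = σ x := fun x =>
    Ideal.Quotient.mk_surjective _
  choose a ha using hlift
  have hmem : ∑ j ∈ t, a (f j) • j ∈ zmtSubmodule R S :=
    Submodule.sum_mem _ fun j hj => Submodule.smul_mem _ _ (hts hj)
  refine ⟨∑ j ∈ t, a (f j) • j, ?_, hmem.1, hmem.2⟩
  rw [map_sum, ← map_one σ, ← hsum, map_sum]
  refine Finset.sum_congr rfl fun j _ => ?_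
  rw [map_smul, smul_eq_mul, map_mul, Algebra.smul_def, Ideal.Quotient.algebraMap_eq, ha]

/-- Version of `Algebra.ZariskisMainProperty.exists_fg_and_exists_notMem_and_awayMap_bijective`
with an explicit element. -/
lemma exists_fg_awayMap_bijective [Algebra.FiniteType R S] (r : S) (hr : IsIntegral R r)
    (hm : ∀ x, ∃ m, IsIntegral R (r ^ m * x)) :
    ∃ (S' : Subalgebra R S) (hrS : r ∈ S'), S'.toSubmodule.FG ∧
      Function.Bijective (Localization.awayMap S'.val.toRingHom ⟨r, hrS⟩) := by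
  obtain ⟨s, hs⟩ := Algebra.FiniteType.out (R := R) (A := S)
  choose m hm using hm
  let t := insert r { r ^ m x * x | x ∈ s }
  have hrt : r ∈ Algebra.adjoin R t := Algebra.subset_adjoin (by simp [t])
  refine ⟨Algebra.adjoin R t, hrt, fg_adjoin_of_finite ?_ ?_, ?_⟩
  · simp only [t, Set.finite_insert]
    exact s.finite_toSet.image (fun x ↦ r ^ m x * x)
  · rintro a (rfl | ⟨x, hx, rfl⟩); exacts [hr, hm _]
  refine ⟨IsLocalization.map_injective_of_injective _ _ _ Subtype.val_injective, ?_⟩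
  rw [Localization.awayMap_surjective_iff]
  have key : ∀ a : S, ∃ k, r ^ k * a ∈ Algebra.adjoin R t := by
    intro a
    have ha : a ∈ Algebra.adjoin R (s : Set S) := by rw [hs]; trivial
    induction ha using Algebra.adjoin_induction with
    | mem x hx =>
      exact ⟨m x, Algebra.subset_adjoin (Set.mem_insert_of_mem _ ⟨x, hx, rfl⟩)⟩
    | algebraMap c => exact ⟨0, by simp⟩
    | add a₁ a₂ _ _ h₁ h₂ =>
      obtain ⟨k₁, h₁⟩ := h₁
      obtain ⟨k₂, h₂⟩ := h₂
      refine ⟨k₁ + k₂, ?_⟩
      have e : r ^ (k₁ + k₂) * (a₁ + a₂) = r ^ k₂ * (r ^ k₁ * a₁) + r ^ k₁ * (r ^ k₂ * a₂) := by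
        rw [pow_add]; ring
      rw [e]
      exact add_mem (mul_mem (pow_mem hrt _) h₁) (mul_mem (pow_mem hrt _) h₂)
    | mul a₁ a₂ _ _ h₁ h₂ =>
      obtain ⟨k₁, h₁⟩ := h₁
      obtain ⟨k₂, h₂⟩ := h₂
      refine ⟨k₁ + k₂, ?_⟩
      have e : r ^ (k₁ + k₂) * (a₁ * a₂) = (r ^ k₁ * a₁) * (r ^ k₂ * a₂) := by
        rw [pow_add]; ring
      rw [e]
      exact mul_mem h₁ h₂
  intro a
  obtain ⟨k, hk⟩ := key a
  exact ⟨⟨_, hk⟩, k, rfl⟩

end ZMT


section EtaleLift

variable {A : Type u} [CommRing A] {I : Ideal A}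

/-- **Étale lifting for henselian pairs** (Stacks 09XI (1) ⇒ (2)). -/
theorem exists_etale_lift [HenselianRing A I] {A' : Type v} [CommRing A'] [Algebra A A']
    [Algebra.Etale A A'] (σ : A' →ₐ[A] A ⧸ I) :
    ∃ τ : A' →ₐ[A] A, (Ideal.Quotient.mkₐ A I).comp τ = σ := by
  have hI : I ≤ Ideal.jacobson ⊥ := HenselianRing.jac
  obtain ⟨r, hσr, hr, hr'⟩ := exists_zmt_section_elem I σ
  obtain ⟨S', hrS, hfg, hbij⟩ := exists_fg_awayMap_bijective r hr hr'
  have : Module.Finite A S' := ⟨(Submodule.fg_top _).mpr hfg⟩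
  let r' : S' := ⟨r, hrS⟩
  let e : Localization.Away r' ≃ₐ[A] Localization.Away (S'.val r') :=
    AlgEquiv.ofBijective (Localization.awayMapₐ S'.val r') hbij
  have : Algebra.Etale A (Localization.Away (S'.val r')) :=
    Algebra.Etale.comp A A' _
  have : Algebra.Etale A (Localization.Away r') := Algebra.Etale.of_equiv e.symm
  let σ' : S' →ₐ[A] A ⧸ I := σ.comp S'.val
  have hσ'r : σ' r' = 1 := hσr
  obtain ⟨ρ, hρ⟩ := exists_retraction' r' σ' (by rw [hσ'r]; exact isUnit_one)
  have hρ' : ∀ s : S', Ideal.Quotient.mk I (ρ s) = σ s := fun s => AlgHom.congr_fun hρ s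
  have hρr : IsUnit (ρ r') := by
    apply isUnit_of_isUnit_mk hI
    rw [hρ', show σ (r' : A') = 1 from hσr]; exact isUnit_one
  let ρ' : Localization.Away r' →ₐ[A] A := IsLocalization.Away.liftAlgHom r' hρr
  have hσr' : IsUnit (σ (S'.val r')) := by
    rw [show σ (S'.val r') = 1 from hσr]; exact isUnit_one
  let σt : Localization.Away (S'.val r') →ₐ[A] A ⧸ I :=
    IsLocalization.Away.liftAlgHom (S'.val r') hσr'
  have h1 : (Ideal.Quotient.mkₐ A I).comp ρ' = σt.comp e.toAlgHom := by
    apply IsLocalization.algHom_ext (Submonoid.powers r')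
    ext s
    change Ideal.Quotient.mk I (IsLocalization.Away.lift r' hρr (algebraMap S' _ s))
      = IsLocalization.Away.lift (S'.val r') hσr'
        (Localization.awayMapₐ S'.val r' (algebraMap S' _ s))
    rw [IsLocalization.Away.lift_eq]
    have : Localization.awayMapₐ S'.val r' (algebraMap S' _ s)
        = algebraMap A' _ (S'.val s) := by
      rw [Localization.awayMapₐ, IsLocalization.Away.mapₐ_apply, IsLocalization.Away.map,
        IsLocalization.map_eq]
      rfl
    rw [this, IsLocalization.Away.lift_eq]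
    exact hρ' s
  have h3 : ∀ z : Localization.Away (S'.val r'),
      Ideal.Quotient.mk I (ρ' (e.symm z)) = σt z := fun z => by
    have h2 := AlgHom.congr_fun h1 (e.symm z)
    rw [AlgHom.comp_apply, AlgHom.comp_apply] at h2
    rw [show (e.toAlgHom (e.symm z)) = z from e.apply_symm_apply z] at h2
    exact h2
  have h4 : ∀ x : A', σt (algebraMap A' _ x) = σ x := fun x => by
    change IsLocalization.Away.lift (S'.val r') hσr' (algebraMap A' _ x) = σ x
    rw [IsLocalization.Away.lift_eq]; rfl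
  refine ⟨(ρ'.comp e.symm.toAlgHom).comp (IsScalarTower.toAlgHom A A' _), ?_⟩
  refine AlgHom.ext fun x => ?_
  exact (h3 (algebraMap A' _ x)).trans (h4 x)

end EtaleLift


section EtaleConverse

variable {A : Type u} [CommRing A] {I : Ideal A}

/-- Étale lifting implies lifting of coprime monic factorizations (via Mathlib's universal coprime
factorization ring). -/
theorem exists_factor_of_etale_lift (hI : I ≤ Ideal.jacobson ⊥)
    (H : ∀ (A' : Type u) [CommRing A'] [Algebra A A'] [Algebra.Etale A A']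
      (σ : A' →ₐ[A] A ⧸ I), ∃ τ : A' →ₐ[A] A, (Ideal.Quotient.mkₐ A I).comp τ = σ)
    (f : A[X]) (hf : f.Monic) (g₀ h₀ : (A ⧸ I)[X])
    (hg₀ : g₀.Monic) (hh₀ : h₀.Monic) (hcop : IsCoprime g₀ h₀)
    (hfac : f.map (Ideal.Quotient.mk I) = g₀ * h₀) :
    ∃ g h : A[X], g.Monic ∧ h.Monic ∧ f = g * h ∧ g.map (Ideal.Quotient.mk I) = g₀ ∧
      h.map (Ideal.Quotient.mk I) = h₀ := by
  rcases subsingleton_or_nontrivial (A ⧸ I) with hA | hA
  · have : Subsingleton A := by
      have h1 : (1 : A) ∈ I := Ideal.Quotient.eq_zero_iff_mem.1 (Subsingleton.elim _ _)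
      have := Ideal.mem_jacobson_bot.1 (hI h1) (-1)
      simp only [mul_neg, mul_one, neg_add_cancel, isUnit_zero_iff] at this
      exact subsingleton_of_zero_eq_one this
    exact ⟨f, 1, hf, monic_one, (mul_one f).symm, Subsingleton.elim _ _, Subsingleton.elim _ _⟩
  set m := g₀.natDegree with hm
  set k := h₀.natDegree with hk
  have hn : f.natDegree = m + k := by
    have := congrArg natDegree hfac
    rwa [hf.natDegree_map, hg₀.natDegree_mul hh₀] at this
  let p : MonicDegreeEq A f.natDegree := .mk f hf rfl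
  let σ₀ : UniversalCoprimeFactorizationRing m k hn p →ₐ[A] A ⧸ I :=
    (UniversalCoprimeFactorizationRing.homEquiv (A ⧸ I) m k hn p).symm
      ⟨(.mk g₀ hg₀ rfl, .mk h₀ hh₀ rfl), hfac.symm, hcop⟩
  obtain ⟨ρ', hρ'⟩ := H _ σ₀
  let q := UniversalCoprimeFactorizationRing.homEquiv A m k hn p ρ'
  have h1 := UniversalCoprimeFactorizationRing.homEquiv_comp_fst A m k hn p ρ'
    (Ideal.Quotient.mkₐ A I)
  have h2 := UniversalCoprimeFactorizationRing.homEquiv_comp_snd A m k hn p ρ'
    (Ideal.Quotient.mkₐ A I)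
  rw [hρ'] at h1 h2
  simp only [σ₀, Equiv.apply_symm_apply] at h1 h2
  refine ⟨q.1.1.1, q.1.2.1, q.1.1.monic, q.1.2.monic, ?_, ?_, ?_⟩
  · have := q.2.1
    rw [this]
    simp [p, MonicDegreeEq.mk]
  · have := congrArg Subtype.val h1
    simp only [MonicDegreeEq.mk, MonicDegreeEq.map] at this
    exact this.symm
  · have := congrArg Subtype.val h2
    simp only [MonicDegreeEq.mk, MonicDegreeEq.map] at this
    exact this.symm

/-- (1) ⇔ (2) of Stacks 09XI: Mathlib's `HenselianRing` is equivalent to the étale lifting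
property. -/
theorem henselian_iff_etale_lift :
    HenselianRing A I ↔ ∀ (A' : Type u) [CommRing A'] [Algebra A A'] [Algebra.Etale A A']
      (σ : A' →ₐ[A] A ⧸ I), ∃ τ : A' →ₐ[A] A, (Ideal.Quotient.mkₐ A I).comp τ = σ := by
  constructor
  · intro h A' _ _ _ σ
    exact exists_etale_lift σ
  · intro H
    have hI : I ≤ Ideal.jacobson ⊥ := by
      intro a ha
      rw [Ideal.mem_jacobson_bot]
      intro y
      set s := a * y + 1 with hs
      have : Algebra.Etale A (Localization.Away s) := Algebra.Etale.of_isLocalizationAway s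
      have hu : IsUnit (Ideal.Quotient.mkₐ A I s) := by
        have : Ideal.Quotient.mkₐ A I s = 1 := by
          rw [Ideal.Quotient.mkₐ_eq_mk, hs, map_add, map_mul,
            Ideal.Quotient.eq_zero_iff_mem.2 ha, zero_mul, zero_add, map_one]
        rw [this]; exact isUnit_one
      obtain ⟨τ, -⟩ := H (Localization.Away s) (IsLocalization.Away.liftAlgHom s hu)
      have h1 := (IsLocalization.Away.algebraMap_isUnit (S := Localization.Away s) s).map τ
      rwa [τ.commutes] at h1
    exact henselian_of_factor_lift hI (exists_factor_of_etale_lift hI H)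

end EtaleConverse

end Groth.Agent.Lib.Helper58.HenselPair
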