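import Mathlib
import Groth.Agent.Lib.Helper58.HenselPairEtale

set_option autoImplicit false

namespace Groth.Agent.Lib.Helper58.HenselPair

open TensorProduct

universe u v w

section Uniq

variable {R : Type u} [CommRing R] {S : Type v} [CommRing S] [Algebra R S]
variable {C : Type w} [CommRing C] [Algebra R C]

/-- An idempotent in the Jacobson radical vanishes. -/
lemma idempotent_eq_zero_of_mem_jacobson {T : Type*} [CommRing T] {e : T}
    (he : IsIdempotentElem e) (h : e ∈ Ideal.jacobson (⊥ : Ideal T)) : e = 0 :=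
  idempotent_eq_of_sub_mem_jacobson he IsIdempotentElem.zero (by simpa using h)

/-- **Rigidity of unramified algebras**: two `R`-algebra maps from a formally unramified
(essentially) finite type `R`-algebra `S` into `C` that agree modulo an ideal `J ⊆ rad C` are equal. -/
theorem algHom_ext_of_sub_mem_jacobson [Algebra.EssFiniteType R S]
    [Algebra.FormallyUnramified R S] (J : Ideal C) (hJ : J ≤ Ideal.jacobson ⊥)
    (φ ψ : S →ₐ[R] C) (h : ∀ s, φ s - ψ s ∈ J) : φ = ψ := by
  obtain ⟨e, he, hsp⟩ : ∃ e, IsIdempotentElem e ∧ KaehlerDifferential.ideal R S = S ⊗[R] S ∙ e :=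
    (Ideal.isIdempotentElem_iff_of_fg _ (KaehlerDifferential.ideal_fg R S)).mp <|
      (Ideal.cotangent_subsingleton_iff _).mp <| inferInstanceAs <| Subsingleton Ω[S⁄R]
  let Φ : S ⊗[R] S →ₐ[R] C := Algebra.TensorProduct.productMap φ ψ
  have hΦ : ∀ s : S, Φ ((1 : S) ⊗ₜ[R] s - s ⊗ₜ[R] (1 : S)) = ψ s - φ s := fun s => by
    simp [Φ]
  have hle : (KaehlerDifferential.ideal R S).map Φ.toRingHom ≤ J := by
    rw [← KaehlerDifferential.span_range_eq_ideal, Ideal.map_span, Ideal.span_le]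
    rintro _ ⟨_, ⟨s, rfl⟩, rfl⟩
    change Φ _ ∈ J
    rw [hΦ, ← neg_sub]
    exact neg_mem (h s)
  have heJ : Φ e ∈ J := hle (Ideal.mem_map_of_mem _ (by
    rw [hsp]; exact Ideal.mem_span_singleton_self e))
  have he0 : Φ e = 0 := idempotent_eq_zero_of_mem_jacobson (he.map Φ) (hJ heJ)
  refine AlgHom.ext fun s => ?_
  have hmem := KaehlerDifferential.one_smul_sub_smul_one_mem_ideal R s
  rw [hsp, Ideal.mem_span_singleton'] at hmem
  obtain ⟨c, hc⟩ := hmem
  have := hΦ s
  rw [← hc, map_mul, he0, mul_zero] at this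
  exact (sub_eq_zero.1 this.symm).symm

end Uniq


section RelLift

variable {R : Type u} [CommRing R] {S : Type v} [CommRing S] [Algebra R S]
variable {C : Type w} [CommRing C] [Algebra R C]

/-- **Relative étale lifting**: if `(C, J)` is a henselian pair, `C` an `R`-algebra and `S` an étale
`R`-algebra, every `R`-algebra map `S → C/J` lifts to an `R`-algebra map `S → C`. -/
theorem exists_etale_lift_rel [Algebra.Etale R S] (J : Ideal C) [HenselianRing C J]
    (σ : S →ₐ[R] C ⧸ J) : ∃ τ : S →ₐ[R] C, (Ideal.Quotient.mkₐ R J).comp τ = σ := by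
  let σ' : C ⊗[R] S →ₐ[C] C ⧸ J :=
    Algebra.TensorProduct.lift (Algebra.ofId C (C ⧸ J)) σ (fun _ _ => Commute.all _ _)
  obtain ⟨τ', hτ'⟩ := exists_etale_lift (A := C) (I := J) σ'
  refine ⟨(τ'.restrictScalars R).comp Algebra.TensorProduct.includeRight, ?_⟩
  ext s
  have := AlgHom.congr_fun hτ' ((1 : C) ⊗ₜ[R] s)
  simpa [σ'] using this

/-- Uniqueness of étale lifts into a ring with `J ⊆ rad`. -/
theorem etale_lift_unique [Algebra.EssFiniteType R S] [Algebra.FormallyUnramified R S]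
    (J : Ideal C) (hJ : J ≤ Ideal.jacobson ⊥) (τ₁ τ₂ : S →ₐ[R] C)
    (h : (Ideal.Quotient.mkₐ R J).comp τ₁ = (Ideal.Quotient.mkₐ R J).comp τ₂) : τ₁ = τ₂ :=
  algHom_ext_of_sub_mem_jacobson J hJ τ₁ τ₂ fun s => by
    have := AlgHom.congr_fun h s
    exact Ideal.Quotient.eq.1 this

/-- Existence and uniqueness of étale lifts over a henselian pair. -/
theorem existsUnique_etale_lift_rel [Algebra.Etale R S] (J : Ideal C) [HenselianRing C J]
    (σ : S →ₐ[R] C ⧸ J) : ∃! τ : S →ₐ[R] C, (Ideal.Quotient.mkₐ R J).comp τ = σ := by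
  obtain ⟨τ, hτ⟩ := exists_etale_lift_rel J σ
  exact ⟨τ, hτ, fun τ' hτ' => etale_lift_unique J HenselianRing.jac τ' τ (hτ'.trans hτ.symm)⟩

end RelLift

end Groth.Agent.Lib.Helper58.HenselPair
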