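import Mathlib
import Groth.Prelude.Def_ResDeg
import Groth.Agent.Lib.Helper67.FiberStalk

set_option autoImplicit false

universe u

open CategoryTheory CategoryTheory.Limits AlgebraicGeometry

namespace Groth.Agent.Lib.Helper58.Cyc1941GB

theorem residueDegree_eq_of_comm {W V W' V' : Scheme.{u}} (g : W ⟶ V) (g' : W' ⟶ V')
    (a : W' ⟶ W) (b : V' ⟶ V) (hc : a ≫ g = g' ≫ b) (w' : W')
    (ha : Function.Bijective (a.residueFieldMap w').hom)
    (hb : Function.Bijective (b.residueFieldMap (g' w')).hom) :
    EGA4loc.residueDegree g (a w') = EGA4loc.residueDegree g' w' := by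
  -- the point equality
  have hpt : g (a w') = b (g' w') := by
    have := congrArg (fun φ : W' ⟶ V => φ w') hc
    simpa using this
  -- the residue field map identity
  have hres : g.residueFieldMap (a w') ≫ a.residueFieldMap w' =
      (V.residueFieldCongr hpt).hom ≫ b.residueFieldMap (g' w') ≫ g'.residueFieldMap w' := by
    rw [← Scheme.residueFieldMap_comp, ← Scheme.residueFieldMap_comp]
    exact Scheme.Hom.residueFieldMap_congr hc w'
  let j : W.residueField (a w') ≃+* W'.residueField w' :=
    RingEquiv.ofBijective (a.residueFieldMap w').hom ha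
  let i₁ : V.residueField (g (a w')) ≃+* V.residueField (b (g' w')) :=
    (V.residueFieldCongr hpt).commRingCatIsoToRingEquiv
  let i₂ : V.residueField (b (g' w')) ≃+* V'.residueField (g' w') :=
    RingEquiv.ofBijective (b.residueFieldMap (g' w')).hom hb
  unfold EGA4loc.residueDegree
  let _ := (g.residueFieldMap (a w')).hom.toAlgebra
  letI := (g'.residueFieldMap w').hom.toAlgebra
  refine Algebra.finrank_eq_of_equiv_equiv (i₁.trans i₂) j ?_
  ext x
  have := congrArg (fun φ => φ.hom x) hres
  simp only [CommRingCat.hom_comp, RingHom.coe_comp, Function.comp_apply] at this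
  simp only [RingHom.coe_comp, Function.comp_apply, RingHom.algebraMap_toAlgebra]
  exact this.symm
end Groth.Agent.Lib.Helper58.Cyc1941GB
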