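import Mathlib

/-!
# Functoriality of adic completions of rings in the pair (ring, ideal)
-/

set_option autoImplicit false
universe u

namespace Groth.Agent.Lib.Helper58.AdicFunct

variable {R R' : Type*} [CommRing R] [CommRing R']

theorem factorPow_evalₐ (I : Ideal R) {m n : ℕ} (hle : m ≤ n) (x : AdicCompletion I R) :
    Ideal.Quotient.factorPow I hle (AdicCompletion.evalₐ I n x) = AdicCompletion.evalₐ I m x := by
  obtain ⟨a, rfl⟩ := AdicCompletion.mk_surjective I R x
  rw [AdicCompletion.evalₐ_mk, AdicCompletion.evalₐ_mk]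
  simp only [Ideal.Quotient.factor_mk]
  exact AdicCompletion.Ideal.mk_eq_mk I hle a

theorem pow_le_comap_pow (I : Ideal R) (J : Ideal R') (σ : R →+* R') (h : I ≤ J.comap σ) (n : ℕ) :
    I ^ n ≤ (J ^ n).comap σ :=
  (Ideal.pow_right_mono h n).trans (Ideal.le_comap_pow σ n)

theorem adicMap_compat (I : Ideal R) (J : Ideal R') (σ : R →+* R') (h : I ≤ J.comap σ)
    {m n : ℕ} (hle : m ≤ n) :
    (Ideal.Quotient.factorPow J hle).comp
      ((Ideal.quotientMap (J ^ n) σ (pow_le_comap_pow I J σ h n)).comp
        (AdicCompletion.evalₐ I n : AdicCompletion I R →+* R ⧸ I ^ n)) =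
    (Ideal.quotientMap (J ^ m) σ (pow_le_comap_pow I J σ h m)).comp
        (AdicCompletion.evalₐ I m : AdicCompletion I R →+* R ⧸ I ^ m) := by
  refine RingHom.ext fun x => ?_
  simp only [RingHom.coe_comp, RingHom.coe_coe, Function.comp_apply]
  rw [← factorPow_evalₐ I hle x]
  obtain ⟨a, ha⟩ := Ideal.Quotient.mk_surjective (AdicCompletion.evalₐ I n x)
  rw [← ha]
  simp [Ideal.quotientMap_mk]

/-- Functoriality of the adic completion of a ring in the pair (ring, ideal). -/
noncomputable def adicMap (I : Ideal R) (J : Ideal R') (σ : R →+* R') (h : I ≤ J.comap σ) :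
    AdicCompletion I R →+* AdicCompletion J R' :=
  AdicCompletion.liftRingHom J
    (fun n => (Ideal.quotientMap (J ^ n) σ (pow_le_comap_pow I J σ h n)).comp
      (AdicCompletion.evalₐ I n : AdicCompletion I R →+* R ⧸ I ^ n))
    (fun hle => adicMap_compat I J σ h hle)

theorem evalₐ_adicMap (I : Ideal R) (J : Ideal R') (σ : R →+* R') (h : I ≤ J.comap σ) (n : ℕ)
    (x : AdicCompletion I R) :
    AdicCompletion.evalₐ J n (adicMap I J σ h x) =
      Ideal.quotientMap (J ^ n) σ (pow_le_comap_pow I J σ h n) (AdicCompletion.evalₐ I n x) :=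
  AdicCompletion.evalₐ_liftRingHom J _ (fun hle => adicMap_compat I J σ h hle) n x

theorem adicMap_of (I : Ideal R) (J : Ideal R') (σ : R →+* R') (h : I ≤ J.comap σ) (r : R) :
    adicMap I J σ h (AdicCompletion.of I R r) = AdicCompletion.of J R' (σ r) := by
  apply AdicCompletion.ext_evalₐ
  intro n
  rw [evalₐ_adicMap]
  simp [Ideal.quotientMap_mk]

/-- if `σ` induces bijections `R / I^n → R' / J^n`, it induces a bijection of completions. -/
theorem adicMap_bijective (I : Ideal R) (J : Ideal R') (σ : R →+* R') (h : I ≤ J.comap σ)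
    (hb : ∀ n, Function.Bijective (Ideal.quotientMap (J ^ n) σ (pow_le_comap_pow I J σ h n))) :
    Function.Bijective (adicMap I J σ h) := by
  constructor
  · intro x y hxy
    apply AdicCompletion.ext_evalₐ
    intro n
    apply (hb n).1
    rw [← evalₐ_adicMap I J σ h, ← evalₐ_adicMap I J σ h, hxy]
  · intro y
    have hex : ∀ n, ∃ a : R, Ideal.Quotient.mk (J ^ n) (σ a) = AdicCompletion.evalₐ J n y := by
      intro n
      obtain ⟨q, hq⟩ := (hb n).2 (AdicCompletion.evalₐ J n y)
      obtain ⟨a, rfl⟩ := Ideal.Quotient.mk_surjective q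
      exact ⟨a, by rw [← hq, Ideal.quotientMap_mk]⟩
    choose a ha using hex
    have hcauchy : AdicCompletion.IsAdicCauchy I R a := by
      intro m n hmn
      rw [SModEq.sub_mem, smul_eq_mul, Ideal.mul_top]
      have h1 : Ideal.quotientMap (J ^ m) σ (pow_le_comap_pow I J σ h m)
          (Ideal.Quotient.mk (I ^ m) (a m - a n)) = 0 := by
        rw [Ideal.quotientMap_mk, map_sub, map_sub, ha m]
        have h2 : Ideal.Quotient.mk (J ^ m) (σ (a n)) =
            Ideal.Quotient.factorPow J hmn (Ideal.Quotient.mk (J ^ n) (σ (a n))) := by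
          simp
        rw [h2, ha n, factorPow_evalₐ, sub_self]
      have h3 := (hb m).1 (h1.trans (map_zero _).symm)
      exact Ideal.Quotient.eq_zero_iff_mem.1 h3
    refine ⟨AdicCompletion.mk I R ⟨a, hcauchy⟩, ?_⟩
    apply AdicCompletion.ext_evalₐ
    intro n
    rw [evalₐ_adicMap, AdicCompletion.evalₐ_mk, Ideal.quotientMap_mk]
    exact ha n

end Groth.Agent.Lib.Helper58.AdicFunct
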