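import Mathlib
import Groth.Agent.Lib.Helper58.HenselPairUniq

set_option autoImplicit false
universe u

namespace Groth.Agent.Lib.Helper58.PairHens

open TensorProduct

section Loc

variable {A : Type u} [CommRing A] {I : Ideal A}
variable {E : Type u} [CommRing E] [Algebra A E] (σ : E →ₐ[A] A ⧸ I)

/-- the submonoid of elements of a pointed algebra which are invertible at the point. -/
def unitSub : Submonoid E := (IsUnit.submonoid (A ⧸ I)).comap (σ : E →* A ⧸ I)

lemma mem_unitSub {x : E} : x ∈ unitSub σ ↔ IsUnit (σ x) := Iff.rfl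

/-- localization of a pointed algebra `(E, σ : E → A/I)` at the elements invertible at the point. -/
abbrev Loc : Type u := Localization (unitSub σ)

/-- the induced point of the localization. -/
noncomputable def Loc.ε : Loc σ →ₐ[A] A ⧸ I :=
  IsLocalization.liftAlgHom (M := unitSub σ) (f := σ) (fun y => y.2)

@[simp]
lemma Loc.ε_algebraMap (a : E) : Loc.ε σ (algebraMap E (Loc σ) a) = σ a := by
  simp [Loc.ε]

lemma Loc.isUnit_iff (x : Loc σ) : IsUnit x ↔ IsUnit (Loc.ε σ x) := by
  constructor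
  · intro h
    exact h.map (Loc.ε σ)
  · intro h
    obtain ⟨a, s, rfl⟩ := IsLocalization.exists_mk'_eq (unitSub σ) x
    have h1 : Loc.ε σ (IsLocalization.mk' (Loc σ) a s) * σ s = σ a := by
      rw [← Loc.ε_algebraMap σ (s : E), ← map_mul, IsLocalization.mk'_spec, Loc.ε_algebraMap]
    have hs : IsUnit (σ s) := s.2
    have ha : IsUnit (σ a) := by rw [← h1]; exact h.mul hs
    have : IsUnit (algebraMap E (Loc σ) a) :=
      IsLocalization.map_units (Loc σ) (⟨a, ha⟩ : unitSub σ)
    have h2 : IsLocalization.mk' (Loc σ) a s * algebraMap E (Loc σ) s = algebraMap E (Loc σ) a :=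
      IsLocalization.mk'_spec _ _ _
    have hsu : IsUnit (algebraMap E (Loc σ) s) := IsLocalization.map_units (Loc σ) s
    exact (IsUnit.mul_iff.mp (h2 ▸ this)).1

lemma Loc.ker_le_jacobson : RingHom.ker (Loc.ε σ) ≤ Ideal.jacobson ⊥ := by
  intro x hx
  rw [Ideal.mem_jacobson_bot]
  intro y
  rw [Loc.isUnit_iff, map_add, map_mul, (RingHom.mem_ker).1 hx, zero_mul, zero_add, map_one]
  exact isUnit_one

lemma Loc.ε_surjective : Function.Surjective (Loc.ε σ) := by
  intro y
  obtain ⟨a, rfl⟩ := Ideal.Quotient.mk_surjective y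
  exact ⟨algebraMap A (Loc σ) a, by rw [AlgHom.commutes]; rfl⟩

/-- a general lifting of a map `E → T` inverting the elements invertible at the point. -/
noncomputable def Loc.lift {T : Type*} [CommRing T] [Algebra A T] (g : E →ₐ[A] T)
    (hg : ∀ a : E, IsUnit (σ a) → IsUnit (g a)) : Loc σ →ₐ[A] T :=
  IsLocalization.liftAlgHom (M := unitSub σ) (f := g) (fun y => hg y y.2)

@[simp]
lemma Loc.lift_algebraMap {T : Type*} [CommRing T] [Algebra A T] (g : E →ₐ[A] T)
    (hg : ∀ a : E, IsUnit (σ a) → IsUnit (g a)) (a : E) :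
    Loc.lift σ g hg (algebraMap E (Loc σ) a) = g a := by
  simp [Loc.lift]

lemma Loc.algHom_ext' {T : Type*} [CommRing T] [Algebra A T] (g₁ g₂ : Loc σ →ₐ[A] T)
    (h : ∀ a : E, g₁ (algebraMap E (Loc σ) a) = g₂ (algebraMap E (Loc σ) a)) : g₁ = g₂ := by
  apply AlgHom.coe_ringHom_injective
  apply IsLocalization.ringHom_ext (unitSub σ)
  ext a
  exact h a

lemma Loc.ringHom_ext' {T : Type*} [CommRing T] (g₁ g₂ : Loc σ →+* T)
    (h : ∀ a : E, g₁ (algebraMap E (Loc σ) a) = g₂ (algebraMap E (Loc σ) a)) : g₁ = g₂ := by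
  apply IsLocalization.ringHom_ext (unitSub σ)
  ext a
  exact h a

end Loc

section LocMap

variable {A : Type u} [CommRing A] {I : Ideal A}
variable {E : Type u} [CommRing E] [Algebra A E] (σ : E →ₐ[A] A ⧸ I)
variable {F : Type u} [CommRing F] [Algebra A F] (ψ : F →ₐ[A] A ⧸ I)

/-- the map of localizations induced by a map of pointed algebras. -/
noncomputable def Loc.map (g : E →ₐ[A] F) (hg : ψ.comp g = σ) : Loc σ →ₐ[A] Loc ψ :=
  Loc.lift σ ((IsScalarTower.toAlgHom A F (Loc ψ)).comp g) (by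
    intro a ha
    have : ψ (g a) = σ a := by rw [← hg]; rfl
    rw [AlgHom.comp_apply, IsScalarTower.coe_toAlgHom', Loc.isUnit_iff, Loc.ε_algebraMap, this]
    exact ha)

@[simp]
lemma Loc.map_algebraMap (g : E →ₐ[A] F) (hg : ψ.comp g = σ) (a : E) :
    Loc.map σ ψ g hg (algebraMap E (Loc σ) a) = algebraMap F (Loc ψ) (g a) := by
  simp [Loc.map]

lemma Loc.ε_comp_map (g : E →ₐ[A] F) (hg : ψ.comp g = σ) :
    (Loc.ε ψ).comp (Loc.map σ ψ g hg) = Loc.ε σ := by
  apply Loc.algHom_ext'
  intro a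
  have : ψ (g a) = σ a := by rw [← hg]; rfl
  simp [this]

/-- rigidity: two maps from the localization of a pointed unramified algebra to a pointed
algebra whose point has kernel in the radical, compatible with the points, are equal. -/
lemma Loc.hom_ext [Algebra.FiniteType A E] [Algebra.FormallyUnramified A E]
    {T : Type*} [CommRing T] [Algebra A T] (ε' : T →ₐ[A] A ⧸ I)
    (hε' : RingHom.ker ε' ≤ Ideal.jacobson ⊥)
    (g₁ g₂ : Loc σ →ₐ[A] T) (h₁ : ε'.comp g₁ = Loc.ε σ) (h₂ : ε'.comp g₂ = Loc.ε σ) :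
    g₁ = g₂ := by
  apply Loc.algHom_ext'
  have key : g₁.comp (IsScalarTower.toAlgHom A E (Loc σ)) =
      g₂.comp (IsScalarTower.toAlgHom A E (Loc σ)) := by
    apply Groth.Agent.Lib.Helper58.HenselPair.algHom_ext_of_sub_mem_jacobson
      (RingHom.ker ε') hε'
    intro s
    rw [RingHom.mem_ker, map_sub, sub_eq_zero]
    have e1 : ε' (g₁ (algebraMap E (Loc σ) s)) = Loc.ε σ (algebraMap E (Loc σ) s) := by
      rw [← h₁]; rfl
    have e2 : ε' (g₂ (algebraMap E (Loc σ) s)) = Loc.ε σ (algebraMap E (Loc σ) s) := by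
      rw [← h₂]; rfl
    exact e1.trans e2.symm
  intro a
  exact DFunLike.congr_fun key a

end LocMap

end Groth.Agent.Lib.Helper58.PairHens
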