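import Mathlib
import Groth.Agent.Lib.Helper58.PairHensLoc

set_option autoImplicit false
universe u

namespace Groth.Agent.Lib.Helper58.PairHens

open TensorProduct

section Index

variable (A : Type u) [CommRing A] (I : Ideal A)

/-- a small type of pointed étale algebras: presented quotients of polynomial rings,
with an `A`-algebra map to `A/I`. -/
structure Idx : Type u where
  n : ℕ
  K : Ideal (MvPolynomial (Fin n) A)
  etale : Algebra.Etale A (MvPolynomial (Fin n) A ⧸ K)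
  pt : (MvPolynomial (Fin n) A ⧸ K) →ₐ[A] A ⧸ I

variable {A I}

/-- the underlying étale algebra. -/
abbrev Idx.E (i : Idx A I) : Type u := MvPolynomial (Fin i.n) A ⧸ i.K

instance Idx.instEtale (i : Idx A I) : Algebra.Etale A i.E := i.etale

/-- the localization at the point. -/
abbrev Idx.L (i : Idx A I) : Type u := Loc i.pt

/-- the point of the localization. -/
noncomputable abbrev Idx.ε (i : Idx A I) : i.L →ₐ[A] A ⧸ I := Loc.ε i.pt

instance Idx.instPreorder : Preorder (Idx A I) where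
  le i j := ∃ g : i.L →ₐ[A] j.L, j.ε.comp g = i.ε
  le_refl i := ⟨AlgHom.id A _, AlgHom.comp_id _⟩
  le_trans i j k := fun ⟨g, hg⟩ ⟨g', hg'⟩ => ⟨g'.comp g, by rw [← AlgHom.comp_assoc, hg', hg]⟩

lemma Idx.le_def (i j : Idx A I) : i ≤ j ↔ ∃ g : i.L →ₐ[A] j.L, j.ε.comp g = i.ε := Iff.rfl

/-- the transition maps. -/
noncomputable def tr (i j : Idx A I) (h : i ≤ j) : i.L →ₐ[A] j.L := h.choose

lemma ε_comp_tr (i j : Idx A I) (h : i ≤ j) : j.ε.comp (tr i j h) = i.ε := h.choose_spec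

lemma ε_tr (i j : Idx A I) (h : i ≤ j) (x : i.L) : j.ε (tr i j h x) = i.ε x :=
  DFunLike.congr_fun (ε_comp_tr i j h) x

lemma tr_unique (i j : Idx A I) (h : i ≤ j) (g : i.L →ₐ[A] j.L) (hg : j.ε.comp g = i.ε) :
    g = tr i j h :=
  Loc.hom_ext i.pt j.ε (Loc.ker_le_jacobson j.pt) g (tr i j h) hg (ε_comp_tr i j h)

instance instDirectedSystem :
    DirectedSystem (fun i : Idx A I => i.L) (fun i j h => ⇑(tr i j h)) where
  map_self i x := by
    have := tr_unique i i le_rfl (AlgHom.id A _) (AlgHom.comp_id _)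
    exact (DFunLike.congr_fun this x).symm
  map_map k j i hij hjk x := by
    have := tr_unique i k (hij.trans hjk) ((tr j k hjk).comp (tr i j hij))
      (by rw [← AlgHom.comp_assoc, ε_comp_tr, ε_comp_tr])
    exact DFunLike.congr_fun this x

/-- every pointed étale algebra is isomorphic to a member of the index family. -/
theorem exists_idx {E : Type u} [CommRing E] [Algebra A E] [Algebra.Etale A E]
    (φ : E →ₐ[A] A ⧸ I) :
    ∃ (i : Idx A I) (e : E ≃ₐ[A] i.E), i.pt.comp e.toAlgHom = φ := by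
  obtain ⟨n, f, hf⟩ := Algebra.FiniteType.iff_quotient_mvPolynomial''.mp
    (inferInstance : Algebra.FiniteType A E)
  let e : (MvPolynomial (Fin n) A ⧸ RingHom.ker f.toRingHom) ≃ₐ[A] E :=
    Ideal.quotientKerAlgEquivOfSurjective hf
  refine ⟨⟨n, RingHom.ker f.toRingHom, Algebra.Etale.of_equiv e.symm, φ.comp e.toAlgHom⟩,
    e.symm, ?_⟩
  ext a
  simp

/-- every pointed étale algebra maps to a member of the index family. -/
theorem exists_idx_map {E : Type u} [CommRing E] [Algebra A E] [Algebra.Etale A E]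
    (φ : E →ₐ[A] A ⧸ I) :
    ∃ (k : Idx A I) (g : Loc φ →ₐ[A] k.L), k.ε.comp g = Loc.ε φ := by
  obtain ⟨k, e, he⟩ := exists_idx φ
  exact ⟨k, Loc.map φ k.pt e.toAlgHom he, Loc.ε_comp_map _ _ e.toAlgHom he⟩

/-- a map of pointed étale algebras from a stage gives an inequality of indices. -/
theorem exists_idx_ge (i : Idx A I) {E : Type u} [CommRing E] [Algebra A E] [Algebra.Etale A E]
    (φ : E →ₐ[A] A ⧸ I) (g : i.E →ₐ[A] E) (hg : φ.comp g = i.pt) :
    ∃ (k : Idx A I) (e : E ≃ₐ[A] k.E) (hik : i ≤ k), k.pt.comp e.toAlgHom = φ ∧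
      ∀ a : i.E, tr i k hik (algebraMap i.E i.L a) = algebraMap k.E k.L (e (g a)) := by
  obtain ⟨k, e, he⟩ := exists_idx φ
  have h1 : k.pt.comp (e.toAlgHom.comp g) = i.pt := by
    rw [← AlgHom.comp_assoc, he, hg]
  have hik : i ≤ k := ⟨Loc.map i.pt k.pt _ h1, Loc.ε_comp_map _ _ _ h1⟩
  refine ⟨k, e, hik, he, fun a => ?_⟩
  rw [← tr_unique i k hik (Loc.map i.pt k.pt _ h1) (Loc.ε_comp_map _ _ _ h1), Loc.map_algebraMap]
  rfl

instance instIsDirectedOrder : IsDirectedOrder (Idx A I) := ⟨fun i j => by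
  have : Algebra.Etale A (i.E ⊗[A] j.E) := Algebra.Etale.comp A i.E _
  obtain ⟨k, e, he⟩ := exists_idx (E := i.E ⊗[A] j.E)
    (Algebra.TensorProduct.productMap i.pt j.pt)
  have h1 : k.pt.comp (e.toAlgHom.comp Algebra.TensorProduct.includeLeft) = i.pt := by
    rw [← AlgHom.comp_assoc, he]
    ext a
    simp
  have h2 : k.pt.comp (e.toAlgHom.comp Algebra.TensorProduct.includeRight) = j.pt := by
    rw [← AlgHom.comp_assoc, he]
    ext a
    simp
  exact ⟨k, ⟨Loc.map i.pt k.pt _ h1, Loc.ε_comp_map _ _ _ h1⟩,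
    ⟨Loc.map j.pt k.pt _ h2, Loc.ε_comp_map _ _ _ h2⟩⟩⟩

instance instNonemptyIdx : Nonempty (Idx A I) := by
  obtain ⟨i, -, -⟩ := exists_idx (Algebra.ofId A (A ⧸ I))
  exact ⟨i⟩

end Index

end Groth.Agent.Lib.Helper58.PairHens
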