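import Mathlib
import Groth.Agent.Lib.Helper58.PairHensLim

set_option autoImplicit false
universe u

namespace Groth.Agent.Lib.Helper58.PairHens

open TensorProduct Polynomial

section Limit

variable (A : Type u) [CommRing A] (I : Ideal A)

/-- the direct limit of the localizations of pointed étale neighbourhoods of `(A, I)`:
the henselization of the pair `(A, I)`. -/
def Hp : Type u := DirectLimit (fun i : Idx A I => i.L) (fun i j h => tr i j h)

noncomputable instance Hp.instCommRing : CommRing (Hp A I) :=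
  inferInstanceAs (CommRing (DirectLimit (fun i : Idx A I => i.L) (fun i j h => tr i j h)))

noncomputable instance Hp.instAlgebra : Algebra A (Hp A I) :=
  inferInstanceAs (Algebra A (DirectLimit (fun i : Idx A I => i.L) (fun i j h => tr i j h)))

variable {A I}

/-- the canonical map from a stage. -/
noncomputable def Hp.of (i : Idx A I) : i.L →ₐ[A] Hp A I :=
  DirectLimit.Algebra.of (R := A) (fun i : Idx A I => i.L) (fun i j h => tr i j h) i

lemma Hp.of_tr (i j : Idx A I) (h : i ≤ j) (x : i.L) : Hp.of j (tr i j h x) = Hp.of i x :=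
  DirectLimit.Algebra.of_f (R := A) (G := fun i : Idx A I => i.L) (f := fun i j h => tr i j h) h x

lemma Hp.exists_of (x : Hp A I) : ∃ (i : Idx A I) (y : i.L), Hp.of i y = x := by
  obtain ⟨i, y, h⟩ := DirectLimit.exists_eq_mk (fun i j h => tr i j h) (x :
    DirectLimit (fun i : Idx A I => i.L) (fun i j h => tr i j h))
  exact ⟨i, y, h.symm⟩

lemma Hp.of_eq_of_iff {i j : Idx A I} (x : i.L) (y : j.L) :
    Hp.of i x = Hp.of j y ↔ ∃ (k : Idx A I) (hik : i ≤ k) (hjk : j ≤ k),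
      tr i k hik x = tr j k hjk y := by
  constructor
  · intro h
    exact Quotient.eq.mp h
  · rintro ⟨k, hik, hjk, e⟩
    rw [← Hp.of_tr i k hik, ← Hp.of_tr j k hjk, e]

lemma Hp.of_eq_zero_iff {i : Idx A I} (x : i.L) :
    Hp.of i x = 0 ↔ ∃ (k : Idx A I) (hik : i ≤ k), tr i k hik x = 0 := by
  rw [← map_zero (Hp.of i), Hp.of_eq_of_iff]
  constructor
  · rintro ⟨k, hik, hik', e⟩
    exact ⟨k, hik, by rw [e, map_zero]⟩
  · rintro ⟨k, hik, e⟩
    exact ⟨k, hik, hik, by rw [e, map_zero]⟩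

/-- the point of the limit. -/
noncomputable def Hp.ε : Hp A I →ₐ[A] A ⧸ I :=
  DirectLimit.Algebra.lift (R := A) (fun i : Idx A I => i.L) (fun i j h => tr i j h) (A ⧸ I)
    (fun i => i.ε) (fun i j h x => ε_tr i j h x)

@[simp]
lemma Hp.ε_of (i : Idx A I) (x : i.L) : Hp.ε (Hp.of i x) = i.ε x := rfl

lemma Hp.ε_surjective : Function.Surjective (Hp.ε : Hp A I →ₐ[A] A ⧸ I) := by
  intro y
  obtain ⟨a, rfl⟩ := Ideal.Quotient.mk_surjective y
  exact ⟨algebraMap A (Hp A I) a, by rw [AlgHom.commutes]; rfl⟩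

lemma Hp.isUnit_iff (x : Hp A I) : IsUnit x ↔ IsUnit (Hp.ε x) := by
  constructor
  · intro h
    exact h.map Hp.ε
  · intro h
    obtain ⟨i, y, rfl⟩ := Hp.exists_of x
    rw [Hp.ε_of] at h
    exact ((Loc.isUnit_iff _ y).mpr h).map (Hp.of i)

lemma Hp.ker_le_jacobson : RingHom.ker (Hp.ε : Hp A I →ₐ[A] A ⧸ I) ≤ Ideal.jacobson ⊥ := by
  intro x hx
  rw [Ideal.mem_jacobson_bot]
  intro y
  rw [Hp.isUnit_iff, map_add, map_mul, (RingHom.mem_ker).1 hx, zero_mul, zero_add, map_one]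
  exact isUnit_one

lemma Hp.map_le_ker : I.map (algebraMap A (Hp A I)) ≤ RingHom.ker (Hp.ε : Hp A I →ₐ[A] A ⧸ I) := by
  rw [Ideal.map_le_iff_le_comap]
  intro a ha
  rw [Ideal.mem_comap, RingHom.mem_ker, AlgHom.commutes]
  exact Ideal.Quotient.eq_zero_iff_mem.2 ha

lemma Hp.exists_of_finset (s : Finset (Hp A I)) :
    ∃ i : Idx A I, ∀ x ∈ s, x ∈ Set.range (Hp.of i) := by
  classical
  induction s using Finset.induction_on with
  | empty => exact ⟨Classical.arbitrary _, by simp⟩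
  | insert a s _ ih =>
    obtain ⟨i, hi⟩ := ih
    obtain ⟨j, y, rfl⟩ := Hp.exists_of a
    obtain ⟨k, hik, hjk⟩ := exists_ge_ge i j
    refine ⟨k, ?_⟩
    intro x hx
    rw [Finset.mem_insert] at hx
    rcases hx with rfl | hx
    · exact ⟨tr j k hjk y, Hp.of_tr j k hjk y⟩
    · obtain ⟨z, rfl⟩ := hi x hx
      exact ⟨tr i k hik z, Hp.of_tr i k hik z⟩

/-- maps out of the limit. -/
noncomputable def Hp.lift {T : Type*} [CommRing T] [Algebra A T] (g : ∀ i : Idx A I, i.L →ₐ[A] T)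
    (hg : ∀ i j (h : i ≤ j) (x : i.L), g j (tr i j h x) = g i x) : Hp A I →ₐ[A] T :=
  DirectLimit.Algebra.lift (R := A) (fun i : Idx A I => i.L) (fun i j h => tr i j h) T g hg

@[simp]
lemma Hp.lift_of {T : Type*} [CommRing T] [Algebra A T] (g : ∀ i : Idx A I, i.L →ₐ[A] T)
    (hg : ∀ i j (h : i ≤ j) (x : i.L), g j (tr i j h x) = g i x) (i : Idx A I) (x : i.L) :
    Hp.lift g hg (Hp.of i x) = g i x := rfl

lemma Hp.ringHom_ext {T : Type*} [CommRing T] (g₁ g₂ : Hp A I →+* T)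
    (h : ∀ (i : Idx A I) (x : i.L), g₁ (Hp.of i x) = g₂ (Hp.of i x)) : g₁ = g₂ := by
  ext x
  obtain ⟨i, y, rfl⟩ := Hp.exists_of x
  exact h i y

lemma Hp.algHom_ext {T : Type*} [CommRing T] [Algebra A T] (g₁ g₂ : Hp A I →ₐ[A] T)
    (h : ∀ (i : Idx A I) (x : i.L), g₁ (Hp.of i x) = g₂ (Hp.of i x)) : g₁ = g₂ := by
  ext x
  obtain ⟨i, y, rfl⟩ := Hp.exists_of x
  exact h i y

instance Idx.instFlat (i : Idx A I) : Module.Flat A i.L :=
  Module.Flat.trans A i.E i.L

instance Hp.instFlat : Module.Flat A (Hp A I) := by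
  classical
  apply Module.Flat.of_forall_isTrivialRelation
  intro l f x hx
  obtain ⟨i, hi⟩ := Hp.exists_of_finset (Finset.univ.image x)
  choose y hy using fun t : Fin l => hi (x t) (Finset.mem_image_of_mem _ (Finset.mem_univ _))
  have h0 : Hp.of i (∑ t, f t • y t) = Hp.of i 0 := by
    rw [map_sum, map_zero, ← hx]
    apply Finset.sum_congr rfl
    intro t _
    rw [map_smul, hy]
  obtain ⟨k, hik, hik', hk⟩ := (Hp.of_eq_of_iff _ _).mp h0
  have hk' : ∑ t, f t • tr i k hik (y t) = 0 := by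
    rw [map_zero, map_sum] at hk
    rw [← hk]
    apply Finset.sum_congr rfl
    intro t _
    rw [map_smul]
  obtain ⟨κ, a, z, hz1, hz2⟩ := Module.Flat.isTrivialRelation_of_sum_smul_eq_zero (R := A)
    (M := k.L) (f := f) (x := fun t => tr i k hik (y t)) hk'
  refine ⟨κ, a, fun j => Hp.of k (z j), ?_, hz2⟩
  intro t
  have hz1' : tr i k hik (y t) = ∑ j, a t j • z j := hz1 t
  rw [← hy t, ← Hp.of_tr i k hik, hz1', map_sum]
  apply Finset.sum_congr rfl
  intro j _
  rw [map_smul]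

end Limit

end Groth.Agent.Lib.Helper58.PairHens
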