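import Mathlib
import Groth.Agent.Lib.Helper58.PairHensH

set_option autoImplicit false
universe u

namespace Groth.Agent.Lib.Helper58.PairHens

open TensorProduct Polynomial

section Idem

/-- The kernel of a retraction of an unramified algebra is generated by an idempotent. -/
theorem exists_idem_ker_eq {k : Type*} {T : Type*} [CommRing k] [CommRing T] [Algebra k T]
    [Algebra.EssFiniteType k T] [Algebra.FormallyUnramified k T] (τ : T →ₐ[k] k) :
    ∃ e : T, IsIdempotentElem e ∧ RingHom.ker τ = Ideal.span {e} := by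
  obtain ⟨e₁, he₁, hsp⟩ : ∃ e, IsIdempotentElem e ∧ KaehlerDifferential.ideal k T = T ⊗[k] T ∙ e :=
    (Ideal.isIdempotentElem_iff_of_fg _ (KaehlerDifferential.ideal_fg k T)).mp <|
      (Ideal.cotangent_subsingleton_iff _).mp <| inferInstanceAs <| Subsingleton Ω[T⁄k]
  let Ψ : T ⊗[k] T →ₐ[k] T :=
    Algebra.TensorProduct.productMap (AlgHom.id k T) ((Algebra.ofId k T).comp τ)
  have hΨ : ∀ x y : T, Ψ (x ⊗ₜ[k] y) = x * algebraMap k T (τ y) := fun x y => by
    simp [Ψ, Algebra.ofId_apply]
  have hτΨ : τ.comp Ψ = τ.comp (Algebra.TensorProduct.lmul' k) := by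
    apply Algebra.TensorProduct.ext'
    intro x y
    simp [hΨ]
  have he₁mem : e₁ ∈ KaehlerDifferential.ideal k T := by
    rw [hsp]; exact Ideal.mem_span_singleton_self e₁
  have hμ : Algebra.TensorProduct.lmul' k e₁ = 0 := he₁mem
  refine ⟨Ψ e₁, he₁.map Ψ, ?_⟩
  apply le_antisymm
  · intro y hy
    have hy0 : τ y = 0 := hy
    have hmem := KaehlerDifferential.one_smul_sub_smul_one_mem_ideal k y
    rw [hsp, Ideal.mem_span_singleton'] at hmem
    obtain ⟨c, hc⟩ := hmem
    have h1 : Ψ ((1 : T) ⊗ₜ[k] y - y ⊗ₜ[k] (1 : T)) = -y := by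
      rw [map_sub, hΨ, hΨ, hy0, map_zero, mul_zero, map_one, map_one, mul_one, zero_sub]
    rw [← hc, map_mul] at h1
    rw [Ideal.mem_span_singleton']
    exact ⟨-Ψ c, by rw [neg_mul, h1, neg_neg]⟩
  · rw [Ideal.span_le, Set.singleton_subset_iff]
    change τ (Ψ e₁) = 0
    have := congrArg (fun ρ : T ⊗[k] T →ₐ[k] k => ρ e₁) hτΨ
    simp only [AlgHom.comp_apply] at this
    rw [this, hμ, map_zero]

end Idem

section PointedKer

variable {A : Type u} [CommRing A] {I : Ideal A}
variable {E : Type u} [CommRing E] [Algebra A E] [Algebra.Etale A E] (σ : E →ₐ[A] A ⧸ I)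

/-- For a pointed étale algebra `(E, σ)` there is `t` with `σ t = 1` such that
`t • ker σ ⊆ I E`. -/
theorem exists_mul_mem_map_of_ker :
    ∃ t : E, σ t = 1 ∧ ∀ a : E, σ a = 0 → t * a ∈ I.map (algebraMap A E) := by
  let τ : (A ⧸ I) ⊗[A] E →ₐ[A ⧸ I] A ⧸ I :=
    Algebra.TensorProduct.lift (Algebra.ofId (A ⧸ I) (A ⧸ I)) σ (fun _ _ => Commute.all _ _)
  have hτ : ∀ a : E, τ ((1 : A ⧸ I) ⊗ₜ[A] a) = σ a := fun a => by simp [τ]
  obtain ⟨e, he, hker⟩ := exists_idem_ker_eq τ
  have hsurj : ∀ z : (A ⧸ I) ⊗[A] E, ∃ a : E, (1 : A ⧸ I) ⊗ₜ[A] a = z := by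
    intro z
    induction z using TensorProduct.induction_on with
    | zero => exact ⟨0, by simp⟩
    | tmul x a =>
      obtain ⟨r, rfl⟩ := Ideal.Quotient.mk_surjective x
      refine ⟨r • a, ?_⟩
      rw [TensorProduct.tmul_smul, TensorProduct.smul_tmul', ← Algebra.algebraMap_eq_smul_one]
      rfl
    | add x y hx hy =>
      obtain ⟨a, rfl⟩ := hx
      obtain ⟨b, rfl⟩ := hy
      exact ⟨a + b, by rw [TensorProduct.tmul_add]⟩
  have hinj : ∀ a : E, (1 : A ⧸ I) ⊗ₜ[A] a = (0 : (A ⧸ I) ⊗[A] E) →
      a ∈ I.map (algebraMap A E) := by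
    intro a ha
    have h1 := congrArg (TensorProduct.quotTensorEquivQuotSMul E I) ha
    rw [TensorProduct.quotTensorEquivQuotSMul_mk_one_tmul, map_zero,
      Submodule.Quotient.mk_eq_zero, Ideal.smul_top_eq_map] at h1
    exact h1
  obtain ⟨t, ht⟩ := hsurj (1 - e)
  have hτe : τ e = 0 := by
    have : e ∈ RingHom.ker τ := by rw [hker]; exact Ideal.mem_span_singleton_self e
    exact this
  refine ⟨t, ?_, ?_⟩
  · rw [← hτ, ht, map_sub, map_one, hτe, sub_zero]
  · intro a ha
    apply hinj
    have hmem : (1 : A ⧸ I) ⊗ₜ[A] a ∈ RingHom.ker τ := by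
      rw [RingHom.mem_ker, hτ, ha]
    rw [hker, Ideal.mem_span_singleton'] at hmem
    obtain ⟨c, hc⟩ := hmem
    have : (1 : A ⧸ I) ⊗ₜ[A] (t * a) = ((1 : A ⧸ I) ⊗ₜ[A] t) * ((1 : A ⧸ I) ⊗ₜ[A] a) := by
      rw [Algebra.TensorProduct.tmul_mul_tmul, mul_one]
    rw [this, ht, ← hc, mul_comm c e, ← mul_assoc, sub_mul, one_mul, he.eq, sub_self, zero_mul]

end PointedKer

section Normalize

variable {A : Type u} [CommRing A] {I : Ideal A}

/-- **Normalization**: every finite subset of the limit comes from the étale algebra `k.E` of a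
stage `k` (not just from its localization `k.L`) which is moreover *tight*: the kernel of its
point is `I · k.E`, i.e. `A/I → k.E / I k.E` is bijective. -/
theorem Hp.exists_tight_stage_of_finset (s : Finset (Hp A I)) :
    ∃ k : Idx A I, RingHom.ker k.pt = I.map (algebraMap A k.E) ∧
      ∀ x ∈ s, ∃ z : k.E, Hp.of k (algebraMap k.E k.L z) = x := by
  classical
  obtain ⟨i, hi⟩ := Hp.exists_of_finset s
  choose! y hy using hi
  obtain ⟨b, hb⟩ := IsLocalization.exist_integer_multiples_of_finset (unitSub i.pt) (s.image y)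
  obtain ⟨t, ht1, ht⟩ := exists_mul_mem_map_of_ker i.pt
  let d : i.E := (b : i.E) * t
  have hd : IsUnit (i.pt d) := by
    simp only [d]
    rw [map_mul, ht1, mul_one]; exact b.2
  have : Algebra.Etale A (Localization.Away d) := Algebra.Etale.comp A i.E (Localization.Away d)
  let φ' : Localization.Away d →ₐ[A] A ⧸ I :=
    IsLocalization.liftAlgHom (M := Submonoid.powers d) (f := i.pt) (by
      rintro ⟨_, m, rfl⟩
      rw [map_pow]; exact hd.pow m)
  have hφ' : ∀ a, φ' (algebraMap i.E (Localization.Away d) a) = i.pt a := fun a => by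
    simp [φ']
  have hcomp : φ'.comp (IsScalarTower.toAlgHom A i.E (Localization.Away d)) = i.pt :=
    AlgHom.ext hφ'
  obtain ⟨k, e, hik, hke, htr⟩ :=
    exists_idx_ge i φ' (IsScalarTower.toAlgHom A i.E (Localization.Away d)) hcomp
  have hke' : ∀ w, k.pt (e w) = φ' w := fun w => DFunLike.congr_fun hke w
  have hdu : IsUnit (algebraMap i.E (Localization.Away d) d) :=
    IsLocalization.Away.algebraMap_isUnit d
  have hbu : IsUnit (algebraMap i.E (Localization.Away d) (b : i.E)) := by
    simp only [d, map_mul] at hdu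
    exact (IsUnit.mul_iff.mp hdu).1
  have htu : IsUnit (algebraMap i.E (Localization.Away d) t) := by
    simp only [d, map_mul] at hdu
    exact (IsUnit.mul_iff.mp hdu).2
  refine ⟨k, ?_, ?_⟩
  · apply le_antisymm
    · intro x hx
      have hx0 : k.pt x = 0 := hx
      obtain ⟨a, sd, hw⟩ := IsLocalization.exists_mk'_eq (Submonoid.powers d) (e.symm x)
      have h0 : φ' (e.symm x) = 0 := by
        rw [← hke', AlgEquiv.apply_symm_apply, hx0]
      have hsdu : IsUnit (i.pt (sd : i.E)) := by
        obtain ⟨_, m, rfl⟩ := sd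
        rw [map_pow]; exact hd.pow m
      have ha0 : i.pt a = 0 := by
        have h1 : φ' (IsLocalization.mk' (Localization.Away d) a sd) * i.pt (sd : i.E) = i.pt a := by
          rw [← hφ' (sd : i.E), ← map_mul, IsLocalization.mk'_spec, hφ']
        rw [hw, h0, zero_mul] at h1
        exact h1.symm
      have h2 : algebraMap i.E (Localization.Away d) (t * a) ∈
          I.map (algebraMap A (Localization.Away d)) := by
        have := Ideal.mem_map_of_mem (algebraMap i.E (Localization.Away d)) (ht a ha0)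
        rwa [Ideal.map_map, ← IsScalarTower.algebraMap_eq] at this
      rw [map_mul] at h2
      have h3 : algebraMap i.E (Localization.Away d) a ∈
          I.map (algebraMap A (Localization.Away d)) :=
        (Ideal.unit_mul_mem_iff_mem _ htu).1 h2
      have h4 : e.symm x ∈ I.map (algebraMap A (Localization.Away d)) := by
        rw [← hw, IsLocalization.mk'_eq_mul_mk'_one]
        exact Ideal.mul_mem_right _ _ h3
      have h5 := Ideal.mem_map_of_mem (e : Localization.Away d →+* k.E) h4
      rw [Ideal.map_map] at h5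
      have h6 : (e : Localization.Away d →+* k.E).comp (algebraMap A (Localization.Away d)) =
          algebraMap A k.E := by
        ext r
        simp
      rw [h6] at h5
      simpa using h5
    · rw [Ideal.map_le_iff_le_comap]
      intro a ha
      rw [Ideal.mem_comap, RingHom.mem_ker, AlgHom.commutes]
      exact Ideal.Quotient.eq_zero_iff_mem.2 ha
  · intro x hx
    obtain ⟨a, ha⟩ := hb (y x) (Finset.mem_image_of_mem _ hx)
    rw [Algebra.smul_def] at ha
    refine ⟨e (algebraMap i.E (Localization.Away d) a * ↑hbu.unit⁻¹), ?_⟩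
    have hunit : IsUnit (algebraMap k.E k.L (e (algebraMap i.E (Localization.Away d) (b : i.E)))) :=
      (hbu.map e).map (algebraMap k.E k.L)
    have h1 : algebraMap k.E k.L (e (algebraMap i.E (Localization.Away d) (b : i.E))) *
        tr i k hik (y x) =
        algebraMap k.E k.L (e (algebraMap i.E (Localization.Away d) (b : i.E))) *
        algebraMap k.E k.L (e (algebraMap i.E (Localization.Away d) a * ↑hbu.unit⁻¹)) := by
      have e1 := htr (b : i.E)
      have e2 := htr a
      simp only [IsScalarTower.coe_toAlgHom'] at e1 e2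
      have e3 : algebraMap k.E k.L (e (algebraMap i.E (Localization.Away d) (b : i.E))) *
          algebraMap k.E k.L (e (algebraMap i.E (Localization.Away d) a * ↑hbu.unit⁻¹)) =
          algebraMap k.E k.L (e (algebraMap i.E (Localization.Away d) a)) := by
        rw [← map_mul, ← map_mul]
        congr 2
        rw [mul_left_comm, IsUnit.mul_val_inv, mul_one]
      have e4 : algebraMap k.E k.L (e (algebraMap i.E (Localization.Away d) (b : i.E))) *
          tr i k hik (y x) = algebraMap k.E k.L (e (algebraMap i.E (Localization.Away d) a)) := by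
        rw [← e1, ← map_mul, ← ha, e2]
      exact e4.trans e3.symm
    rw [← hunit.mul_left_cancel h1, Hp.of_tr, hy x hx]

/-- The kernel of the point of the limit is `I · Hp`. -/
theorem Hp.ker_ε_eq :
    RingHom.ker (Hp.ε : Hp A I →ₐ[A] A ⧸ I) = I.map (algebraMap A (Hp A I)) := by
  apply le_antisymm
  · intro x hx
    obtain ⟨k, hk, hz⟩ := Hp.exists_tight_stage_of_finset ({x} : Finset (Hp A I))
    obtain ⟨z, rfl⟩ := hz x (Finset.mem_singleton_self x)
    have hz0 : k.pt z = 0 := by
      have : Hp.ε (Hp.of k (algebraMap k.E k.L z)) = 0 := hx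
      rwa [Hp.ε_of, Loc.ε_algebraMap] at this
    have hzI : z ∈ I.map (algebraMap A k.E) := by rw [← hk]; exact hz0
    have := Ideal.mem_map_of_mem ((Hp.of k).toRingHom.comp (algebraMap k.E k.L)) hzI
    rw [Ideal.map_map] at this
    have h6 : ((Hp.of k).toRingHom.comp (algebraMap k.E k.L)).comp (algebraMap A k.E) =
        algebraMap A (Hp A I) := by
      ext r
      simp [← IsScalarTower.algebraMap_apply]
    rw [h6] at this
    exact this
  · exact Hp.map_le_ker

end Normalize

end Groth.Agent.Lib.Helper58.PairHens
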