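import Mathlib
import Groth.Agent.Lib.Helper58.PairHensKer

set_option autoImplicit false
universe u

namespace Groth.Agent.Lib.Helper58.PairHens

open TensorProduct Polynomial

section Root

variable {A : Type u} [CommRing A] {I : Ideal A}

/-- Gabber root in an étale extension: for a pointed étale algebra `(E, σ)` and a polynomial
`X^n (X - 1) + p` over `E` with `p` of degree `≤ n` vanishing at the point, there is a pointed
étale algebra over it with a root having value `1` at the point. -/
theorem exists_gabber_ext {E : Type u} [CommRing E] [Algebra A E] [Algebra.Etale A E]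
    (σ : E →ₐ[A] A ⧸ I) (n : ℕ) (p : E[X]) (hp : p.natDegree ≤ n)
    (hpK : ∀ m, σ (p.coeff m) = 0) :
    ∃ (E' : Type u) (_ : CommRing E') (_ : Algebra A E') (_ : Algebra.Etale A E')
      (σ' : E' →ₐ[A] A ⧸ I) (g : E →ₐ[A] E') (x : E'), σ'.comp g = σ ∧ σ' x = 1 ∧
        ((X ^ n * (X - 1) + p).map g.toRingHom).eval x = 0 := by
  classical
  have hmonic : (X ^ n * (X - 1) + p : E[X]).Monic :=
    Groth.Agent.Lib.Helper58.HenselPair.gabber_monic hp
  let P : StandardEtalePair E :=
    { f := X ^ n * (X - 1) + p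
      monic_f := hmonic
      g := derivative (X ^ n * (X - 1) + p)
      cond := ⟨1, 0, 1, by simp⟩ }
  let _ : Algebra A P.Ring := ((algebraMap E P.Ring).comp (algebraMap A E)).toAlgebra
  have _ : IsScalarTower A E P.Ring := IsScalarTower.of_algebraMap_eq (fun _ => rfl)
  have _ : Algebra.Etale A P.Ring := Algebra.Etale.comp A E P.Ring
  let _ : Algebra E (A ⧸ I) := σ.toRingHom.toAlgebra
  have _ : IsScalarTower A E (A ⧸ I) :=
    IsScalarTower.of_algebraMap_eq (fun a => (σ.commutes a).symm)
  have hmap0 : p.map (algebraMap E (A ⧸ I)) = 0 := by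
    ext m
    rw [Polynomial.coeff_map, Polynomial.coeff_zero]
    exact hpK m
  have hmapf : P.f.map (algebraMap E (A ⧸ I)) = X ^ n * (X - 1) := by
    simp only [P, Polynomial.map_add, Polynomial.map_mul, Polynomial.map_pow, Polynomial.map_X,
      Polynomial.map_sub, Polynomial.map_one, hmap0, add_zero]
  have hHas : P.HasMap (1 : A ⧸ I) := by
    refine ⟨?_, ?_⟩
    · rw [Polynomial.aeval_def, ← Polynomial.eval_map, hmapf]
      simp
    · have : (P.g).map (algebraMap E (A ⧸ I)) = derivative (X ^ n * (X - 1)) := by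
        rw [← hmapf, Polynomial.derivative_map]
      rw [Polynomial.aeval_def, ← Polynomial.eval_map, this]
      simp
  let φ'' : P.Ring →ₐ[A] A ⧸ I := (P.lift 1 hHas).restrictScalars A
  have hφ''X : φ'' P.X = 1 := P.lift_X 1 hHas
  refine ⟨P.Ring, inferInstance, inferInstance, inferInstance, φ'',
    IsScalarTower.toAlgHom A E P.Ring, P.X, ?_, hφ''X, ?_⟩
  · ext a
    change P.lift 1 hHas (algebraMap E P.Ring a) = σ a
    rw [AlgHom.commutes]
    rfl
  · have := (P.hasMap_X).1
    change Polynomial.aeval P.X (X ^ n * (X - 1) + p) = 0 at this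
    rw [Polynomial.eval_map, ← this, Polynomial.aeval_def]
    rfl

/-- Gabber root at a stage: a polynomial `X^n (X - 1) + p` over the étale algebra of a stage,
with `p` of degree `≤ n` vanishing at the point, acquires a root (with value `1` at the point)
at a later stage. -/
theorem exists_root_stage (k : Idx A I) (n : ℕ) (p : k.E[X]) (hp : p.natDegree ≤ n)
    (hpK : ∀ m, k.pt (p.coeff m) = 0) :
    ∃ (k' : Idx A I) (hkk' : k ≤ k') (α : k'.L), k'.ε α = 1 ∧
      ((X ^ n * (X - 1) + p).map
        ((tr k k' hkk').toRingHom.comp (algebraMap k.E k.L))).eval α = 0 := by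
  classical
  obtain ⟨E', _, _, _, σ', g, x, hg, hx1, hx⟩ := exists_gabber_ext k.pt n p hp hpK
  obtain ⟨k', e, hkk', hke, htr⟩ := exists_idx_ge k σ' g hg
  refine ⟨k', hkk', algebraMap k'.E k'.L (e x), ?_, ?_⟩
  · rw [Loc.ε_algebraMap]
    have := DFunLike.congr_fun hke x
    simp only [AlgHom.comp_apply] at this
    rw [← hx1, ← this]
    rfl
  · have hring : (tr k k' hkk').toRingHom.comp (algebraMap k.E k.L) =
        ((algebraMap k'.E k'.L).comp (e : E' →+* k'.E)).comp g.toRingHom :=
      RingHom.ext fun a => htr a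
    rw [hring, ← Polynomial.map_map]
    have h2 := congrArg ((algebraMap k'.E k'.L).comp (e : E' →+* k'.E)) hx
    rw [map_zero, ← Polynomial.eval_map_apply] at h2
    exact h2

/-- The limit is henselian along the kernel of its point. -/
theorem Hp.henselian_ker : HenselianRing (Hp A I) (RingHom.ker (Hp.ε : Hp A I →ₐ[A] A ⧸ I)) := by
  classical
  refine Groth.Agent.Lib.Helper58.HenselPair.henselian_of_gabber Hp.ker_le_jacobson ?_
  intro n hn p hp hpK
  obtain ⟨k, -, hz⟩ := Hp.exists_tight_stage_of_finset ((Finset.range (n + 1)).image p.coeff)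
  choose! z hz' using hz
  let ρ : k.E →+* Hp A I := (Hp.of k).toRingHom.comp (algebraMap k.E k.L)
  have hρ : ∀ m ∈ Finset.range (n + 1), ρ (z (p.coeff m)) = p.coeff m := fun m hm =>
    hz' _ (Finset.mem_image_of_mem _ hm)
  let pk : k.E[X] := ∑ m ∈ Finset.range (n + 1), C (z (p.coeff m)) * X ^ m
  have hpk_deg : pk.natDegree ≤ n := by
    refine Polynomial.natDegree_sum_le_of_forall_le _ _ fun m hm => ?_
    refine (Polynomial.natDegree_C_mul_X_pow_le _ _).trans ?_
    exact Nat.lt_succ_iff.1 (Finset.mem_range.1 hm)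
  have hpk_map : pk.map ρ = p := by
    simp only [pk]
    rw [Polynomial.map_sum]
    conv_rhs => rw [Polynomial.as_sum_range' p (n + 1) (Nat.lt_succ_iff.2 hp)]
    refine Finset.sum_congr rfl fun m hm => ?_
    rw [Polynomial.map_mul, Polynomial.map_C, Polynomial.map_pow, Polynomial.map_X, hρ m hm,
      ← Polynomial.C_mul_X_pow_eq_monomial]
  have hε : ∀ w : k.E, Hp.ε (ρ w) = k.pt w := fun w => by
    simp [ρ]
  have hpkK : ∀ m, k.pt (pk.coeff m) = 0 := by
    intro m
    rw [← hε, ← Polynomial.coeff_map, hpk_map]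
    exact hpK m
  obtain ⟨k', hkk', α, hα1, hα⟩ := exists_root_stage k n pk hpk_deg hpkK
  refine ⟨Hp.of k' α, ?_, ?_⟩
  · rw [RingHom.mem_ker, map_sub, map_one, Hp.ε_of, hα1, sub_self]
  · have hfac : ρ = (Hp.of k').toRingHom.comp
        ((tr k k' hkk').toRingHom.comp (algebraMap k.E k.L)) := by
      refine RingHom.ext fun w => ?_
      simp only [ρ, RingHom.comp_apply, AlgHom.toRingHom_eq_coe, RingHom.coe_coe]
      rw [Hp.of_tr]
    have : (X ^ n * (X - 1) + p : (Hp A I)[X]) = (X ^ n * (X - 1) + pk).map ρ := by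
      rw [Polynomial.map_add, hpk_map]
      simp
    rw [this, hfac, ← Polynomial.map_map, Polynomial.IsRoot.def]
    change Polynomial.eval ((Hp.of k').toRingHom α) _ = 0
    rw [Polynomial.eval_map_apply, hα, map_zero]

/-- The limit is henselian along `I · Hp`. -/
instance Hp.henselian : HenselianRing (Hp A I) (I.map (algebraMap A (Hp A I))) := by
  rw [← Hp.ker_ε_eq]
  exact Hp.henselian_ker

end Root

end Groth.Agent.Lib.Helper58.PairHens
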