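import Mathlib
import Groth.Prelude.Def_Hens2
import Groth.Agent.Lib.Helper58.PairHensRoot

set_option autoImplicit false
universe u

namespace Groth.Agent.Lib.Helper58.PairHens

open TensorProduct Polynomial

section UP

variable {A : Type u} [CommRing A] {I : Ideal A}
variable {C : Type u} [CommRing C] [Algebra A C] (J : Ideal C)
  (hIJ : I.map (algebraMap A C) ≤ J)

/-- the induced map on quotients. -/
noncomputable def quotMap : A ⧸ I →ₐ[A] C ⧸ J :=
  Ideal.Quotient.liftₐ I ((Ideal.Quotient.mkₐ A J).comp (Algebra.ofId A C)) (by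
    intro a ha
    change Ideal.Quotient.mk J (algebraMap A C a) = 0
    rw [Ideal.Quotient.eq_zero_iff_mem]
    exact hIJ (Ideal.mem_map_of_mem _ ha))

lemma quotMap_mk (a : A) :
    quotMap J hIJ (Ideal.Quotient.mk I a) = Ideal.Quotient.mk J (algebraMap A C a) := rfl

variable [HenselianRing C J]

/-- the lift of a stage's étale algebra. -/
noncomputable def stageLift₀ (i : Idx A I) : i.E →ₐ[A] C :=
  Classical.choose (Groth.Agent.Lib.Helper58.HenselPair.exists_etale_lift_rel J
    ((quotMap J hIJ).comp i.pt))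

lemma stageLift₀_spec (i : Idx A I) :
    (Ideal.Quotient.mkₐ A J).comp (stageLift₀ J hIJ i) = (quotMap J hIJ).comp i.pt :=
  Classical.choose_spec (Groth.Agent.Lib.Helper58.HenselPair.exists_etale_lift_rel J
    ((quotMap J hIJ).comp i.pt))

lemma mk_stageLift₀ (i : Idx A I) (a : i.E) :
    Ideal.Quotient.mk J (stageLift₀ J hIJ i a) = quotMap J hIJ (i.pt a) :=
  DFunLike.congr_fun (stageLift₀_spec J hIJ i) a

/-- the lift of a stage. -/
noncomputable def stageLift (i : Idx A I) : i.L →ₐ[A] C :=
  Loc.lift i.pt (stageLift₀ J hIJ i) (by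
    intro a ha
    apply Groth.Agent.Lib.Helper58.HenselPair.isUnit_of_isUnit_mk (I := J) HenselianRing.jac
    rw [mk_stageLift₀]
    exact ha.map _)

lemma mk_stageLift (i : Idx A I) (x : i.L) :
    Ideal.Quotient.mk J (stageLift J hIJ i x) = quotMap J hIJ (i.ε x) := by
  have : (Ideal.Quotient.mkₐ A J).comp (stageLift J hIJ i) = (quotMap J hIJ).comp i.ε := by
    apply Loc.algHom_ext'
    intro a
    simp only [AlgHom.comp_apply, stageLift, Loc.lift_algebraMap, Loc.ε_algebraMap]
    exact mk_stageLift₀ J hIJ i a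
  exact DFunLike.congr_fun this x

lemma stageLift_unique (i : Idx A I) (g : i.L →ₐ[A] C)
    (hg : ∀ x, Ideal.Quotient.mk J (g x) = quotMap J hIJ (i.ε x)) : g = stageLift J hIJ i := by
  apply Loc.algHom_ext'
  have key : g.comp (IsScalarTower.toAlgHom A i.E i.L) =
      (stageLift J hIJ i).comp (IsScalarTower.toAlgHom A i.E i.L) := by
    apply Groth.Agent.Lib.Helper58.HenselPair.etale_lift_unique J HenselianRing.jac
    ext a
    simp only [AlgHom.comp_apply, IsScalarTower.coe_toAlgHom', Ideal.Quotient.mkₐ_eq_mk]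
    rw [hg, mk_stageLift]
  intro a
  exact DFunLike.congr_fun key a

lemma stageLift_tr (i j : Idx A I) (h : i ≤ j) (x : i.L) :
    stageLift J hIJ j (tr i j h x) = stageLift J hIJ i x := by
  have := stageLift_unique J hIJ i ((stageLift J hIJ j).comp (tr i j h)) (by
    intro x
    rw [AlgHom.comp_apply, mk_stageLift, ε_tr])
  exact DFunLike.congr_fun this x

/-- the map from the henselization to a henselian pair. -/
noncomputable def Hp.desc : Hp A I →ₐ[A] C :=
  Hp.lift (stageLift J hIJ) (stageLift_tr J hIJ)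

lemma Hp.mk_desc (x : Hp A I) :
    Ideal.Quotient.mk J (Hp.desc J hIJ x) = quotMap J hIJ (Hp.ε x) := by
  obtain ⟨i, y, rfl⟩ := Hp.exists_of x
  rw [Hp.ε_of]
  exact mk_stageLift J hIJ i y

omit [HenselianRing C J] in
include hIJ in
/-- any `A`-algebra map from the henselization to `C` is compatible with the points. -/
lemma Hp.mk_algHom (g : Hp A I →ₐ[A] C) (x : Hp A I) :
    Ideal.Quotient.mk J (g x) = quotMap J hIJ (Hp.ε x) := by
  obtain ⟨a, ha⟩ := Ideal.Quotient.mk_surjective (Hp.ε x)
  have hmem : x - algebraMap A (Hp A I) a ∈ I.map (algebraMap A (Hp A I)) := by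
    rw [← Hp.ker_ε_eq, RingHom.mem_ker, map_sub, AlgHom.commutes, ← ha]
    exact sub_self _
  have h2 : g (x - algebraMap A (Hp A I) a) ∈ J := by
    have := Ideal.mem_map_of_mem g.toRingHom hmem
    rw [Ideal.map_map] at this
    have h3 : g.toRingHom.comp (algebraMap A (Hp A I)) = algebraMap A C := by
      ext r; simp
    rw [h3] at this
    exact hIJ this
  rw [map_sub, AlgHom.commutes] at h2
  rw [← ha, quotMap_mk]
  exact Ideal.Quotient.eq.2 h2

lemma Hp.desc_unique (g : Hp A I →ₐ[A] C) : g = Hp.desc J hIJ := by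
  apply Hp.algHom_ext
  intro i x
  have := stageLift_unique J hIJ i (g.comp (Hp.of i)) (by
    intro y
    rw [AlgHom.comp_apply, Hp.mk_algHom J hIJ g, Hp.ε_of])
  rw [Hp.desc, Hp.lift_of, ← this]
  rfl

end UP

section Main

variable (A : Type u) [CommRing A] (I : Ideal A)

/-- **Existence of the henselization of a pair** (Stacks 0A02). -/
theorem Hp.isPairHenselization : Hens2.IsPairHenselization A I (Hp A I) := by
  refine ⟨Hp.henselian, ?_⟩
  intro C _ J f hC hf
  let _ : Algebra A C := f.toAlgebra
  have hIJ : I.map (algebraMap A C) ≤ J := hf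
  refine ⟨(Hp.desc J hIJ).toRingHom, ?_, ?_⟩
  · ext a
    change Hp.desc J hIJ (algebraMap A (Hp A I) a) = f a
    rw [AlgHom.commutes]
    rfl
  · intro g hg
    let g' : Hp A I →ₐ[A] C :=
      { g with
        commutes' := fun a => by
          change g (algebraMap A (Hp A I) a) = f a
          exact congrArg (fun ρ : A →+* C => ρ a) hg }
    have := Hp.desc_unique J hIJ g'
    rw [← this]

end Main

end Groth.Agent.Lib.Helper58.PairHens
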