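import Mathlib
import Groth.Prelude.Def_Hens2
import Groth.Agent.Lib.Helper58.PairHensUP
import Groth.Agent.Lib.Helper58.HenselPairIdem

set_option autoImplicit false
universe u

namespace Groth.Agent.Lib.Helper58.PairHens

open TensorProduct Polynomial

section Nilp

/-- A ring is adically complete along a nilpotent ideal. -/
theorem isAdicComplete_of_pow_eq_bot {R : Type*} [CommRing R] (J : Ideal R) (n : ℕ)
    (h : J ^ n = ⊥) : IsAdicComplete J R := by
  have hbot : (J ^ n • ⊤ : Submodule R R) = ⊥ := by rw [h, Submodule.bot_smul]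
  have : IsHausdorff J R := ⟨fun x hx => by
    have := hx n
    rw [hbot] at this
    exact SModEq.bot.1 this⟩
  have : IsPrecomplete J R := ⟨fun f hf => ⟨f n, fun m => by
    rcases le_total m n with hmn | hnm
    · exact hf hmn
    · have := hf hnm
      rw [hbot] at this
      rw [SModEq.bot.1 this]⟩⟩
  exact {}

/-- A ring is henselian along a nilpotent ideal. -/
theorem henselian_of_pow_eq_bot {R : Type*} [CommRing R] (J : Ideal R) (n : ℕ)
    (h : J ^ n = ⊥) : HenselianRing R J := by
  have := isAdicComplete_of_pow_eq_bot J n h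
  infer_instance

/-- A quotient of a henselian pair is a henselian pair. -/
theorem henselian_quotient {R : Type u} [CommRing R] (J : Ideal R) [HenselianRing R J]
    (K : Ideal R) : HenselianRing (R ⧸ K) (J.map (Ideal.Quotient.mk K)) := by
  have : Algebra.IsIntegral R (R ⧸ K) :=
    Algebra.isIntegral_of_surjective Ideal.Quotient.mk_surjective
  exact Groth.Agent.Lib.Helper58.HenselPair.henselian_of_isIntegral (A := R) (I := J) (R ⧸ K)

end Nilp

section Transfer

variable {A : Type u} [CommRing A] {I : Ideal A}
variable {B : Type u} [CommRing B] [Algebra A B]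
variable {B' : Type u} [CommRing B'] [Algebra A B']

/-- the canonical map from a henselization to a henselian pair, as an algebra map. -/
theorem exists_algHom_of_isPairHenselization (hB : Hens2.IsPairHenselization A I B)
    (C : Type u) [CommRing C] [Algebra A C] (J : Ideal C) (hC : HenselianRing C J)
    (hIJ : I.map (algebraMap A C) ≤ J) :
    ∃ g : B →ₐ[A] C, ∀ g' : B →ₐ[A] C, g' = g := by
  obtain ⟨g, hg, hu⟩ := hB.2 C J (algebraMap A C) hC hIJ
  refine ⟨{ g with commutes' := fun a => congrArg (fun ρ : A →+* C => ρ a) hg }, ?_⟩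
  intro g'
  have := hu g'.toRingHom (by ext a; simp)
  ext b
  exact congrArg (fun ρ : B →+* C => ρ b) this

/-- two `A`-algebra maps from a henselization of `(A, I)` to a henselian pair over `(A, I)`
agree. -/
theorem algHom_ext_of_isPairHenselization (hB : Hens2.IsPairHenselization A I B)
    {C : Type u} [CommRing C] [Algebra A C] (J : Ideal C) (hC : HenselianRing C J)
    (hIJ : I.map (algebraMap A C) ≤ J) (g₁ g₂ : B →ₐ[A] C) : g₁ = g₂ := by
  obtain ⟨g, hg⟩ := exists_algHom_of_isPairHenselization hB C J hC hIJ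
  rw [hg g₁, hg g₂]

/-- **Uniqueness of the henselization of a pair.** -/
theorem nonempty_algEquiv_of_isPairHenselization (hB : Hens2.IsPairHenselization A I B)
    (hB' : Hens2.IsPairHenselization A I B') : Nonempty (B ≃ₐ[A] B') := by
  obtain ⟨φ, -⟩ := exists_algHom_of_isPairHenselization hB B' _ hB'.1 le_rfl
  obtain ⟨ψ, -⟩ := exists_algHom_of_isPairHenselization hB' B _ hB.1 le_rfl
  have h1 : ψ.comp φ = AlgHom.id A B :=
    algHom_ext_of_isPairHenselization hB _ hB.1 le_rfl _ _
  have h2 : φ.comp ψ = AlgHom.id A B' :=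
    algHom_ext_of_isPairHenselization hB' _ hB'.1 le_rfl _ _
  exact ⟨AlgEquiv.ofAlgHom φ ψ h2 h1⟩

/-- every henselization is isomorphic to the constructed one. -/
theorem nonempty_algEquiv_Hp (hB : Hens2.IsPairHenselization A I B) :
    Nonempty (B ≃ₐ[A] Hp A I) :=
  nonempty_algEquiv_of_isPairHenselization hB (Hp.isPairHenselization A I)

/-- a henselization of a pair is flat. -/
theorem flat_of_isPairHenselization (hB : Hens2.IsPairHenselization A I B) :
    Module.Flat A B := by
  obtain ⟨e⟩ := nonempty_algEquiv_Hp hB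
  exact Module.Flat.of_linearEquiv e.toLinearEquiv

/-- `A/I^n → B/I^n B` is bijective for a henselization `B` of `(A, I)`. -/
theorem quotientMap_pow_bijective (hB : Hens2.IsPairHenselization A I B) (n : ℕ) :
    Function.Bijective
      (Ideal.quotientMap ((I ^ n).map (algebraMap A B)) (algebraMap A B) Ideal.le_comap_map) := by
  have hhens : HenselianRing (A ⧸ I ^ n) (I.map (Ideal.Quotient.mk (I ^ n))) :=
    henselian_of_pow_eq_bot _ n (by
      rw [← Ideal.map_pow, Ideal.map_quotient_self])
  obtain ⟨g, hg, -⟩ := hB.2 (A ⧸ I ^ n) _ (Ideal.Quotient.mk (I ^ n)) hhens le_rfl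
  have hgalg : ∀ a, g (algebraMap A B a) = Ideal.Quotient.mk (I ^ n) a := fun a =>
    congrArg (fun ρ : A →+* A ⧸ I ^ n => ρ a) hg
  have hgker : ∀ b ∈ (I ^ n).map (algebraMap A B), g b = 0 := by
    intro b hb
    have := Ideal.mem_map_of_mem g hb
    rw [Ideal.map_map, hg, Ideal.map_quotient_self] at this
    exact this
  let gbar : B ⧸ (I ^ n).map (algebraMap A B) →+* A ⧸ I ^ n :=
    Ideal.Quotient.lift _ g hgker
  constructor
  · -- injectivity via the retraction `gbar`
    apply Function.LeftInverse.injective (g := gbar)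
    intro x
    obtain ⟨a, rfl⟩ := Ideal.Quotient.mk_surjective x
    rw [Ideal.quotientMap_mk, Ideal.Quotient.lift_mk, hgalg]
  · -- surjectivity via uniqueness of maps to the henselian pair `B / I^n B`
    have hq : HenselianRing (B ⧸ (I ^ n).map (algebraMap A B))
        ((I.map (algebraMap A B)).map (Ideal.Quotient.mk ((I ^ n).map (algebraMap A B)))) := by
      have := hB.1
      exact henselian_quotient _ _
    obtain ⟨k, -, hk⟩ := hB.2 (B ⧸ (I ^ n).map (algebraMap A B)) _
      ((Ideal.Quotient.mk ((I ^ n).map (algebraMap A B))).comp (algebraMap A B)) hq (by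
        rw [Ideal.map_map])
    have h1 : Ideal.Quotient.mk ((I ^ n).map (algebraMap A B)) = k := hk _ rfl
    have h2 : (Ideal.quotientMap ((I ^ n).map (algebraMap A B)) (algebraMap A B)
        Ideal.le_comap_map).comp g = k := hk _ (by
      ext a
      simp only [RingHom.comp_apply, hgalg, Ideal.quotientMap_mk])
    intro y
    obtain ⟨b, rfl⟩ := Ideal.Quotient.mk_surjective y
    refine ⟨g b, ?_⟩
    have := congrArg (fun ρ : B →+* B ⧸ (I ^ n).map (algebraMap A B) => ρ b) (h2.trans h1.symm)
    exact this

end Transfer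

section QuotEquiv

/-- transfer of bijectivity of quotient maps along equalities of ideals. -/
theorem quotientMap_bijective_congr {R S : Type*} [CommRing R] [CommRing S] (f : R →+* S)
    {I I' : Ideal R} {J J' : Ideal S} (hI : I = I') (hJ : J = J') (h : I ≤ J.comap f)
    (h' : I' ≤ J'.comap f) (hb : Function.Bijective (Ideal.quotientMap J f h)) :
    Function.Bijective (Ideal.quotientMap J' f h') := by
  subst hI hJ
  exact hb

/-- For a henselization `B` of `(R, I R)` with `R` an `A`-algebra and `I` an ideal of `A`,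
`R / I^r R ≃ B / I^r B` as `A / I^r`-algebras. -/
theorem nonempty_quotient_algEquiv (A : Type u) [CommRing A] (I : Ideal A)
    (R : Type u) [CommRing R] [Algebra A R]
    (B : Type u) [CommRing B] [Algebra R B] [Algebra A B] [IsScalarTower A R B]
    (hB : Hens2.IsPairHenselization R (I.map (algebraMap A R)) B) (r : ℕ) :
    Nonempty ((R ⧸ (I ^ r).map (algebraMap A R)) ≃ₐ[A ⧸ I ^ r]
      (B ⧸ (I ^ r).map (algebraMap A B))) := by
  have hb := quotientMap_pow_bijective hB r
  have hI : (I.map (algebraMap A R)) ^ r = (I ^ r).map (algebraMap A R) := (Ideal.map_pow _ _ _).symm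
  have hJ : ((I.map (algebraMap A R)) ^ r).map (algebraMap R B) = (I ^ r).map (algebraMap A B) := by
    rw [hI, Ideal.map_map, ← IsScalarTower.algebraMap_eq]
  have hle : (I ^ r).map (algebraMap A R) ≤
      ((I ^ r).map (algebraMap A B)).comap (IsScalarTower.toAlgHom A R B) := by
    rw [← Ideal.map_le_iff_le_comap]
    change Ideal.map (algebraMap R B) _ ≤ _
    rw [Ideal.map_map, ← IsScalarTower.algebraMap_eq]
  have hb' := quotientMap_bijective_congr (algebraMap R B) hI hJ Ideal.le_comap_map hle hb
  let e₀ : (R ⧸ (I ^ r).map (algebraMap A R)) ≃ₐ[A] (B ⧸ (I ^ r).map (algebraMap A B)) :=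
    AlgEquiv.ofBijective (Ideal.quotientMapₐ _ (IsScalarTower.toAlgHom A R B) hle) hb'
  exact ⟨AlgEquiv.extendScalarsOfSurjective (Ideal.Quotient.mk_surjective (I := I ^ r)) e₀⟩

end QuotEquiv

end Groth.Agent.Lib.Helper58.PairHens
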