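import Mathlib
import Groth.Prelude.Def_Hens2
import Groth.Agent.Lib.Helper58.PairHensProps
import Groth.Agent.S17592

set_option autoImplicit false
universe u

namespace Groth.Agent.Lib.Helper58.PairHens

open TensorProduct Polynomial

section QuotBij

variable {A : Type u} [CommRing A] {I : Ideal A}
variable {E : Type u} [CommRing E] [Algebra A E]

/-- elementwise description of bijectivity of `A/I → E/IE`. -/
theorem quotMap_bijective_iff :
    Function.Bijective
      (Ideal.quotientMap (I.map (algebraMap A E)) (algebraMap A E) Ideal.le_comap_map) ↔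
    (∀ a : A, algebraMap A E a ∈ I.map (algebraMap A E) → a ∈ I) ∧
      ∀ w : E, ∃ a : A, w - algebraMap A E a ∈ I.map (algebraMap A E) := by
  constructor
  · rintro ⟨hinj, hsurj⟩
    refine ⟨fun a ha => ?_, fun w => ?_⟩
    · have : Ideal.quotientMap (I.map (algebraMap A E)) (algebraMap A E) Ideal.le_comap_map
          (Ideal.Quotient.mk I a) = 0 := by
        rw [Ideal.quotientMap_mk, Ideal.Quotient.eq_zero_iff_mem]
        exact ha
      have h0 := hinj (this.trans (map_zero _).symm)
      exact Ideal.Quotient.eq_zero_iff_mem.1 h0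
    · obtain ⟨x, hx⟩ := hsurj (Ideal.Quotient.mk _ w)
      obtain ⟨a, rfl⟩ := Ideal.Quotient.mk_surjective x
      refine ⟨a, ?_⟩
      rw [Ideal.quotientMap_mk] at hx
      exact Ideal.Quotient.eq.1 hx.symm
  · rintro ⟨h1, h2⟩
    constructor
    · rw [injective_iff_map_eq_zero]
      intro x hx
      obtain ⟨a, rfl⟩ := Ideal.Quotient.mk_surjective x
      rw [Ideal.quotientMap_mk, Ideal.Quotient.eq_zero_iff_mem] at hx
      exact Ideal.Quotient.eq_zero_iff_mem.2 (h1 a hx)
    · intro y
      obtain ⟨w, rfl⟩ := Ideal.Quotient.mk_surjective y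
      obtain ⟨a, ha⟩ := h2 w
      refine ⟨Ideal.Quotient.mk I a, ?_⟩
      rw [Ideal.quotientMap_mk]
      exact (Ideal.Quotient.eq.2 ha).symm

/-- a point with kernel `I E` makes `A/I → E/IE` bijective. -/
theorem quotMap_bijective_of_ker_eq (σ : E →ₐ[A] A ⧸ I)
    (h : RingHom.ker σ = I.map (algebraMap A E)) :
    Function.Bijective
      (Ideal.quotientMap (I.map (algebraMap A E)) (algebraMap A E) Ideal.le_comap_map) := by
  rw [quotMap_bijective_iff]
  refine ⟨fun a ha => ?_, fun w => ?_⟩
  · rw [← h, RingHom.mem_ker, AlgHom.commutes] at ha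
    exact Ideal.Quotient.eq_zero_iff_mem.1 ha
  · obtain ⟨a, ha⟩ := Ideal.Quotient.mk_surjective (σ w)
    refine ⟨a, ?_⟩
    rw [← h, RingHom.mem_ker, map_sub, AlgHom.commutes, ← ha]
    exact sub_self _

/-- if `A/I → E/IE` is bijective there is a point with kernel `I E`. -/
theorem exists_pt_of_quotMap_bijective
    (hb : Function.Bijective
      (Ideal.quotientMap (I.map (algebraMap A E)) (algebraMap A E) Ideal.le_comap_map)) :
    ∃ σ : E →ₐ[A] A ⧸ I, RingHom.ker σ = I.map (algebraMap A E) := by
  let e : A ⧸ I ≃+* E ⧸ I.map (algebraMap A E) := RingEquiv.ofBijective _ hb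
  have he : ∀ a : A, e (Ideal.Quotient.mk I a) = Ideal.Quotient.mk _ (algebraMap A E a) :=
    fun a => rfl
  let σ₀ : E →+* A ⧸ I := e.symm.toRingHom.comp (Ideal.Quotient.mk _)
  let σ : E →ₐ[A] A ⧸ I := { σ₀ with
    commutes' := fun a => by
      change e.symm (Ideal.Quotient.mk _ (algebraMap A E a)) = _
      rw [← he, RingEquiv.symm_apply_apply]
      rfl }
  refine ⟨σ, ?_⟩
  ext w
  rw [RingHom.mem_ker]
  change e.symm (Ideal.Quotient.mk _ w) = 0 ↔ _
  rw [map_eq_zero_iff _ e.symm.injective, Ideal.Quotient.eq_zero_iff_mem]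

/-- transitivity of bijectivity of the quotient maps. -/
theorem quotMap_bijective_trans {F : Type u} [CommRing F] [Algebra A F] [Algebra E F]
    [IsScalarTower A E F]
    (h1 : Function.Bijective
      (Ideal.quotientMap (I.map (algebraMap A E)) (algebraMap A E) Ideal.le_comap_map))
    (h2 : Function.Bijective
      (Ideal.quotientMap ((I.map (algebraMap A E)).map (algebraMap E F)) (algebraMap E F)
        Ideal.le_comap_map)) :
    Function.Bijective
      (Ideal.quotientMap (I.map (algebraMap A F)) (algebraMap A F) Ideal.le_comap_map) := by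
  have hIF : (I.map (algebraMap A E)).map (algebraMap E F) = I.map (algebraMap A F) := by
    rw [Ideal.map_map, ← IsScalarTower.algebraMap_eq]
  rw [quotMap_bijective_iff] at h1 h2 ⊢
  rw [hIF] at h2
  refine ⟨fun a ha => ?_, fun w => ?_⟩
  · rw [IsScalarTower.algebraMap_apply A E F] at ha
    exact h1.1 a (h2.1 _ ha)
  · obtain ⟨x, hx⟩ := h2.2 w
    obtain ⟨a, ha⟩ := h1.2 x
    refine ⟨a, ?_⟩
    have h3 : algebraMap E F (x - algebraMap A E a) ∈ I.map (algebraMap A F) := by
      rw [← hIF]
      exact Ideal.mem_map_of_mem _ ha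
    have : w - algebraMap A F a = (w - algebraMap E F x) + algebraMap E F (x - algebraMap A E a) := by
      rw [map_sub, ← IsScalarTower.algebraMap_apply A E F]
      ring
    rw [this]
    exact add_mem hx h3

end QuotBij

section TightNbhd

variable {A : Type u} [CommRing A] {I : Ideal A}
variable {E : Type u} [CommRing E] [Algebra A E] [Algebra.Etale A E]

/-- every pointed étale algebra has a principal localization, inverting a prescribed element
invertible at the point, which is *tight*: the kernel of its point is `I E'`. -/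
theorem exists_tight_nbhd (σ : E →ₐ[A] A ⧸ I) (b : E) (hb : IsUnit (σ b)) :
    ∃ (E' : Type u) (_ : CommRing E') (_ : Algebra A E') (_ : Algebra.Etale A E')
      (g : E →ₐ[A] E') (σ' : E' →ₐ[A] A ⧸ I),
      σ'.comp g = σ ∧ IsUnit (g b) ∧ RingHom.ker σ' = I.map (algebraMap A E') := by
  obtain ⟨t, ht1, ht⟩ := exists_mul_mem_map_of_ker σ
  let d : E := b * t
  have hd : IsUnit (σ d) := by
    simp only [d]
    rw [map_mul, ht1, mul_one]; exact hb
  have : Algebra.Etale A (Localization.Away d) := Algebra.Etale.comp A E (Localization.Away d)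
  let φ' : Localization.Away d →ₐ[A] A ⧸ I :=
    IsLocalization.liftAlgHom (M := Submonoid.powers d) (f := σ) (by
      rintro ⟨_, m, rfl⟩
      rw [map_pow]; exact hd.pow m)
  have hφ' : ∀ a, φ' (algebraMap E (Localization.Away d) a) = σ a := fun a => by
    simp [φ']
  have hdu : IsUnit (algebraMap E (Localization.Away d) d) :=
    IsLocalization.Away.algebraMap_isUnit d
  have hbu : IsUnit (algebraMap E (Localization.Away d) b) := by
    simp only [d, map_mul] at hdu
    exact (IsUnit.mul_iff.mp hdu).1
  have htu : IsUnit (algebraMap E (Localization.Away d) t) := by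
    simp only [d, map_mul] at hdu
    exact (IsUnit.mul_iff.mp hdu).2
  refine ⟨Localization.Away d, inferInstance, inferInstance, inferInstance,
    IsScalarTower.toAlgHom A E (Localization.Away d), φ', AlgHom.ext hφ', hbu, ?_⟩
  apply le_antisymm
  · intro x hx
    have h0 : φ' x = 0 := hx
    obtain ⟨a, sd, hw⟩ := IsLocalization.exists_mk'_eq (Submonoid.powers d) x
    have ha0 : σ a = 0 := by
      have h1 : φ' (IsLocalization.mk' (Localization.Away d) a sd) * σ (sd : E) = σ a := by
        rw [← hφ' (sd : E), ← map_mul, IsLocalization.mk'_spec, hφ']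
      rw [hw, h0, zero_mul] at h1
      exact h1.symm
    have h2 : algebraMap E (Localization.Away d) (t * a) ∈
        I.map (algebraMap A (Localization.Away d)) := by
      have := Ideal.mem_map_of_mem (algebraMap E (Localization.Away d)) (ht a ha0)
      rwa [Ideal.map_map, ← IsScalarTower.algebraMap_eq] at this
    rw [map_mul] at h2
    have h3 : algebraMap E (Localization.Away d) a ∈
        I.map (algebraMap A (Localization.Away d)) :=
      (Ideal.unit_mul_mem_iff_mem _ htu).1 h2
    rw [← hw, IsLocalization.mk'_eq_mul_mk'_one]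
    exact Ideal.mul_mem_right _ _ h3
  · rw [Ideal.map_le_iff_le_comap]
    intro a ha
    rw [Ideal.mem_comap, RingHom.mem_ker, AlgHom.commutes]
    exact Ideal.Quotient.eq_zero_iff_mem.2 ha

end TightNbhd

section Transport

variable {A : Type u} [CommRing A] {I : Ideal A}

/-- transport of `IsPairHenselization` along an algebra isomorphism. -/
theorem isPairHenselization_of_algEquiv {B B' : Type u} [CommRing B] [CommRing B']
    [Algebra A B] [Algebra A B'] (e : B ≃ₐ[A] B') (hB : Hens2.IsPairHenselization A I B) :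
    Hens2.IsPairHenselization A I B' := by
  refine ⟨?_, ?_⟩
  · let _ : Algebra B B' := (e : B →+* B').toAlgebra
    have hint : Algebra.IsIntegral B B' :=
      Algebra.isIntegral_of_surjective (e.surjective)
    have h1 := hB.1
    have h2 := Groth.Agent.Lib.Helper58.HenselPair.henselian_of_isIntegral
      (A := B) (I := I.map (algebraMap A B)) B'
    rw [Ideal.map_map] at h2
    have h3 : (algebraMap B B').comp (algebraMap A B) = algebraMap A B' := by
      ext a
      change e (algebraMap A B a) = _
      exact e.commutes a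
    rwa [h3] at h2
  · intro C _ J f hC hf
    obtain ⟨g, hg, hu⟩ := hB.2 C J f hC hf
    refine ⟨g.comp (e.symm : B' →+* B), ?_, ?_⟩
    · ext a
      change g (e.symm (algebraMap A B' a)) = f a
      rw [e.symm.commutes]
      exact congrArg (fun ρ : A →+* C => ρ a) hg
    · intro g'' hg''
      have := hu (g''.comp (e : B →+* B')) (by
        ext a
        change g'' (e (algebraMap A B a)) = f a
        rw [e.commutes]
        exact congrArg (fun ρ : A →+* C => ρ a) hg'')
      ext b'
      change g'' b' = g (e.symm b')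
      rw [← this]
      change g'' b' = g'' (e (e.symm b'))
      rw [e.apply_symm_apply]

/-- two `A`-algebra maps from an étale `A`-algebra `A'` with `A/I → A'/IA'` surjective to an
`A`-algebra `C` with `I C ⊆ rad C` are equal. -/
theorem algHom_ext_of_nbhd {A' : Type u} [CommRing A'] [Algebra A A'] [Algebra.Etale A A']
    (hs : ∀ w : A', ∃ a : A, w - algebraMap A A' a ∈ I.map (algebraMap A A'))
    {C : Type u} [CommRing C] [Algebra A C]
    (hjac : I.map (algebraMap A C) ≤ Ideal.jacobson ⊥) (φ₁ φ₂ : A' →ₐ[A] C) : φ₁ = φ₂ := by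
  apply Groth.Agent.Lib.Helper58.HenselPair.algHom_ext_of_sub_mem_jacobson _ hjac
  intro w
  obtain ⟨a, ha⟩ := hs w
  have hmap : ∀ φ : A' →ₐ[A] C, φ (w - algebraMap A A' a) ∈ I.map (algebraMap A C) := by
    intro φ
    have := Ideal.mem_map_of_mem φ.toRingHom ha
    rw [Ideal.map_map] at this
    have h3 : φ.toRingHom.comp (algebraMap A A') = algebraMap A C := by
      ext r; simp
    rwa [h3] at this
  have h1 := hmap φ₁
  have h2 := hmap φ₂
  rw [map_sub, AlgHom.commutes] at h1 h2
  have : φ₁ w - φ₂ w = (φ₁ w - algebraMap A C a) - (φ₂ w - algebraMap A C a) := by ring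
  rw [this]
  exact sub_mem h1 h2

/-- **Converse of S17592**: a henselization of `(A, I)` is a henselization of `(A', I A')` for
every étale neighbourhood `A'` mapping to it. -/
theorem isPairHenselization_nbhd {A' : Type u} [CommRing A'] [Algebra A A'] [Algebra.Etale A A']
    (hb : Function.Bijective
      (Ideal.quotientMap (I.map (algebraMap A A')) (algebraMap A A') Ideal.le_comap_map))
    {B : Type u} [CommRing B] [Algebra A B] [Algebra A' B] [IsScalarTower A A' B]
    (hB : Hens2.IsPairHenselization A I B) :
    Hens2.IsPairHenselization A' (I.map (algebraMap A A')) B := by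
  let _ : Algebra A (Hp A' (I.map (algebraMap A A'))) :=
    ((algebraMap A' (Hp A' (I.map (algebraMap A A')))).comp (algebraMap A A')).toAlgebra
  have _ : IsScalarTower A A' (Hp A' (I.map (algebraMap A A'))) :=
    IsScalarTower.of_algebraMap_eq (fun _ => rfl)
  have hH' := Hp.isPairHenselization A' (I.map (algebraMap A A'))
  have hH'A : Hens2.IsPairHenselization A I (Hp A' (I.map (algebraMap A A'))) :=
    Groth.Agent.S17592.result A I A' hb _ hH'
  obtain ⟨e⟩ := nonempty_algEquiv_of_isPairHenselization hB hH'A
  have hs := (quotMap_bijective_iff.1 hb).2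
  have hcomm : (e : B →ₐ[A] _).comp (IsScalarTower.toAlgHom A A' B) =
      IsScalarTower.toAlgHom A A' (Hp A' (I.map (algebraMap A A'))) :=
    algHom_ext_of_nbhd hs hH'A.1.jac _ _
  let e' : B ≃ₐ[A'] Hp A' (I.map (algebraMap A A')) :=
    { e with
      commutes' := fun x => DFunLike.congr_fun hcomm x }
  exact isPairHenselization_of_algEquiv e'.symm hH'

end Transport

section Colimit

variable {A : Type u} [CommRing A] {I : Ideal A}
variable {B : Type u} [CommRing B] [Algebra A B]

/-- (a) every étale neighbourhood of `(A, I)` maps uniquely to a henselization. -/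
theorem nonempty_unique_algHom_nbhd (hB : Hens2.IsPairHenselization A I B)
    (A' : Type u) [CommRing A'] [Algebra A A'] [Algebra.Etale A A']
    (hb : Function.Bijective
      (Ideal.quotientMap (I.map (algebraMap A A')) (algebraMap A A') Ideal.le_comap_map)) :
    Nonempty (Unique (A' →ₐ[A] B)) := by
  obtain ⟨σ, -⟩ := exists_pt_of_quotMap_bijective hb
  have := hB.1
  obtain ⟨τ, -⟩ := Groth.Agent.Lib.Helper58.HenselPair.exists_etale_lift_rel
    (I.map (algebraMap A B)) ((quotMap (I.map (algebraMap A B)) le_rfl).comp σ)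
  exact ⟨⟨⟨τ⟩, fun φ => algHom_ext_of_nbhd (quotMap_bijective_iff.1 hb).2 hB.1.jac _ _⟩⟩

/-- (b) every element of a henselization comes from an étale neighbourhood. -/
theorem exists_nbhd_of_mem (hB : Hens2.IsPairHenselization A I B) (x : B) :
    ∃ (A' : Type u) (_ : CommRing A') (_ : Algebra A A') (_ : Algebra.Etale A A'),
      Function.Bijective
        (Ideal.quotientMap (I.map (algebraMap A A')) (algebraMap A A') Ideal.le_comap_map) ∧
      ∃ (φ : A' →ₐ[A] B) (s : A'), φ s = x := by
  classical
  obtain ⟨e⟩ := nonempty_algEquiv_Hp hB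
  obtain ⟨k, hk, hz⟩ := Hp.exists_tight_stage_of_finset ({e x} : Finset (Hp A I))
  obtain ⟨z, hz⟩ := hz (e x) (Finset.mem_singleton_self _)
  refine ⟨k.E, inferInstance, inferInstance, inferInstance,
    quotMap_bijective_of_ker_eq k.pt hk,
    (e.symm : Hp A I →ₐ[A] B).comp ((Hp.of k).comp (IsScalarTower.toAlgHom A k.E k.L)), z, ?_⟩
  simp only [AlgHom.comp_apply, IsScalarTower.coe_toAlgHom']
  rw [hz]
  exact e.symm_apply_apply x

/-- (c) relations in a henselization die in a further étale neighbourhood. -/
theorem exists_nbhd_of_map_eq_zero (hB : Hens2.IsPairHenselization A I B)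
    (A' : Type u) [CommRing A'] [Algebra A A'] [Algebra.Etale A A']
    (hb : Function.Bijective
      (Ideal.quotientMap (I.map (algebraMap A A')) (algebraMap A A') Ideal.le_comap_map))
    (φ : A' →ₐ[A] B) (s : A') (hs : φ s = 0) :
    ∃ (A'' : Type u) (_ : CommRing A'') (_ : Algebra A A'') (_ : Algebra.Etale A A''),
      Function.Bijective
        (Ideal.quotientMap (I.map (algebraMap A A'')) (algebraMap A A'') Ideal.le_comap_map) ∧
      ∃ ψ : A' →ₐ[A] A'', ψ s = 0 := by
  classical
  let _ : Algebra A' B := φ.toRingHom.toAlgebra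
  have _ : IsScalarTower A A' B := IsScalarTower.of_algebraMap_eq (fun a => (φ.commutes a).symm)
  have hB' := isPairHenselization_nbhd hb hB
  obtain ⟨e'⟩ := nonempty_algEquiv_Hp hB'
  have h0 : algebraMap A' (Hp A' (I.map (algebraMap A A'))) s = 0 := by
    rw [← e'.commutes]
    change e' (φ s) = 0
    rw [hs, map_zero]
  obtain ⟨i₀⟩ := (inferInstance : Nonempty (Idx A' (I.map (algebraMap A A'))))
  have h1 : Hp.of i₀ (algebraMap A' i₀.L s) = 0 := by
    rw [AlgHom.commutes]; exact h0
  obtain ⟨k, hik, h2⟩ := (Hp.of_eq_zero_iff _).1 h1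
  rw [AlgHom.commutes, IsScalarTower.algebraMap_apply A' k.E k.L,
    IsLocalization.map_eq_zero_iff (unitSub k.pt)] at h2
  obtain ⟨d, hd⟩ := h2
  obtain ⟨E', _, _, _, g, σ', -, hgd, hker⟩ := exists_tight_nbhd k.pt (d : k.E) d.2
  let _ : Algebra A E' := ((algebraMap A' E').comp (algebraMap A A')).toAlgebra
  have _ : IsScalarTower A A' E' := IsScalarTower.of_algebraMap_eq (fun _ => rfl)
  have _ : Algebra.Etale A E' := Algebra.Etale.comp A A' E'
  refine ⟨E', inferInstance, inferInstance, inferInstance,
    quotMap_bijective_trans hb (quotMap_bijective_of_ker_eq σ' hker),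
    IsScalarTower.toAlgHom A A' E', ?_⟩
  rw [IsScalarTower.coe_toAlgHom', ← g.commutes]
  have h3 : g (d : k.E) * g (algebraMap A' k.E s) = 0 := by
    rw [← map_mul, hd, map_zero]
  exact (hgd.mul_right_eq_zero).1 h3

end Colimit

end Groth.Agent.Lib.Helper58.PairHens
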