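import Mathlib
import Groth.Prelude.Def_Hens2
import Groth.Agent.Lib.Helper58.PairHensNbhd

set_option autoImplicit false
universe u

namespace Groth.Agent.Lib.Helper58.PairHens

section Quot

variable {R : Type u} [CommRing R] {J : Ideal R} {H : Type u} [CommRing H] [Algebra R H]

/-- **Henselization commutes with quotients** (general form): if `H` is a henselization of
`(R, J)`, `π : R → R'` is surjective, `φ : H → B'` is surjective with kernel `(ker π) H` and `B'`
is an `R'`-algebra compatibly, then `B'` is a henselization of `(R', J R')`. -/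
theorem isPairHenselization_of_surjective (hH : Hens2.IsPairHenselization R J H)
    {R' : Type u} [CommRing R'] (π : R →+* R') (hπ : Function.Surjective π)
    {B' : Type u} [CommRing B'] [Algebra R' B'] (φ : H →+* B') (hφ : Function.Surjective φ)
    (hker : RingHom.ker φ = (RingHom.ker π).map (algebraMap R H))
    (hcomm : (algebraMap R' B').comp π = φ.comp (algebraMap R H)) :
    Hens2.IsPairHenselization R' (J.map π) B' := by
  refine ⟨?_, ?_⟩
  · let _ : Algebra H B' := φ.toAlgebra
    have hint : Algebra.IsIntegral H B' := Algebra.isIntegral_of_surjective hφ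
    have h1 := hH.1
    have h2 := Groth.Agent.Lib.Helper58.HenselPair.henselian_of_isIntegral
      (A := H) (I := J.map (algebraMap R H)) B'
    rw [Ideal.map_map] at h2
    have h3 : (algebraMap H B').comp (algebraMap R H) = (algebraMap R' B').comp π := hcomm.symm
    rw [h3, ← Ideal.map_map] at h2
    exact h2
  · intro C _ JC f hC hf
    have hf' : J.map (f.comp π) ≤ JC := by rw [← Ideal.map_map]; exact hf
    obtain ⟨g, hg, hu⟩ := hH.2 C JC (f.comp π) hC hf'
    have hgker : RingHom.ker φ ≤ RingHom.ker g := by
      rw [hker, Ideal.map_le_iff_le_comap]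
      intro x hx
      rw [Ideal.mem_comap, RingHom.mem_ker]
      have : g (algebraMap R H x) = f (π x) := congrArg (fun ρ : R →+* C => ρ x) hg
      rw [this, (RingHom.mem_ker).1 hx, map_zero]
    refine ⟨RingHom.liftOfSurjective φ hφ ⟨g, hgker⟩, ?_, ?_⟩
    · apply RingHom.ext
      intro r'
      obtain ⟨r, rfl⟩ := hπ r'
      have h1 : algebraMap R' B' (π r) = φ (algebraMap R H r) :=
        congrArg (fun ρ : R →+* B' => ρ r) hcomm
      rw [RingHom.comp_apply, h1, RingHom.liftOfSurjective_comp_apply]
      exact congrArg (fun ρ : R →+* C => ρ r) hg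
    · intro g' hg'
      have := hu (g'.comp φ) (by
        show (g'.comp φ).comp (algebraMap R H) = f.comp π
        rw [RingHom.comp_assoc, ← hcomm, ← RingHom.comp_assoc, hg'])
      apply RingHom.ext
      intro b'
      obtain ⟨h, rfl⟩ := hφ b'
      rw [RingHom.liftOfSurjective_comp_apply]
      exact congrArg (fun ρ : H →+* C => ρ h) this

/-- **Henselization commutes with quotients**: `H / K H` is a henselization of `(R/K, J (R/K))`. -/
theorem isPairHenselization_quotient (hH : Hens2.IsPairHenselization R J H) (K : Ideal R) :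
    Hens2.IsPairHenselization (R ⧸ K) (J.map (Ideal.Quotient.mk K))
      (H ⧸ K.map (algebraMap R H)) := by
  apply isPairHenselization_of_surjective hH (Ideal.Quotient.mk K) Ideal.Quotient.mk_surjective
    (Ideal.Quotient.mk (K.map (algebraMap R H))) Ideal.Quotient.mk_surjective
  · rw [Ideal.mk_ker, Ideal.mk_ker]
  · rfl

end Quot

section FinsetNbhd

variable {A : Type u} [CommRing A] {I : Ideal A}
variable {B : Type u} [CommRing B] [Algebra A B]

/-- every finite subset of a henselization comes from an étale neighbourhood. -/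
theorem exists_nbhd_of_finset (hB : Hens2.IsPairHenselization A I B) (s : Finset B) :
    ∃ (A' : Type u) (_ : CommRing A') (_ : Algebra A A') (_ : Algebra.Etale A A'),
      Function.Bijective
        (Ideal.quotientMap (I.map (algebraMap A A')) (algebraMap A A') Ideal.le_comap_map) ∧
      ∃ (φ : A' →ₐ[A] B), ∀ x ∈ s, x ∈ Set.range φ := by
  classical
  obtain ⟨e⟩ := nonempty_algEquiv_Hp hB
  obtain ⟨k, hk, hz⟩ := Hp.exists_tight_stage_of_finset (s.image e)
  refine ⟨k.E, inferInstance, inferInstance, inferInstance,
    quotMap_bijective_of_ker_eq k.pt hk,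
    (e.symm : Hp A I →ₐ[A] B).comp ((Hp.of k).comp (IsScalarTower.toAlgHom A k.E k.L)), ?_⟩
  intro x hx
  obtain ⟨z, hz⟩ := hz (e x) (Finset.mem_image_of_mem _ hx)
  refine ⟨z, ?_⟩
  simp only [AlgHom.comp_apply, IsScalarTower.coe_toAlgHom']
  rw [hz]
  exact e.symm_apply_apply x

end FinsetNbhd

end Groth.Agent.Lib.Helper58.PairHens
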