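import Mathlib

set_option autoImplicit false

namespace Groth.Agent.Lib.Helper58.SchemeIdem

open AlgebraicGeometry CategoryTheory TopologicalSpace Opposite

universe u

variable {X : Scheme.{u}}

/-- A global section whose non-vanishing locus is everything is a unit. -/
theorem isUnit_of_basicOpen_eq_top (f : Γ(X, ⊤)) (h : X.basicOpen f = ⊤) : IsUnit f := by
  apply X.toRingedSpace.isUnit_of_isUnit_germ ⊤ f
  intro x hx
  have : x ∈ X.basicOpen f := by rw [h]; trivial
  exact (X.mem_basicOpen f x hx).mp this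

theorem basicOpen_sup_one_sub (e : Γ(X, ⊤)) : X.basicOpen e ⊔ X.basicOpen (1 - e) = ⊤ := by
  rw [eq_top_iff]
  have := X.basicOpen_add_le e (1 - e)
  rw [add_sub_cancel, Scheme.basicOpen_one] at this
  exact this

theorem basicOpen_inf_one_sub (e : Γ(X, ⊤)) (he : IsIdempotentElem e) :
    X.basicOpen e ⊓ X.basicOpen (1 - e) = ⊥ := by
  rw [← Scheme.basicOpen_mul, mul_sub, mul_one, he.eq, sub_self, Scheme.basicOpen_zero]

theorem coe_basicOpen_one_sub (e : Γ(X, ⊤)) (he : IsIdempotentElem e) :
    (X.basicOpen (1 - e) : Set X) = (X.basicOpen e : Set X)ᶜ := by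
  have h1 := congrArg (fun U : X.Opens => (U : Set X)) (basicOpen_sup_one_sub e)
  have h2 := congrArg (fun U : X.Opens => (U : Set X)) (basicOpen_inf_one_sub e he)
  simp only [Opens.coe_sup, Opens.coe_inf, Opens.coe_top, Opens.coe_bot] at h1 h2
  ext x
  constructor
  · intro hx hx'
    have : x ∈ (∅ : Set X) := by rw [← h2]; exact ⟨hx', hx⟩
    exact this
  · intro hx
    have : x ∈ (X.basicOpen e : Set X) ∪ (X.basicOpen (1 - e) : Set X) := by rw [h1]; trivial
    exact this.resolve_left hx

/-- The non-vanishing locus of an idempotent is clopen. -/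
theorem isClopen_basicOpen (e : Γ(X, ⊤)) (he : IsIdempotentElem e) :
    IsClopen (X.basicOpen e : Set X) := by
  refine ⟨?_, (X.basicOpen e).2⟩
  rw [← isOpen_compl_iff, ← coe_basicOpen_one_sub e he]
  exact (X.basicOpen (1 - e)).2

/-- An idempotent with empty non-vanishing locus is zero. -/
theorem eq_zero_of_basicOpen_eq_bot (e : Γ(X, ⊤)) (he : IsIdempotentElem e)
    (h : X.basicOpen e = ⊥) : e = 0 := by
  have h1 : X.basicOpen (1 - e) = ⊤ := by
    have := basicOpen_sup_one_sub e
    rwa [h, bot_sup_eq] at this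
  have hu := isUnit_of_basicOpen_eq_top _ h1
  have : e * (1 - e) = 0 := by rw [mul_sub, mul_one, he.eq, sub_self]
  exact (hu.mul_left_eq_zero).mp this

/-- Idempotents are determined by their non-vanishing loci. -/
theorem eq_of_basicOpen_eq {e e' : Γ(X, ⊤)} (he : IsIdempotentElem e) (he' : IsIdempotentElem e')
    (h : X.basicOpen e = X.basicOpen e') : e = e' := by
  have key : ∀ a b : Γ(X, ⊤), IsIdempotentElem a → IsIdempotentElem b →
      X.basicOpen a = X.basicOpen b → a * (1 - b) = 0 := by
    intro a b ha hb hab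
    apply eq_zero_of_basicOpen_eq_bot
    · exact ha.mul hb.one_sub
    · rw [Scheme.basicOpen_mul, hab, basicOpen_inf_one_sub b hb]
  have h1 := key e e' he he' h
  have h2 := key e' e he' he h.symm
  rw [mul_sub, mul_one, sub_eq_zero] at h1 h2
  calc e = e * e' := h1
    _ = e' * e := mul_comm _ _
    _ = e' := h2.symm


/-- Sections over an empty open are all equal. -/
theorem subsingleton_of_eq_bot {W : X.Opens} (hW : W = ⊥) : Subsingleton Γ(X, W) := by
  subst hW; infer_instance

/-- Every clopen subset of a scheme is the non-vanishing locus of an idempotent global section. -/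
theorem exists_idem_basicOpen_eq (U : Set X) (hU : IsClopen U) :
    ∃ e : Γ(X, ⊤), IsIdempotentElem e ∧ (X.basicOpen e : Set X) = U := by
  let U₁ : X.Opens := ⟨U, hU.2⟩
  let U₂ : X.Opens := ⟨Uᶜ, hU.1.isOpen_compl⟩
  let V : Bool → X.Opens := fun b => match b with
    | true => U₁
    | false => U₂
  let sf : ∀ b : Bool, ToType (X.sheaf.1.obj (op (V b))) := fun b => match b with
    | true => (1 : Γ(X, U₁))
    | false => (0 : Γ(X, U₂))
  have hinf : U₁ ⊓ U₂ = ⊥ := by
    ext x; simp [U₁, U₂]
  have hcompat : TopCat.Presheaf.IsCompatible X.sheaf.1 V sf := by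
    intro i j
    match i, j with
    | true, true => rfl
    | false, false => rfl
    | true, false =>
      have : Subsingleton Γ(X, V true ⊓ V false) := subsingleton_of_eq_bot hinf
      exact this.elim _ _
    | false, true =>
      have : Subsingleton Γ(X, V false ⊓ V true) :=
        subsingleton_of_eq_bot (by rw [inf_comm]; exact hinf)
      exact this.elim _ _
  have hcover : (⊤ : X.Opens) ≤ iSup V := by
    intro x _
    rw [Opens.mem_iSup]
    by_cases hx : x ∈ U
    · exact ⟨true, hx⟩
    · exact ⟨false, hx⟩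
  obtain ⟨e, he, -⟩ : ∃! e : Γ(X, ⊤), ∀ b : Bool,
      X.presheaf.map (homOfLE (le_top : V b ≤ ⊤)).op e = sf b :=
    X.sheaf.existsUnique_gluing' V ⊤ (fun b => homOfLE le_top) hcover sf hcompat
  have he1 : X.presheaf.map (homOfLE (le_top : U₁ ≤ ⊤)).op e = 1 := he true
  have he2 : X.presheaf.map (homOfLE (le_top : U₂ ≤ ⊤)).op e = 0 := he false
  have hidem : IsIdempotentElem e := by
    apply X.sheaf.eq_of_locally_eq' V ⊤ (fun b => homOfLE le_top) hcover
    intro b
    match b with
    | true =>
      change X.presheaf.map (homOfLE (le_top : U₁ ≤ ⊤)).op (e * e) =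
        X.presheaf.map (homOfLE (le_top : U₁ ≤ ⊤)).op e
      rw [map_mul, he1, mul_one]
    | false =>
      change X.presheaf.map (homOfLE (le_top : U₂ ≤ ⊤)).op (e * e) =
        X.presheaf.map (homOfLE (le_top : U₂ ≤ ⊤)).op e
      rw [map_mul, he2, mul_zero]
  refine ⟨e, hidem, ?_⟩
  have h1 : U₁ ⊓ X.basicOpen e = U₁ := by
    rw [← Scheme.basicOpen_res X e (homOfLE (le_top : U₁ ≤ ⊤)).op, he1, Scheme.basicOpen_one]
  have h2 : U₂ ⊓ X.basicOpen e = ⊥ := by
    rw [← Scheme.basicOpen_res X e (homOfLE (le_top : U₂ ≤ ⊤)).op, he2, Scheme.basicOpen_zero]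
  ext x
  constructor
  · intro hx
    by_contra hxU
    have : x ∈ U₂ ⊓ X.basicOpen e := ⟨hxU, hx⟩
    rw [h2] at this
    exact this
  · intro hx
    have : x ∈ U₁ ⊓ X.basicOpen e := by rw [h1]; exact hx
    exact this.2

end Groth.Agent.Lib.Helper58.SchemeIdem
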