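import Mathlib

/-!
# Lifting étale algebras along a quotient map (Stacks 04D1)
-/

set_option autoImplicit false

namespace Groth.Agent.Lib.Helper58.EtaleLift

universe u

open MvPolynomial

/-- **Stacks 04D1**: an étale `A/I`-algebra `C` lifts to an étale `A`-algebra `E` with
`E / I E ≃ C`. -/
theorem exists_etale_lift_quotient {A : Type u} [CommRing A] (I : Ideal A) (C : Type u)
    [CommRing C] [Algebra (A ⧸ I) C] [Algebra A C] [IsScalarTower A (A ⧸ I) C]
    [Algebra.Etale (A ⧸ I) C] :
    ∃ (E : Type u) (_ : CommRing E) (_ : Algebra A E), Algebra.Etale A E ∧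
      ∃ π : E →ₐ[A] C, Function.Surjective π ∧
        ∀ z : E, π z = 0 → z ∈ I.map (algebraMap A E) := by
  classical
  have hss : Algebra.IsStandardSmoothOfRelativeDimension 0 (A ⧸ I) C :=
    Algebra.Etale.iff_isStandardSmoothOfRelativeDimension_zero.mp inferInstance
  obtain ⟨V, W, hW, hV, P, hdim⟩ := hss.out
  let _ : Fintype W := Fintype.ofFinite W
  let _ : Fintype V := Fintype.ofFinite V
  have hsurj : Function.Surjective (MvPolynomial.map (Ideal.Quotient.mk I) :
      MvPolynomial V A → MvPolynomial V (A ⧸ I)) :=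
    MvPolynomial.map_surjective _ Ideal.Quotient.mk_surjective
  choose f hf using fun w => hsurj (P.relation w)
  let Bq := MvPolynomial V A ⧸ Ideal.span (Set.range f)
  let Pres : Algebra.PreSubmersivePresentation A Bq V W :=
    Algebra.PreSubmersivePresentation.naive (v := f) P.map P.map_inj
  have hEt : Algebra.Etale A (Localization.Away Pres.jacobian) := by
    let Δ := Pres.jacobian
    have hΔ : IsUnit (algebraMap _ (Localization.Away Δ) Δ) :=
      IsLocalization.Away.algebraMap_isUnit _
    let Q : Algebra.SubmersivePresentation A (Localization.Away Δ) _ _ :=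
      { toPreSubmersivePresentation :=
          .comp (.localizationAway (Localization.Away Δ) Δ) Pres,
        jacobian_isUnit := by simpa [Algebra.smul_def, -isUnit_map_iff] using ⟨hΔ, hΔ⟩ }
    have : Algebra.IsStandardSmoothOfRelativeDimension 0 A (Localization.Away Δ) :=
      ⟨_, _, _, inferInstance, Q, by
        simp only [Algebra.PreSubmersivePresentation.dimension_comp_eq_dimension_add_dimension, Q]
        have : Pres.dimension = 0 := hdim
        rw [this, add_zero]
        simp [Algebra.Presentation.dimension]⟩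
    infer_instance
  -- the map to `C`
  let mkI : MvPolynomial V A →+* MvPolynomial V (A ⧸ I) := MvPolynomial.map (Ideal.Quotient.mk I)
  let π₀ : MvPolynomial V A →ₐ[A] C := MvPolynomial.aeval P.val
  have hπ₀ : ∀ x, π₀ x = MvPolynomial.aeval P.val (mkI x) := by
    intro x
    exact (MvPolynomial.aeval_map_algebraMap (A ⧸ I) P.val x).symm
  have hπ₀f : ∀ w, π₀ (f w) = 0 := by
    intro w
    rw [hπ₀]
    change MvPolynomial.aeval P.val (MvPolynomial.map (Ideal.Quotient.mk I) (f w)) = 0
    rw [hf, P.aeval_val_relation]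
  have hπ₀surj : Function.Surjective π₀ := by
    intro c
    obtain ⟨y, hy⟩ := P.algebraMap_surjective c
    obtain ⟨x, rfl⟩ := hsurj y
    refine ⟨x, ?_⟩
    rw [hπ₀, ← hy, Algebra.Generators.algebraMap_apply]
  -- kernel of `π₀`
  have hkerπ₀ : ∀ x, π₀ x = 0 → x ∈ Ideal.span (Set.range f) ⊔
      I.map (MvPolynomial.C : A →+* MvPolynomial V A) := by
    intro x hx
    rw [hπ₀] at hx
    have h1 : mkI x ∈ P.ker := by
      rw [P.ker_eq_ker_aeval_val]
      exact hx
    rw [← P.span_range_relation_eq_ker] at h1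
    have h2 : Ideal.span (Set.range P.relation) = (Ideal.span (Set.range f)).map mkI := by
      rw [Ideal.map_span, ← Set.range_comp]
      congr 2
      funext w
      exact (hf w).symm
    rw [h2] at h1
    obtain ⟨y, hy, hyx⟩ := (Ideal.mem_map_iff_of_surjective mkI hsurj).mp h1
    have h3 : x - y ∈ I.map (MvPolynomial.C : A →+* MvPolynomial V A) := by
      rw [← Ideal.mk_ker (I := I), ← MvPolynomial.ker_map, RingHom.mem_ker, map_sub]
      change mkI x - mkI y = 0
      rw [hyx, sub_self]
    have : x = y + (x - y) := by ring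
    rw [this]
    exact Ideal.add_mem _ (Ideal.mem_sup_left hy) (Ideal.mem_sup_right h3)
  have hker : ∀ x ∈ Ideal.span (Set.range f), π₀ x = 0 := by
    intro x hx
    have : Ideal.span (Set.range f) ≤ RingHom.ker π₀.toRingHom := by
      rw [Ideal.span_le]
      rintro _ ⟨w, rfl⟩
      exact hπ₀f w
    exact this hx
  let π₁ : Bq →ₐ[A] C := Ideal.Quotient.liftₐ _ π₀ hker
  have hπ₁ : ∀ x, π₁ (Ideal.Quotient.mk _ x) = π₀ x := fun x => rfl
  have hπ₁surj : Function.Surjective π₁ := by
    intro c
    obtain ⟨x, rfl⟩ := hπ₀surj c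
    exact ⟨Ideal.Quotient.mk _ x, rfl⟩
  have hkerπ₁ : ∀ b : Bq, π₁ b = 0 → b ∈ I.map (algebraMap A Bq) := by
    intro b hb
    obtain ⟨x, rfl⟩ := Ideal.Quotient.mk_surjective b
    rw [hπ₁] at hb
    obtain ⟨y, hy, z, hz, rfl⟩ := Submodule.mem_sup.mp (hkerπ₀ x hb)
    rw [map_add, Ideal.Quotient.eq_zero_iff_mem.mpr hy, zero_add]
    have := Ideal.mem_map_of_mem (Ideal.Quotient.mk (Ideal.span (Set.range f))) hz
    rw [Ideal.map_map] at this
    exact this
  -- the jacobian maps to the jacobian
  have hjac : π₁ Pres.jacobian = P.jacobian := by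
    rw [Algebra.PreSubmersivePresentation.jacobian_eq_jacobiMatrix_det,
      Algebra.PreSubmersivePresentation.jacobian_eq_jacobiMatrix_det]
    have h1 : algebraMap Pres.Ring Bq Pres.jacobiMatrix.det =
        Ideal.Quotient.mk _ Pres.jacobiMatrix.det := rfl
    rw [h1, hπ₁, hπ₀, Algebra.Generators.algebraMap_apply]
    congr 1
    change mkI Pres.jacobiMatrix.det = _
    rw [RingHom.map_det]
    congr 1
    refine Matrix.ext fun i j => ?_
    rw [RingHom.mapMatrix_apply, Matrix.map_apply,
      Algebra.PreSubmersivePresentation.jacobiMatrix_naive,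
      Algebra.PreSubmersivePresentation.jacobiMatrix_apply]
    change MvPolynomial.map (Ideal.Quotient.mk I) _ = _
    rw [← MvPolynomial.pderiv_map, hf]
  have hunit : IsUnit (π₁ Pres.jacobian) := by
    rw [hjac]
    exact P.jacobian_isUnit
  let π : Localization.Away Pres.jacobian →ₐ[A] C :=
    IsLocalization.Away.liftAlgHom (A := A) (f := π₁) Pres.jacobian hunit
  have hπ : ∀ b : Bq, π (algebraMap Bq _ b) = π₁ b := by
    intro b
    rw [IsLocalization.Away.liftAlgHom_apply]
    exact IsLocalization.Away.lift_eq _ _ _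
  refine ⟨Localization.Away Pres.jacobian, inferInstance, inferInstance, hEt, π, ?_, ?_⟩
  · intro c
    obtain ⟨b, rfl⟩ := hπ₁surj c
    exact ⟨algebraMap Bq _ b, hπ b⟩
  · intro z hz
    obtain ⟨b, ⟨_, n, rfl⟩, rfl⟩ := IsLocalization.exists_mk'_eq (Submonoid.powers Pres.jacobian) z
    have h1 : π (algebraMap Bq _ b) = 0 := by
      have := IsLocalization.mk'_spec (Localization.Away Pres.jacobian) b
        (⟨Pres.jacobian ^ n, n, rfl⟩ : Submonoid.powers Pres.jacobian)
      rw [← this, map_mul, hz, zero_mul]
    rw [hπ] at h1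
    have h2 := hkerπ₁ b h1
    have h3 : algebraMap Bq (Localization.Away Pres.jacobian) b ∈
        I.map (algebraMap A (Localization.Away Pres.jacobian)) := by
      have := Ideal.mem_map_of_mem (algebraMap Bq (Localization.Away Pres.jacobian)) h2
      rw [Ideal.map_map, ← IsScalarTower.algebraMap_eq] at this
      exact this
    rw [IsLocalization.mk'_eq_mul_mk'_one]
    exact Ideal.mul_mem_right _ _ h3

end Groth.Agent.Lib.Helper58.EtaleLift
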