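import Mathlib
import Groth.Agent.Lib.Helper58.HenselPair

set_option autoImplicit false

namespace Groth.Agent.Lib.Helper58.HenselPair

open Polynomial

universe u v w

/-- **Idempotent lifting in a possibly noncommutative algebra over a henselian pair.**
Let `(R, I)` be henselian, `Φ : E → E'` an `R`-algebra map to an `R/I`-algebra, and `a₀ : E` with
`Φ a₀` idempotent such that `a₀² - a₀` is killed by a monic polynomial congruent to `X^m` modulo `I`
(e.g. the characteristic polynomial of an endomorphism reducing to zero). Then `Φ a₀` lifts to an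
idempotent of `E` (which is a polynomial in `a₀`). -/
theorem exists_idempotent_lift_of_aeval_eq_zero {R : Type u} [CommRing R] (I : Ideal R)
    [HenselianRing R I] {E : Type v} [Ring E] [Algebra R E] {E' : Type w} [Ring E']
    [Algebra R E'] [Algebra (R ⧸ I) E'] [IsScalarTower R (R ⧸ I) E'] (Φ : E →ₐ[R] E') (a₀ : E)
    (hidem : IsIdempotentElem (Φ a₀)) (F₀ : R[X]) (hF₀ : F₀.Monic) (m : ℕ)
    (hF₀map : F₀.map (Ideal.Quotient.mk I) = X ^ m)
    (hF₀a : aeval (a₀ * a₀ - a₀) F₀ = 0) :
    ∃ ε : E, IsIdempotentElem ε ∧ Φ ε = Φ a₀ := by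
  classical
  rcases subsingleton_or_nontrivial R with hR | hR
  · have : Subsingleton E := by
      refine subsingleton_of_zero_eq_one ?_
      rw [← map_zero (algebraMap R E), ← map_one (algebraMap R E), Subsingleton.elim (0 : R) 1]
    exact ⟨a₀, Subsingleton.elim _ _, rfl⟩
  set G : R[X] := (X * F₀).comp (X ^ 2 - X) with hG
  have hq : (X ^ 2 - X : R[X]) = X * (X - C 1) := by simp; ring
  have hqm : (X ^ 2 - X : R[X]).Monic := by
    rw [hq]; exact monic_X.mul (monic_X_sub_C 1)
  have hqdeg : (X ^ 2 - X : R[X]).natDegree ≠ 0 := by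
    rw [natDegree_sub_eq_left_of_natDegree_lt] <;> simp
  have hGm : G.Monic := (monic_X.mul hF₀).comp hqm hqdeg
  have hGa : aeval a₀ G = 0 := by
    rw [hG, aeval_comp]
    have : aeval a₀ (X ^ 2 - X : R[X]) = a₀ * a₀ - a₀ := by simp [pow_two]
    rw [this, map_mul, hF₀a, mul_zero]
  have hGmap : G.map (Ideal.Quotient.mk I) = X ^ (m + 1) * (X - 1) ^ (m + 1) := by
    rw [hG, map_comp, Polynomial.map_mul, hF₀map, Polynomial.map_X, Polynomial.map_sub,
      Polynomial.map_pow, Polynomial.map_X]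
    simp only [mul_comp, X_comp, pow_comp]
    have : (X ^ 2 - X : (R ⧸ I)[X]) = X * (X - 1) := by ring
    rw [this, ← pow_succ', mul_pow]
  have hcop : IsCoprime ((X : (R ⧸ I)[X]) ^ (m + 1)) ((X - 1) ^ (m + 1)) :=
    IsCoprime.pow ⟨1, -1, by ring⟩
  have hm2 : ((X - 1 : (R ⧸ I)[X]) ^ (m + 1)).Monic := by
    have := (monic_X_sub_C (1 : R ⧸ I)).pow (m + 1)
    rwa [C_1] at this
  obtain ⟨G₁, G₂, -, -, hfac, hG₁, hG₂, U, V, hUV⟩ :=
    exists_factor_lift (I := I) G hGm (X ^ (m + 1)) ((X - 1) ^ (m + 1)) (monic_X_pow _)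
      hm2 hcop hGmap
  refine ⟨aeval a₀ (U * G₁), ?_, ?_⟩
  · -- idempotent
    have h1 : aeval a₀ (U * G₁) + aeval a₀ (V * G₂) = 1 := by
      rw [← map_add, hUV, map_one]
    have h2 : aeval a₀ (U * G₁) * aeval a₀ (V * G₂) = 0 := by
      rw [← map_mul]
      have : U * G₁ * (V * G₂) = U * V * G := by rw [hfac]; ring
      rw [this, map_mul, hGa, mul_zero]
    have h3 : aeval a₀ (V * G₂) = 1 - aeval a₀ (U * G₁) := by rw [← h1]; abel
    rw [h3, mul_sub, mul_one, sub_eq_zero] at h2
    exact h2.symm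
  · -- reduction
    set e := Φ a₀ with he
    have hΦ : Φ (aeval a₀ (U * G₁)) = aeval e (U * G₁) := (aeval_algHom_apply Φ a₀ _).symm
    rw [hΦ]
    have hmap : ∀ p : R[X], aeval e p = aeval e (p.map (Ideal.Quotient.mk I)) := fun p => by
      have := aeval_map_algebraMap (R ⧸ I) e p
      rw [← this]
      rfl
    have hpow : ∀ k : ℕ, e ^ (k + 1) = e := fun k => hidem.pow_succ_eq k
    set Ub := U.map (Ideal.Quotient.mk I) with hUb
    set Vb := V.map (Ideal.Quotient.mk I) with hVb
    have hid : aeval e (Ub * X ^ (m + 1)) + aeval e (Vb * (X - 1) ^ (m + 1)) = 1 := by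
      rw [← map_add, ← hG₁, ← hG₂, hUb, hVb, ← Polynomial.map_mul, ← Polynomial.map_mul,
        ← Polynomial.map_add, hUV, Polynomial.map_one, map_one]
    have hX1 : e * aeval e ((X - 1) ^ (m + 1) : (R ⧸ I)[X]) = 0 := by
      rw [map_pow, map_sub, aeval_X, map_one, pow_succ', ← mul_assoc, mul_sub, mul_one, hidem.eq,
        sub_self, zero_mul]
    have heA : e * aeval e (Ub * X ^ (m + 1)) = aeval e (Ub * X ^ (m + 1)) := by
      have h1 : e * aeval e (Ub * X ^ (m + 1)) = aeval e (X * (Ub * X ^ (m + 1))) := by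
        rw [map_mul _ X, aeval_X]
      have h2 : (X * (Ub * X ^ (m + 1)) : (R ⧸ I)[X]) = Ub * X ^ (m + 1 + 1) := by ring
      rw [h1, h2, map_mul, map_mul, map_pow, map_pow, aeval_X, hpow, hpow]
    have heB : e * aeval e (Vb * (X - 1) ^ (m + 1)) = 0 := by
      have h1 : e * aeval e (Vb * (X - 1) ^ (m + 1)) = aeval e (X * (Vb * (X - 1) ^ (m + 1))) := by
        rw [map_mul _ X, aeval_X]
      have h2 : (X * (Vb * (X - 1) ^ (m + 1)) : (R ⧸ I)[X]) = Vb * (X * (X - 1) ^ (m + 1)) := by
        ring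
      rw [h1, h2, map_mul, map_mul _ X, aeval_X, hX1, mul_zero]
    have hfin : aeval e (Ub * X ^ (m + 1)) = e := by
      have := congrArg (fun z => e * z) hid
      simp only [mul_add, heA, heB, add_zero, mul_one] at this
      exact this
    rw [hmap, Polynomial.map_mul, hG₁]
    exact hfin

end Groth.Agent.Lib.Helper58.HenselPair
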