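import Groth.Prelude.Def_W4stkschemesremainderFib
import Mathlib.AlgebraicGeometry.Fiber
import Mathlib.AlgebraicGeometry.Pullbacks
import Mathlib.AlgebraicGeometry.Limits
import Mathlib.AlgebraicGeometry.Morphisms.Flat
import Mathlib.LinearAlgebra.Dimension.Constructions
import Mathlib.RingTheory.TensorProduct.Finite
import Mathlib.Algebra.Category.Ring.Constructions
import Mathlib.RingTheory.ZariskisMainTheorem
import Mathlib.Algebra.Module.SpanRankOperations
import Mathlib.RingTheory.Unramified.LocalStructure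
import Mathlib.AlgebraicGeometry.Morphisms.QuasiFinite
import Mathlib.AlgebraicGeometry.Morphisms.Etale
import Mathlib.RingTheory.Artinian.Ring
import Mathlib.FieldTheory.IsAlgClosed.Basic
import Mathlib.RingTheory.Etale.Field
import Mathlib.AlgebraicGeometry.Morphisms.FlatRank
import Mathlib.FieldTheory.Tower
import Mathlib.RingTheory.LocalRing.ResidueField.Fiber
import Mathlib.LinearAlgebra.TensorProduct.RightExactness
import Mathlib.LinearAlgebra.Dimension.DivisionRing
import Mathlib.RingTheory.FiniteLength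
import Mathlib.AlgebraicGeometry.Noetherian
import Mathlib.AlgebraicGeometry.Morphisms.Immersion
import Mathlib.RingTheory.Spectrum.Prime.Noetherian

/-!
# Helper library for `BddFib` (degrees of fibres) — helper58
-/

set_option autoImplicit false
universe u
open CategoryTheory AlgebraicGeometry Limits TensorProduct

namespace Groth.Agent.Lib.Helper58.BddFibLib

/-- Ring-level version of "finite of degree ≤ n". -/
def RingFinDegLE {K A : Type u} [CommRing K] [CommRing A] (φ : K →+* A) (n : ℕ) : Prop :=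
  letI := φ.toAlgebra
  Module.Finite K A ∧ Module.finrank K A ≤ n

theorem finiteOfDegLE_iff {K : CommRingCat.{u}} {T : Scheme.{u}} (p : T ⟶ Spec K) (n : ℕ) :
    BddFib.FiniteOfDegLE K p n ↔
      IsAffine T ∧ RingFinDegLE ((Scheme.ΓSpecIso K).inv ≫ p.appTop).hom n :=
  Iff.rfl

theorem RingFinDegLE.of_ringEquiv {K A B : Type u} [CommRing K] [CommRing A] [CommRing B]
    {φ : K →+* A} {φ' : K →+* B} (e : A ≃+* B) (he : ∀ x, e (φ x) = φ' x) {n : ℕ}
    (h : RingFinDegLE φ n) : RingFinDegLE φ' n := by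
  let _ := φ.toAlgebra
  let _ := φ'.toAlgebra
  let l : A ≃ₗ[K] B :=
    { e with
      map_smul' := fun c x => by
        simp only [Algebra.smul_def, RingHom.id_apply]
        show e (φ c * x) = φ' c * e x
        rw [map_mul, he] }
  obtain ⟨h1, h2⟩ := h
  exact ⟨Module.Finite.equiv l, by rw [← l.finrank_eq]; exact h2⟩

theorem RingFinDegLE.iff_of_ringEquiv {K A B : Type u} [CommRing K] [CommRing A] [CommRing B]
    {φ : K →+* A} {φ' : K →+* B} (e : A ≃+* B) (he : ∀ x, e (φ x) = φ' x) {n : ℕ} :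
    RingFinDegLE φ n ↔ RingFinDegLE φ' n :=
  ⟨fun h => h.of_ringEquiv e he, fun h => h.of_ringEquiv e.symm (fun x => by
    rw [← he, RingEquiv.symm_apply_apply])⟩

theorem finite_baseChange_iff {K k A : Type u} [Field K] [Field k] [CommRing A]
    [Algebra K k] [Algebra K A] :
    Module.Finite k (k ⊗[K] A) ↔ Module.Finite K A := by
  constructor
  · intro h
    rw [← Module.rank_lt_aleph0_iff] at h ⊢
    rw [Module.rank_baseChange] at h
    simpa using h
  · intro h
    infer_instance

theorem ringFinDegLE_baseChange_iff {K k A : Type u} [Field K] [Field k] [CommRing A]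
    [Algebra K k] [Algebra K A] (n : ℕ) :
    RingFinDegLE (Algebra.TensorProduct.includeLeftRingHom : k →+* k ⊗[K] A) n ↔
      RingFinDegLE (algebraMap K A) n := by
  have e1 : (Algebra.TensorProduct.includeLeftRingHom : k →+* k ⊗[K] A).toAlgebra =
      Algebra.TensorProduct.leftAlgebra := Algebra.algebra_ext _ _ (fun r => rfl)
  have e2 : (algebraMap K A).toAlgebra = ‹Algebra K A› := Algebra.algebra_ext _ _ (fun r => rfl)
  unfold RingFinDegLE
  rw [e1, e2, finite_baseChange_iff, Module.finrank_baseChange]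


/-- iso invariance -/
theorem finiteOfDegLE_of_iso {K : CommRingCat.{u}} {T T' : Scheme.{u}} (e : T ≅ T')
    (p : T ⟶ Spec K) (p' : T' ⟶ Spec K) (h : e.hom ≫ p' = p) (n : ℕ)
    (hp : BddFib.FiniteOfDegLE K p' n) : BddFib.FiniteOfDegLE K p n := by
  rw [finiteOfDegLE_iff] at hp ⊢
  obtain ⟨h1, h2⟩ := hp
  refine ⟨IsAffine.of_isIso e.hom, ?_⟩
  refine h2.of_ringEquiv (Scheme.Γ.mapIso e.op).commRingCatIsoToRingEquiv ?_
  intro x
  subst h
  have : ((Scheme.ΓSpecIso K).inv ≫ p'.appTop) ≫ (Scheme.Γ.mapIso e.op).hom =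
      (Scheme.ΓSpecIso K).inv ≫ (e.hom ≫ p').appTop := by
    simp only [Scheme.Hom.appTop, Functor.mapIso_hom, Iso.op_hom, Scheme.Γ_map, Quiver.Hom.unop_op, Scheme.Hom.comp_app]
    exact Category.assoc _ _ _
  exact congr($this x)

theorem finiteOfDegLE_iff_of_iso {K : CommRingCat.{u}} {T T' : Scheme.{u}} (e : T ≅ T')
    (p : T ⟶ Spec K) (p' : T' ⟶ Spec K) (h : e.hom ≫ p' = p) (n : ℕ) :
    BddFib.FiniteOfDegLE K p n ↔ BddFib.FiniteOfDegLE K p' n :=
  ⟨finiteOfDegLE_of_iso e.symm p' p (by rw [← h]; simp) n, finiteOfDegLE_of_iso e p p' h n⟩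

theorem finiteOfDegLE_SpecMap_iff {K A : CommRingCat.{u}} (φ : K ⟶ A) (n : ℕ) :
    BddFib.FiniteOfDegLE K (Spec.map φ) n ↔ RingFinDegLE φ.hom n := by
  rw [finiteOfDegLE_iff]
  have : IsAffine (Spec A) := inferInstance
  simp only [this, true_and]
  refine RingFinDegLE.iff_of_ringEquiv (Scheme.ΓSpecIso A).commRingCatIsoToRingEquiv ?_
  intro x
  have : ((Scheme.ΓSpecIso K).inv ≫ (Spec.map φ).appTop) ≫ (Scheme.ΓSpecIso A).hom = φ := by
    rw [Category.assoc, Scheme.ΓSpecIso_naturality, Iso.inv_hom_id_assoc]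
  exact congr($this x)


theorem eq_isoSpec_hom_comp {K : CommRingCat.{u}} {T : Scheme.{u}} [IsAffine T] (p : T ⟶ Spec K) :
    p = T.isoSpec.hom ≫ Spec.map ((Scheme.ΓSpecIso K).inv ≫ p.appTop) := by
  rw [Spec.map_comp, Scheme.isoSpec_hom_naturality_assoc, Scheme.isoSpec_Spec_hom,
    ← Spec.map_comp, Iso.inv_hom_id, Spec.map_id, Category.comp_id]

/-- Main lemma: for an affine `T` over a field `K` and a field extension `K → k`, the base change
of `T` to `k` is finite of degree `≤ n` iff `T` is. -/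
theorem finiteOfDegLE_iff_of_isPullback {K k : Type u} [Field K] [Field k]
    (ψ : CommRingCat.of K ⟶ CommRingCat.of k) {T P : Scheme.{u}} [IsAffine T]
    (p : T ⟶ Spec (CommRingCat.of K)) (fst : P ⟶ T) (snd : P ⟶ Spec (CommRingCat.of k))
    (h : IsPullback fst snd p (Spec.map ψ)) (n : ℕ) :
    BddFib.FiniteOfDegLE (CommRingCat.of k) snd n ↔ BddFib.FiniteOfDegLE (CommRingCat.of K) p n := by
  let φ : CommRingCat.of K ⟶ Γ(T, ⊤) := (Scheme.ΓSpecIso (CommRingCat.of K)).inv ≫ p.appTop
  let _ : Algebra K Γ(T, ⊤) := φ.hom.toAlgebra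
  let _ : Algebra K k := ψ.hom.toAlgebra
  have hpo := CommRingCat.isPushout_tensorProduct K k Γ(T, ⊤)
  have hpb := (isPullback_SpecMap_of_isPushout _ _ _ _ hpo).flip
  have hp : p = T.isoSpec.hom ≫ Spec.map φ := eq_isoSpec_hom_comp p
  have hpb' : IsPullback
      (Spec.map (CommRingCat.ofHom (S := k ⊗[K] Γ(T, ⊤))
        Algebra.TensorProduct.includeRight.toRingHom) ≫ T.isoSpec.inv)
      (Spec.map (CommRingCat.ofHom (S := k ⊗[K] Γ(T, ⊤))
        Algebra.TensorProduct.includeLeftRingHom)) p (Spec.map ψ) := by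
    refine hpb.of_iso (Iso.refl _) T.isoSpec.symm (Iso.refl _) (Iso.refl _) ?_ ?_ ?_ ?_
    · simp
    · simp
    · rw [hp]; simp; rfl
    · simp; rfl
  let e := h.isoIsPullback _ _ hpb'
  rw [finiteOfDegLE_iff_of_iso e snd _ (h.isoIsPullback_hom_snd _ _ hpb') n,
    finiteOfDegLE_SpecMap_iff, finiteOfDegLE_iff]
  simp only [‹IsAffine T›, true_and]
  exact ringFinDegLE_baseChange_iff n


/-- Pullback of `f` along a field point `g : Spec k ⟶ Y` is the base change of the fibre over the
image point. -/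
theorem isPullback_fiber_of_field_point {X Y : Scheme.{u}} (f : X ⟶ Y) (k : Type u) [Field k]
    (g : Spec (CommRingCat.of k) ⟶ Y) :
    ∃ l : pullback f g ⟶ f.fiber (g (IsLocalRing.closedPoint k)),
      IsPullback l (pullback.snd f g) (f.fiberToSpecResidueField (g (IsLocalRing.closedPoint k)))
        (Spec.map (Scheme.descResidueField (Scheme.stalkClosedPointTo g))) := by
  set y := g (IsLocalRing.closedPoint k) with hy
  set ψ := Scheme.descResidueField (Scheme.stalkClosedPointTo g) with hψ
  have hg : Spec.map ψ ≫ Y.fromSpecResidueField y = g :=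
    Scheme.descResidueField_stalkClosedPointTo_fromSpecResidueField k Y g
  have key : ∀ g', g' = g → IsPullback (pullback.fst f g) (pullback.snd f g) f g' := by
    intro g' hg'; rw [hg']; exact IsPullback.of_hasPullback f g
  refine ⟨pullback.lift (pullback.fst f g) (pullback.snd f g ≫ Spec.map ψ)
    (by rw [pullback.condition, Category.assoc, hg]), ?_⟩
  refine IsPullback.of_right (h₁₂ := f.fiberι y) (h₂₂ := Y.fromSpecResidueField y) (v₁₃ := f) ?_ ?_
    (IsPullback.of_hasPullback f (Y.fromSpecResidueField y))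
  · have := key _ hg
    convert this using 1
    exact pullback.lift_fst _ _ _
  · exact pullback.lift_snd _ _ _

theorem finiteOfDegLE_pullback_snd_iff {X Y : Scheme.{u}} (f : X ⟶ Y) (n : ℕ)
    (k : Type u) [Field k] (g : Spec (CommRingCat.of k) ⟶ Y)
    [IsAffine (f.fiber (g (IsLocalRing.closedPoint k)))] :
    BddFib.FiniteOfDegLE (CommRingCat.of k) (pullback.snd f g) n ↔
      BddFib.FiniteOfDegLE (Y.residueField (g (IsLocalRing.closedPoint k)))
        (f.fiberToSpecResidueField (g (IsLocalRing.closedPoint k))) n := by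
  obtain ⟨l, hl⟩ := isPullback_fiber_of_field_point f k g
  exact finiteOfDegLE_iff_of_isPullback (K := Y.residueField (g (IsLocalRing.closedPoint k)))
    (Scheme.descResidueField (Scheme.stalkClosedPointTo g))
    (f.fiberToSpecResidueField (g (IsLocalRing.closedPoint k))) l (pullback.snd f g) hl n

theorem finiteOfDegLE_pullback_snd_of_fibreDegLE {X Y : Scheme.{u}} (f : X ⟶ Y) (n : ℕ)
    (hf : BddFib.FibreDegLE f n) (k : Type u) [Field k] (g : Spec (CommRingCat.of k) ⟶ Y) :
    BddFib.FiniteOfDegLE (CommRingCat.of k) (pullback.snd f g) n := by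
  have h1 := hf (g (IsLocalRing.closedPoint k))
  have : IsAffine (f.fiber (g (IsLocalRing.closedPoint k))) := h1.1
  exact (finiteOfDegLE_pullback_snd_iff f n k g).mpr h1


theorem card_primeSpectrum_le_finrank (k B : Type u) [Field k] [CommRing B] [Algebra k B]
    [Module.Finite k B] :
    Finite (PrimeSpectrum B) ∧ Nat.card (PrimeSpectrum B) ≤ Module.finrank k B := by
  have : IsArtinianRing B := IsArtinianRing.of_finite k B
  have hfin : Finite (PrimeSpectrum B) := inferInstance
  refine ⟨hfin, ?_⟩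
  have := Fintype.ofFinite (PrimeSpectrum B)
  rw [IsArtinianRing.finrank_eq_sum_primeSpectrum B k, Nat.card_eq_fintype_card, Fintype.card_eq_sum_ones]
  refine Finset.sum_le_sum fun p _ => ?_
  have : Module.Finite k (Localization.AtPrime p.asIdeal) :=
    Module.Finite.of_surjective (Algebra.algHom k B (Localization.AtPrime p.asIdeal)).toLinearMap
      (IsArtinianRing.localization_surjective p.asIdeal.primeCompl (Localization.AtPrime p.asIdeal))
  exact Module.finrank_pos

theorem ringFinDegLE_card {k B : Type u} [Field k] [CommRing B] (φ : k →+* B) (n : ℕ)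
    (h : RingFinDegLE φ n) : Finite (PrimeSpectrum B) ∧ Nat.card (PrimeSpectrum B) ≤ n := by
  let _ := φ.toAlgebra
  obtain ⟨h1, h2⟩ := h
  obtain ⟨h3, h4⟩ := card_primeSpectrum_le_finrank k B
  exact ⟨h3, h4.trans h2⟩

theorem card_le_of_finiteOfDegLE {k : Type u} [Field k] {P : Scheme.{u}}
    (q : P ⟶ Spec (CommRingCat.of k)) (n : ℕ) (h : BddFib.FiniteOfDegLE (CommRingCat.of k) q n) :
    Finite P ∧ Nat.card P ≤ n := by
  rw [finiteOfDegLE_iff] at h
  obtain ⟨h1, h2⟩ := h
  obtain ⟨h3, h4⟩ := ringFinDegLE_card _ n h2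
  let e : P ≃ PrimeSpectrum Γ(P, ⊤) := P.isoSpec.hom.homeomorph.toEquiv
  exact ⟨Finite.of_equiv _ e.symm, by rw [Nat.card_congr e]; exact h4⟩


theorem ringFinDegLE_one_of_surjective {K A : Type u} [Field K] [CommRing A] (φ : K →+* A)
    (hφ : Function.Surjective φ) : RingFinDegLE φ 1 := by
  let _ := φ.toAlgebra
  have hs : Function.Surjective (Algebra.linearMap K A) := hφ
  refine ⟨Module.Finite.of_surjective _ hs, ?_⟩
  have := LinearMap.finrank_range_le (Algebra.linearMap K A)
  rw [LinearMap.range_eq_top.mpr hs, finrank_top, Module.finrank_self] at this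
  exact this

theorem finiteOfDegLE_one_of_isImmersion {K : Type u} [Field K] {T : Scheme.{u}}
    (q : T ⟶ Spec (CommRingCat.of K)) [IsImmersion q] :
    BddFib.FiniteOfDegLE (CommRingCat.of K) q 1 := by
  have hcl : IsClosed (Set.range q) := by
    have : Subsingleton (Spec (CommRingCat.of K)) :=
      inferInstanceAs (Subsingleton (PrimeSpectrum K))
    rcases Set.eq_empty_or_nonempty (Set.range q) with h | ⟨x, hx⟩
    · rw [h]; exact isClosed_empty
    · have : Set.range q = Set.univ := by
        ext z; simp only [Set.mem_univ, iff_true]; rwa [Subsingleton.elim z x]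
      rw [this]; exact isClosed_univ
  have : IsClosedImmersion q := .of_isPreimmersion q hcl
  obtain ⟨h1, h2⟩ := IsClosedImmersion.isAffine_surjective_of_isAffine q
  rw [finiteOfDegLE_iff]
  refine ⟨h1, ringFinDegLE_one_of_surjective _ ?_⟩
  rw [CommRingCat.hom_comp, RingHom.coe_comp]
  exact h2.comp (ConcreteCategory.bijective_of_isIso _).2


theorem discrete_of_finiteOfDegLE {k : Type u} [Field k] {P : Scheme.{u}}
    (q : P ⟶ Spec (CommRingCat.of k)) (n : ℕ) (h : BddFib.FiniteOfDegLE (CommRingCat.of k) q n) :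
    DiscreteTopology P := by
  rw [finiteOfDegLE_iff] at h
  obtain ⟨h1, h2, -⟩ := h
  let _ : Algebra k Γ(P, ⊤) := ((Scheme.ΓSpecIso (CommRingCat.of k)).inv ≫ q.appTop).hom.toAlgebra
  have : Module.Finite k Γ(P, ⊤) := h2
  have : IsArtinianRing Γ(P, ⊤) := IsArtinianRing.of_finite k _
  have : DiscreteTopology (Spec Γ(P, ⊤)) :=
    inferInstanceAs (DiscreteTopology (PrimeSpectrum Γ(P, ⊤)))
  exact P.isoSpec.hom.homeomorph.symm.discreteTopology

theorem surjective_SpecMap_field {K k : Type u} [Field K] [Field k]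
    (ψ : CommRingCat.of K ⟶ CommRingCat.of k) : Surjective (Spec.map ψ) := by
  constructor
  intro x
  have : Subsingleton (Spec (CommRingCat.of K)) :=
    inferInstanceAs (Subsingleton (PrimeSpectrum K))
  have : Nonempty (Spec (CommRingCat.of k)) := inferInstanceAs (Nonempty (PrimeSpectrum k))
  exact ⟨Classical.arbitrary _, Subsingleton.elim _ _⟩

/-- Descent of affineness for finite discrete schemes along a field extension. -/
theorem isAffine_of_isPullback_field {K k : Type u} [Field K] [Field k]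
    (ψ : CommRingCat.of K ⟶ CommRingCat.of k) {T P : Scheme.{u}}
    (p : T ⟶ Spec (CommRingCat.of K)) (fst : P ⟶ T) (snd : P ⟶ Spec (CommRingCat.of k))
    (h : IsPullback fst snd p (Spec.map ψ)) [Finite P] [DiscreteTopology P] : IsAffine T := by
  have h1 : Flat fst := MorphismProperty.of_isPullback h.flip inferInstance
  have h2 : QuasiCompact fst := MorphismProperty.of_isPullback h.flip inferInstance
  have h3 : Surjective fst :=
    MorphismProperty.of_isPullback h.flip (surjective_SpecMap_field ψ)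
  have hq := Flat.isQuotientMap_of_surjective fst
  have : Finite T := Finite.of_surjective fst fst.surjective
  have : DiscreteTopology T := by
    rw [discreteTopology_iff_isOpen_singleton]
    intro a
    exact hq.isOpen_preimage.mp (isOpen_discrete _)
  infer_instance

/-- Descent version of the main lemma: no affineness assumption on `T`. -/
theorem finiteOfDegLE_of_isPullback_descent {K k : Type u} [Field K] [Field k]
    (ψ : CommRingCat.of K ⟶ CommRingCat.of k) {T P : Scheme.{u}}
    (p : T ⟶ Spec (CommRingCat.of K)) (fst : P ⟶ T) (snd : P ⟶ Spec (CommRingCat.of k))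
    (h : IsPullback fst snd p (Spec.map ψ)) (n : ℕ)
    (hP : BddFib.FiniteOfDegLE (CommRingCat.of k) snd n) :
    BddFib.FiniteOfDegLE (CommRingCat.of K) p n := by
  have := (card_le_of_finiteOfDegLE snd n hP).1
  have := discrete_of_finiteOfDegLE snd n hP
  have := isAffine_of_isPullback_field ψ p fst snd h
  exact (finiteOfDegLE_iff_of_isPullback ψ p fst snd h n).mp hP


theorem RingFinDegLE.of_injective {K A B : Type u} [Field K] [CommRing A] [CommRing B]
    {φ : K →+* A} {φ' : K →+* B} (ι : A →+* B) (hι : Function.Injective ι)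
    (he : ∀ x, ι (φ x) = φ' x) {n : ℕ} (h : RingFinDegLE φ' n) : RingFinDegLE φ n := by
  let _ := φ.toAlgebra
  let _ := φ'.toAlgebra
  let l : A →ₗ[K] B :=
    { ι with
      map_smul' := fun c x => by
        simp only [Algebra.smul_def, RingHom.id_apply]
        show ι (φ c * x) = φ' c * ι x
        rw [map_mul, he] }
  have hl : Function.Injective l := hι
  obtain ⟨h1, h2⟩ := h
  exact ⟨Module.Finite.of_injective l hl, (LinearMap.finrank_le_finrank_of_injective hl).trans h2⟩

/-- A flat surjective morphism from a finite discrete scheme is a quotient map onto a finite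
discrete (hence affine) scheme. -/
theorem finite_discrete_of_flat_surjective {T S : Scheme.{u}} (l : T ⟶ S) [Flat l] [Surjective l]
    [Finite T] : Finite S ∧ (DiscreteTopology T → DiscreteTopology S) := by
  have : QuasiCompact l := inferInstance
  have hq := Flat.isQuotientMap_of_surjective l
  refine ⟨Finite.of_surjective l l.surjective, fun _ => ?_⟩
  rw [discreteTopology_iff_isOpen_singleton]
  intro a
  exact hq.isOpen_preimage.mp (isOpen_discrete _)

theorem finiteOfDegLE_of_flat_surjective {K : Type u} [Field K] {T S : Scheme.{u}} (l : T ⟶ S)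
    [Flat l] [Surjective l] (p : S ⟶ Spec (CommRingCat.of K)) (n : ℕ)
    (hT : BddFib.FiniteOfDegLE (CommRingCat.of K) (l ≫ p) n) :
    BddFib.FiniteOfDegLE (CommRingCat.of K) p n := by
  have hfin := (card_le_of_finiteOfDegLE _ n hT).1
  have hdisc := discrete_of_finiteOfDegLE _ n hT
  obtain ⟨h1, h2⟩ := finite_discrete_of_flat_surjective l
  have := h2 hdisc
  have hS : IsAffine S := inferInstance
  rw [finiteOfDegLE_iff] at hT ⊢
  have hTaff : IsAffine T := hT.1
  refine ⟨hS, hT.2.of_injective l.appTop.hom ?_ ?_⟩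
  · exact ((Flat.flat_and_surjective_iff_faithfullyFlat_of_isAffine (f := l)).mp
      ⟨inferInstance, inferInstance⟩).injective
  · intro x
    simp only [Scheme.Hom.appTop, Scheme.Hom.comp_app]
    rfl


theorem rank_le_of_exact {κ A V C : Type u} [Field κ] [AddCommGroup A] [AddCommGroup V]
    [AddCommGroup C] [Module κ A] [Module κ V] [Module κ C] (f : A →ₗ[κ] V) (g : V →ₗ[κ] C)
    (hfg : Function.Exact f g) (hg : Function.Surjective g) :
    Module.rank κ V ≤ Module.rank κ A + Module.rank κ C := by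
  have h1 := LinearMap.rank_range_add_rank_ker g
  rw [LinearMap.range_eq_top.mpr hg, rank_top] at h1
  rw [← h1, add_comm]
  gcongr
  rw [LinearMap.exact_iff.mp hfg]
  exact rank_range_le f

theorem tensor_rank_bound {κ B N : Type u} [Field κ] [CommRing B] [Algebra κ B] [AddCommGroup N]
    [Module B N] [Module κ N] [IsScalarTower κ B N] (n : ℕ)
    (hN : ∀ (m : Ideal B) [m.IsMaximal],
      Module.rank κ (N ⊗[B] (B ⧸ m)) ≤ n * Module.rank κ (B ⧸ m))
    (M : Type u) [AddCommGroup M] [Module B M] (hM : IsFiniteLength B M) :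
    ∀ [Module κ M] [IsScalarTower κ B M], Module.rank κ (N ⊗[B] M) ≤ n * Module.rank κ M := by
  induction hM with
  | @of_subsingleton M _ _ _ =>
    intro _ _
    have : Subsingleton (N ⊗[B] M) := inferInstance
    simp
  | @of_simple_quotient M _ _ S hS _ ih =>
    intro _ _
    obtain ⟨m, hm, ⟨e⟩⟩ := isSimpleModule_iff_quot_maximal.mp hS
    have h1 : Module.rank κ (N ⊗[B] (M ⧸ S)) ≤ n * Module.rank κ (M ⧸ S) := by
      have e1 : (N ⊗[B] (M ⧸ S)) ≃ₗ[κ] (N ⊗[B] (B ⧸ m)) :=
        (TensorProduct.congr (LinearEquiv.refl B N) e).restrictScalars κ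
      have e2 : (M ⧸ S) ≃ₗ[κ] (B ⧸ m) := e.restrictScalars κ
      rw [e1.rank_eq, e2.rank_eq]
      exact hN m
    have h2 := ih
    have hex : Function.Exact (LinearMap.lTensor N S.subtype) (LinearMap.lTensor N S.mkQ) :=
      lTensor_exact N (LinearMap.exact_subtype_mkQ S) (Submodule.mkQ_surjective S)
    have hsurj : Function.Surjective (LinearMap.lTensor N S.mkQ) :=
      LinearMap.lTensor_surjective N (Submodule.mkQ_surjective S)
    have h3 := rank_le_of_exact ((LinearMap.lTensor N S.subtype).restrictScalars κ)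
      ((LinearMap.lTensor N S.mkQ).restrictScalars κ) hex hsurj
    have h4 : Module.rank κ (M ⧸ S) + Module.rank κ S = Module.rank κ M := by
      have := Submodule.rank_quotient_add_rank (S.restrictScalars κ)
      exact this
    calc Module.rank κ (N ⊗[B] M) ≤ Module.rank κ (N ⊗[B] S) + Module.rank κ (N ⊗[B] (M ⧸ S)) := h3
      _ ≤ n * Module.rank κ S + n * Module.rank κ (M ⧸ S) := add_le_add h2 h1
      _ = n * Module.rank κ M := by rw [← h4, mul_add, add_comm]


theorem ringFinDegLE_algebraMap_iff {K A : Type u} [CommRing K] [CommRing A] [inst : Algebra K A]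
    (n : ℕ) : RingFinDegLE (algebraMap K A) n ↔ Module.Finite K A ∧ Module.finrank K A ≤ n := by
  have e2 : (algebraMap K A).toAlgebra = inst := Algebra.algebra_ext _ _ (fun r => rfl)
  unfold RingFinDegLE
  rw [e2]

theorem rank_tensor_quotient_le {K B C : Type u} [Field K] [CommRing B] [CommRing C]
    [Algebra K B] [Algebra B C] [Algebra K C] [IsScalarTower K B C] (n : ℕ)
    (p : Ideal B) [p.IsMaximal]
    (hC : RingFinDegLE (algebraMap p.ResidueField (p.Fiber C)) n) :
    Module.rank K (C ⊗[B] (B ⧸ p)) ≤ n * Module.rank K (B ⧸ p) := by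
  rw [ringFinDegLE_algebraMap_iff] at hC
  obtain ⟨h1, h2⟩ := hC
  let e0 : (B ⧸ p) ≃ₗ[B] p.ResidueField :=
    (AlgEquiv.ofBijective (IsScalarTower.toAlgHom B (B ⧸ p) p.ResidueField)
      p.bijective_algebraMap_quotient_residueField).toLinearEquiv
  let e1 : (C ⊗[B] (B ⧸ p)) ≃ₗ[B] p.Fiber C :=
    (TensorProduct.congr (LinearEquiv.refl B C) e0).trans (TensorProduct.comm B C p.ResidueField)
  have e1' : (C ⊗[B] (B ⧸ p)) ≃ₗ[K] p.Fiber C := e1.restrictScalars K
  have e0' : (B ⧸ p) ≃ₗ[K] p.ResidueField := e0.restrictScalars K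
  rw [e1'.rank_eq, e0'.rank_eq, ← rank_mul_rank K p.ResidueField (p.Fiber C), mul_comm]
  gcongr
  rw [← Module.finrank_eq_rank]
  exact_mod_cast h2


theorem ringFinDegLE_comp_mul {K B C : Type u} [Field K] [CommRing B] [CommRing C]
    [Algebra K B] [Algebra B C] [Algebra K C] [IsScalarTower K B C] (n m : ℕ)
    (hB : RingFinDegLE (algebraMap K B) m)
    (hC : ∀ (p : Ideal B) [p.IsMaximal],
      RingFinDegLE (algebraMap p.ResidueField (p.Fiber C)) n) :
    RingFinDegLE (algebraMap K C) (n * m) := by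
  rw [ringFinDegLE_algebraMap_iff] at hB ⊢
  obtain ⟨hB1, hB2⟩ := hB
  have : IsArtinianRing B := IsArtinianRing.of_finite K B
  have : IsNoetherianRing B := IsNoetherianRing.of_finite K B
  have hfl : IsFiniteLength B B := isFiniteLength_iff_isNoetherian_isArtinian.mpr ⟨‹_›, ‹_›⟩
  have key := tensor_rank_bound (κ := K) (B := B) (N := C) n
    (fun p _ => rank_tensor_quotient_le n p (hC p)) B hfl
  have e : (C ⊗[B] B) ≃ₗ[K] C := (TensorProduct.rid B C).restrictScalars K
  rw [e.rank_eq, ← Module.finrank_eq_rank K B] at key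
  have hlt : Module.rank K C < Cardinal.aleph0 :=
    lt_of_le_of_lt key (by exact_mod_cast Cardinal.natCast_lt_aleph0 (n := n * Module.finrank K B))
  have hfin : Module.Finite K C := Module.rank_lt_aleph0_iff.mp hlt
  refine ⟨hfin, ?_⟩
  rw [← Module.finrank_eq_rank K C] at key
  have : Module.finrank K C ≤ n * Module.finrank K B := by exact_mod_cast key
  exact this.trans (Nat.mul_le_mul_left n hB2)


theorem finiteOfDegLE_iff_of_arrow_iso {K K' : Type u} [Field K] [Field K'] {T : Scheme.{u}}
    (p : T ⟶ Spec (CommRingCat.of K)) {A' : CommRingCat.{u}} (φ' : CommRingCat.of K' ⟶ A')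
    (e : Arrow.mk p ≅ Arrow.mk (Spec.map φ')) (n : ℕ) :
    BddFib.FiniteOfDegLE (CommRingCat.of K) p n ↔ RingFinDegLE φ'.hom n := by
  let ψ : CommRingCat.of K' ⟶ CommRingCat.of K := Spec.preimage e.hom.right
  have hψ : Spec.map ψ = e.hom.right := Spec.map_preimage _
  have hw : e.hom.left ≫ Spec.map φ' = p ≫ Spec.map ψ := by
    rw [hψ]; exact e.hom.w
  have : IsIso (Spec.map ψ) := by rw [hψ]; infer_instance
  have hpb : IsPullback e.hom.left p (Spec.map φ') (Spec.map ψ) :=
    IsPullback.of_horiz_isIso ⟨hw⟩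
  rw [finiteOfDegLE_iff_of_isPullback ψ (Spec.map φ') e.hom.left p hpb n, finiteOfDegLE_SpecMap_iff]

theorem ringFinDegLE_fiber_of_fibreDegLE {B C : Type u} [CommRing B] [CommRing C] [Algebra B C]
    (n : ℕ) (h : BddFib.FibreDegLE (Spec.map (CommRingCat.ofHom (algebraMap B C))) n)
    (p : PrimeSpectrum B) :
    RingFinDegLE (algebraMap p.asIdeal.ResidueField (p.asIdeal.Fiber C)) n := by
  let x : ↥(Spec (CommRingCat.of B)) := p
  have h1 : BddFib.FiniteOfDegLE ((Spec (CommRingCat.of B)).residueField x)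
    ((Spec.map (CommRingCat.ofHom (algebraMap B C))).fiberToSpecResidueField x) n := h x
  have e : Arrow.mk ((Spec.map (CommRingCat.ofHom (algebraMap B C))).fiberToSpecResidueField x) ≅
      Arrow.mk (Spec.map (CommRingCat.ofHom
        (algebraMap p.asIdeal.ResidueField (p.asIdeal.Fiber C)))) :=
    Spec.fiberToSpecResidueFieldIso B C p
  have key := @finiteOfDegLE_iff_of_arrow_iso ((Spec (CommRingCat.of B)).residueField x)
    p.asIdeal.ResidueField _ _ _
    ((Spec.map (CommRingCat.ofHom (algebraMap B C))).fiberToSpecResidueField x)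
    (CommRingCat.of (p.asIdeal.Fiber C))
    (CommRingCat.ofHom (algebraMap p.asIdeal.ResidueField (p.asIdeal.Fiber C))) e n
  exact key.mp h1


/-- base change (same as S7437) -/
theorem fibreDegLE_of_isPullback {X Y X' Y' : Scheme.{u}} (f : X ⟶ Y) (g : Y' ⟶ Y) (f' : X' ⟶ Y')
    (g' : X' ⟶ X) (h : IsPullback g' f' f g) (n : ℕ) (hf : BddFib.FibreDegLE f n) :
    BddFib.FibreDegLE f' n := by
  intro y'
  have hpb := isPullback_fiberToSpecResidueField_of_isPullback h y'
  have h1 := hf (g y')
  have : IsAffine (f.fiber (g y')) := h1.1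
  exact (finiteOfDegLE_iff_of_isPullback
    (K := Y.residueField (g y')) (k := Y'.residueField y')
    (g.residueFieldMap y') (f.fiberToSpecResidueField (g y')) _
    (f'.fiberToSpecResidueField y') hpb n).mpr h1

theorem fibreDegLE_of_arrow_iso {X Y X' Y' : Scheme.{u}} (f : X ⟶ Y) (f' : X' ⟶ Y')
    (e : Arrow.mk f' ≅ Arrow.mk f) (n : ℕ) (hf : BddFib.FibreDegLE f n) :
    BddFib.FibreDegLE f' n := by
  have hpb : IsPullback e.hom.left f' f e.hom.right := IsPullback.of_horiz_isIso ⟨e.hom.w⟩
  exact fibreDegLE_of_isPullback f e.hom.right f' e.hom.left hpb n hf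

theorem finite_discrete_of_fibreDegLE {T S : Scheme.{u}} (l : T ⟶ S) (n : ℕ)
    (hl : BddFib.FibreDegLE l n) [Finite S] [DiscreteTopology S] :
    Finite T ∧ DiscreteTopology T := by
  have hfib : ∀ s : S, Finite (l.fiber s) ∧ DiscreteTopology (l.fiber s) := fun s =>
    ⟨(card_le_of_finiteOfDegLE (k := S.residueField s) _ n (hl s)).1,
      discrete_of_finiteOfDegLE (k := S.residueField s) _ n (hl s)⟩
  have hfin : ∀ s : S, Finite (l ⁻¹' {s}) := fun s =>
    have := (hfib s).1
    Finite.of_equiv _ (l.fiberHomeo s).toEquiv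
  have hdisc : ∀ s : S, DiscreteTopology (l ⁻¹' {s}) := fun s =>
    have := (hfib s).2
    (l.fiberHomeo s).discreteTopology
  constructor
  · have : (l ⁻¹' Set.univ).Finite :=
      Set.Finite.preimage' Set.finite_univ (fun s _ => Set.toFinite _)
    rw [Set.preimage_univ] at this
    exact Set.finite_univ_iff.mp this
  · rw [discreteTopology_iff_isOpen_singleton]
    intro t
    have hU : IsOpen (l ⁻¹' {l t}) := (isOpen_discrete _).preimage l.continuous
    have := hdisc (l t)
    have h1 : IsOpen ({⟨t, rfl⟩} : Set (l ⁻¹' {l t})) := isOpen_discrete _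
    have h2 := hU.isOpenEmbedding_subtypeVal.isOpenMap _ h1
    simpa using h2


/-- Composition: `T → S → Spec K` with `S` finite of degree `≤ m` over `K` and fibre degrees of
`T → S` at most `n`: then `T` is finite of degree `≤ n * m` over `K`. -/
theorem finiteOfDegLE_comp_mul {K : Type u} [Field K] {T S : Scheme.{u}} (l : T ⟶ S)
    (q : S ⟶ Spec (CommRingCat.of K)) (n m : ℕ)
    (hq : BddFib.FiniteOfDegLE (CommRingCat.of K) q m) (hl : BddFib.FibreDegLE l n) :
    BddFib.FiniteOfDegLE (CommRingCat.of K) (l ≫ q) (n * m) := by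
  have hSfin := (card_le_of_finiteOfDegLE q m hq).1
  have hSdisc := discrete_of_finiteOfDegLE q m hq
  obtain ⟨hTfin, hTdisc⟩ := finite_discrete_of_fibreDegLE l n hl
  have hS : IsAffine S := hq.1
  have hT : IsAffine T := inferInstance
  rw [finiteOfDegLE_iff] at hq ⊢
  refine ⟨hT, ?_⟩
  let φ : CommRingCat.of K ⟶ Γ(S, ⊤) := (Scheme.ΓSpecIso (CommRingCat.of K)).inv ≫ q.appTop
  let θ : Γ(S, ⊤) ⟶ Γ(T, ⊤) := l.appTop
  let _ : Algebra K Γ(S, ⊤) := φ.hom.toAlgebra
  let _ : Algebra Γ(S, ⊤) Γ(T, ⊤) := θ.hom.toAlgebra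
  let _ : Algebra K Γ(T, ⊤) := (φ ≫ θ).hom.toAlgebra
  have : IsScalarTower K Γ(S, ⊤) Γ(T, ⊤) := IsScalarTower.of_algebraMap_eq (fun x => rfl)
  have hfib : BddFib.FibreDegLE (Spec.map (CommRingCat.ofHom (algebraMap Γ(S, ⊤) Γ(T, ⊤)))) n :=
    fibreDegLE_of_arrow_iso l (Spec.map l.appTop) (arrowIsoSpecΓOfIsAffine l).symm n hl
  have key := ringFinDegLE_comp_mul (K := K) (B := Γ(S, ⊤)) (C := Γ(T, ⊤)) n m hq.2
    (fun p _ => ringFinDegLE_fiber_of_fibreDegLE n hfib ⟨p, inferInstance⟩)
  have heq : ((Scheme.ΓSpecIso (CommRingCat.of K)).inv ≫ (l ≫ q).appTop).hom =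
      algebraMap K Γ(T, ⊤) := by
    show _ = (φ ≫ θ).hom
    simp only [φ, θ, Scheme.Hom.appTop, Scheme.Hom.comp_app]
    rfl
  rw [heq]
  exact key

/-- The induced morphism on fibres `(f ≫ h)⁻¹(z) → h⁻¹(z)`; it is a base change of `f`. -/
theorem exists_fiber_map {X Y Z : Scheme.{u}} (f : X ⟶ Y) (h : Y ⟶ Z) (z : Z) :
    ∃ l : (f ≫ h).fiber z ⟶ h.fiber z,
      l ≫ h.fiberToSpecResidueField z = (f ≫ h).fiberToSpecResidueField z ∧
      IsPullback l ((f ≫ h).fiberι z) (h.fiberι z) f := by
  let l : (f ≫ h).fiber z ⟶ h.fiber z :=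
    Limits.pullback.lift ((f ≫ h).fiberι z ≫ f) ((f ≫ h).fiberToSpecResidueField z)
      (by rw [Category.assoc]; exact (f ≫ h).fiber_fac z)
  have hl1 : l ≫ h.fiberι z = (f ≫ h).fiberι z ≫ f := Limits.pullback.lift_fst _ _ _
  have hl2 : l ≫ h.fiberToSpecResidueField z = (f ≫ h).fiberToSpecResidueField z :=
    Limits.pullback.lift_snd _ _ _
  refine ⟨l, hl2, ?_⟩
  refine IsPullback.of_right (h₁₂ := h.fiberToSpecResidueField z) (h₂₂ := h)
    (v₁₃ := Z.fromSpecResidueField z) ?_ hl1
    (IsPullback.of_hasPullback h (Z.fromSpecResidueField z)).flip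
  rw [hl2]
  exact (IsPullback.of_hasPullback (f ≫ h) (Z.fromSpecResidueField z)).flip


theorem finiteOfDegLE_of_finrank {K : Type u} [Field K] {T : Scheme.{u}}
    (q : T ⟶ Spec (CommRingCat.of K)) [IsFinite q] [Flat q] (pt : Spec (CommRingCat.of K)) :
    BddFib.FiniteOfDegLE (CommRingCat.of K) q (q.finrank pt) := by
  have hT : IsAffine T := isAffine_of_isAffineHom q
  rw [finiteOfDegLE_iff]
  refine ⟨hT, ?_⟩
  set φ : CommRingCat.of K ⟶ Γ(T, ⊤) := (Scheme.ΓSpecIso (CommRingCat.of K)).inv ≫ q.appTop with hφ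
  have hq : q = T.isoSpec.hom ≫ Spec.map φ := eq_isoSpec_hom_comp q
  have hf1 : φ.hom.Finite := by
    rw [hφ, CommRingCat.hom_comp]
    exact .comp q.finite_appTop
      (.of_surjective _ (ConcreteCategory.bijective_of_isIso _).surjective)
  have hf2 : φ.hom.Flat := by
    rw [hφ, CommRingCat.hom_comp]
    exact .comp (.of_bijective (ConcreteCategory.bijective_of_isIso _)) q.flat_appTop
  have : IsFinite (Spec.map φ) := (IsFinite.SpecMap_iff φ).mpr hf1
  have : Flat (Spec.map φ) := Flat.SpecMap_iff.mpr hf2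
  have h1 : q.finrank pt = φ.hom.finrank pt := by
    conv_lhs => rw [hq]
    rw [Scheme.Hom.finrank_comp_left_of_isIso, Scheme.Hom.finrank_SpecMap_eq_finrank hf1 hf2]
  let _ : Algebra K Γ(T, ⊤) := φ.hom.toAlgebra
  have hfin : Module.Finite K Γ(T, ⊤) := hf1
  refine ⟨hfin, ?_⟩
  rw [h1]
  unfold RingHom.finrank
  rw [Module.rankAtStalk_eq_finrank_of_free]
  rfl


theorem finrank_eq_card_primeSpectrum_of_etale_algClosed (k A : Type u) [Field k] [IsAlgClosed k]
    [CommRing A] [Algebra k A] [Algebra.Etale k A] :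
    Module.Finite k A ∧ Module.finrank k A = Nat.card (PrimeSpectrum A) := by
  have hfin : Module.Finite k A := Algebra.FormallyUnramified.finite_of_free k A
  have hred : IsReduced A := Algebra.FormallyUnramified.isReduced_of_field k A
  have : IsArtinianRing A := IsArtinianRing.of_finite k A
  refine ⟨hfin, ?_⟩
  have := Fintype.ofFinite (PrimeSpectrum A)
  rw [IsArtinianRing.finrank_eq_sum_primeSpectrum A k, Nat.card_eq_fintype_card,
    Fintype.card_eq_sum_ones]
  refine Finset.sum_congr rfl fun p _ => ?_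
  have hsurj : Function.Surjective (algebraMap A (Localization.AtPrime p.asIdeal)) :=
    IsArtinianRing.localization_surjective p.asIdeal.primeCompl (Localization.AtPrime p.asIdeal)
  have hfinp : Module.Finite k (Localization.AtPrime p.asIdeal) :=
    Module.Finite.of_surjective (Algebra.algHom k A (Localization.AtPrime p.asIdeal)).toLinearMap
      hsurj
  have : IsArtinianRing (Localization.AtPrime p.asIdeal) := IsArtinianRing.of_finite k _
  have : IsReduced (Localization.AtPrime p.asIdeal) := inferInstance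
  have hfield : IsField (Localization.AtPrime p.asIdeal) :=
    IsArtinianRing.isField_of_isReduced_of_isLocalRing _
  have : IsDomain (Localization.AtPrime p.asIdeal) := hfield.isDomain
  have hbij : Function.Bijective (algebraMap k (Localization.AtPrime p.asIdeal)) :=
    IsAlgClosed.algebraMap_bijective_of_isIntegral
  let e : k ≃ₗ[k] Localization.AtPrime p.asIdeal :=
    LinearEquiv.ofBijective (Algebra.linearMap k _) hbij
  rw [← e.finrank_eq, Module.finrank_self]


theorem locallyQuasiFinite_of_etale {X Y : Scheme.{u}} (f : X ⟶ Y) [Etale f] :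
    LocallyQuasiFinite f := by
  have h1 : affineLocally RingHom.Etale f := by
    rw [← HasRingHomProperty.eq_affineLocally @Etale]; infer_instance
  rw [HasRingHomProperty.eq_affineLocally @LocallyQuasiFinite]
  have hle : ∀ {R S : Type u} [CommRing R] [CommRing S] {φ : R →+* S},
      RingHom.Etale φ → RingHom.QuasiFinite φ := by
    intro R S _ _ φ hφ
    algebraize [φ]
    show Algebra.QuasiFinite R S
    infer_instance
  exact affineLocally_le hle _ h1

theorem discreteTopology_of_etale_field {K : Type u} [Field K] {T : Scheme.{u}}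
    (q : T ⟶ Spec (CommRingCat.of K)) [Etale q] : DiscreteTopology T := by
  have := locallyQuasiFinite_of_etale q
  have h := q.isDiscrete_preimage_singleton (IsLocalRing.closedPoint K)
  have hsub : (Set.univ : Set T) ⊆ q ⁻¹' {IsLocalRing.closedPoint K} := fun t _ =>
    Subsingleton.elim (α := PrimeSpectrum K) _ _
  exact isDiscrete_univ_iff.mp (h.mono hsub)

theorem finiteOfDegLE_of_etale_of_card {K : Type u} [Field K] {T : Scheme.{u}}
    (q : T ⟶ Spec (CommRingCat.of K)) [Etale q] (k : Type u) [Field k] [IsAlgClosed k]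
    (ψ : CommRingCat.of K ⟶ CommRingCat.of k) {P : Scheme.{u}} (fst : P ⟶ T)
    (snd : P ⟶ Spec (CommRingCat.of k)) (h : IsPullback fst snd q (Spec.map ψ)) (n : ℕ)
    [Finite P] (hn : Nat.card P ≤ n) : BddFib.FiniteOfDegLE (CommRingCat.of K) q n := by
  have hsnd : Etale snd := MorphismProperty.of_isPullback h inferInstance
  have hPd : DiscreteTopology P := discreteTopology_of_etale_field snd
  have hP : IsAffine P := inferInstance
  refine finiteOfDegLE_of_isPullback_descent ψ q fst snd h n ?_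
  rw [finiteOfDegLE_iff]
  refine ⟨hP, ?_⟩
  let φ : CommRingCat.of k ⟶ Γ(P, ⊤) := (Scheme.ΓSpecIso (CommRingCat.of k)).inv ≫ snd.appTop
  have hφ : φ.hom.Etale := by
    have h1 : snd.appTop.hom.Etale := HasRingHomProperty.appTop (P := @Etale) snd inferInstance
    have h2 : (Scheme.ΓSpecIso (CommRingCat.of k)).inv.hom.Etale :=
      RingHom.Etale.of_bijective (ConcreteCategory.bijective_of_isIso _)
    rw [CommRingCat.hom_comp]
    exact RingHom.Etale.stableUnderComposition _ _ h2 h1
  let _ : Algebra k Γ(P, ⊤) := φ.hom.toAlgebra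
  have : Algebra.Etale k Γ(P, ⊤) := hφ
  obtain ⟨h1, h2⟩ := finrank_eq_card_primeSpectrum_of_etale_algClosed k Γ(P, ⊤)
  refine ⟨h1, ?_⟩
  have e : P ≃ PrimeSpectrum Γ(P, ⊤) := P.isoSpec.hom.homeomorph.toEquiv
  rw [h2, ← Nat.card_congr e]
  exact hn

theorem isPullback_fiber_of_residueField_ext {X Y : Scheme.{u}} (f : X ⟶ Y) (y : Y)
    {k : CommRingCat.{u}} (ψ : Y.residueField y ⟶ k) :
    ∃ l : pullback f (Spec.map ψ ≫ Y.fromSpecResidueField y) ⟶ f.fiber y,
      IsPullback l (pullback.snd f (Spec.map ψ ≫ Y.fromSpecResidueField y))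
        (f.fiberToSpecResidueField y) (Spec.map ψ) := by
  refine ⟨pullback.lift (pullback.fst f _) (pullback.snd f _ ≫ Spec.map ψ)
    (by rw [pullback.condition, Category.assoc]), ?_⟩
  refine IsPullback.of_right (h₁₂ := f.fiberι y) (h₂₂ := Y.fromSpecResidueField y) (v₁₃ := f) ?_ ?_
    (IsPullback.of_hasPullback f (Y.fromSpecResidueField y))
  · have := IsPullback.of_hasPullback f (Spec.map ψ ≫ Y.fromSpecResidueField y)
    convert this using 1
    exact pullback.lift_fst _ _ _
  · exact pullback.lift_snd _ _ _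


theorem fibreDegLE_SpecMap_iff {B C : Type u} [CommRing B] [CommRing C] [Algebra B C] (n : ℕ) :
    BddFib.FibreDegLE (Spec.map (CommRingCat.ofHom (algebraMap B C))) n ↔
      ∀ p : PrimeSpectrum B,
        RingFinDegLE (algebraMap p.asIdeal.ResidueField (p.asIdeal.Fiber C)) n := by
  refine ⟨fun h p => ringFinDegLE_fiber_of_fibreDegLE n h p, fun h p => ?_⟩
  let x : ↥(Spec (CommRingCat.of B)) := p
  have e : Arrow.mk ((Spec.map (CommRingCat.ofHom (algebraMap B C))).fiberToSpecResidueField x) ≅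
      Arrow.mk (Spec.map (CommRingCat.ofHom
        (algebraMap p.asIdeal.ResidueField (p.asIdeal.Fiber C)))) :=
    Spec.fiberToSpecResidueFieldIso B C p
  have key := @finiteOfDegLE_iff_of_arrow_iso ((Spec (CommRingCat.of B)).residueField x)
    p.asIdeal.ResidueField _ _ _
    ((Spec.map (CommRingCat.ofHom (algebraMap B C))).fiberToSpecResidueField x)
    (CommRingCat.of (p.asIdeal.Fiber C))
    (CommRingCat.ofHom (algebraMap p.asIdeal.ResidueField (p.asIdeal.Fiber C))) e n
  exact key.mpr (h p)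

theorem fibreDegLE_SpecMap_of_finite {R S : Type u} [CommRing R] [CommRing S] [Algebra R S]
    [Module.Finite R S] :
    BddFib.FibreDegLE (Spec.map (CommRingCat.ofHom (algebraMap R S)))
      (⊤ : Submodule R S).spanFinrank := by
  rw [fibreDegLE_SpecMap_iff]
  intro p
  rw [ringFinDegLE_algebraMap_iff]
  refine ⟨inferInstance, ?_⟩
  rw [Module.finrank_eq_spanFinrank_of_free, ← Submodule.baseChange_top]
  exact Submodule.FG.spanFinrank_baseChange_le _ Module.Finite.fg_top

theorem fibreDegLE_comp_mul {X Y Z : Scheme.{u}} (f : X ⟶ Y) (g : Y ⟶ Z) (n m : ℕ)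
    (hf : BddFib.FibreDegLE f n) (hg : BddFib.FibreDegLE g m) :
    BddFib.FibreDegLE (f ≫ g) (n * m) := by
  intro z
  obtain ⟨l, hl2, hpb⟩ := exists_fiber_map f g z
  have hl : BddFib.FibreDegLE l n := fibreDegLE_of_isPullback f (g.fiberι z) l _ hpb.flip n hf
  have := finiteOfDegLE_comp_mul (K := Z.residueField z) l (g.fiberToSpecResidueField z) n m
    (hg z) hl
  rw [hl2] at this
  exact this

theorem fibreDegLE_one_of_isImmersion {X Y : Scheme.{u}} (f : X ⟶ Y) [IsImmersion f] :
    BddFib.FibreDegLE f 1 := by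
  intro y
  have : IsImmersion (f.fiberToSpecResidueField y) :=
    MorphismProperty.pullback_snd _ _ inferInstance
  exact finiteOfDegLE_one_of_isImmersion (K := Y.residueField y) (f.fiberToSpecResidueField y)

theorem fibreDegLE_mono {X Y : Scheme.{u}} (f : X ⟶ Y) {n m : ℕ} (h : n ≤ m)
    (hf : BddFib.FibreDegLE f n) : BddFib.FibreDegLE f m :=
  fun y => ⟨(hf y).1, (hf y).2.1, (hf y).2.2.trans h⟩


/-- Local bound from Zariski's main theorem (ring level). -/
theorem exists_fibreDegLE_away_of_quasiFiniteAt {R S : Type u} [CommRing R] [CommRing S]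
    [Algebra R S] [Algebra.FiniteType R S] (q : Ideal S) [q.IsPrime]
    [Algebra.WeaklyQuasiFiniteAt R q] :
    ∃ r : S, r ∉ q ∧ ∃ N : ℕ,
      BddFib.FibreDegLE (Spec.map (CommRingCat.ofHom (algebraMap R (Localization.Away r)))) N := by
  obtain ⟨S', hfg, r', hr, hbij⟩ :=
    Algebra.QuasiFiniteAt.exists_fg_and_exists_notMem_and_awayMap_bijective (R := R) q
  have : Module.Finite R S' := ⟨(Submodule.fg_top _).mpr hfg⟩
  refine ⟨r'.1, hr, 1 * (1 * (⊤ : Submodule R S').spanFinrank), ?_⟩
  let e : Localization.Away r' ≃+* Localization.Away (r'.1) := RingEquiv.ofBijective _ hbij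
  have h1 : BddFib.FibreDegLE (Spec.map (CommRingCat.ofHom (algebraMap R S')))
      (⊤ : Submodule R S').spanFinrank := fibreDegLE_SpecMap_of_finite
  have h2 : BddFib.FibreDegLE
      (Spec.map (CommRingCat.ofHom (algebraMap S' (Localization.Away r')))) 1 :=
    fibreDegLE_one_of_isImmersion _
  have h3 : BddFib.FibreDegLE (Spec.map (CommRingCat.ofHom e.toRingHom)) 1 :=
    have : IsIso (Spec.map (CommRingCat.ofHom e.toRingHom)) :=
      inferInstanceAs (IsIso (Spec.map e.toCommRingCatIso.hom))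
    fibreDegLE_one_of_isImmersion _
  have key := fibreDegLE_comp_mul _ _ _ _ h3 (fibreDegLE_comp_mul _ _ _ _ h2 h1)
  convert key using 2
  rw [← Spec.map_comp, ← Spec.map_comp]
  congr 1
  ext x
  show algebraMap R (Localization.Away r'.1) x =
    e (algebraMap S' (Localization.Away r') (algebraMap R S' x))
  show _ = Localization.awayMap S'.val.toRingHom r' _
  rw [Localization.awayMap, IsLocalization.Away.map, IsLocalization.map_eq]
  rfl


theorem ringFinDegLE_of_jointly_injective {K A : Type u} [Field K] [CommRing A] {ι : Type u}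
    [Fintype ι] (B : ι → Type u) [∀ i, CommRing (B i)] (φ : K →+* A) (θ : ∀ i, A →+* B i)
    (hinj : ∀ a : A, (∀ i, θ i a = 0) → a = 0) (N : ι → ℕ)
    (h : ∀ i, RingFinDegLE ((θ i).comp φ) (N i)) : RingFinDegLE φ (∑ i, N i) := by
  let _ : ∀ i, Algebra K (B i) := fun i => ((θ i).comp φ).toAlgebra
  have hfin : ∀ i, Module.Finite K (B i) := fun i => (h i).1
  have hrk : ∀ i, Module.finrank K (B i) ≤ N i := fun i => (h i).2
  have hpi : RingFinDegLE (algebraMap K (∀ i, B i)) (∑ i, N i) := by
    rw [ringFinDegLE_algebraMap_iff]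
    refine ⟨inferInstance, ?_⟩
    rw [Module.finrank_pi_fintype]
    exact Finset.sum_le_sum fun i _ => hrk i
  refine hpi.of_injective (RingHom.pi θ) ?_ ?_
  · rw [injective_iff_map_eq_zero]
    intro a ha
    exact hinj a fun i => congrFun ha i
  · intro x
    rfl


theorem fibreDegLE_of_openCover {X Y : Scheme.{u}} (f : X ⟶ Y) (𝒰 : Scheme.OpenCover.{u} X)
    [Fintype 𝒰.I₀] (N : 𝒰.I₀ → ℕ) (h : ∀ i, BddFib.FibreDegLE (𝒰.f i ≫ f) (N i)) :
    BddFib.FibreDegLE f (∑ i, N i) := by
  intro y
  choose l hl2 hpb using fun i => exists_fiber_map (𝒰.f i) f y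
  have hopen : ∀ i, IsOpenImmersion (l i) := fun i =>
    MorphismProperty.of_isPullback (hpb i).flip inferInstance
  have hcov : ∀ t : f.fiber y, ∃ i, t ∈ Set.range (l i) := by
    intro t
    obtain ⟨w, hw⟩ := 𝒰.covers (f.fiberι y t)
    obtain ⟨z', hz1, hz2⟩ := Scheme.Pullback.exists_preimage_pullback (f := f.fiberι y)
      (g := 𝒰.f (𝒰.idx (f.fiberι y t))) t w hw.symm
    refine ⟨𝒰.idx (f.fiberι y t), (hpb _).isoPullback.inv z', ?_⟩
    rw [← Scheme.Hom.comp_apply, (hpb _).isoPullback_inv_fst]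
    exact hz1
  have hfinI : ∀ i, Finite ((𝒰.f i ≫ f).fiber y) := fun i =>
    (card_le_of_finiteOfDegLE (k := Y.residueField y) _ (N i) (h i y)).1
  have hdiscI : ∀ i, DiscreteTopology ((𝒰.f i ≫ f).fiber y) := fun i =>
    discrete_of_finiteOfDegLE (k := Y.residueField y) _ (N i) (h i y)
  have hfin : Finite (f.fiber y) := by
    refine Finite.of_surjective (fun z : Σ i, (𝒰.f i ≫ f).fiber y => l z.1 z.2) ?_
    intro t
    obtain ⟨i, z, hz⟩ := hcov t
    exact ⟨⟨i, z⟩, hz⟩
  have hdisc : DiscreteTopology (f.fiber y) := by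
    rw [discreteTopology_iff_isOpen_singleton]
    intro t
    obtain ⟨i, z, rfl⟩ := hcov t
    have := (l i).isOpenEmbedding.isOpenMap _ (isOpen_discrete ({z} : Set _))
    simpa using this
  have hT : IsAffine (f.fiber y) := inferInstance
  rw [finiteOfDegLE_iff]
  refine ⟨hT, ?_⟩
  let 𝒱 : Scheme.OpenCover.{u} (f.fiber y) :=
    { I₀ := 𝒰.I₀
      X := fun i => (𝒰.f i ≫ f).fiber y
      f := l
      mem₀ := by
        rw [Scheme.presieve₀_mem_precoverage_iff]
        exact ⟨hcov, hopen⟩ }
  refine ringFinDegLE_of_jointly_injective (fun i => Γ((𝒰.f i ≫ f).fiber y, ⊤)) _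
    (fun i => (l i).appTop.hom) ?_ N ?_
  · intro a ha
    exact Scheme.zero_of_zero_cover a 𝒱 ha
  · intro i
    have := (finiteOfDegLE_iff _ _).mp (h i y)
    rw [← hl2 i] at this
    convert this.2 using 1
    · rfl
    · rw [Scheme.Hom.comp_appTop]
      rfl


theorem exists_open_nbhd_fibreDegLE {X Y : Scheme.{u}} (f : X ⟶ Y) [LocallyQuasiFinite f]
    [LocallyOfFiniteType f] (x : X) :
    ∃ (W : Scheme.{u}) (j : W ⟶ X) (_ : IsOpenImmersion j) (N : ℕ),
      x ∈ Set.range j ∧ BddFib.FibreDegLE (j ≫ f) N := by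
  obtain ⟨V, hV, hxV, -⟩ := exists_isAffineOpen_mem_and_subset (X := Y) (x := f x) (U := ⊤) trivial
  obtain ⟨U, hU, hxU, hUV⟩ := exists_isAffineOpen_mem_and_subset (X := X) (x := x)
    (U := f ⁻¹ᵁ V) hxV
  have e : U ≤ f ⁻¹ᵁ V := hUV
  let g : U.toScheme ⟶ V.toScheme := f.resLE V U e
  have hg : g ≫ V.ι = U.ι ≫ f := Scheme.Hom.resLE_comp_ι f e
  have : IsAffine U.toScheme := hU
  have : IsAffine V.toScheme := hV
  let φ : Γ(V.toScheme, ⊤) ⟶ Γ(U.toScheme, ⊤) := g.appTop
  have hφ1 : φ.hom.FiniteType := HasRingHomProperty.appTop (P := @LocallyOfFiniteType) g inferInstance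
  have hφ2 : φ.hom.QuasiFinite := HasRingHomProperty.appTop (P := @LocallyQuasiFinite) g inferInstance
  algebraize [φ.hom]
  let x' : U.toScheme := ⟨x, hxU⟩
  let q : PrimeSpectrum Γ(U.toScheme, ⊤) := U.toScheme.isoSpec.hom x'
  obtain ⟨r, hr, N, hN⟩ := exists_fibreDegLE_away_of_quasiFiniteAt (R := Γ(V.toScheme, ⊤)) q.asIdeal
  let i : Spec (CommRingCat.of (Localization.Away r)) ⟶ Spec Γ(U.toScheme, ⊤) :=
    Spec.map (CommRingCat.ofHom (algebraMap Γ(U.toScheme, ⊤) (Localization.Away r)))
  have hi : IsOpenImmersion i := inferInstanceAs (IsOpenImmersion (Spec.map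
    (CommRingCat.ofHom (algebraMap Γ(U.toScheme, ⊤) (Localization.Away r)))))
  refine ⟨_, i ≫ U.toScheme.isoSpec.inv ≫ U.ι, inferInstance, N * 1, ?_, ?_⟩
  · have h1 : q ∈ Set.range i := by
      have := PrimeSpectrum.localization_away_comap_range (Localization.Away r) r
      change q ∈ Set.range (PrimeSpectrum.comap (algebraMap _ (Localization.Away r)))
      rw [this]
      exact hr
    obtain ⟨w, hw⟩ := h1
    refine ⟨w, ?_⟩
    rw [Scheme.Hom.comp_apply, hw]
    show (U.toScheme.isoSpec.inv ≫ U.ι) (U.toScheme.isoSpec.hom x') = x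
    rw [← Scheme.Hom.comp_apply, Iso.hom_inv_id_assoc]
    rfl
  · have h2 : BddFib.FibreDegLE (V.toScheme.isoSpec.inv ≫ V.ι) 1 := fibreDegLE_one_of_isImmersion _
    have key := fibreDegLE_comp_mul _ _ _ _ hN h2
    convert key using 1
    have hnat : Spec.map φ ≫ V.toScheme.isoSpec.inv = U.toScheme.isoSpec.inv ≫ g :=
      Scheme.isoSpec_inv_naturality g
    simp only [Category.assoc, i]
    rw [← hg, ← Category.assoc U.toScheme.isoSpec.inv, ← hnat]
    simp only [Category.assoc, ← Spec.map_comp_assoc]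
    rfl


/-- finrank of `A` over `K` through a ring hom. -/
noncomputable def frk {K A : Type u} [CommRing K] [CommRing A] (φ : K →+* A) : ℕ :=
  letI := φ.toAlgebra
  Module.finrank K A

theorem frk_algebraMap {K A : Type u} [CommRing K] [CommRing A] [inst : Algebra K A] :
    frk (algebraMap K A) = Module.finrank K A := by
  have e2 : (algebraMap K A).toAlgebra = inst := Algebra.algebra_ext _ _ (fun r => rfl)
  unfold frk
  rw [e2]

theorem frk_comp_bijective {k K L : Type u} [CommRing k] [CommRing K] [CommRing L]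
    (ι : k →+* K) (hι : Function.Bijective ι) (ρ : K →+* L) : frk ρ = frk (ρ.comp ι) := by
  unfold frk
  let _ := ρ.toAlgebra
  let _ := (ρ.comp ι).toAlgebra
  exact (Algebra.finrank_eq_of_equiv_equiv (RingEquiv.ofBijective ι hι) (RingEquiv.refl L)
    (by ext; rfl)).symm

theorem frk_of_ringEquiv {K A B : Type u} [CommRing K] [CommRing A] [CommRing B]
    (φ : K →+* A) (e : A ≃+* B) : frk φ = frk (e.toRingHom.comp φ) := by
  unfold frk
  let _ := φ.toAlgebra
  let _ := (e.toRingHom.comp φ).toAlgebra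
  exact Algebra.finrank_eq_of_equiv_equiv (RingEquiv.refl K) e (by ext; rfl)

theorem frk_comp_surjective_le {k A A' : Type u} [Field k] [CommRing A] [CommRing A']
    (φ : k →+* A) (π : A →+* A') (hπ : Function.Surjective π)
    (hfin : @Module.Finite k A _ _ φ.toAlgebra.toModule) : frk (π.comp φ) ≤ frk φ := by
  unfold frk
  let _ := φ.toAlgebra
  let _ := (π.comp φ).toAlgebra
  let l : A →ₗ[k] A' :=
    { π with
      map_smul' := fun c x => by
        simp only [Algebra.smul_def, RingHom.id_apply]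
        show π (φ c * x) = π (φ c) * π x
        rw [map_mul] }
  have hl : Function.Surjective l := hπ
  have : Module.Finite k A := hfin
  exact LinearMap.finrank_le_finrank_of_surjective hl


theorem residueDegree_eq_frk {X Y : Scheme.{u}} (q : X ⟶ Y) (x : X) :
    q.residueDegree x = frk (q.residueFieldMap x).hom := rfl

/-- For a field `k`, the canonical map `k → κ(pt)` for a point of `Spec k` is bijective. -/
theorem bijective_toResidueField_Spec_field {k : Type u} [Field k]
    (y : Spec (CommRingCat.of k)) :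
    Function.Bijective ((Scheme.ΓSpecIso (CommRingCat.of k)).inv ≫
      (Spec (CommRingCat.of k)).Γevaluation y).hom := by
  have h := Scheme.Spec.algebraMap_residueFieldIso_inv (CommRingCat.of k) y
  have h' : (Scheme.ΓSpecIso (CommRingCat.of k)).inv ≫ (Spec (CommRingCat.of k)).Γevaluation y =
      CommRingCat.ofHom (algebraMap k y.asIdeal.ResidueField) ≫
        (Scheme.Spec.residueFieldIso (CommRingCat.of k) y).inv := by
    rw [h]; rfl
  rw [h', CommRingCat.hom_comp, RingHom.coe_comp]
  refine (ConcreteCategory.bijective_of_isIso _).comp ?_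
  have e := Ideal.algEquivResidueFieldOfField y.asIdeal
  have : (algebraMap k y.asIdeal.ResidueField : k → _) = e := by
    ext a
    simp
  show Function.Bijective (algebraMap k y.asIdeal.ResidueField)
  rw [this]
  exact e.bijective

theorem residueDegree_le_frk_localization {k : Type u} [Field k] {P : Scheme.{u}}
    (q : P ⟶ Spec (CommRingCat.of k)) [IsAffine P] (x : P)
    (hfin : @Module.Finite k Γ(P, ⊤) _ _
      ((Scheme.ΓSpecIso (CommRingCat.of k)).inv ≫ q.appTop).hom.toAlgebra.toModule) :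
    q.residueDegree x ≤
      frk ((algebraMap Γ(P, ⊤) (Localization.AtPrime
        ((isAffineOpen_top P).primeIdealOf ⟨x, trivial⟩).asIdeal)).comp
        ((Scheme.ΓSpecIso (CommRingCat.of k)).inv ≫ q.appTop).hom) := by
  let φ : CommRingCat.of k ⟶ Γ(P, ⊤) := (Scheme.ΓSpecIso (CommRingCat.of k)).inv ≫ q.appTop
  let _ : Algebra k Γ(P, ⊤) := φ.hom.toAlgebra
  have : Module.Finite k Γ(P, ⊤) := hfin
  let p := ((isAffineOpen_top P).primeIdealOf ⟨x, trivial⟩)
  let ι := (Scheme.ΓSpecIso (CommRingCat.of k)).inv ≫ (Spec (CommRingCat.of k)).Γevaluation (q x)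
  have hι : Function.Bijective ι.hom := bijective_toResidueField_Spec_field (q x)
  rw [residueDegree_eq_frk, frk_comp_bijective ι.hom hι]
  have hnat : ι ≫ q.residueFieldMap x = φ ≫ P.presheaf.germ ⊤ x trivial ≫ P.residue x := by
    simp only [ι, φ, Category.assoc]
    rw [Scheme.Γevaluation_naturality]
    rfl
  have e1 : (q.residueFieldMap x).hom.comp ι.hom =
      (P.residue x).hom.comp ((P.presheaf.germ ⊤ x trivial).hom.comp φ.hom) := by
    rw [← CommRingCat.hom_comp, hnat]
    rfl
  rw [e1]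
  let _ : Algebra Γ(P, ⊤) (P.presheaf.stalk x) :=
    TopCat.Presheaf.algebra_section_stalk P.presheaf (U := ⊤) ⟨x, trivial⟩
  have hloc : IsLocalization.AtPrime (P.presheaf.stalk x) p.asIdeal :=
    (isAffineOpen_top P).isLocalization_stalk ⟨x, trivial⟩
  let eq : Localization.AtPrime p.asIdeal ≃ₐ[Γ(P, ⊤)] P.presheaf.stalk x :=
    IsLocalization.algEquiv p.asIdeal.primeCompl _ _
  have hfinp : Module.Finite k (Localization.AtPrime p.asIdeal) := by
    have : IsArtinianRing Γ(P, ⊤) := IsArtinianRing.of_finite k _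
    exact Module.Finite.of_surjective
      (Algebra.algHom k Γ(P, ⊤) (Localization.AtPrime p.asIdeal)).toLinearMap
      (IsArtinianRing.localization_surjective p.asIdeal.primeCompl _)
  have e2 : (P.presheaf.germ ⊤ x trivial).hom.comp φ.hom =
      eq.toRingEquiv.toRingHom.comp
        ((algebraMap Γ(P, ⊤) (Localization.AtPrime p.asIdeal)).comp φ.hom) := by
    ext a
    show _ = eq (algebraMap Γ(P, ⊤) (Localization.AtPrime p.asIdeal) (φ.hom a))
    rw [eq.commutes]
    rfl
  have e3 : (algebraMap Γ(P, ⊤) (Localization.AtPrime p.asIdeal)).comp φ.hom =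
      algebraMap k (Localization.AtPrime p.asIdeal) :=
    (IsScalarTower.algebraMap_eq k Γ(P, ⊤) (Localization.AtPrime p.asIdeal)).symm
  have hfin2 : @Module.Finite k (P.presheaf.stalk x) _ _
      ((P.presheaf.germ ⊤ x trivial).hom.comp φ.hom).toAlgebra.toModule := by
    rw [e2, e3]
    let _ := (eq.toRingEquiv.toRingHom.comp
      (algebraMap k (Localization.AtPrime p.asIdeal))).toAlgebra
    let l : Localization.AtPrime p.asIdeal ≃ₗ[k] P.presheaf.stalk x :=
      { eq.toRingEquiv with
        map_smul' := fun c y => by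
          simp only [Algebra.smul_def, RingHom.id_apply]
          show eq (algebraMap k _ c * y) = eq (algebraMap k _ c) * eq y
          rw [map_mul] }
    exact Module.Finite.equiv l
  refine (frk_comp_surjective_le _ (P.residue x).hom (P.residue_surjective x) hfin2).trans ?_
  rw [e2, ← frk_of_ringEquiv]

theorem sum_residueDegree_le {k : Type u} [Field k] {P : Scheme.{u}}
    (q : P ⟶ Spec (CommRingCat.of k)) (n : ℕ)
    (h : BddFib.FiniteOfDegLE (CommRingCat.of k) q n) :
    Finite P ∧ ∑ᶠ x : P, q.residueDegree x ≤ n := by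
  have hfinP := (card_le_of_finiteOfDegLE q n h).1
  refine ⟨hfinP, ?_⟩
  rw [finiteOfDegLE_iff] at h
  obtain ⟨hP, hfin, hrk⟩ := h
  let φ : CommRingCat.of k ⟶ Γ(P, ⊤) := (Scheme.ΓSpecIso (CommRingCat.of k)).inv ≫ q.appTop
  let _ : Algebra k Γ(P, ⊤) := φ.hom.toAlgebra
  have : Module.Finite k Γ(P, ⊤) := hfin
  have : IsArtinianRing Γ(P, ⊤) := IsArtinianRing.of_finite k _
  have := Fintype.ofFinite P
  have := Fintype.ofFinite (PrimeSpectrum Γ(P, ⊤))
  rw [finsum_eq_sum_of_fintype]
  let e1 : P ≃ ((⊤ : P.Opens) : Type u) :=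
    ⟨fun x => ⟨x, trivial⟩, fun y => y.1, fun _ => rfl, fun _ => rfl⟩
  let e2 : ((⊤ : P.Opens) : Type u) ≃ PrimeSpectrum Γ(P, ⊤) :=
    (isAffineOpen_top P).isoSpec.hom.homeomorph.toEquiv
  let e : P ≃ PrimeSpectrum Γ(P, ⊤) := e1.trans e2
  have he : ∀ x, e x = (isAffineOpen_top P).primeIdealOf ⟨x, trivial⟩ := fun x => rfl
  have hle : ∀ x : P, q.residueDegree x ≤
      Module.finrank k (Localization.AtPrime (e x).asIdeal) := by
    intro x
    have h1 := residueDegree_le_frk_localization q x hfin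
    have e3 : (algebraMap Γ(P, ⊤) (Localization.AtPrime (e x).asIdeal)).comp φ.hom =
        algebraMap k (Localization.AtPrime (e x).asIdeal) :=
      (IsScalarTower.algebraMap_eq k Γ(P, ⊤) (Localization.AtPrime (e x).asIdeal)).symm
    rw [← frk_algebraMap, ← e3]
    exact h1
  calc ∑ x : P, q.residueDegree x
      ≤ ∑ x : P, Module.finrank k (Localization.AtPrime (e x).asIdeal) :=
        Finset.sum_le_sum fun x _ => hle x
    _ = ∑ p : PrimeSpectrum Γ(P, ⊤), Module.finrank k (Localization.AtPrime p.asIdeal) :=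
        Equiv.sum_comp e (fun p => Module.finrank k (Localization.AtPrime p.asIdeal))
    _ = Module.finrank k Γ(P, ⊤) := (IsArtinianRing.finrank_eq_sum_primeSpectrum Γ(P, ⊤) k).symm
    _ ≤ n := hrk

end Groth.Agent.Lib.Helper58.BddFibLib
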