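import Mathlib
import Groth.Agent.Lib.Helper58.HenselPairUniq
import Groth.Agent.Lib.Helper58.HenselPairIdem

set_option autoImplicit false

namespace Groth.Agent.Lib.Helper58.FEtHens

open TensorProduct Groth.Agent.Lib.Helper58.HenselPair

universe u

section Ring

variable {A : Type u} [CommRing A] (I : Ideal A) (B : Type u) [CommRing B] [Algebra A B]

/-- `b ⊗ 1 = 0` in `B ⊗[A] (A ⧸ I)` iff `b ∈ I B`. -/
theorem tmul_one_eq_zero_iff (b : B) :
    (b ⊗ₜ[A] (1 : A ⧸ I) = 0) ↔ b ∈ I.map (algebraMap A B) := by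
  rw [← Algebra.TensorProduct.quotIdealMapEquivTensorQuot_mk,
    EmbeddingLike.map_eq_zero_iff, Ideal.Quotient.eq_zero_iff_mem]

theorem includeLeft_surjective :
    Function.Surjective (Algebra.TensorProduct.includeLeft : B →ₐ[A] B ⊗[A] (A ⧸ I)) := by
  intro x
  obtain ⟨y, rfl⟩ := (Algebra.TensorProduct.quotIdealMapEquivTensorQuot B I).surjective x
  obtain ⟨b, rfl⟩ := Ideal.Quotient.mk_surjective y
  exact ⟨b, rfl⟩

variable {B} in
/-- Lifting maps from an étale algebra along `B → B ⊗[A] (A ⧸ I)` over a henselian pair. -/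
theorem existsUnique_lift_includeLeft [HenselianRing A I] [Algebra.IsIntegral A B]
    {C : Type u} [CommRing C] [Algebra A C] [Algebra.Etale A C]
    (σ : C →ₐ[A] B ⊗[A] (A ⧸ I)) :
    ∃! τ : C →ₐ[A] B, (Algebra.TensorProduct.includeLeft : B →ₐ[A] B ⊗[A] (A ⧸ I)).comp τ = σ := by
  have hH : HenselianRing B (I.map (algebraMap A B)) := henselian_of_isIntegral B
  let ε : (B ⧸ I.map (algebraMap A B)) ≃ₐ[A] B ⊗[A] (A ⧸ I) :=
    (Algebra.TensorProduct.quotIdealMapEquivTensorQuot B I).restrictScalars A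
  have hε : ∀ b : B, ε (Ideal.Quotient.mk _ b) = b ⊗ₜ[A] (1 : A ⧸ I) := fun b => rfl
  obtain ⟨τ, hτ, huniq⟩ := existsUnique_etale_lift_rel (R := A) (S := C) (C := B)
    (I.map (algebraMap A B)) ((ε.symm : _ →ₐ[A] _).comp σ)
  refine ⟨τ, ?_, ?_⟩
  · ext c
    have h1 := AlgHom.congr_fun hτ c
    simp only [AlgHom.comp_apply, Ideal.Quotient.mkₐ_eq_mk] at h1
    have h2 : ε (Ideal.Quotient.mk _ (τ c)) = σ c := by
      rw [h1]; exact ε.apply_symm_apply _
    rw [hε] at h2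
    exact h2
  · intro τ' hτ'
    apply huniq
    ext c
    have h1 := AlgHom.congr_fun hτ' c
    simp only [AlgHom.comp_apply, Ideal.Quotient.mkₐ_eq_mk]
    rw [← h1]
    change _ = ε.symm (τ' c ⊗ₜ[A] (1 : A ⧸ I))
    rw [← hε, ε.symm_apply_apply]

end Ring

end Groth.Agent.Lib.Helper58.FEtHens
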