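import Mathlib
import Groth.Agent.Lib.Helper58.HenselPairEtale
import Groth.Agent.Lib.Helper58.HenselPairIdem

/-!
# Finite part of a finite type algebra over a henselian pair

For a henselian pair `(A, I)` and a finite type `A`-algebra `R` with `R / I R` finite over `A`,
there is an idempotent `e` of `R` with `1 - e ∈ I R` and `R / (1 - e)` finite over `A`.
-/

set_option autoImplicit false

namespace Groth.Agent.Lib.Helper58.HenselPair

universe u v

open TensorProduct

section Fiber

variable {A : Type u} [CommRing A] (I : Ideal A) (R : Type v) [CommRing R] [Algebra A R]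

/-- If `R / I R` is finite over `A`, the fibres of `R` over primes containing `I` are finite. -/
theorem finite_fiber_of_finite_quotient
    [Module.Finite A (R ⧸ I.map (algebraMap A R))] (p : Ideal A) [p.IsPrime] (hIp : I ≤ p) :
    Module.Finite p.ResidueField (p.Fiber R) := by
  let _ : Algebra (A ⧸ I) p.ResidueField :=
    (Ideal.Quotient.lift I (algebraMap A p.ResidueField) (fun a ha =>
      (Ideal.algebraMap_residueField_eq_zero).mpr (hIp ha))).toAlgebra
  have _ : IsScalarTower A (A ⧸ I) p.ResidueField := IsScalarTower.of_algebraMap_eq (fun x => rfl)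
  have h1 : Module.Finite (A ⧸ I) (R ⧸ I.map (algebraMap A R)) :=
    Module.Finite.of_restrictScalars_finite A (A ⧸ I) _
  have h2 : Module.Finite (A ⧸ I) ((A ⧸ I) ⊗[A] R) :=
    Module.Finite.equiv (Algebra.TensorProduct.quotIdealMapEquivQuotTensor R I).toLinearEquiv
  have h3 : Module.Finite p.ResidueField (p.ResidueField ⊗[A ⧸ I] ((A ⧸ I) ⊗[A] R)) :=
    Module.Finite.base_change _ _ _
  exact Module.Finite.equiv
    (TensorProduct.AlgebraTensorModule.cancelBaseChange A (A ⧸ I) p.ResidueField p.ResidueField R)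

/-- If `R / I R` is finite over `A` and `R` is of finite type, then `R` is quasi-finite over `A`
at all primes containing `I R`. -/
theorem quasiFiniteAt_of_finite_quotient [Algebra.FiniteType A R]
    [Module.Finite A (R ⧸ I.map (algebraMap A R))] (q : PrimeSpectrum R)
    (hq : I.map (algebraMap A R) ≤ q.asIdeal) : Algebra.QuasiFiniteAt A q.asIdeal := by
  let p := q.comap (algebraMap A R)
  have hIp : I ≤ p.asIdeal := Ideal.map_le_iff_le_comap.mp hq
  have hfin : Module.Finite p.asIdeal.ResidueField (p.asIdeal.Fiber R) :=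
    finite_fiber_of_finite_quotient I R p.asIdeal hIp
  let e := PrimeSpectrum.preimageHomeomorphFiber A R p
  suffices Algebra.QuasiFiniteAt p.asIdeal.ResidueField (e ⟨q, rfl⟩).asIdeal from
    .of_quasiFiniteAt_residueField _ q.asIdeal (e ⟨q, rfl⟩).asIdeal
      congr($(e.symm_apply_apply ⟨q, rfl⟩).1.asIdeal)
  infer_instance

end Fiber

section ZMTElem

variable {A : Type u} [CommRing A] (I : Ideal A) (R : Type v) [CommRing R] [Algebra A R]

/-- the ZMT elements, as an ideal of the integral closure. -/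
def zmtIdeal : Ideal (integralClosure A R) where
  carrier := {c | (c : R) ∈ zmtSubmodule A R}
  zero_mem' := (zmtSubmodule A R).zero_mem
  add_mem' := fun ha hb => (zmtSubmodule A R).add_mem ha hb
  smul_mem' := by
    rintro c x ⟨hx, hx'⟩
    refine ⟨c.2.mul hx, fun y => ?_⟩
    obtain ⟨m, hm⟩ := hx' y
    refine ⟨m, ?_⟩
    have : ((c : R) * (x : R)) ^ m * y = (c : R) ^ m * ((x : R) ^ m * y) := by ring
    change IsIntegral A (((c : R) * (x : R)) ^ m * y)
    rw [this]
    exact (c.2.pow m).mul hm

lemma mem_zmtIdeal {c : integralClosure A R} : c ∈ zmtIdeal R ↔ (c : R) ∈ zmtSubmodule A R :=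
  Iff.rfl

/-- the ZMT elements and `I R` generate the unit ideal. -/
theorem span_zmtSubmodule_sup_eq_top [Algebra.FiniteType A R]
    [Module.Finite A (R ⧸ I.map (algebraMap A R))] :
    Ideal.span (zmtSubmodule A R : Set R) ⊔ I.map (algebraMap A R) = ⊤ := by
  by_contra h
  obtain ⟨M, hM, hle⟩ := Ideal.exists_le_maximal _ h
  have hMp : M.IsPrime := hM.isPrime
  have hqf : Algebra.QuasiFiniteAt A M :=
    quasiFiniteAt_of_finite_quotient I R ⟨M, hMp⟩ (le_trans le_sup_right hle)
  obtain ⟨r, hrM, hr, hr'⟩ := Algebra.zariskisMainProperty_iff.1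
    (Algebra.ZariskisMainProperty.of_finiteType (R := A) M)
  exact hrM (hle (Ideal.mem_sup_left (Ideal.subset_span ⟨hr, hr'⟩)))

/-- There is a single ZMT element congruent to `1` modulo `I R`. -/
theorem exists_zmt_elem_sub_one_mem [Algebra.FiniteType A R]
    [Module.Finite A (R ⧸ I.map (algebraMap A R))] :
    ∃ u : R, u - 1 ∈ I.map (algebraMap A R) ∧ IsIntegral A u ∧
      ∀ x, ∃ m, IsIntegral A (u ^ m * x) := by
  set J := I.map (algebraMap A R) with hJ
  let C := integralClosure A R
  have hfinC : Module.Finite C (R ⧸ J) := Module.Finite.of_restrictScalars_finite A C (R ⧸ J)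
  have hkey : ∀ s ∈ Ideal.span (zmtSubmodule A R : Set R), ∀ x : R,
      (Ideal.Quotient.mk J (s * x)) ∈
        ((zmtIdeal (A := A) R) • (⊤ : Submodule C (R ⧸ J)) : Submodule C (R ⧸ J)) := by
    intro s hs
    refine Submodule.span_induction ?_ ?_ ?_ ?_ hs
    · intro z hz x
      have : Ideal.Quotient.mk J (z * x) = (⟨z, hz.1⟩ : C) • Ideal.Quotient.mk J x := by
        rw [Algebra.smul_def]
        rfl
      rw [this]
      exact Submodule.smul_mem_smul hz Submodule.mem_top
    · intro x
      rw [zero_mul, map_zero]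
      exact Submodule.zero_mem _
    · intro s t _ _ hs ht x
      rw [add_mul, map_add]
      exact Submodule.add_mem _ (hs x) (ht x)
    · intro r s _ hs x
      have : r • s * x = s * (r * x) := by rw [smul_eq_mul]; ring
      rw [this]
      exact hs (r * x)
  have hle : (⊤ : Submodule C (R ⧸ J)) ≤ (zmtIdeal (A := A) R) • (⊤ : Submodule C (R ⧸ J)) := by
    intro n _
    obtain ⟨x, rfl⟩ := Ideal.Quotient.mk_surjective n
    have h1 : (1 : R) ∈ Ideal.span (zmtSubmodule A R : Set R) ⊔ J := by
      rw [span_zmtSubmodule_sup_eq_top I R]; trivial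
    obtain ⟨s, hs, ι, hι, hsum⟩ := Submodule.mem_sup.mp h1
    have : Ideal.Quotient.mk J x = Ideal.Quotient.mk J (s * x) := by
      rw [Ideal.Quotient.eq]
      have : x - s * x = ι * x := by
        have : x = (s + ι) * x := by rw [hsum, one_mul]
        linear_combination this
      rw [this]
      exact Ideal.mul_mem_right _ _ hι
    rw [this]
    exact hkey s hs x
  obtain ⟨c, hc1, hc0⟩ := Submodule.exists_sub_one_mem_and_smul_eq_zero_of_fg_of_le_smul
    (zmtIdeal (A := A) R) (⊤ : Submodule C (R ⧸ J)) (Module.Finite.fg_top) hle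
  have hcJ : (c : R) ∈ J := by
    have := hc0 (Ideal.Quotient.mk J 1) Submodule.mem_top
    rw [Algebra.smul_def, map_one, mul_one] at this
    exact Ideal.Quotient.eq_zero_iff_mem.mp this
  have hu : ((1 : R) - (c : R)) ∈ zmtSubmodule A R := by
    have := (zmtIdeal (A := A) R).neg_mem hc1
    rw [mem_zmtIdeal] at this
    simpa using this
  refine ⟨1 - (c : R), ?_, hu.1, hu.2⟩
  have : (1 : R) - c - 1 = -c := by ring
  rw [this]
  exact J.neg_mem hcJ

end ZMTElem

section Structure

variable {A : Type u} [CommRing A] (I : Ideal A) (R : Type u) [CommRing R] [Algebra A R]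

/-- **Finite part over a henselian pair**: if `(A, I)` is henselian, `R` is a finite type
`A`-algebra and `R / I R` is finite over `A`, then there is an idempotent `e` of `R` with
`1 - e ∈ I R` such that `R / (1 - e) = R e` is finite over `A`. -/
theorem exists_idempotent_finite_quotient [HenselianRing A I] [Algebra.FiniteType A R]
    [Module.Finite A (R ⧸ I.map (algebraMap A R))] :
    ∃ e : R, IsIdempotentElem e ∧ 1 - e ∈ I.map (algebraMap A R) ∧
      Module.Finite A (R ⧸ Ideal.span {1 - e}) := by
  have hI : I ≤ Ideal.jacobson ⊥ := HenselianRing.jac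
  obtain ⟨u, hu1, hu, hu'⟩ := exists_zmt_elem_sub_one_mem I R
  obtain ⟨S', huS, hfg, hbij⟩ := exists_fg_awayMap_bijective u hu hu'
  have hfinS : Module.Finite A S' := ⟨(Submodule.fg_top _).mpr hfg⟩
  let u' : S' := ⟨u, huS⟩
  have hpow : ∀ x : R, ∃ m : ℕ, u ^ m * x ∈ S' := by
    intro x
    obtain ⟨b, m, hb⟩ := Localization.awayMap_surjective_iff.mp hbij.2 x
    refine ⟨m, ?_⟩
    have : u ^ m * x = (b : R) := hb.symm
    rw [this]
    exact b.2
  have hvalmap : ∀ s ∈ I.map (algebraMap A S'), (s : R) ∈ I.map (algebraMap A R) := by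
    intro s hs
    have := Ideal.mem_map_of_mem S'.val.toRingHom hs
    rw [Ideal.map_map] at this
    have e : S'.val.toRingHom.comp (algebraMap A S') = algebraMap A R := by
      ext a; rfl
    rw [e] at this
    exact this
  -- `u^k (u - 1) ∈ I S'` for some `k`
  have gen : ∀ y ∈ I.map (algebraMap A R), ∃ k : ℕ, ∃ s ∈ I.map (algebraMap A S'),
      (s : R) = u ^ k * y := by
    intro y hy
    refine Submodule.span_induction ?_ ?_ ?_ ?_ hy
    · rintro _ ⟨a, ha, rfl⟩
      exact ⟨0, algebraMap A S' a, Ideal.mem_map_of_mem _ ha, by rw [pow_zero, one_mul]; rfl⟩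
    · exact ⟨0, 0, zero_mem _, by simp⟩
    · rintro y z _ _ ⟨k, s, hs, hsy⟩ ⟨l, t, ht, htz⟩
      refine ⟨k + l, u' ^ l * s + u' ^ k * t,
        Ideal.add_mem _ (Ideal.mul_mem_left _ _ hs) (Ideal.mul_mem_left _ _ ht), ?_⟩
      change u ^ l * (s : R) + u ^ k * (t : R) = _
      rw [hsy, htz, pow_add]; ring
    · rintro r y _ ⟨k, s, hs, hsy⟩
      obtain ⟨m, hm⟩ := hpow r
      refine ⟨k + m, (⟨u ^ m * r, hm⟩ : S') * s, Ideal.mul_mem_left _ _ hs, ?_⟩
      change (u ^ m * r) * (s : R) = _
      rw [hsy, pow_add, smul_eq_mul]; ring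
  obtain ⟨k, s, hs, hsu⟩ := gen _ hu1
  have hk : u' ^ k * (u' - 1) ∈ I.map (algebraMap A S') := by
    have : u' ^ k * (u' - 1) = s := Subtype.ext hsu.symm
    rw [this]; exact hs
  set mkT := Ideal.Quotient.mk (I.map (algebraMap A S')) with hmkT
  have hstep1 : mkT (u' ^ k) * mkT u' = mkT (u' ^ k) := by
    have := Ideal.Quotient.eq_zero_iff_mem.mpr hk
    rw [← hmkT, map_mul, map_sub, map_one, mul_sub, mul_one, sub_eq_zero] at this
    exact this
  have hstep : ∀ j : ℕ, mkT (u' ^ (k + j)) = mkT (u' ^ k) := by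
    intro j
    induction j with
    | zero => rfl
    | succ j ih => rw [← add_assoc, pow_succ, map_mul, ih, hstep1]
  have hε : IsIdempotentElem (mkT (u' ^ k)) := by
    change mkT (u' ^ k) * mkT (u' ^ k) = mkT (u' ^ k)
    rw [← map_mul, ← pow_add, hstep]
  obtain ⟨e', he', hee⟩ := exists_idempotent_lift_of_finite (A := A) (I := I) (B := S') _ hε
  have hee' : e' - u' ^ k ∈ I.map (algebraMap A S') := Ideal.Quotient.eq.mp hee
  have heR : IsIdempotentElem (e' : R) := by
    have := congrArg (fun t : S' => (t : R)) he'.eq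
    exact this
  refine ⟨(e' : R), heR, ?_, ?_⟩
  · -- `1 - e ∈ I R`
    have h1 : (e' : R) - u ^ k ∈ I.map (algebraMap A R) := hvalmap _ hee'
    have h2 : u ^ k - 1 ∈ I.map (algebraMap A R) := by
      rw [← Ideal.Quotient.eq_zero_iff_mem, map_sub, map_pow, map_one]
      have : Ideal.Quotient.mk (I.map (algebraMap A R)) u = 1 := by
        rw [← map_one (Ideal.Quotient.mk _), Ideal.Quotient.eq]; exact hu1
      rw [this, one_pow, sub_self]
    have : (1 : R) - e' = -(((e' : R) - u ^ k) + (u ^ k - 1)) := by ring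
    rw [this]
    exact Ideal.neg_mem_iff _ |>.mpr (Ideal.add_mem _ h1 h2)
  · -- finiteness
    let S₁ := S' ⧸ Ideal.span {1 - e'}
    have hintS₁ : Algebra.IsIntegral A S₁ := Algebra.IsIntegral.of_finite A S₁
    have hjac : I.map (algebraMap A S₁) ≤ Ideal.jacobson ⊥ :=
      map_le_jacobson_of_isIntegral hI
    have hue : u' * e' - e' ∈ I.map (algebraMap A S') := by
      have h1 : mkT (u' * e' - e') = 0 := by
        rw [map_sub, map_mul, hee, mul_comm, hstep1, sub_self]
      exact Ideal.Quotient.eq_zero_iff_mem.mp h1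
    have hmk1 : Ideal.Quotient.mk (Ideal.span {1 - e'}) e' = 1 := by
      rw [← map_one (Ideal.Quotient.mk _), Ideal.Quotient.eq]
      have : e' - 1 = -(1 - e') := by ring
      rw [this]
      exact Ideal.neg_mem_iff _ |>.mpr (Ideal.subset_span rfl)
    have hunit : IsUnit (Ideal.Quotient.mk (Ideal.span {1 - e'}) u') := by
      apply isUnit_of_sub_one_mem hjac
      have h1 := Ideal.mem_map_of_mem (Ideal.Quotient.mk (Ideal.span {1 - e'})) hue
      rw [Ideal.map_map] at h1
      have e0 : (Ideal.Quotient.mk (Ideal.span {1 - e'})).comp (algebraMap A S') =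
          algebraMap A S₁ := rfl
      rw [e0, map_sub, map_mul, hmk1, mul_one] at h1
      exact h1
    obtain ⟨wb, hwb⟩ := hunit.exists_right_inv
    obtain ⟨w, rfl⟩ := Ideal.Quotient.mk_surjective wb
    have hw : u' * w - 1 ∈ Ideal.span {1 - e'} := by
      rw [← Ideal.Quotient.eq_zero_iff_mem, map_sub, map_mul, hwb, map_one, sub_self]
    obtain ⟨c, hc⟩ := Ideal.mem_span_singleton'.mp hw
    have hwR : Ideal.Quotient.mk (Ideal.span {(1 : R) - e'}) (u * w) = 1 := by
      rw [← map_one (Ideal.Quotient.mk _), Ideal.Quotient.eq]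
      have : u * (w : R) - 1 = (c : R) * (1 - (e' : R)) := by
        have := congrArg (fun t : S' => (t : R)) hc
        exact this.symm
      rw [this]
      exact Ideal.mul_mem_left _ _ (Ideal.subset_span rfl)
    let φ : S' →ₗ[A] (R ⧸ Ideal.span {(1 : R) - e'}) :=
      (Ideal.Quotient.mkₐ A (Ideal.span {(1 : R) - e'})).toLinearMap.comp S'.val.toLinearMap
    have hφ : Function.Surjective φ := by
      intro y
      obtain ⟨x, rfl⟩ := Ideal.Quotient.mk_surjective y
      obtain ⟨m, hm⟩ := hpow x
      refine ⟨w ^ m * ⟨u ^ m * x, hm⟩, ?_⟩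
      change Ideal.Quotient.mk _ ((w : R) ^ m * (u ^ m * x)) = _
      have : (w : R) ^ m * (u ^ m * x) = (u * w) ^ m * x := by ring
      rw [this, map_mul, map_pow, hwR, one_pow, one_mul]
    exact Module.Finite.of_surjective φ hφ

end Structure

end Groth.Agent.Lib.Helper58.HenselPair
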