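import Mathlib
import Groth.Agent.Lib.Helper58.FEtHensRing
import Groth.Agent.Lib.Helper58.HenselPairZMT
import Groth.Agent.Lib.Helper58.EtaleLiftQuot

set_option autoImplicit false

namespace Groth.Agent.Lib.Helper58.FEtHens

open TensorProduct Groth.Agent.Lib.Helper58.HenselPair Groth.Agent.Lib.Helper58.EtaleLift

universe u

section Lift

variable {A : Type u} [CommRing A] (I : Ideal A)

/-- The quotient of a ring by the ideal generated by `1 - e`, `e` idempotent, is étale. -/
theorem etale_quotient_of_isIdempotentElem {E : Type u} [CommRing E] {e : E}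
    (he : IsIdempotentElem e) : Algebra.Etale E (E ⧸ Ideal.span {1 - e}) := by
  have : IsLocalization.Away e (E ⧸ Ideal.span {1 - e}) :=
    IsLocalization.away_of_isIdempotentElem he (by simp) Ideal.Quotient.mk_surjective
  exact Algebra.Etale.of_isLocalizationAway e

/-- **Lifting finite étale algebras over a henselian pair**: every finite étale `A ⧸ I`-algebra is
the reduction of a finite étale `A`-algebra. -/
theorem exists_finite_etale_lift [HenselianRing A I] (C₀ : Type u) [CommRing C₀]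
    [Algebra (A ⧸ I) C₀] [Module.Finite (A ⧸ I) C₀] [Algebra.Etale (A ⧸ I) C₀] :
    ∃ (B : Type u) (_ : CommRing B) (_ : Algebra A B) (_ : Module.Finite A B)
      (_ : Algebra.Etale A B) (ε : C₀ ≃+* B ⊗[A] (A ⧸ I)),
      ∀ x : A ⧸ I, ε (algebraMap (A ⧸ I) C₀ x) = (1 : B) ⊗ₜ[A] x := by
  let _ : Algebra A C₀ := ((algebraMap (A ⧸ I) C₀).comp (Ideal.Quotient.mk I)).toAlgebra
  have : IsScalarTower A (A ⧸ I) C₀ := IsScalarTower.of_algebraMap_eq' rfl
  obtain ⟨E, _, _, hEt, π, hπs, hπk⟩ := exists_etale_lift_quotient I C₀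
  -- kernel of π
  have hle : I.map (algebraMap A E) ≤ RingHom.ker π.toRingHom := by
    rw [Ideal.map_le_iff_le_comap]
    intro a ha
    rw [Ideal.mem_comap, RingHom.mem_ker]
    change π (algebraMap A E a) = 0
    rw [π.commutes, IsScalarTower.algebraMap_apply A (A ⧸ I) C₀]
    have : algebraMap A (A ⧸ I) a = 0 := Ideal.Quotient.eq_zero_iff_mem.mpr ha
    rw [this, map_zero]
  have hker : RingHom.ker π.toRingHom = I.map (algebraMap A E) :=
    le_antisymm (fun z hz => hπk z hz) hle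
  have hfinC : Module.Finite A C₀ := Module.Finite.trans (A ⧸ I) C₀
  have hfinQ : Module.Finite A (E ⧸ I.map (algebraMap A E)) := by
    let e1 : (E ⧸ I.map (algebraMap A E)) ≃ₐ[A] C₀ :=
      (Ideal.quotientEquivAlgOfEq A hker.symm).trans
        (Ideal.quotientKerAlgEquivOfSurjective hπs)
    exact Module.Finite.equiv e1.symm.toLinearEquiv
  have : Algebra.FiniteType A E := inferInstance
  obtain ⟨e, he, hmem, hfin⟩ := exists_idempotent_finite_quotient I E
  have hEtB : Algebra.Etale E (E ⧸ Ideal.span {1 - e}) := etale_quotient_of_isIdempotentElem he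
  have hEtAB : Algebra.Etale A (E ⧸ Ideal.span {1 - e}) := Algebra.Etale.comp A E _
  have hπe : ∀ a ∈ Ideal.span {1 - e}, π a = 0 := by
    intro a ha
    have : Ideal.span {1 - e} ≤ RingHom.ker π.toRingHom := by
      rw [Ideal.span_le, Set.singleton_subset_iff]
      exact hle hmem
    exact this ha
  let π' : (E ⧸ Ideal.span {1 - e}) →ₐ[A] C₀ := Ideal.Quotient.liftₐ _ π hπe
  have hπ' : ∀ z : E, π' (Ideal.Quotient.mk _ z) = π z := fun z => rfl
  have hπ's : Function.Surjective π' := fun c => by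
    obtain ⟨z, rfl⟩ := hπs c
    exact ⟨Ideal.Quotient.mk _ z, rfl⟩
  have hπ'k : ∀ b : E ⧸ Ideal.span {1 - e}, π' b = 0 →
      b ∈ I.map (algebraMap A (E ⧸ Ideal.span {1 - e})) := by
    intro b hb
    obtain ⟨z, rfl⟩ := Ideal.Quotient.mk_surjective b
    rw [hπ'] at hb
    have hz : z ∈ I.map (algebraMap A E) := hπk z hb
    have : I.map (algebraMap A (E ⧸ Ideal.span {1 - e})) =
        (I.map (algebraMap A E)).map (Ideal.Quotient.mk (Ideal.span {1 - e})) := by
      rw [Ideal.map_map]; rfl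
    rw [this]
    exact Ideal.mem_map_of_mem _ hz
  let ε₀ : (E ⧸ Ideal.span {1 - e}) ⊗[A] (A ⧸ I) →ₐ[A] C₀ :=
    Algebra.TensorProduct.lift π' (IsScalarTower.toAlgHom A (A ⧸ I) C₀)
      (fun _ _ => Commute.all _ _)
  have hε₀ : ∀ (b : E ⧸ Ideal.span {1 - e}) (x : A ⧸ I),
      ε₀ (b ⊗ₜ[A] x) = π' b * algebraMap (A ⧸ I) C₀ x := fun b x => by
    simp [ε₀]
  have hbij : Function.Bijective ε₀ := by
    constructor
    · rw [injective_iff_map_eq_zero]
      intro x hx
      obtain ⟨b, rfl⟩ := includeLeft_surjective I _ x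
      change ε₀ (b ⊗ₜ[A] (1 : A ⧸ I)) = 0 at hx
      rw [hε₀, map_one, mul_one] at hx
      exact (tmul_one_eq_zero_iff I _ b).mpr (hπ'k b hx)
    · intro c
      obtain ⟨b, rfl⟩ := hπ's c
      exact ⟨b ⊗ₜ[A] 1, by rw [hε₀, map_one, mul_one]⟩
  let ε : (E ⧸ Ideal.span {1 - e}) ⊗[A] (A ⧸ I) ≃+* C₀ :=
    RingEquiv.ofBijective ε₀.toRingHom hbij
  refine ⟨E ⧸ Ideal.span {1 - e}, inferInstance, inferInstance, hfin, hEtAB, ε.symm, ?_⟩
  intro x
  rw [RingEquiv.symm_apply_eq]
  change _ = ε₀ (1 ⊗ₜ[A] x)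
  rw [hε₀, map_one, one_mul]

end Lift

end Groth.Agent.Lib.Helper58.FEtHens
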