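import Mathlib
import Groth.Prelude.Def_FEt
import Groth.Agent.Lib.Helper58.FEtHensRing
import Groth.Agent.Lib.Helper58.FEtHensLift

set_option autoImplicit false

namespace Groth.Agent.Lib.Helper58.FEtHens

open AlgebraicGeometry CategoryTheory CategoryTheory.Limits TensorProduct
open Groth.Agent.Lib.Helper58.HenselPair

universe u

section Std

variable (A : Type u) [CommRing A]

/-- The standard finite étale cover `Spec B ⟶ Spec A` attached to a finite étale algebra. -/
noncomputable def mkObj (B : Type u) [CommRing B] [Algebra A B] [Module.Finite A B]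
    [Algebra.Etale A B] : FEt.Cat (Spec (CommRingCat.of A)) :=
  MorphismProperty.Over.mk ⊤ (Spec.map (CommRingCat.ofHom (algebraMap A B)))
    ⟨(IsFinite.SpecMap_iff _).mpr (by
        show (algebraMap A B).Finite
        rw [RingHom.finite_algebraMap]; infer_instance),
      (HasRingHomProperty.Spec_iff (P := @Etale)).mpr (by
        show (algebraMap A B).Etale
        rw [RingHom.etale_algebraMap]; infer_instance)⟩

@[simp] lemma mkObj_left (B : Type u) [CommRing B] [Algebra A B] [Module.Finite A B]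
    [Algebra.Etale A B] : (mkObj A B).left = Spec (CommRingCat.of B) := rfl

@[simp] lemma mkObj_hom (B : Type u) [CommRing B] [Algebra A B] [Module.Finite A B]
    [Algebra.Etale A B] :
    (mkObj A B).hom = Spec.map (CommRingCat.ofHom (algebraMap A B)) := rfl

variable {A}
variable (I : Ideal A)
variable {B C : Type u} [CommRing B] [CommRing C] [Algebra A B] [Algebra A C]

/-- The closed immersion `Spec (A ⧸ I) ⟶ Spec A`. -/
noncomputable abbrev ι : Spec (CommRingCat.of (A ⧸ I)) ⟶ Spec (CommRingCat.of A) :=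
  Spec.map (CommRingCat.ofHom (Ideal.Quotient.mk I))

/-- A morphism `Spec B ⟶ Spec C` over `Spec A` comes from an `A`-algebra map. -/
theorem exists_algHom_of_over (g : Spec (CommRingCat.of B) ⟶ Spec (CommRingCat.of C))
    (hg : g ≫ Spec.map (CommRingCat.ofHom (algebraMap A C)) =
      Spec.map (CommRingCat.ofHom (algebraMap A B))) :
    ∃ τ : C →ₐ[A] B, g = Spec.map (CommRingCat.ofHom τ.toRingHom) := by
  obtain ⟨ψ, rfl⟩ := Spec.map_surjective g
  rw [← Spec.map_comp, Spec.map_inj] at hg
  refine ⟨⟨ψ.hom, fun a => ?_⟩, rfl⟩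
  have := congrArg (fun φ => φ.hom a) hg
  simpa using this

end Std


section General

variable {X Y : Scheme.{u}} (f : X ⟶ Y)

theorem restrict_map_left_fst {P Q : FEt.Cat Y} (g : P ⟶ Q) :
    ((FEt.restrict f).map g).left ≫ pullback.fst Q.hom f = pullback.fst P.hom f ≫ g.left :=
  pullback.lift_fst _ _ _

theorem restrict_map_left_snd {P Q : FEt.Cat Y} (g : P ⟶ Q) :
    ((FEt.restrict f).map g).left ≫ pullback.snd Q.hom f = pullback.snd P.hom f :=
  pullback.lift_snd _ _ _

end General

section FF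

variable {A : Type u} [CommRing A] (I : Ideal A) [HenselianRing A I]
variable (B C : Type u) [CommRing B] [CommRing C] [Algebra A B] [Algebra A C]
variable [Module.Finite A B] [Algebra.Etale A B] [Module.Finite A C] [Algebra.Etale A C]

theorem restrict_map_injective_std :
    Function.Injective (fun g : mkObj A B ⟶ mkObj A C => (FEt.restrict (ι I)).map g) := by
  intro g₁ g₂ h
  obtain ⟨τ₁, h₁⟩ := exists_algHom_of_over g₁.left (MorphismProperty.Over.w g₁)
  obtain ⟨τ₂, h₂⟩ := exists_algHom_of_over g₂.left (MorphismProperty.Over.w g₂)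
  have hleft : pullback.fst (mkObj A B).hom (ι I) ≫ g₁.left =
      pullback.fst (mkObj A B).hom (ι I) ≫ g₂.left := by
    rw [← restrict_map_left_fst, ← restrict_map_left_fst]
    exact congrArg (fun k => k.left ≫ pullback.fst (mkObj A C).hom (ι I)) h
  have h3 : Spec.map (CommRingCat.ofHom (Algebra.TensorProduct.includeLeftRingHom :
        B →+* B ⊗[A] (A ⧸ I))) ≫ Spec.map (CommRingCat.ofHom τ₁.toRingHom) =
      Spec.map (CommRingCat.ofHom (Algebra.TensorProduct.includeLeftRingHom :
        B →+* B ⊗[A] (A ⧸ I))) ≫ Spec.map (CommRingCat.ofHom τ₂.toRingHom) := by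
    rw [← pullbackSpecIso_inv_fst, Category.assoc, Category.assoc, ← h₁, ← h₂]
    exact congrArg (fun k => (pullbackSpecIso A B (A ⧸ I)).inv ≫ k) hleft
  rw [← Spec.map_comp, ← Spec.map_comp, Spec.map_inj] at h3
  have hτ : τ₁ = τ₂ := by
    apply algHom_ext_of_sub_mem_jacobson (I.map (algebraMap A B))
      (map_le_jacobson_of_isIntegral HenselianRing.jac)
    intro c
    rw [← tmul_one_eq_zero_iff, sub_tmul, sub_eq_zero]
    exact congrArg (fun φ => φ.hom c) h3
  apply MorphismProperty.Over.Hom.ext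
  rw [h₁, h₂, hτ]

end FF


section General2

variable {X Y : Scheme.{u}} (f : X ⟶ Y)

theorem restrict_hom_ext {P Q : FEt.Cat Y} (g : P ⟶ Q)
    (h : (FEt.restrict f).obj P ⟶ (FEt.restrict f).obj Q)
    (H : pullback.fst P.hom f ≫ g.left = h.left ≫ pullback.fst Q.hom f) :
    (FEt.restrict f).map g = h := by
  apply MorphismProperty.Over.Hom.ext
  apply pullback.hom_ext
  · exact (restrict_map_left_fst f g).trans H
  · exact (restrict_map_left_snd f g).trans (MorphismProperty.Over.w h).symm

end General2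

section FFsurj

variable {A : Type u} [CommRing A] (I : Ideal A)
variable (B C : Type u) [CommRing B] [CommRing C] [Algebra A B] [Algebra A C]

theorem includeRight_comp_mk :
    (CommRingCat.ofHom (Ideal.Quotient.mk I)) ≫
      (CommRingCat.ofHom (RingHomClass.toRingHom
        (Algebra.TensorProduct.includeRight : (A ⧸ I) →ₐ[A] B ⊗[A] (A ⧸ I)))) =
    CommRingCat.ofHom (algebraMap A (B ⊗[A] (A ⧸ I))) := by
  ext a
  change (1 : B) ⊗ₜ[A] (Ideal.Quotient.mk I a) = algebraMap A (B ⊗[A] (A ⧸ I)) a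
  rw [Algebra.TensorProduct.algebraMap_apply, Algebra.algebraMap_eq_smul_one, smul_tmul,
    ← Algebra.algebraMap_eq_smul_one]
  rfl

variable [HenselianRing A I]
variable [Module.Finite A B] [Algebra.Etale A B] [Module.Finite A C] [Algebra.Etale A C]

theorem restrict_map_surjective_std :
    Function.Surjective (fun g : mkObj A B ⟶ mkObj A C => (FEt.restrict (ι I)).map g) := by
  intro h
  obtain ⟨hl, hhl⟩ : ∃ hl : pullback (Spec.map (CommRingCat.ofHom (algebraMap A B))) (ι I) ⟶
      pullback (Spec.map (CommRingCat.ofHom (algebraMap A C))) (ι I), hl = h.left := ⟨h.left, rfl⟩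
  have hw : hl ≫ pullback.snd (Spec.map (CommRingCat.ofHom (algebraMap A C))) (ι I) =
      pullback.snd (Spec.map (CommRingCat.ofHom (algebraMap A B))) (ι I) := by
    rw [hhl]; exact MorphismProperty.Over.w h
  -- the composite `Spec (B ⊗ A/I) ⟶ Spec C`
  let k : Spec (CommRingCat.of (B ⊗[A] (A ⧸ I))) ⟶ Spec (CommRingCat.of C) :=
    (pullbackSpecIso A B (A ⧸ I)).inv ≫ hl ≫
      pullback.fst (Spec.map (CommRingCat.ofHom (algebraMap A C))) (ι I)
  have e1 : pullback.fst (Spec.map (CommRingCat.ofHom (algebraMap A C))) (ι I) ≫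
      Spec.map (CommRingCat.ofHom (algebraMap A C)) =
      pullback.snd (Spec.map (CommRingCat.ofHom (algebraMap A C))) (ι I) ≫ ι I :=
    pullback.condition
  have e2 : (pullbackSpecIso A B (A ⧸ I)).inv ≫
      pullback.snd (Spec.map (CommRingCat.ofHom (algebraMap A B))) (ι I) = _ :=
    pullbackSpecIso_inv_snd A B (A ⧸ I)
  have hk : k ≫ Spec.map (CommRingCat.ofHom (algebraMap A C)) =
      Spec.map (CommRingCat.ofHom (algebraMap A (B ⊗[A] (A ⧸ I)))) := by
    calc k ≫ Spec.map (CommRingCat.ofHom (algebraMap A C))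
        = (pullbackSpecIso A B (A ⧸ I)).inv ≫ hl ≫
            (pullback.fst (Spec.map (CommRingCat.ofHom (algebraMap A C))) (ι I) ≫
              Spec.map (CommRingCat.ofHom (algebraMap A C))) := by
          simp only [k, Category.assoc]
      _ = ((pullbackSpecIso A B (A ⧸ I)).inv ≫
            pullback.snd (Spec.map (CommRingCat.ofHom (algebraMap A B))) (ι I)) ≫ ι I := by
          rw [e1, ← Category.assoc hl, hw, Category.assoc]
      _ = _ := by rw [e2, ← Spec.map_comp, includeRight_comp_mk]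
  obtain ⟨σ, hσ⟩ := exists_algHom_of_over k hk
  have : Algebra.IsIntegral A B := Algebra.IsIntegral.of_finite A B
  obtain ⟨τ, hτ, -⟩ := existsUnique_lift_includeLeft I σ
  have hw' : Spec.map (CommRingCat.ofHom τ.toRingHom) ≫ (mkObj A C).hom = (mkObj A B).hom := by
    rw [mkObj_hom, mkObj_hom, ← Spec.map_comp]
    congr 1
    ext a
    exact τ.commutes a
  refine ⟨MorphismProperty.Over.homMk (Spec.map (CommRingCat.ofHom τ.toRingHom)) hw', ?_⟩
  apply restrict_hom_ext
  show pullback.fst (Spec.map (CommRingCat.ofHom (algebraMap A B))) (ι I) ≫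
      Spec.map (CommRingCat.ofHom τ.toRingHom) =
    h.left ≫ pullback.fst (Spec.map (CommRingCat.ofHom (algebraMap A C))) (ι I)
  rw [← hhl, ← cancel_epi (pullbackSpecIso A B (A ⧸ I)).inv]
  change _ = k
  rw [hσ, pullbackSpecIso_inv_fst_assoc, ← Spec.map_comp]
  congr 1
  ext c
  exact AlgHom.congr_fun hτ c

end FFsurj


section Objects

variable {A : Type u} [CommRing A]

/-- An affine scheme over `Spec A` is `Spec` of an `A`-algebra. -/
theorem exists_iso_Spec_of_isAffine {X : Scheme.{u}} [IsAffine X]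
    (f : X ⟶ Spec (CommRingCat.of A)) :
    ∃ (B : Type u) (_ : CommRing B) (_ : Algebra A B) (e : X ≅ Spec (CommRingCat.of B)),
      f = e.hom ≫ Spec.map (CommRingCat.ofHom (algebraMap A B)) := by
  let φ : CommRingCat.of A ⟶ Γ(X, ⊤) := (Scheme.ΓSpecIso (CommRingCat.of A)).inv ≫ f.appTop
  let _ : Algebra A Γ(X, ⊤) := φ.hom.toAlgebra
  refine ⟨Γ(X, ⊤), inferInstance, inferInstance, X.isoSpec, ?_⟩
  have h1 := Scheme.isoSpec_hom_naturality f
  rw [Scheme.isoSpec_Spec_hom] at h1
  have h2 : Spec.map (CommRingCat.ofHom (algebraMap A Γ(X, ⊤))) =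
      Spec.map f.appTop ≫ Spec.map (Scheme.ΓSpecIso (CommRingCat.of A)).inv := by
    rw [← Spec.map_comp]; rfl
  rw [h2, ← Category.assoc, h1, Category.assoc, ← Spec.map_comp, Iso.inv_hom_id, Spec.map_id,
    Category.comp_id]

/-- Finite étale morphisms to `Spec A` are `Spec` of finite étale algebras. -/
theorem exists_iso_Spec_of_finite_etale {X : Scheme.{u}}
    (f : X ⟶ Spec (CommRingCat.of A)) (hf : IsFinite f) (hf' : Etale f) :
    ∃ (B : Type u) (_ : CommRing B) (_ : Algebra A B) (_ : Module.Finite A B)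
      (_ : Algebra.Etale A B) (e : X ≅ Spec (CommRingCat.of B)),
      f = e.hom ≫ Spec.map (CommRingCat.ofHom (algebraMap A B)) := by
  have : IsAffine X := isAffine_of_isAffineHom f
  obtain ⟨B, _, _, e, he⟩ := exists_iso_Spec_of_isAffine f
  have he' : Spec.map (CommRingCat.ofHom (algebraMap A B)) = e.inv ≫ f := by
    rw [he, Iso.inv_hom_id_assoc]
  have h1 : IsFinite (Spec.map (CommRingCat.ofHom (algebraMap A B))) := by
    rw [he']; infer_instance
  have h2 : Etale (Spec.map (CommRingCat.ofHom (algebraMap A B))) := by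
    rw [he']; infer_instance
  have h1' : (algebraMap A B).Finite := (IsFinite.SpecMap_iff _).mp h1
  have h2' : (algebraMap A B).Etale := (HasRingHomProperty.Spec_iff (P := @Etale)).mp h2
  rw [RingHom.finite_algebraMap] at h1'
  rw [RingHom.etale_algebraMap] at h2'
  exact ⟨B, _, _, h1', h2', e, he⟩

theorem exists_iso_mkObj (Y : FEt.Cat (Spec (CommRingCat.of A))) :
    ∃ (B : Type u) (_ : CommRing B) (_ : Algebra A B) (_ : Module.Finite A B)
      (_ : Algebra.Etale A B), Nonempty (Y ≅ mkObj A B) := by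
  obtain ⟨B, _, _, h1, h2, e, he⟩ := exists_iso_Spec_of_finite_etale Y.hom Y.prop.1 Y.prop.2
  exact ⟨B, _, _, h1, h2, ⟨MorphismProperty.Over.isoMk e he.symm⟩⟩

end Objects

section Cat

variable {C D : Type*} [Category C] [Category D] (F : C ⥤ D)

/-- A functor is fully faithful as soon as it is so on a class of objects meeting every
isomorphism class. -/
theorem full_faithful_of_iso (P : C → Prop) (hP : ∀ X, ∃ X', P X' ∧ Nonempty (X ≅ X'))
    (h : ∀ X Y, P X → P Y → Function.Bijective (fun g : X ⟶ Y => F.map g)) :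
    F.Full ∧ F.Faithful := by
  constructor
  · constructor
    intro X Y k
    obtain ⟨X', hX', ⟨eX⟩⟩ := hP X
    obtain ⟨Y', hY', ⟨eY⟩⟩ := hP Y
    obtain ⟨g', hg'⟩ := (h X' Y' hX' hY').2 (F.map eX.inv ≫ k ≫ F.map eY.hom)
    replace hg' : F.map g' = F.map eX.inv ≫ k ≫ F.map eY.hom := hg'
    refine ⟨eX.hom ≫ g' ≫ eY.inv, ?_⟩
    simp only [Functor.map_comp]
    rw [hg']
    simp [← CategoryTheory.Functor.map_comp_assoc, ← CategoryTheory.Functor.map_comp]
  · constructor
    intro X Y g₁ g₂ hg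
    obtain ⟨X', hX', ⟨eX⟩⟩ := hP X
    obtain ⟨Y', hY', ⟨eY⟩⟩ := hP Y
    have := (h X' Y' hX' hY').1 (a₁ := eX.inv ≫ g₁ ≫ eY.hom) (a₂ := eX.inv ≫ g₂ ≫ eY.hom) (by
      simp only [Functor.map_comp]; rw [hg])
    rw [← cancel_epi eX.inv, ← cancel_mono eY.hom]
    simpa using this

end Cat


section EssSurj

variable {A : Type u} [CommRing A] (I : Ideal A) [HenselianRing A I]

theorem restrict_essSurj : (FEt.restrict (ι I)).EssSurj := by
  constructor
  intro Y₀
  obtain ⟨C₀, _, _, h1, h2, e₀, he₀⟩ :=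
    exists_iso_Spec_of_finite_etale Y₀.hom Y₀.prop.1 Y₀.prop.2
  obtain ⟨B, _, _, hB1, hB2, ε, hε⟩ := exists_finite_etale_lift I C₀
  refine ⟨mkObj A B, ⟨?_⟩⟩
  -- the isomorphism `Spec (B ⊗ A/I) ≅ Spec C₀`
  let j : Spec (CommRingCat.of (B ⊗[A] (A ⧸ I))) ≅ Spec (CommRingCat.of C₀) :=
    (Scheme.Spec.mapIso ε.toCommRingCatIso.op)
  have hj : j.hom = Spec.map (CommRingCat.ofHom ε.toRingHom) := rfl
  let l : pullback (Spec.map (CommRingCat.ofHom (algebraMap A B))) (ι I) ≅ Y₀.left :=
    pullbackSpecIso A B (A ⧸ I) ≪≫ j ≪≫ e₀.symm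
  refine MorphismProperty.Over.isoMk l ?_
  show l.hom ≫ Y₀.hom = pullback.snd (Spec.map (CommRingCat.ofHom (algebraMap A B))) (ι I)
  rw [he₀]
  simp only [l, Iso.trans_hom, Iso.symm_hom, Category.assoc, Iso.inv_hom_id_assoc]
  rw [hj, ← Spec.map_comp]
  have : CommRingCat.ofHom (algebraMap (A ⧸ I) C₀) ≫ CommRingCat.ofHom ε.toRingHom =
      CommRingCat.ofHom (RingHomClass.toRingHom
        (Algebra.TensorProduct.includeRight : (A ⧸ I) →ₐ[A] B ⊗[A] (A ⧸ I))) := by
    ext x
    exact hε x
  rw [this]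
  exact pullbackSpecIso_hom_snd A B (A ⧸ I)

end EssSurj

section Main

variable {A : Type u} [CommRing A] (I : Ideal A) [HenselianRing A I]

/-- **Finite étale covers over a henselian pair**: restriction to the closed subscheme is an
equivalence `FEt (Spec A) ≌ FEt (Spec A ⧸ I)`. -/
theorem restrict_isEquivalence : (FEt.restrict (ι I)).IsEquivalence := by
  obtain ⟨hfull, hfaith⟩ := full_faithful_of_iso (FEt.restrict (ι I))
    (fun Y => ∃ (B : Type u) (_ : CommRing B) (_ : Algebra A B) (_ : Module.Finite A B)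
      (_ : Algebra.Etale A B), Y = mkObj A B)
    (fun Y => by
      obtain ⟨B, _, _, h1, h2, ⟨e⟩⟩ := exists_iso_mkObj Y
      exact ⟨mkObj A B, ⟨B, _, _, h1, h2, rfl⟩, ⟨e⟩⟩)
    (by
      rintro _ _ ⟨B, _, _, h1, h2, rfl⟩ ⟨C, _, _, h3, h4, rfl⟩
      exact ⟨restrict_map_injective_std I B C, restrict_map_surjective_std I B C⟩)
  have := restrict_essSurj I
  exact { }

end Main

end Groth.Agent.Lib.Helper58.FEtHens
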