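import Mathlib
import Groth.Agent.Lib.Helper87.GeomUnibranchSmooth

set_option autoImplicit false
set_option linter.style.haveILetI false
universe u

/-!
# Spreading out: unramified + injective over a geometrically unibranch domain is étale nearby

Refactoring of `Groth.Agent.Lib.Helper87.UnramUnibranch.flat_localRingHom_of_unramified` which
exports the vanishing of the kernel of the standard étale surjection near the prime, plus a
spreading-out lemma for étale algebras over domains (finitely many minimal primes via the generic
fibre), yielding an étale principal open neighbourhood for algebras of finite type.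
-/

open IsLocalRing TensorProduct

namespace Groth.Agent.Lib.Helper58.UnramSpread

open Groth.Agent.Lib.Helper87.GeomUnibranchSmooth

section Spread

/-- In an étale algebra `E` over a domain, an ideal `N` whose elements are killed locally at a
prime `Q` is killed by a single element outside `Q`. -/
theorem exists_notMem_forall_mul_eq_zero (A : Type u) {E : Type u} [CommRing A] [IsDomain A]
    [CommRing E] [Algebra A E] [Algebra.Etale A E] (Q : Ideal E) [Q.IsPrime] (N : Ideal E)
    (hN : ∀ x ∈ N, ∃ s, s ∉ Q ∧ s * x = 0) :
    ∃ g, g ∉ Q ∧ ∀ x ∈ N, g * x = 0 := by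
  classical
  let K := FractionRing A
  let L := K ⊗[A] E
  have : Module.Finite K L := Algebra.FormallyUnramified.finite_of_free K L
  have : IsArtinianRing L := IsArtinianRing.of_finite K L
  have : IsReduced L := Algebra.FormallyUnramified.isReduced_of_field K L
  let ι : E →ₐ[A] L := Algebra.TensorProduct.includeRight
  have hι : Function.Injective ι :=
    Algebra.TensorProduct.includeRight_injective (IsFractionRing.injective A K)
  haveI : Finite (PrimeSpectrum L) := inferInstance
  let _ := Fintype.ofFinite (PrimeSpectrum L)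
  let Pf : PrimeSpectrum L → Ideal E := fun n => n.asIdeal.comap ι.toRingHom
  have hPprime : ∀ n, (Pf n).IsPrime := fun n => Ideal.comap_isPrime _ _
  have hinf : ∀ x : E, (∀ n, x ∈ Pf n) → x = 0 := by
    intro x hx
    apply hι
    rw [map_zero]
    have h1 : ι x ∈ nilradical L := by
      rw [nilradical_eq_sInf, Ideal.mem_sInf]
      intro p hp
      exact hx ⟨p, hp⟩
    rw [nilradical_eq_zero L] at h1
    exact h1
  let T : Finset (PrimeSpectrum L) := Finset.univ.filter (fun n => ¬ Pf n ≤ Q)
  have hT : ¬ (T.inf Pf ≤ Q) := by
    rw [Ideal.IsPrime.inf_le' ‹Q.IsPrime›]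
    push Not
    intro n hn
    exact (Finset.mem_filter.mp hn).2
  obtain ⟨g, hgT, hgQ⟩ := SetLike.not_le_iff_exists.mp hT
  refine ⟨g, hgQ, fun x hx => hinf _ (fun n => ?_)⟩
  by_cases hn : Pf n ≤ Q
  · obtain ⟨s, hs, hsx⟩ := hN x hx
    have h0 : s * x ∈ Pf n := by rw [hsx]; exact zero_mem _
    rcases (hPprime n).mem_or_mem h0 with h | h
    · exact absurd (hn h) hs
    · exact Ideal.mul_mem_left _ _ h
  · have h1 : g ∈ Pf n :=
      (Finset.inf_le (Finset.mem_filter.mpr ⟨Finset.mem_univ _, hn⟩) : T.inf Pf ≤ Pf n) hgT
    exact Ideal.mul_mem_right _ _ h1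

end Spread

section LemmaB

variable (R S : Type u) [CommRing R] [CommRing S] [Algebra R S]

/-- Refactoring of helper87's `flat_localRingHom_of_unramified`: for a standard étale surjection
`φ : E → S_g` (with `g ∉ q`), the kernel of `φ` dies in the localization of `E` at the prime
below `q`, when `R_p` is a geometrically unibranch domain and `R_p → S_q` is injective. -/
theorem exists_kill_of_ker (p : Ideal R) [p.IsPrime] (q : Ideal S) [q.IsPrime]
    (hpq : p = q.comap (algebraMap R S))
    (hPD : PDGU (Localization.AtPrime p))
    (hinj : Function.Injective (Localization.localRingHom p q (algebraMap R S) hpq))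
    (g : S) (hgq : g ∉ q) (P : StandardEtalePair R) (φ : P.Ring →ₐ[R] Localization.Away g) :
    ∃ ι : Localization.Away g →ₐ[R] Localization.AtPrime q,
      (∀ s : S, ι (algebraMap S (Localization.Away g) s) =
        algebraMap S (Localization.AtPrime q) s) ∧
      ((maximalIdeal (Localization.AtPrime q)).comap (ι.comp φ).toRingHom).IsPrime ∧
      ∀ x, φ x = 0 → ∃ s : P.Ring,
        s ∉ (maximalIdeal (Localization.AtPrime q)).comap (ι.comp φ).toRingHom ∧ s * x = 0 := by
  subst hpq
  set p : Ideal R := q.comap (algebraMap R S) with hp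
  set T := Localization.AtPrime q with hT
  have hgu : IsUnit ((IsScalarTower.toAlgHom R S T) g) :=
    IsLocalization.map_units T (⟨g, hgq⟩ : q.primeCompl)
  let ι : Localization.Away g →ₐ[R] T := IsLocalization.Away.liftAlgHom g hgu
  have hι : ∀ s : S, ι (algebraMap S (Localization.Away g) s) = algebraMap S T s := by
    intro s
    show IsLocalization.Away.lift g hgu _ = _
    rw [IsLocalization.Away.lift_eq]
    rfl
  let ψ : P.Ring →ₐ[R] T := ι.comp φ
  set Q' : Ideal P.Ring := (maximalIdeal T).comap ψ.toRingHom with hQ'
  haveI : Q'.IsPrime := Ideal.comap_isPrime _ _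
  refine ⟨ι, hι, inferInstance, ?_⟩
  have hQ'p : Q'.comap (algebraMap R P.Ring) = p := by
    ext r
    rw [Ideal.mem_comap, hQ', Ideal.mem_comap]
    have h1 : ψ.toRingHom (algebraMap R P.Ring r) = algebraMap S T (algebraMap R S r) := by
      show ψ (algebraMap R P.Ring r) = _
      rw [ψ.commutes, IsScalarTower.algebraMap_apply R S T]
    rw [h1, IsLocalization.AtPrime.to_map_mem_maximal_iff T q]
    rfl
  have key : ∀ (p' : Ideal R) [p'.IsPrime], p' = p →
      (PDGU (Localization.AtPrime p') ↔ PDGU (Localization.AtPrime p)) := by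
    intro p' _ h
    subst h
    rfl
  have hPDE : PDGU (Localization.AtPrime Q') :=
    (pdgu_iff_smooth R P.Ring Q').mp ((key _ hQ'p).mpr hPD)
  obtain ⟨_, hdomE, -⟩ := hPDE
  haveI := hdomE
  have hunit : ∀ y : Q'.primeCompl, IsUnit (ψ.toRingHom y) := by
    intro y
    by_contra hnu
    exact y.2 hnu
  let ψ' : Localization.AtPrime Q' →+* T := IsLocalization.lift (M := Q'.primeCompl) hunit
  have hψ' : ∀ e : P.Ring, ψ' (algebraMap P.Ring (Localization.AtPrime Q') e) = ψ e := by
    intro e
    exact IsLocalization.lift_eq _ _
  have hψ'R : ∀ r : R, ψ' (algebraMap R (Localization.AtPrime Q') r) = algebraMap R T r := by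
    intro r
    rw [IsScalarTower.algebraMap_apply R P.Ring (Localization.AtPrime Q'), hψ', ψ.commutes]
  have hker : ∀ r : R, algebraMap R T r = 0 → algebraMap R (Localization.AtPrime Q') r = 0 := by
    intro r hr
    have h1 : Localization.localRingHom p q (algebraMap R S) rfl
        (algebraMap R (Localization.AtPrime p) r) = 0 := by
      rw [Localization.localRingHom_to_map, ← IsScalarTower.algebraMap_apply]
      exact hr
    have h2 : algebraMap R (Localization.AtPrime p) r = 0 := by
      apply hinj
      rw [h1, map_zero]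
    obtain ⟨s, hs⟩ := (IsLocalization.map_eq_zero_iff p.primeCompl _ r).mp h2
    have hsu : IsUnit (algebraMap R (Localization.AtPrime Q') (s : R)) := by
      rw [IsScalarTower.algebraMap_apply R P.Ring (Localization.AtPrime Q')]
      refine IsLocalization.map_units (Localization.AtPrime Q')
        (⟨algebraMap R P.Ring (s : R), ?_⟩ : Q'.primeCompl)
      intro hmem
      have : (s : R) ∈ Q'.comap (algebraMap R P.Ring) := hmem
      rw [hQ'p] at this
      exact s.2 this
    have h3 : algebraMap R (Localization.AtPrime Q') (s : R) *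
        algebraMap R (Localization.AtPrime Q') r = 0 := by
      rw [← map_mul, hs, map_zero]
    exact hsu.mul_right_eq_zero.mp h3
  have hinj' : Function.Injective ψ' := by
    set K : Ideal R := RingHom.ker (algebraMap R (Localization.AtPrime Q')) with hK
    haveI : K.IsPrime := RingHom.ker_isPrime _
    set M : Submonoid T := K.primeCompl.map (algebraMap R T) with hM
    have hdisj : Disjoint ((⊥ : Ideal T) : Set T) (M : Set T) := by
      rw [Set.disjoint_left]
      rintro t ht ⟨r, hr, rfl⟩
      have h0 : algebraMap R T r = 0 := ht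
      exact hr (hker r h0)
    obtain ⟨𝔓, h𝔓prime, -, h𝔓disj⟩ := Ideal.exists_le_prime_disjoint (⊥ : Ideal T) M hdisj
    haveI := h𝔓prime
    set P₁ : Ideal (Localization.AtPrime Q') := 𝔓.comap ψ' with hP₁
    haveI : P₁.IsPrime := Ideal.comap_isPrime _ _
    haveI : (⊥ : Ideal (Localization.AtPrime Q')).IsPrime := Ideal.isPrime_bot
    have hunder : (⊥ : Ideal (Localization.AtPrime Q')).under R = P₁.under R := by
      apply le_antisymm
      · exact Ideal.comap_mono bot_le
      · intro r hr
        have h1 : algebraMap R T r ∈ 𝔓 := by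
          have : ψ' (algebraMap R (Localization.AtPrime Q') r) ∈ 𝔓 := hr
          rwa [hψ'R] at this
        by_contra hnot
        have hrK : r ∈ K.primeCompl := by
          intro hrK
          apply hnot
          show algebraMap R (Localization.AtPrime Q') r ∈ (⊥ : Ideal _)
          rw [Ideal.mem_bot]
          exact hrK
        exact Set.disjoint_left.mp h𝔓disj h1 ⟨r, hrK, rfl⟩
    have heq : (⊥ : Ideal (Localization.AtPrime Q')) = P₁ :=
      Algebra.QuasiFinite.eq_of_le_of_under_eq (R := R) _ _ bot_le hunder
    rw [injective_iff_map_eq_zero]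
    intro x hx
    have hxP : x ∈ P₁ := by
      show ψ' x ∈ 𝔓
      rw [hx]
      exact 𝔓.zero_mem
    rw [← heq] at hxP
    exact hxP
  intro x hx
  have h0 : algebraMap P.Ring (Localization.AtPrime Q') x = 0 := by
    apply hinj'
    rw [hψ', map_zero]
    show ι (φ x) = 0
    rw [hx, map_zero]
  obtain ⟨s, hs⟩ := (IsLocalization.map_eq_zero_iff Q'.primeCompl _ x).mp h0
  exact ⟨s, s.2, hs⟩

end LemmaB

section Main

variable {A B : Type u} [CommRing A] [IsDomain A] [CommRing B] [Algebra A B]
  [Algebra.FiniteType A B]

/-- **Stacks 0GSB-type**: `A` a domain, `B` of finite type, unramified at `q` over `p`, with `A_p`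
geometrically unibranch and `A_p → B_q` injective: then `B_g` is étale over `A` for some
`g ∉ q`. -/
theorem exists_etale_away (q : Ideal B) [q.IsPrime] (p : Ideal A) [p.IsPrime] [q.LiesOver p]
    (hA : CAlg2.IsGeomUnibranch (Localization.AtPrime p)) [Algebra.IsUnramifiedAt A q]
    (hinj : Function.Injective
      (Localization.localRingHom p q (algebraMap A B) (q.over_def p))) :
    ∃ g : B, g ∉ q ∧ Algebra.Etale A (Localization.Away g) := by
  obtain ⟨g, hgq, P, φ, hφ⟩ :=
    Algebra.IsUnramifiedAt.exists_hasStandardEtaleSurjectionOn (R := A) q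
  have hPD : PDGU (Localization.AtPrime p) := ⟨inferInstance, inferInstance, hA⟩
  obtain ⟨ι, hι, hQ'prime, hkill⟩ :=
    exists_kill_of_ker A B p q (q.over_def p) hPD hinj g hgq P φ
  set Q' : Ideal P.Ring :=
    (maximalIdeal (Localization.AtPrime q)).comap (ι.comp φ).toRingHom with hQ'
  haveI := hQ'prime
  obtain ⟨g', hg'Q, hg'⟩ := exists_notMem_forall_mul_eq_zero A Q' (RingHom.ker φ.toRingHom)
    (fun x hx => hkill x hx)
  -- the induced map on localizations is bijective
  let φ' : Localization.Away g' →ₐ[A] Localization.Away (φ g') := Localization.awayMapₐ φ g'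
  have hinjφ : Function.Injective (Localization.awayMap φ.toRingHom g') := by
    rw [Localization.awayMap_injective_iff]
    intro a ha
    exact ⟨1, by rw [pow_one]; exact hg' a ha⟩
  have hsurjφ : Function.Surjective (Localization.awayMap φ.toRingHom g') := by
    rw [Localization.awayMap_surjective_iff]
    intro a
    obtain ⟨b, hb⟩ := hφ a
    exact ⟨b, 0, by rw [pow_zero, one_mul]; exact hb⟩
  have hbij : Function.Bijective φ' := ⟨hinjφ, hsurjφ⟩
  haveI : Algebra.Etale A (Localization.Away g') := Algebra.Etale.comp A P.Ring _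
  have hT' : Algebra.Etale A (Localization.Away (φ g')) :=
    Algebra.Etale.of_equiv (AlgEquiv.ofBijective φ' hbij)
  -- write `φ g' = b / g ^ n`
  obtain ⟨⟨b, ⟨_, n, rfl⟩⟩, hb⟩ := IsLocalization.surj (Submonoid.powers g) (φ g')
  have hb' : φ g' * algebraMap B (Localization.Away g) g ^ n =
      algebraMap B (Localization.Away g) b := by
    rw [← map_pow]; exact hb
  have hgunit : IsUnit (algebraMap B (Localization.Away g) g) :=
    IsLocalization.Away.algebraMap_isUnit g
  have hassoc : Associated (algebraMap B (Localization.Away g) b) (φ g') := by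
    refine Associated.symm ⟨(hgunit.pow n).unit, ?_⟩
    rw [IsUnit.unit_spec]
    exact hb'
  haveI : IsScalarTower B (Localization.Away g) (Localization.Away (φ g')) := inferInstance
  haveI : IsLocalization.Away (g * b) (Localization.Away (φ g')) :=
    IsLocalization.Away.mul_of_associated g b (φ g') hassoc
  haveI : IsScalarTower A B (Localization.Away (φ g')) := inferInstance
  let e : Localization.Away (g * b) ≃ₐ[B] Localization.Away (φ g') :=
    IsLocalization.algEquiv (Submonoid.powers (g * b)) _ _
  refine ⟨g * b, ?_, Algebra.Etale.of_equiv (e.symm.restrictScalars A)⟩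
  -- `g * b ∉ q`
  intro hmem
  have hbq : b ∈ q := by
    rcases ‹q.IsPrime›.mem_or_mem hmem with h | h
    · exact absurd h hgq
    · exact h
  apply hg'Q
  rw [hQ', Ideal.mem_comap]
  show ι (φ g') ∈ maximalIdeal (Localization.AtPrime q)
  have h1 : ι (φ g') * (algebraMap B (Localization.AtPrime q) g) ^ n =
      algebraMap B (Localization.AtPrime q) b := by
    rw [← hι, ← hι, ← map_pow, ← map_mul, hb']
  have h2 : algebraMap B (Localization.AtPrime q) b ∈ maximalIdeal (Localization.AtPrime q) :=
    (IsLocalization.AtPrime.to_map_mem_maximal_iff _ q b).mpr hbq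
  rw [← h1] at h2
  have hgu : IsUnit ((algebraMap B (Localization.AtPrime q) g) ^ n) :=
    (IsLocalization.map_units (Localization.AtPrime q) (⟨g, hgq⟩ : q.primeCompl)).pow n
  exact (Ideal.unit_mul_mem_iff_mem _ hgu).mp (by rwa [mul_comm] at h2)

end Main

end Groth.Agent.Lib.Helper58.UnramSpread
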