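import Mathlib

set_option autoImplicit false
set_option linter.style.haveILetI false

namespace Groth.Agent.Lib.Helper58.HartogsQCCore

variable {A M N : Type*} [CommRing A] [AddCommGroup M] [Module A M]
  [AddCommGroup N] [Module A N]

theorem exists_mul_pow_mem_of_mem_minimalPrimes {I P : Ideal A} (hP : P ∈ I.minimalPrimes)
    {a : A} (ha : a ∈ P) : ∃ e, e ∉ P ∧ ∃ n : ℕ, e * a ^ n ∈ I := by
  haveI : P.IsPrime := hP.1.1
  have h1 := IsLocalization.AtPrime.radical_map_of_mem_minimalPrimes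
    (A := Localization.AtPrime P) P I hP
  have h2 : algebraMap A (Localization.AtPrime P) a ∈
      (I.map (algebraMap A (Localization.AtPrime P))).radical := by
    rw [h1]; exact Ideal.mem_map_of_mem _ ha
  obtain ⟨n, hn⟩ := h2
  rw [IsLocalization.mem_map_algebraMap_iff (M := P.primeCompl)] at hn
  obtain ⟨⟨c, s⟩, hcs⟩ := hn
  rw [← map_pow, ← map_mul, IsLocalization.eq_iff_exists P.primeCompl] at hcs
  obtain ⟨t, ht⟩ := hcs
  refine ⟨t.1 * s.1, fun h => (P.primeCompl.mul_mem t.2 s.2) h, n, ?_⟩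
  have : t.1 * s.1 * a ^ n = t.1 * c.1 := by
    rw [mul_assoc, mul_comm s.1, ht]
  rw [this]
  exact I.mul_mem_left _ c.2

theorem pow_reg {P : Ideal A} [hP : P.IsPrime] {a : A}
    (h1 : ∀ m : M, a • m = 0 → ∃ e, e ∉ P ∧ e • m = 0) (n : ℕ) :
    ∀ m : M, a ^ n • m = 0 → ∃ e, e ∉ P ∧ e • m = 0 := by
  induction n with
  | zero => intro m hm; exact ⟨1, fun h => hP.ne_top ((Ideal.eq_top_iff_one P).2 h), by simpa using hm⟩
  | succ n ih =>
    intro m hm
    rw [pow_succ', mul_smul] at hm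
    obtain ⟨e, he, hem⟩ := h1 _ hm
    have : a ^ n • (e • m) = 0 := by rw [smul_comm]; exact hem
    obtain ⟨e', he', hem'⟩ := ih _ this
    exact ⟨e' * e, fun h => (hP.mem_or_mem h).elim he' he, by rw [mul_smul]; exact hem'⟩

/-- the annihilator ideal of an element -/
def ann (m : M) : Ideal A := LinearMap.ker (LinearMap.toSpanSingleton A M m)

theorem mem_ann (m : M) (r : A) : r ∈ ann (A := A) m ↔ r • m = 0 := by
  simp [ann, LinearMap.mem_ker]

theorem ann_ne_top {m : M} (hm : m ≠ 0) : ann (A := A) m ≠ ⊤ := by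
  intro h
  apply hm
  have : (1 : A) ∈ ann (A := A) m := h ▸ Submodule.mem_top
  simpa [mem_ann] using this

theorem injective_of_forall_prime (φ : M →ₗ[A] N)
    (h : ∀ (p : Ideal A), p.IsPrime →
      (∀ m : M, φ m = 0 → ∃ f, f ∉ p ∧ f • m = 0) ∨
      (∃ a ∈ p, ∀ m : M, a • m = 0 → ∃ e, e ∉ p ∧ e • m = 0)) :
    Function.Injective φ := by
  rw [injective_iff_map_eq_zero]
  intro m hm
  by_contra hne
  obtain ⟨⟨P, hP⟩⟩ := Ideal.nonempty_minimalPrimes (ann_ne_top (A := A) hne)
  haveI hPp : P.IsPrime := hP.1.1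
  have hle : ann (A := A) m ≤ P := hP.1.2
  rcases h P hPp with h1 | ⟨a, haP, h2⟩
  · obtain ⟨f, hfP, hf⟩ := h1 m hm
    exact hfP (hle ((mem_ann m f).2 hf))
  · obtain ⟨e, heP, n, hn⟩ := exists_mul_pow_mem_of_mem_minimalPrimes hP haP
    rw [mem_ann, mul_comm, mul_smul] at hn
    obtain ⟨e', he'P, he'⟩ := pow_reg h2 n _ hn
    rw [← mul_smul] at he'
    exact (hPp.mem_or_mem (hle ((mem_ann m _).2 he'))).elim he'P heP

/-- The hypothesis at a prime used for surjectivity. -/
def SurjCond (φ : M →ₗ[A] N) (p : Ideal A) : Prop :=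
  (∀ t : N, ∃ f, f ∉ p ∧ f • t ∈ LinearMap.range φ) ∨
    ((∃ S : Finset A, (∀ c ∈ S, c ∈ p) ∧
        ∀ t : N, (∀ c ∈ S, ∃ n : ℕ, c ^ n • t = 0) → t = 0) ∧
      ∃ a ∈ p, ∃ b ∈ p,
        (∀ m : M, a • m = 0 → ∃ e, e ∉ p ∧ e • m = 0) ∧
        (∀ m1 m2 : M, b • m1 = a • m2 → ∃ c, c ∉ p ∧ ∃ m' : M, c • m1 = a • m'))

theorem reg_on_target (φ : M →ₗ[A] N) (hinj : Function.Injective φ)
    (h : ∀ (p : Ideal A), p.IsPrime → SurjCond φ p) (p : Ideal A) [hp : p.IsPrime] (a : A)
    (h1 : ∀ m : M, a • m = 0 → ∃ e, e ∉ p ∧ e • m = 0) (t : N) (hat : a • t = 0) :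
    ∃ e, e ∉ p ∧ e • t = 0 := by
  classical
  by_contra hcon
  push Not at hcon
  have hK : ann (A := A) t ≤ p := by
    intro e he
    by_contra hep
    exact hcon e hep ((mem_ann t e).1 he)
  obtain ⟨Q, hQ, hQp⟩ := Ideal.exists_minimalPrimes_le hK
  haveI hQp' : Q.IsPrime := hQ.1.1
  have hKQ : ann (A := A) t ≤ Q := hQ.1.2
  rcases h Q hQp' with hL | ⟨⟨S, hSQ, hS⟩, -⟩
  · obtain ⟨f, hfQ, m, hm⟩ := hL t
    have h2 : a • m = 0 := by
      apply hinj
      rw [map_smul, hm, map_zero, smul_comm, hat, smul_zero]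
    obtain ⟨e, hep, hem⟩ := h1 m h2
    have h3 : (e * f) • t = 0 := by
      rw [mul_smul, ← hm, ← map_smul, hem, map_zero]
    rcases hQp'.mem_or_mem (hKQ ((mem_ann t _).2 h3)) with h4 | h4
    · exact hep (hQp h4)
    · exact hfQ h4
  · have hex : ∀ c ∈ S, ∃ e, e ∉ Q ∧ ∃ n : ℕ, e * c ^ n ∈ ann (A := A) t := fun c hc =>
      exists_mul_pow_mem_of_mem_minimalPrimes hQ (hSQ c hc)
    choose! e heQ n hn using hex
    let E : A := ∏ c ∈ S, e c
    have hEQ : E ∉ Q := by
      intro hE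
      obtain ⟨d, hdS, hd⟩ := (hQp'.prod_mem_iff).1 hE
      exact heQ d hdS hd
    have h0 : E • t = 0 := by
      apply hS
      intro c hc
      refine ⟨n c, ?_⟩
      obtain ⟨r, hr⟩ : e c ∣ E := Finset.dvd_prod_of_mem e hc
      have := (mem_ann t _).1 (hn c hc)
      rw [hr, ← mul_smul, show c ^ n c * (e c * r) = r * (e c * c ^ n c) by ring, mul_smul, this,
        smul_zero]
    exact hEQ (hKQ ((mem_ann t E).2 h0))

theorem surjective_of_forall_prime (φ : M →ₗ[A] N) (hinj : Function.Injective φ)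
    (h : ∀ (p : Ideal A), p.IsPrime → SurjCond φ p) : Function.Surjective φ := by
  classical
  rw [← LinearMap.range_eq_top]
  by_contra hne
  obtain ⟨s0, hs0⟩ : ∃ s0 : N, s0 ∉ LinearMap.range φ := by
    by_contra hall
    push Not at hall
    exact hne (eq_top_iff.2 fun x _ => hall x)
  let R := LinearMap.range φ
  have hq0 : (R.mkQ s0) ≠ 0 := by
    intro h0
    exact hs0 ((Submodule.Quotient.mk_eq_zero R).1 h0)
  obtain ⟨⟨P, hP⟩⟩ := Ideal.nonempty_minimalPrimes (ann_ne_top (A := A) hq0)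
  haveI hPp : P.IsPrime := hP.1.1
  have hle : ann (A := A) (R.mkQ s0) ≤ P := hP.1.2
  have hmemJ : ∀ r : A, r ∈ ann (A := A) (R.mkQ s0) ↔ r • s0 ∈ R := by
    intro r
    rw [mem_ann, ← map_smul, Submodule.mkQ_apply, Submodule.Quotient.mk_eq_zero]
  rcases h P hPp with hL | ⟨-, a, haP, b, hbP, hreg1, hreg2⟩
  · obtain ⟨f, hfP, hf⟩ := hL s0
    exact hfP (hle ((hmemJ f).2 hf))
  · -- the localised range predicate
    let Rp : N → Prop := fun s => ∃ c, c ∉ P ∧ c • s ∈ R
    have hRp_smul : ∀ (r : A) (s : N), Rp s → Rp (r • s) := by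
      rintro r s ⟨c, hc, hcs⟩
      exact ⟨c, hc, by rw [smul_comm]; exact R.smul_mem r hcs⟩
    have lemA : ∀ s : N, Rp (a • s) → Rp (b • s) → Rp s := by
      rintro s ⟨c1, hc1, m1, hm1⟩ ⟨c2, hc2, m2, hm2⟩
      have h12 : b • (c2 • m1) = a • (c1 • m2) := by
        apply hinj
        rw [map_smul, map_smul, map_smul, map_smul, hm1, hm2]
        simp only [smul_smul]
        congr 1; ring
      obtain ⟨c, hcP, m', hm'⟩ := hreg2 _ _ h12
      set t : N := (c * c2 * c1) • s - φ m' with ht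
      have hat : a • t = 0 := by
        have e1 : a • ((c * c2 * c1) • s) = φ (c • c2 • m1) := by
          rw [map_smul, map_smul, hm1]
          simp only [smul_smul]
          congr 1; ring
        rw [ht, smul_sub, e1, ← map_smul, ← map_sub, hm', sub_self, map_zero]
      obtain ⟨e, heP, he⟩ := reg_on_target φ hinj h P a hreg1 t hat
      refine ⟨e * (c * c2 * c1), ?_, e • m', ?_⟩
      · intro hmem
        rcases hPp.mem_or_mem hmem with h5 | h5
        · exact heP h5
        · rcases hPp.mem_or_mem h5 with h6 | h6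
          · rcases hPp.mem_or_mem h6 with h7 | h7
            · exact hcP h7
            · exact hc2 h7
          · exact hc1 h6
      · rw [ht, smul_sub, sub_eq_zero] at he
        rw [map_smul, ← he, mul_smul]
        simp only [smul_smul]
    obtain ⟨e1, he1P, n1, hn1⟩ := exists_mul_pow_mem_of_mem_minimalPrimes hP haP
    obtain ⟨e2, he2P, n2, hn2⟩ := exists_mul_pow_mem_of_mem_minimalPrimes hP hbP
    have hRa : Rp (a ^ n1 • s0) := ⟨e1, he1P, by rw [← mul_smul]; exact (hmemJ _).1 hn1⟩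
    have hRb : Rp (b ^ n2 • s0) := ⟨e2, he2P, by rw [← mul_smul]; exact (hmemJ _).1 hn2⟩
    have hmain : ∀ k i j : ℕ, i + j + k = n1 + n2 → Rp (a ^ i • b ^ j • s0) := by
      intro k
      induction k with
      | zero =>
        intro i j hij
        by_cases hi : n1 ≤ i
        · obtain ⟨d, rfl⟩ := Nat.exists_eq_add_of_le hi
          have : a ^ (n1 + d) • b ^ j • s0 = (a ^ d * b ^ j) • (a ^ n1 • s0) := by
            simp only [smul_smul]; congr 1; ring
          rw [this]
          exact hRp_smul _ _ hRa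
        · have hj : n2 ≤ j := by omega
          obtain ⟨d, rfl⟩ := Nat.exists_eq_add_of_le hj
          have : a ^ i • b ^ (n2 + d) • s0 = (a ^ i * b ^ d) • (b ^ n2 • s0) := by
            simp only [smul_smul]; congr 1; ring
          rw [this]
          exact hRp_smul _ _ hRb
      | succ k ih =>
        intro i j hij
        apply lemA
        · have := ih (i + 1) j (by omega)
          have e : a • a ^ i • b ^ j • s0 = a ^ (i + 1) • b ^ j • s0 := by
            simp only [smul_smul]; congr 1; ring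
          rw [e]; exact this
        · have := ih i (j + 1) (by omega)
          have e : b • a ^ i • b ^ j • s0 = a ^ i • b ^ (j + 1) • s0 := by
            simp only [smul_smul]; congr 1; ring
          rw [e]; exact this
    obtain ⟨c, hcP, hc⟩ := hmain (n1 + n2) 0 0 (by omega)
    simp only [pow_zero, one_smul] at hc
    exact hcP (hle ((hmemJ c).2 hc))

end Groth.Agent.Lib.Helper58.HartogsQCCore
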