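import Mathlib
import Groth.Agent.Lib.Helper64.HartogsRel
import Groth.Agent.Lib.Helper58.HartogsQCCore

set_option autoImplicit false
set_option linter.style.haveILetI false
universe u

open CategoryTheory CategoryTheory.Limits Opposite TopologicalSpace AlgebraicGeometry IsLocalRing

namespace Groth.Agent.Lib.Helper58.HartogsQC

open Groth.Agent.Lib.Helper64.StalkFrac Groth.Agent.Lib.Helper64.HartogsRing
open Groth.Agent.Lib.Helper64

variable {X : Scheme.{u}}

/-- Affine case, no Noetherian hypothesis: `W` is a quasi-compact open of the affine open `V`. -/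
theorem bijective_res_of_isAffineOpen {V : X.Opens} (hV : IsAffineOpen V)
    (W : X.Opens) (hWV : W ≤ V) (hWcpt : IsCompact (W : Set X))
    (hreg : ∀ x ∈ V, x ∉ W → HasRegPair (X.presheaf.stalk x)) :
    Function.Bijective (X.presheaf.map (homOfLE hWV).op) := by
  classical
  set ρ : Γ(X, V) →+* Γ(X, W) := (X.presheaf.map (homOfLE hWV).op).hom with hρ
  letI : Algebra Γ(X, V) Γ(X, W) := ρ.toAlgebra
  let φ : Γ(X, V) →ₗ[Γ(X, V)] Γ(X, W) := Algebra.linearMap _ _
  have hφ : ∀ c, φ c = ρ c := fun c => rfl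
  have hsmul : ∀ (c : Γ(X, V)) (t : Γ(X, W)), c • t = ρ c * t := fun c t => rfl
  have key : ∀ (p : Ideal Γ(X, V)), p.IsPrime →
      ((∀ m, φ m = 0 → ∃ f, f ∉ p ∧ f • m = 0) ∧
        (∀ t : Γ(X, W), ∃ f, f ∉ p ∧ f • t ∈ LinearMap.range φ)) ∨
      ((∃ S : Finset Γ(X, V), (∀ c ∈ S, c ∈ p) ∧
          ∀ t : Γ(X, W), (∀ c ∈ S, ∃ n : ℕ, c ^ n • t = 0) → t = 0) ∧ ∃ a ∈ p, ∃ b ∈ p,
        (∀ m : Γ(X, V), a • m = 0 → ∃ e, e ∉ p ∧ e • m = 0) ∧
        (∀ m1 m2 : Γ(X, V), b • m1 = a • m2 → ∃ c, c ∉ p ∧ ∃ m' : Γ(X, V), c • m1 = a • m')) := by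
    intro p hp
    set y : PrimeSpectrum Γ(X, V) := ⟨p, hp⟩ with hy
    set x : X := hV.fromSpec y with hx
    have hxV : x ∈ V := by
      rw [← SetLike.mem_coe, ← hV.range_fromSpec]; exact Set.mem_range_self y
    letI : Algebra Γ(X, V) (X.presheaf.stalk x) :=
      TopCat.Presheaf.algebra_section_stalk X.presheaf ⟨x, hxV⟩
    haveI hloc : IsLocalization.AtPrime (X.presheaf.stalk x) p := hV.isLocalization_stalk' y hxV
    have halg : ∀ c : Γ(X, V), algebraMap Γ(X, V) (X.presheaf.stalk x) c =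
        X.presheaf.germ V x hxV c := fun c => rfl
    have hnot : ∀ c : Γ(X, V), c ∉ p ↔ x ∈ X.basicOpen c := by
      intro c
      rw [← not_mem_pr_iff hV x hxV c, pr_fromSpec hV y hxV]
    by_cases hxW : x ∈ W
    · left
      constructor
      · intro m hm
        have h0 : algebraMap Γ(X, V) (X.presheaf.stalk x) m = 0 := by
          rw [halg, ← germ_res_apply' hWV x hxW m]
          have : X.presheaf.map (homOfLE hWV).op m = 0 := hm
          rw [this, map_zero]
        obtain ⟨c, hc⟩ := (IsLocalization.map_eq_zero_iff p.primeCompl _ m).1 h0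
        exact ⟨c.1, c.2, hc⟩
      · intro t
        obtain ⟨⟨m, r⟩, hmr⟩ := IsLocalization.surj p.primeCompl (X.presheaf.germ W x hxW t)
        set t1 : Γ(X, W) := ρ r.1 * t - ρ m with ht1
        have hg : X.presheaf.germ W x hxW t1 = X.presheaf.germ W x hxW 0 := by
          rw [ht1, map_sub, map_mul, map_zero, sub_eq_zero]
          have e1 : X.presheaf.germ W x hxW (ρ r.1) = algebraMap Γ(X, V) (X.presheaf.stalk x) r.1 :=
            germ_res_apply' hWV x hxW r.1
          have e2 : X.presheaf.germ W x hxW (ρ m) = algebraMap Γ(X, V) (X.presheaf.stalk x) m :=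
            germ_res_apply' hWV x hxW m
          rw [e1, e2, ← hmr, mul_comm]
        obtain ⟨W', hxW', i1, i2, hres⟩ := X.presheaf.germ_eq x hxW hxW t1 0 hg
        rw [map_zero] at hres
        obtain ⟨h, hhW', hxh⟩ := hV.exists_basicOpen_le (⟨x, hxW'⟩ : W') hxV
        have hle : X.basicOpen (ρ h) ≤ W' := by
          have : X.basicOpen (ρ h) = W ⊓ X.basicOpen h := Scheme.basicOpen_res X h (homOfLE hWV).op
          rw [this]
          exact inf_le_right.trans hhW'
        have hzero : t1 |_ (X.basicOpen (ρ h)) = 0 := by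
          show X.presheaf.map (homOfLE _).op t1 = 0
          have : X.presheaf.map (homOfLE (X.basicOpen_le (ρ h))).op t1 =
              X.presheaf.map (homOfLE hle).op (X.presheaf.map i1.op t1) := by
            rw [← ConcreteCategory.comp_apply, ← X.presheaf.map_comp]
            rfl
          rw [this, hres, map_zero]
        obtain ⟨n, hn⟩ := exists_pow_mul_eq_zero_of_res_basicOpen_eq_zero_of_isCompact X hWcpt
          t1 (ρ h) hzero
        have hhp : h ∉ p := (hnot h).2 hxh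
        refine ⟨h ^ n * r.1, ?_, h ^ n * m, ?_⟩
        · intro hmem
          rcases hp.mem_or_mem hmem with h1 | h1
          · exact hhp (hp.mem_of_pow_mem n h1)
          · exact r.2 h1
        · rw [hφ, hsmul, map_mul, map_mul, map_pow]
          rw [ht1, mul_sub, sub_eq_zero] at hn
          rw [mul_assoc, hn]
    · right
      refine ⟨?_, ?_⟩
      · -- finite cover of `W` by basic opens of elements of `p`
        let ι := {h : Γ(X, V) // X.basicOpen h ≤ W}
        have hcov : (W : Set X) ⊆ ⋃ i : ι, ((X.basicOpen i.1 : X.Opens) : Set X) := by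
          intro z hzW
          obtain ⟨h, hhW, hzh⟩ := hV.exists_basicOpen_le (⟨z, hzW⟩ : W) (hWV hzW)
          exact Set.mem_iUnion.2 ⟨⟨h, hhW⟩, hzh⟩
        obtain ⟨T, hT⟩ := hWcpt.elim_finite_subcover
          (fun i : ι => ((X.basicOpen i.1 : X.Opens) : Set X)) (fun i => (X.basicOpen i.1).2) hcov
        refine ⟨T.image Subtype.val, ?_, ?_⟩
        · intro c hc
          obtain ⟨i, -, rfl⟩ := Finset.mem_image.1 hc
          by_contra hcon
          exact hxW (i.2 ((hnot i.1).1 hcon))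
        · intro t ht
          refine TopCat.Presheaf.section_ext X.sheaf W t 0 ?_
          intro z hzW
          show X.presheaf.germ W z hzW t = X.presheaf.germ W z hzW 0
          rw [map_zero]
          obtain ⟨i, hiT, hzi⟩ : ∃ i ∈ T, z ∈ ((X.basicOpen i.1 : X.Opens) : Set X) := by
            have := hT hzW
            simpa using this
          obtain ⟨n, hn⟩ := ht i.1 (Finset.mem_image_of_mem _ hiT)
          rw [hsmul] at hn
          have h1 : X.presheaf.germ W z hzW (ρ i.1) ^ n * X.presheaf.germ W z hzW t = 0 := by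
            rw [← map_pow, ← map_mul, ← map_pow, hn, map_zero]
          have e1 : X.presheaf.germ W z hzW (ρ i.1) = X.presheaf.germ V z (hWV hzW) i.1 :=
            germ_res_apply' hWV z hzW i.1
          have hunit : IsUnit (X.presheaf.germ V z (hWV hzW) i.1) :=
            (X.mem_basicOpen i.1 z (hWV hzW)).1 hzi
          rw [e1] at h1
          exact ((hunit.pow n).mul_right_eq_zero).1 h1
      · exact HartogsDepth.exists_pair_of_isLocalizedModule p (Rp := X.presheaf.stalk x)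
          (Algebra.linearMap Γ(X, V) (X.presheaf.stalk x)) (hreg x hxV hxW)
  have hinj : Function.Injective φ := by
    apply HartogsQCCore.injective_of_forall_prime
    intro p hp
    rcases key p hp with ⟨h1, -⟩ | ⟨-, a, haP, -, -, h1, -⟩
    · exact Or.inl h1
    · exact Or.inr ⟨a, haP, h1⟩
  have hsurj : Function.Surjective φ := by
    apply HartogsQCCore.surjective_of_forall_prime φ hinj
    intro p hp
    rcases key p hp with ⟨-, h1⟩ | h2
    · exact Or.inl h1
    · exact Or.inr h2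
  exact ⟨hinj, hsurj⟩


theorem isCompact_inf_of_quasiCompact (U : X.Opens) [QuasiCompact U.ι] {V : X.Opens}
    (hV : IsAffineOpen V) : IsCompact ((V ⊓ U : X.Opens) : Set X) := by
  have h1 : IsCompact (U.ι ⁻¹' (V : Set X)) :=
    (quasiCompact_iff_forall_isAffineOpen (f := U.ι)).1 inferInstance V hV
  have h2 := h1.image U.ι.continuous
  rw [Set.image_preimage_eq_inter_range, Scheme.Opens.range_ι] at h2
  exact h2

/-- **Hartogs for the structure sheaf**, quasi-compact form (no Noetherian hypothesis). -/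
theorem bijective_res_inf (U : X.Opens) [QuasiCompact U.ι]
    (hreg : ∀ x : X, x ∉ U → HasRegPair (X.presheaf.stalk x)) (V : X.Opens) :
    Function.Bijective (X.presheaf.map (homOfLE (inf_le_left : V ⊓ U ≤ V)).op) := by
  refine HartogsGlue.bijective_res_inf_of_basis X.sheaf U X.affineOpens X.isBasis_affineOpens ?_ V
  intro V' hV'
  exact bijective_res_of_isAffineOpen hV' (V' ⊓ U) inf_le_left
    (isCompact_inf_of_quasiCompact U hV')
    (fun x _ hx => hreg x (fun hxU => hx ⟨‹x ∈ V'›, hxU⟩))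

theorem bijective_res (U : X.Opens) [QuasiCompact U.ι]
    (hreg : ∀ x : X, x ∉ U → HasRegPair (X.presheaf.stalk x)) {V W : X.Opens} (hWV : W ≤ V)
    (hW : W = V ⊓ U) : Function.Bijective (X.presheaf.map (homOfLE hWV).op) := by
  subst hW
  exact bijective_res_inf U hreg V

theorem bijective_ι_appTop (U : X.Opens) [QuasiCompact U.ι]
    (hreg : ∀ x : X, x ∉ U → HasRegPair (X.presheaf.stalk x)) :
    Function.Bijective U.ι.appTop := by
  have h : U.ι.appTop = X.presheaf.map (homOfLE (by simp : U.ι ''ᵁ (U.ι ⁻¹ᵁ ⊤) ≤ ⊤)).op :=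
    Scheme.Opens.ι_app U ⊤
  rw [h]
  exact bijective_res U hreg _ (by simp)

theorem quasiCompact_opensRange_ι (U : X.Opens) [QuasiCompact U.ι] {V' W' : Scheme.{u}}
    (i : V' ⟶ X) [IsOpenImmersion i] (j : W' ⟶ V') [IsOpenImmersion j]
    (hj : Set.range j = i ⁻¹' (U : Set X)) : QuasiCompact j.opensRange.ι := by
  rw [quasiCompact_iff_forall_isAffineOpen]
  intro V'' hV''
  have hemb : Topology.IsInducing (j.opensRange.ι ≫ i) :=
    (j.opensRange.ι ≫ i).isOpenEmbedding.isInducing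
  rw [hemb.isCompact_iff]
  have hset : (j.opensRange.ι ≫ i) '' (j.opensRange.ι ⁻¹ᵁ V'' : Set _) =
      (((i ''ᵁ V'') ⊓ U : X.Opens) : Set X) := by
    ext w
    constructor
    · rintro ⟨z, hz, rfl⟩
      rw [Scheme.Hom.comp_apply]
      refine ⟨⟨j.opensRange.ι z, hz, rfl⟩, ?_⟩
      have h1 : j.opensRange.ι z ∈ Set.range j := z.2
      rw [hj] at h1
      exact h1
    · rintro ⟨⟨v, hv, rfl⟩, hwU⟩
      have h1 : v ∈ Set.range j := by rw [hj]; exact hwU
      refine ⟨⟨v, h1⟩, hv, ?_⟩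
      rw [Scheme.Hom.comp_apply]
      rfl
  rw [hset]
  exact isCompact_inf_of_quasiCompact U (hV''.image_of_isOpenImmersion i)

theorem bijective_appTop_of_range_eq (U : X.Opens) [QuasiCompact U.ι]
    (hreg : ∀ x : X, x ∉ U → HasRegPair (X.presheaf.stalk x))
    {V' W' : Scheme.{u}} (i : V' ⟶ X) [IsOpenImmersion i]
    (j : W' ⟶ V') [IsOpenImmersion j] (hj : Set.range j = i ⁻¹' (U : Set X)) :
    Function.Bijective j.appTop := by
  haveI := quasiCompact_opensRange_ι U i j hj
  have hreg' : ∀ x : V', x ∉ j.opensRange → HasRegPair (V'.presheaf.stalk x) := by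
    intro x hx
    have hix : i x ∉ U := by
      intro h
      apply hx
      show x ∈ Set.range j
      rw [hj]
      exact h
    exact HartogsRel.HasRegPair.of_ringEquiv
      (asIso (i.stalkMap x)).commRingCatIsoToRingEquiv (hreg _ hix)
  have h1 := bijective_ι_appTop j.opensRange hreg'
  have h2 : j = j.isoOpensRange.hom ≫ j.opensRange.ι := (Scheme.Hom.isoOpensRange_hom_ι j).symm
  rw [h2, Scheme.Hom.comp_appTop]
  have h3 : Function.Bijective j.isoOpensRange.hom.appTop := by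
    haveI : IsIso j.isoOpensRange.hom.appTop :=
      ⟨j.isoOpensRange.inv.appTop, by simp [← Scheme.Hom.comp_appTop],
        by simp [← Scheme.Hom.comp_appTop]⟩
    exact (ConcreteCategory.isIso_iff_bijective _).1 inferInstance
  exact h3.comp h1


theorem existsUnique_of_isOpenImmersion (U : X.Opens) [QuasiCompact U.ι]
    (hreg : ∀ x : X, x ∉ U → HasRegPair (X.presheaf.stalk x))
    {V' W' Z : Scheme.{u}} [IsAffine Z] (i : V' ⟶ X) [IsOpenImmersion i]
    (j : W' ⟶ V') [IsOpenImmersion j] (hj : Set.range j = i ⁻¹' (U : Set X)) (ψ : W' ⟶ Z) :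
    ∃! φ : V' ⟶ Z, j ≫ φ = ψ :=
  HartogsRel.existsUnique_of_bijective_appTop j (bijective_appTop_of_range_eq U hreg i j hj) ψ

variable {S Y : Scheme.{u}}

/-- Local existence and uniqueness over an affine open `T` of the base. -/
theorem local_existsUnique (U : X.Opens) [QuasiCompact U.ι]
    (hreg : ∀ x : X, x ∉ U → HasRegPair (X.presheaf.stalk x))
    (f : X ⟶ S) (g : Y ⟶ S) [IsAffineHom g] (ψ : (U : Scheme.{u}) ⟶ Y)
    (hψ : ψ ≫ g = U.ι ≫ f) (T : S.Opens) (hT : IsAffineOpen T) {P W : Scheme.{u}} (i : P ⟶ X)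
    [IsOpenImmersion i] (p : P ⟶ (T : Scheme.{u})) (hp : i ≫ f = p ≫ T.ι) (j : W ⟶ P)
    [IsOpenImmersion j] (hj : Set.range j = i ⁻¹' (U : Set X)) (k : W ⟶ (U : Scheme.{u}))
    (hk : k ≫ U.ι = j ≫ i) :
    ∃! φ : P ⟶ Y, φ ≫ g = i ≫ f ∧ j ≫ φ = k ≫ ψ := by
  have hYT : IsAffineOpen (g ⁻¹ᵁ T) := hT.preimage g
  haveI : IsAffine ((g ⁻¹ᵁ T : Y.Opens) : Scheme.{u}) := hYT
  haveI : IsAffine (T : Scheme.{u}) := hT
  have h0 : (k ≫ ψ) ≫ g = (j ≫ p) ≫ T.ι := by
    rw [Category.assoc, hψ, ← Category.assoc, hk, Category.assoc, hp, Category.assoc]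
  obtain ⟨ψ', hψ'⟩ := HartogsRel.exists_lift_preimage g T (k ≫ ψ) (j ≫ p) h0
  obtain ⟨φ', hφ', huniq⟩ := existsUnique_of_isOpenImmersion U hreg i j hj ψ'
  have hφg : φ' ≫ (g ∣_ T) = p := by
    obtain ⟨q, -, hq⟩ := existsUnique_of_isOpenImmersion U hreg i j hj (j ≫ p)
    have e1 : φ' ≫ (g ∣_ T) = q := by
      apply hq
      rw [← cancel_mono T.ι]
      calc (j ≫ φ' ≫ (g ∣_ T)) ≫ T.ι = (j ≫ φ') ≫ ((g ∣_ T) ≫ T.ι) := by
            simp only [Category.assoc]
        _ = ψ' ≫ ((g ⁻¹ᵁ T).ι ≫ g) := by rw [hφ', morphismRestrict_ι]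
        _ = (ψ' ≫ (g ⁻¹ᵁ T).ι) ≫ g := by rw [Category.assoc]
        _ = (j ≫ p) ≫ T.ι := by rw [hψ', h0]
    have e2 : p = q := hq _ rfl
    rw [e1, e2]
  refine ⟨φ' ≫ (g ⁻¹ᵁ T).ι, ⟨?_, ?_⟩, ?_⟩
  · rw [Category.assoc, ← morphismRestrict_ι, ← Category.assoc, hφg, hp]
  · rw [← Category.assoc, hφ', hψ']
  · rintro φ₂ ⟨h1, h2⟩
    obtain ⟨φ₂', hφ₂'⟩ := HartogsRel.exists_lift_preimage g T φ₂ p (h1.trans hp)
    have : φ₂' = φ' := by
      apply huniq
      rw [← cancel_mono (g ⁻¹ᵁ T).ι, Category.assoc, hφ₂', h2, hψ']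
    rw [← hφ₂', this]

/-- **Relative Hartogs**: `X` locally Noetherian, `U ⊆ X` open with regular pairs off `U`,
`g : Y ⟶ S` affine.  Every `S`-morphism `U ⟶ Y` extends uniquely to an `S`-morphism `X ⟶ Y`. -/
theorem existsUnique_extension_of_isAffineHom (U : X.Opens) [QuasiCompact U.ι]
    (hreg : ∀ x : X, x ∉ U → HasRegPair (X.presheaf.stalk x))
    (f : X ⟶ S) (g : Y ⟶ S) [IsAffineHom g] (ψ : (U : Scheme.{u}) ⟶ Y)
    (hψ : ψ ≫ g = U.ι ≫ f) :
    ∃! φ : X ⟶ Y, φ ≫ g = f ∧ U.ι ≫ φ = ψ := by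
  let 𝒰 : X.OpenCover := S.directedAffineCover.pullback₁ f
  -- local data
  have hloc : ∀ T : S.affineOpens, ∃! φ : pullback f T.1.ι ⟶ Y,
      φ ≫ g = pullback.fst f T.1.ι ≫ f ∧
      pullback.snd U.ι (pullback.fst f T.1.ι) ≫ φ = pullback.fst U.ι (pullback.fst f T.1.ι) ≫ ψ :=
    fun T => local_existsUnique U hreg f g ψ hψ T.1 T.2 (pullback.fst f T.1.ι)
      (pullback.snd f T.1.ι) pullback.condition (pullback.snd U.ι (pullback.fst f T.1.ι))
      (by rw [Scheme.Pullback.range_snd, Scheme.Opens.range_ι]) (pullback.fst U.ι _)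
      pullback.condition
  choose φT hφT huniq using hloc
  have hcompat' : ∀ (T T' : S.affineOpens) (t : pullback f T.1.ι ⟶ pullback f T'.1.ι),
      t ≫ pullback.fst f T'.1.ι = pullback.fst f T.1.ι → t ≫ φT T' = φT T := by
    intro T T' t htr
    apply huniq T
    constructor
    · rw [Category.assoc, (hφT T').1, ← Category.assoc, htr]
    · let m : pullback U.ι (pullback.fst f T.1.ι) ⟶ pullback U.ι (pullback.fst f T'.1.ι) :=
        pullback.lift (pullback.fst U.ι _) (pullback.snd U.ι _ ≫ t)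
          (by rw [Category.assoc, htr, pullback.condition])
      have hm1 : m ≫ pullback.fst U.ι _ = pullback.fst U.ι _ := pullback.lift_fst _ _ _
      have hm2 : m ≫ pullback.snd U.ι _ = pullback.snd U.ι _ ≫ t :=
        pullback.lift_snd _ _ _
      rw [← Category.assoc, ← hm2, Category.assoc, (hφT T').2, ← Category.assoc, hm1]
  have hcompat : ∀ {T T' : 𝒰.I₀} (hij : T ⟶ T'), 𝒰.trans hij ≫ φT T' = φT T :=
    fun {T T'} hij => hcompat' T T' (𝒰.trans hij) (𝒰.trans_map hij)
  let φ : X ⟶ Y := 𝒰.glueMorphismsOfLocallyDirected φT hcompat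
  have hφ : ∀ T : S.affineOpens, pullback.fst f T.1.ι ≫ φ = φT T :=
    fun T => 𝒰.map_glueMorphismsOfLocallyDirected φT hcompat T
  refine ⟨φ, ⟨?_, ?_⟩, ?_⟩
  · refine 𝒰.hom_ext _ _ (fun (T : S.affineOpens) => ?_)
    show pullback.fst f T.1.ι ≫ φ ≫ g = pullback.fst f T.1.ι ≫ f
    rw [← Category.assoc, hφ, (hφT T).1]
  · refine Scheme.Cover.hom_ext (𝒰.pullback₁ U.ι) _ _ (fun (T : S.affineOpens) => ?_)
    show pullback.fst U.ι (pullback.fst f T.1.ι) ≫ U.ι ≫ φ =
      pullback.fst U.ι (pullback.fst f T.1.ι) ≫ ψ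
    rw [← Category.assoc, pullback.condition, Category.assoc, hφ, (hφT T).2]
  · rintro φ₂ ⟨h1, h2⟩
    refine 𝒰.hom_ext _ _ (fun (T : S.affineOpens) => ?_)
    show pullback.fst f T.1.ι ≫ φ₂ = pullback.fst f T.1.ι ≫ φ
    rw [hφ]
    apply huniq T
    constructor
    · rw [Category.assoc, h1]
    · rw [← Category.assoc, ← pullback.condition, Category.assoc, h2]


end Groth.Agent.Lib.Helper58.HartogsQC
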