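import Mathlib

set_option autoImplicit false
set_option linter.style.haveILetI false
set_option linter.unusedSectionVars false
universe u

/-!
# Finite local algebras over a valuation ring with `𝔪_A V = 𝔪_V`
-/

namespace Groth.Agent.Lib.Helper58.ValFinite

open IsLocalRing

section Gen

variable {A : Type*} [CommRing A] {M : Type*} [AddCommGroup M] [Module A M]

/-- elements of `I • span S` are `I`-linear combinations of `S`. -/
lemma exists_sum_of_mem_smul_span (I : Ideal A) (S : Finset M) (x : M)
    (hx : x ∈ I • Submodule.span A (S : Set M)) :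
    ∃ a : M → A, (∀ b, a b ∈ I) ∧ ∑ b ∈ S, a b • b = x := by
  induction hx using Submodule.smul_induction_on' with
  | smul r hr n hn =>
    obtain ⟨f, -, hf⟩ := Submodule.mem_span_finset.mp hn
    refine ⟨fun b => r * f b, fun b => I.mul_mem_right _ hr, ?_⟩
    rw [← hf, Finset.smul_sum]
    exact Finset.sum_congr rfl fun b _ => by rw [mul_smul]
  | add x hx y hy ihx ihy =>
    obtain ⟨a, ha, hax⟩ := ihx
    obtain ⟨a', ha', hay⟩ := ihy
    refine ⟨fun b => a b + a' b, fun b => I.add_mem (ha b) (ha' b), ?_⟩
    rw [← hax, ← hay, ← Finset.sum_add_distrib]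
    exact Finset.sum_congr rfl fun b _ => by rw [add_smul]

/-- a minimal generating set of a finite module over a local ring is independent modulo the
maximal ideal. -/
theorem exists_minimal_generators [IsLocalRing A] [Module.Finite A M] :
    ∃ S : Finset M, Submodule.span A (S : Set M) = ⊤ ∧
      ∀ c : M → A, (∃ b ∈ S, IsUnit (c b)) →
        ∑ b ∈ S, c b • b ∉ maximalIdeal A • (⊤ : Submodule A M) := by
  classical
  have hex : ∃ n : ℕ, ∃ S : Finset M, S.card = n ∧ Submodule.span A (S : Set M) = ⊤ := by
    obtain ⟨S, hS⟩ := (Module.Finite.fg_top : (⊤ : Submodule A M).FG)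
    exact ⟨S.card, S, rfl, hS⟩
  obtain ⟨S, hcard, hS⟩ := Nat.find_spec hex
  refine ⟨S, hS, ?_⟩
  rintro c ⟨b₀, hb₀, hu⟩ hmem
  rw [← hS] at hmem
  obtain ⟨a, ha, hax⟩ := exists_sum_of_mem_smul_span _ S _ hmem
  have h0 : ∑ b ∈ S, (c b - a b) • b = 0 := by
    simp only [sub_smul, Finset.sum_sub_distrib]
    rw [hax, sub_self]
  have hunit : IsUnit (c b₀ - a b₀) := by
    by_contra hnu
    have h1 : c b₀ - a b₀ ∈ maximalIdeal A := hnu
    have h2 : c b₀ ∈ maximalIdeal A := by
      have := (maximalIdeal A).add_mem h1 (ha b₀)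
      rwa [sub_add_cancel] at this
    exact h2 hu
  obtain ⟨u, hu'⟩ := hunit
  -- b₀ ∈ span (S.erase b₀)
  have hb₀span : b₀ ∈ Submodule.span A ((S.erase b₀ : Finset M) : Set M) := by
    rw [← Finset.add_sum_erase S _ hb₀] at h0
    have h1 : (u : A) • b₀ = -∑ b ∈ S.erase b₀, (c b - a b) • b := by
      rw [hu']; exact eq_neg_of_add_eq_zero_left h0
    have h2 : b₀ = (↑u⁻¹ : A) • (-∑ b ∈ S.erase b₀, (c b - a b) • b) := by
      rw [← h1, smul_smul, Units.inv_mul, one_smul]
    have h3 : (↑u⁻¹ : A) • (-∑ b ∈ S.erase b₀, (c b - a b) • b) ∈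
        Submodule.span A ((S.erase b₀ : Finset M) : Set M) := by
      apply Submodule.smul_mem
      apply Submodule.neg_mem
      apply Submodule.sum_mem
      intro b hb
      exact Submodule.smul_mem _ _ (Submodule.subset_span hb)
    rwa [← h2] at h3
  have hspan : Submodule.span A ((S.erase b₀ : Finset M) : Set M) = ⊤ := by
    rw [eq_top_iff, ← hS, Submodule.span_le]
    intro b hb
    by_cases hbb : b = b₀
    · rw [hbb]; exact hb₀span
    · exact Submodule.subset_span (Finset.mem_erase.mpr ⟨hbb, hb⟩)
  have hlt : (S.erase b₀).card < Nat.find hex := by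
    rw [Finset.card_erase_of_mem hb₀, hcard]
    have : 0 < S.card := Finset.card_pos.mpr ⟨b₀, hb₀⟩
    omega
  exact Nat.find_min hex hlt ⟨S.erase b₀, rfl, hspan⟩

end Gen

section Val

/-- in a valuation ring, a finite nonempty family has a member dividing all the others. -/
lemma exists_dvd_all {A : Type*} [CommRing A] [IsDomain A] [ValuationRing A] {ι : Type*}
    (S : Finset ι) (hS : S.Nonempty) (c : ι → A) : ∃ i₀ ∈ S, ∀ i ∈ S, c i₀ ∣ c i := by
  classical
  induction hS using Finset.Nonempty.cons_induction with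
  | singleton i => exact ⟨i, Finset.mem_singleton_self i, fun j hj => by
      rw [Finset.mem_singleton.mp hj]⟩
  | cons i S hi hS ih =>
    obtain ⟨i₀, hi₀, h⟩ := ih
    rcases ValuationRing.dvd_total (c i) (c i₀) with hd | hd
    · refine ⟨i, Finset.mem_cons_self i S, fun j hj => ?_⟩
      rcases Finset.mem_cons.mp hj with rfl | hj
      · exact dvd_rfl
      · exact hd.trans (h j hj)
    · refine ⟨i₀, Finset.mem_cons.mpr (Or.inr hi₀), fun j hj => ?_⟩
      rcases Finset.mem_cons.mp hj with rfl | hj
      · exact hd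
      · exact h j hj

/-- **Finite local algebras over a valuation ring with `𝔪_A V = 𝔪_V`**: every element is a
unit multiple of an element of the valuation ring. -/
theorem exists_unit_mul_of_finite (A : Type*) [CommRing A] [IsDomain A] [ValuationRing A]
    (V : Type*) [CommRing V] [IsLocalRing V] [Algebra A V] [Module.Finite A V]
    (hmax : (maximalIdeal A).map (algebraMap A V) = maximalIdeal V) (s : V) :
    ∃ (a : A) (u : Vˣ), s = u * algebraMap A V a := by
  classical
  obtain ⟨S, hS, hind⟩ := exists_minimal_generators (A := A) (M := V)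
  have hsmem : s ∈ Submodule.span A (S : Set V) := by rw [hS]; trivial
  obtain ⟨f, -, hf⟩ := Submodule.mem_span_finset.mp hsmem
  by_cases hSe : S.Nonempty
  · obtain ⟨b₀, hb₀, hdvd⟩ := exists_dvd_all S hSe f
    choose! g hg using hdvd
    -- c' b₀ = 1
    let c' : V → A := fun b => if b = b₀ then 1 else g b
    have hc' : ∀ b ∈ S, f b = f b₀ * c' b := by
      intro b hb
      by_cases hbb : b = b₀
      · rw [hbb]; simp only [c', if_true, mul_one]
      · simp only [c', if_neg hbb]; exact hg b hb
    set s' : V := ∑ b ∈ S, c' b • b with hs'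
    have hss' : s = f b₀ • s' := by
      rw [← hf, hs', Finset.smul_sum]
      exact Finset.sum_congr rfl fun b hb => by rw [smul_smul, ← hc' b hb]
    have hnot : s' ∉ maximalIdeal A • (⊤ : Submodule A V) :=
      hind c' ⟨b₀, hb₀, by simp only [c', if_pos rfl]; exact isUnit_one⟩
    have hunit : IsUnit s' := by
      by_contra hnu
      apply hnot
      rw [Ideal.smul_top_eq_map, hmax]
      exact hnu
    refine ⟨f b₀, hunit.unit, ?_⟩
    rw [hss', Algebra.smul_def, mul_comm]
    rfl
  · rw [Finset.not_nonempty_iff_eq_empty] at hSe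
    rw [hSe] at hf
    simp only [Finset.sum_empty] at hf
    exact ⟨0, 1, by rw [← hf, map_zero, mul_zero]⟩

end Val

end Groth.Agent.Lib.Helper58.ValFinite
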