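import Mathlib
import Groth.Agent.Lib.Helper58.ValFinite

/-!
# Finitely generated torsion-free modules over a valuation ring are free
-/

set_option autoImplicit false

namespace Groth.Agent.Lib.Helper58.NagataFree

open IsLocalRing

variable (A : Type*) [CommRing A] [IsDomain A] [ValuationRing A]
  (M : Type*) [AddCommGroup M] [Module A M]

/-- a finitely generated torsion-free module over a valuation ring is free. -/
theorem free_of_finite_of_torsionFree [Module.Finite A M]
    (htf : ∀ (a : A) (m : M), a • m = 0 → a = 0 ∨ m = 0) : Module.Free A M := by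
  classical
  obtain ⟨S, hS, hind⟩ := Groth.Agent.Lib.Helper58.ValFinite.exists_minimal_generators
    (A := A) (M := M)
  have key : ∀ c : M → A, ∑ b ∈ S, c b • b = 0 → ∀ b ∈ S, c b = 0 := by
    intro c hc
    by_contra hne
    push Not at hne
    obtain ⟨b₁, hb₁, hcb₁⟩ := hne
    obtain ⟨b₀, hb₀, hdvd⟩ := Groth.Agent.Lib.Helper58.ValFinite.exists_dvd_all S ⟨b₁, hb₁⟩ c
    have hcb₀ : c b₀ ≠ 0 := by
      intro h0
      obtain ⟨q, hq⟩ := hdvd b₁ hb₁
      rw [h0, zero_mul] at hq
      exact hcb₁ hq
    choose! q hq using hdvd
    let q' : M → A := fun b => if b = b₀ then 1 else q b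
    have hsum : ∑ b ∈ S, c b • b = c b₀ • ∑ b ∈ S, q' b • b := by
      rw [Finset.smul_sum]
      refine Finset.sum_congr rfl fun b hb => ?_
      rw [smul_smul]
      congr 1
      simp only [q']
      split_ifs with h
      · rw [h, mul_one]
      · exact hq b hb
    rw [hsum] at hc
    rcases htf _ _ hc with h | h
    · exact hcb₀ h
    · apply hind q' ⟨b₀, hb₀, by simp [q']⟩
      rw [h]
      exact Submodule.zero_mem _
  have hli : LinearIndependent A (fun b : S => (b : M)) := by
    rw [Fintype.linearIndependent_iff]
    intro g hg i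
    let c : M → A := fun b => if h : b ∈ S then g ⟨b, h⟩ else 0
    have h1 : ∑ b ∈ S, c b • b = 0 := by
      rw [← hg, ← Finset.sum_coe_sort S]
      refine Finset.sum_congr rfl fun b _ => ?_
      simp [c]
    have := key c h1 i i.2
    simpa [c] using this
  have hsp : ⊤ ≤ Submodule.span A (Set.range (fun b : S => (b : M))) := by
    rw [Subtype.range_coe_subtype]
    exact hS.ge
  exact Module.Free.of_basis (Module.Basis.mk hli hsp)

end Groth.Agent.Lib.Helper58.NagataFree
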