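import Mathlib

/-!
# A graded Noetherian lemma (Rees module trick)

For a Noetherian ring `k`, a filtered family `G d` of `k`-submodules of `(ι → k[x])` with
`G d ⊆ G (d+1)`, `x_i G d ⊆ G (d+1)` and `G d` of degree `≤ d` is eventually generated:
`G (d+1) = G d + ∑ x_i G d` for `d ≫ 0`.
-/

set_option autoImplicit false

namespace Groth.Agent.Lib.Helper58.NagataRees

open scoped Polynomial

section Subalg

variable (k : Type*) [CommRing k] (σ : Type*)

/-- the generators `t`, `x_i t` of the Rees-type algebra. -/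
noncomputable def gen : Option σ → Polynomial (MvPolynomial σ k)
  | none => Polynomial.X
  | some i => Polynomial.C (MvPolynomial.X i) * Polynomial.X

/-- the Rees-type algebra `k[t, x_i t] ⊆ k[x][t]`. -/
noncomputable def T : Subalgebra k (Polynomial (MvPolynomial σ k)) :=
  (MvPolynomial.aeval (gen k σ)).range

/-- the subalgebra of polynomials in `t` whose `e`-th coefficient has total degree `≤ e`. -/
noncomputable def degSub : Subalgebra k (Polynomial (MvPolynomial σ k)) where
  carrier := {p | ∀ e, (p.coeff e).totalDegree ≤ e}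
  mul_mem' := by
    intro p q hp hq e
    rw [Polynomial.coeff_mul]
    refine (MvPolynomial.totalDegree_finsetSum _ _).trans ?_
    apply Finset.sup_le
    intro x hx
    have hx := Finset.HasAntidiagonal.mem_antidiagonal.mp hx
    refine (MvPolynomial.totalDegree_mul _ _).trans ?_
    rw [← hx]
    exact add_le_add (hp _) (hq _)
  add_mem' := by
    intro p q hp hq e
    rw [Polynomial.coeff_add]
    exact (MvPolynomial.totalDegree_add _ _).trans (max_le (hp e) (hq e))
  algebraMap_mem' := by
    intro c e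
    have : (algebraMap k (Polynomial (MvPolynomial σ k)) c) =
        Polynomial.C (MvPolynomial.C c) := rfl
    rw [this, Polynomial.coeff_C]
    split_ifs
    · simp
    · simp

variable {k σ}

lemma mem_degSub {p : Polynomial (MvPolynomial σ k)} :
    p ∈ degSub k σ ↔ ∀ e, (p.coeff e).totalDegree ≤ e := Iff.rfl

lemma X_mem_T : (Polynomial.X : Polynomial (MvPolynomial σ k)) ∈ T k σ :=
  ⟨MvPolynomial.X none, by simp [gen]⟩

lemma CX_mul_X_mem_T (i : σ) :
    (Polynomial.C (MvPolynomial.X i) * Polynomial.X : Polynomial (MvPolynomial σ k)) ∈ T k σ :=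
  ⟨MvPolynomial.X (some i), by simp [gen]⟩

lemma T_le_degSub : T k σ ≤ degSub k σ := by
  rw [T, MvPolynomial.aeval_range]
  apply Algebra.adjoin_le
  rintro _ ⟨v, rfl⟩
  cases v with
  | none =>
    intro e
    simp only [gen]
    rw [Polynomial.coeff_X]
    split_ifs with h
    · rw [← h]; simp
    · simp
  | some i =>
    intro e
    simp only [gen]
    rw [Polynomial.coeff_C_mul, Polynomial.coeff_X]
    split_ifs with h
    · rw [← h, mul_one]
      refine (MvPolynomial.totalDegree_monomial_le _ _).trans ?_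
      simp
    · simp

lemma sum_single_add (i : σ) (n : ℕ) (β : σ →₀ ℕ) :
    ((Finsupp.single i n + β).sum fun _ e => e) = n + β.sum fun _ e => e := by
  rw [Finsupp.sum_add_index' (fun _ => rfl) (fun _ _ _ => rfl), Finsupp.sum_single_index rfl]

lemma C_monomial_mul_X_pow_mem_T (α : σ →₀ ℕ) :
    ∀ (c : k) (e : ℕ), (α.sum fun _ e => e) ≤ e →
      (Polynomial.C (MvPolynomial.monomial α c) * Polynomial.X ^ e :
        Polynomial (MvPolynomial σ k)) ∈ T k σ := by
  induction α using Finsupp.induction with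
  | zero =>
    intro c e _
    have : (Polynomial.C (MvPolynomial.monomial (0 : σ →₀ ℕ) c) :
        Polynomial (MvPolynomial σ k)) = algebraMap k _ c := rfl
    rw [this]
    exact (T k σ).mul_mem ((T k σ).algebraMap_mem c) ((T k σ).pow_mem X_mem_T e)
  | single_add i n β _ _ ih =>
    intro c e he
    rw [sum_single_add] at he
    have h1 : (Polynomial.C (MvPolynomial.monomial (Finsupp.single i n + β) c) * Polynomial.X ^ e :
        Polynomial (MvPolynomial σ k)) =
        (Polynomial.C (MvPolynomial.X i) * Polynomial.X) ^ n *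
          (Polynomial.C (MvPolynomial.monomial β c) * Polynomial.X ^ (e - n)) := by
      rw [MvPolynomial.monomial_single_add, map_mul, map_pow, mul_pow]
      have : e = n + (e - n) := by omega
      conv_lhs => rw [this, pow_add]
      ring
    rw [h1]
    exact (T k σ).mul_mem ((T k σ).pow_mem (CX_mul_X_mem_T i) n) (ih c (e - n) (by omega))

lemma degSub_le_T : degSub k σ ≤ T k σ := by
  intro p hp
  rw [p.as_sum_support_C_mul_X_pow]
  refine (T k σ).sum_mem fun e _ => ?_
  have h1 : p.coeff e = ∑ α ∈ (p.coeff e).support, MvPolynomial.monomial α ((p.coeff e).coeff α) :=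
    (MvPolynomial.support_sum_monomial_coeff (p.coeff e)).symm
  rw [h1, map_sum, Finset.sum_mul]
  refine (T k σ).sum_mem fun α hα => ?_
  exact C_monomial_mul_X_pow_mem_T α _ e ((MvPolynomial.le_totalDegree hα).trans (hp e))

lemma T_eq_degSub : T k σ = degSub k σ := le_antisymm T_le_degSub degSub_le_T

lemma mem_T {p : Polynomial (MvPolynomial σ k)} :
    p ∈ T k σ ↔ ∀ e, (p.coeff e).totalDegree ≤ e := by
  rw [T_eq_degSub]; exact mem_degSub

instance [IsNoetherianRing k] [Finite σ] : IsNoetherianRing (T k σ) := by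
  exact isNoetherianRing_of_surjective (MvPolynomial (Option σ) k) (T k σ)
    (MvPolynomial.aeval (gen k σ)).rangeRestrict.toRingHom
    (MvPolynomial.aeval (gen k σ)).rangeRestrict_surjective

end Subalg

section Filt

variable {k : Type*} [CommRing k] {σ : Type*} {ι : Type*}

/-- a filtered family of `k`-submodules of `(ι → k[x])` compatible with multiplication by the
variables and with the degree filtration. -/
structure IsFilt (G : ℕ → Submodule k (ι → MvPolynomial σ k)) : Prop where
  mono : ∀ d, G d ≤ G (d + 1)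
  mulX : ∀ d i, ∀ h ∈ G d, (MvPolynomial.X i : MvPolynomial σ k) • h ∈ G (d + 1)
  deg : ∀ d, ∀ h ∈ G d, ∀ j, (h j).totalDegree ≤ d

variable {G : ℕ → Submodule k (ι → MvPolynomial σ k)}

lemma IsFilt.le (hG : IsFilt G) {a b : ℕ} (h : a ≤ b) : G a ≤ G b :=
  monotone_nat_of_le_succ hG.mono h

lemma IsFilt.X_pow_smul_mem (hG : IsFilt G) (i : σ) (n : ℕ) {b : ℕ}
    {h : ι → MvPolynomial σ k} (hh : h ∈ G b) :
    ((MvPolynomial.X i : MvPolynomial σ k) ^ n) • h ∈ G (b + n) := by
  induction n with
  | zero => simpa using hh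
  | succ n ih =>
    rw [pow_succ', mul_smul]
    exact hG.mulX _ i _ ih

lemma IsFilt.monomial_smul_mem (hG : IsFilt G) (α : σ →₀ ℕ) :
    ∀ (c : k) {b : ℕ} {h : ι → MvPolynomial σ k}, h ∈ G b →
      (MvPolynomial.monomial α c) • h ∈ G (b + α.sum fun _ e => e) := by
  induction α using Finsupp.induction with
  | zero =>
    intro c b h hh
    have : (MvPolynomial.monomial (0 : σ →₀ ℕ) c) • h = c • h := by
      change (algebraMap k (MvPolynomial σ k) c) • h = c • h
      rw [algebraMap_smul]
    rw [this]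
    simpa using (G b).smul_mem c hh
  | single_add i n β _ _ ih =>
    intro c b h hh
    rw [sum_single_add, MvPolynomial.monomial_single_add, mul_smul]
    have := hG.X_pow_smul_mem i n (ih c hh)
    have e : b + (β.sum fun _ e => e) + n = b + (n + β.sum fun _ e => e) := by omega
    rwa [e] at this

lemma IsFilt.smul_mem_of_totalDegree_le (hG : IsFilt G) (p : MvPolynomial σ k) {a b : ℕ}
    (hp : p.totalDegree ≤ a) {h : ι → MvPolynomial σ k} (hh : h ∈ G b) :
    p • h ∈ G (b + a) := by
  rw [← MvPolynomial.support_sum_monomial_coeff p, Finset.sum_smul]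
  refine (G (b + a)).sum_mem fun α hα => ?_
  exact hG.le (by have := MvPolynomial.le_totalDegree hα; omega) (hG.monomial_smul_mem α _ hh)

/-- the `d`-th coefficient vector. -/
noncomputable def cf (d : ℕ) : (ι → T k σ) →+ (ι → MvPolynomial σ k) where
  toFun φ := fun j => (φ j : Polynomial (MvPolynomial σ k)).coeff d
  map_zero' := by ext j; simp
  map_add' φ φ' := by ext j; simp

@[simp] lemma cf_apply (d : ℕ) (φ : ι → T k σ) (j : ι) :
    cf d φ j = (φ j : Polynomial (MvPolynomial σ k)).coeff d := rfl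

lemma cf_smul (d : ℕ) (τ : T k σ) (φ : ι → T k σ) :
    cf d (τ • φ) = ∑ x ∈ Finset.HasAntidiagonal.antidiagonal d,
      ((τ : Polynomial (MvPolynomial σ k)).coeff x.1) • cf x.2 φ := by
  ext j
  rw [cf_apply, Pi.smul_apply, smul_eq_mul, Subalgebra.coe_mul, Polynomial.coeff_mul,
    Finset.sum_apply]
  simp

/-- the Rees module of the filtration. -/
noncomputable def reesSub (hG : IsFilt G) : Submodule (T k σ) (ι → T k σ) where
  carrier := {φ | ∀ d, cf d φ ∈ G d}
  add_mem' := by
    intro φ φ' h h' d
    rw [map_add]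
    exact (G d).add_mem (h d) (h' d)
  zero_mem' := by
    intro d
    rw [map_zero]
    exact (G d).zero_mem
  smul_mem' := by
    intro τ φ hφ d
    rw [cf_smul]
    refine (G d).sum_mem fun x hx => ?_
    have hx := Finset.HasAntidiagonal.mem_antidiagonal.mp hx
    have h1 := hG.smul_mem_of_totalDegree_le _ (mem_T.mp τ.2 x.1) (hφ x.2)
    have e : x.2 + x.1 = d := by omega
    rwa [e] at h1

lemma mem_reesSub (hG : IsFilt G) {φ : ι → T k σ} : φ ∈ reesSub hG ↔ ∀ d, cf d φ ∈ G d := Iff.rfl

variable [Fintype σ]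

/-- membership in `G d + ∑ x_i G d`. -/
def Good (G : ℕ → Submodule k (ι → MvPolynomial σ k)) (d : ℕ) (h : ι → MvPolynomial σ k) : Prop :=
  ∃ h₀ ∈ G d, ∃ h' : σ → (ι → MvPolynomial σ k), (∀ i, h' i ∈ G d) ∧
    h = h₀ + ∑ i, (MvPolynomial.X i : MvPolynomial σ k) • h' i

lemma good_zero (d : ℕ) : Good G d 0 :=
  ⟨0, (G d).zero_mem, fun _ => 0, fun _ => (G d).zero_mem, by simp⟩

lemma good_add {d : ℕ} {h₁ h₂ : ι → MvPolynomial σ k} (H₁ : Good G d h₁) (H₂ : Good G d h₂) :
    Good G d (h₁ + h₂) := by
  obtain ⟨a₁, ha₁, b₁, hb₁, rfl⟩ := H₁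
  obtain ⟨a₂, ha₂, b₂, hb₂, rfl⟩ := H₂
  refine ⟨a₁ + a₂, (G d).add_mem ha₁ ha₂, fun i => b₁ i + b₂ i,
    fun i => (G d).add_mem (hb₁ i) (hb₂ i), ?_⟩
  simp only [smul_add, Finset.sum_add_distrib]
  abel

lemma good_sum {d : ℕ} {κ : Type*} (s : Finset κ) (f : κ → (ι → MvPolynomial σ k))
    (H : ∀ x ∈ s, Good G d (f x)) : Good G d (∑ x ∈ s, f x) := by
  classical
  induction s using Finset.induction_on with
  | empty => simpa using good_zero d
  | insert a s ha ih =>
    rw [Finset.sum_insert ha]
    exact good_add (H a (Finset.mem_insert_self a s))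
      (ih fun x hx => H x (Finset.mem_insert_of_mem hx))

lemma good_of_mem {d : ℕ} {h : ι → MvPolynomial σ k} (hh : h ∈ G d) : Good G d h :=
  ⟨h, hh, fun _ => 0, fun _ => (G d).zero_mem, by simp⟩

lemma good_X_smul [DecidableEq σ] {d : ℕ} (i : σ) {h : ι → MvPolynomial σ k} (hh : h ∈ G d) :
    Good G d ((MvPolynomial.X i : MvPolynomial σ k) • h) := by
  refine ⟨0, (G d).zero_mem, fun i' => if i' = i then h else 0, fun i' => ?_, ?_⟩
  · change (if i' = i then h else 0) ∈ G d
    split_ifs
    · exact hh
    · exact (G d).zero_mem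
  · simp

lemma IsFilt.good_smul (hG : IsFilt G) {a b d : ℕ} (ha : 1 ≤ a) (hab : a + b = d + 1)
    (p : MvPolynomial σ k) (hp : p.totalDegree ≤ a) {h : ι → MvPolynomial σ k} (hh : h ∈ G b) :
    Good G d (p • h) := by
  classical
  rw [← MvPolynomial.support_sum_monomial_coeff p, Finset.sum_smul]
  refine good_sum _ _ fun α hα => ?_
  have hα' : (α.sum fun _ e => e) ≤ a := (MvPolynomial.le_totalDegree hα).trans hp
  rcases hα'.lt_or_eq with hlt | heq
  · refine good_of_mem (hG.le ?_ (hG.monomial_smul_mem α _ hh))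
    omega
  · have hne : α ≠ 0 := by
      rintro rfl
      simp at heq
      omega
    obtain ⟨i, hi⟩ : ∃ i, α i ≠ 0 := by
      by_contra hcon
      push Not at hcon
      exact hne (Finsupp.ext hcon)
    have hle : Finsupp.single i 1 ≤ α := by
      rw [Finsupp.single_le_iff]
      omega
    set β := α - Finsupp.single i 1 with hβ
    have hαβ : Finsupp.single i 1 + β = α := add_tsub_cancel_of_le hle
    have hsum : 1 + (β.sum fun _ e => e) = a := by
      rw [← heq, ← hαβ, sum_single_add]
    rw [← hαβ, MvPolynomial.monomial_single_add, pow_one, mul_smul]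
    refine good_X_smul i (hG.le ?_ (hG.monomial_smul_mem β _ hh))
    omega

/-- **Graded Noetherian lemma**: for `d ≫ 0`, `G (d+1) = G d + ∑ x_i G d`. -/
theorem IsFilt.exists_bound [IsNoetherianRing k] [Finite ι] (hG : IsFilt G) :
    ∃ D : ℕ, ∀ d, D ≤ d → ∀ h ∈ G (d + 1), Good G d h := by
  classical
  have : Fintype ι := Fintype.ofFinite ι
  have hN1 : IsNoetherianRing (T k σ) := inferInstance
  have hN2 : IsNoetherian (T k σ) (ι → T k σ) := by
    convert isNoetherian_pi' (R := T k σ) (M := T k σ) (ι := ι)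
  have hfg : (reesSub hG).FG := IsNoetherian.noetherian _
  obtain ⟨Γ, hΓ⟩ := hfg
  refine ⟨Γ.sup fun γ => Finset.univ.sup fun j =>
    (γ j : Polynomial (MvPolynomial σ k)).natDegree, fun d hd h hh => ?_⟩
  have hmemT : ∀ j, (Polynomial.C (h j) * Polynomial.X ^ (d + 1) :
      Polynomial (MvPolynomial σ k)) ∈ T k σ := by
    intro j
    rw [mem_T]
    intro e
    rw [Polynomial.coeff_C_mul_X_pow]
    split_ifs with he
    · rw [he]; exact hG.deg _ h hh j
    · simp
  let φ : ι → T k σ := fun j => ⟨_, hmemT j⟩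
  have hcf : ∀ e, cf e φ = if e = d + 1 then h else 0 := by
    intro e
    funext j
    rw [cf_apply]
    change (Polynomial.C (h j) * Polynomial.X ^ (d + 1) :
      Polynomial (MvPolynomial σ k)).coeff e = _
    rw [Polynomial.coeff_C_mul_X_pow]
    split_ifs <;> rfl
  have hφ : φ ∈ reesSub hG := by
    intro e
    rw [hcf]
    split_ifs with he
    · rw [he]; exact hh
    · exact (G e).zero_mem
  rw [← hΓ] at hφ
  obtain ⟨f, -, hf⟩ := Submodule.mem_span_finset.mp hφ
  have h1 : h = cf (d + 1) φ := by rw [hcf, if_pos rfl]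
  rw [h1, ← hf, map_sum]
  refine good_sum _ _ fun γ hγ => ?_
  rw [cf_smul]
  refine good_sum _ _ fun x hx => ?_
  have hx := Finset.HasAntidiagonal.mem_antidiagonal.mp hx
  have hγmem : γ ∈ reesSub hG := by
    rw [← hΓ]; exact Submodule.subset_span hγ
  by_cases hx2 : x.2 ≤ d
  · exact hG.good_smul (a := x.1) (b := x.2) (by omega) hx _ (mem_T.mp (f γ).2 x.1) (hγmem x.2)
  · have hz : cf x.2 γ = 0 := by
      funext j
      rw [cf_apply]
      apply Polynomial.coeff_eq_zero_of_natDegree_lt
      have h2 : (γ j : Polynomial (MvPolynomial σ k)).natDegree ≤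
          Γ.sup fun γ => Finset.univ.sup fun j =>
            (γ j : Polynomial (MvPolynomial σ k)).natDegree :=
        (Finset.le_sup (f := fun j => (γ j : Polynomial (MvPolynomial σ k)).natDegree)
          (Finset.mem_univ j)).trans
          (Finset.le_sup (f := fun γ => Finset.univ.sup fun j =>
            (γ j : Polynomial (MvPolynomial σ k)).natDegree) hγ)
      omega
    rw [hz, smul_zero]
    exact good_zero d

end Filt

end Groth.Agent.Lib.Helper58.NagataRees
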