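import Mathlib
import Groth.Agent.Lib.Helper58.NagataFree
import Groth.Agent.Lib.Helper58.NagataRees

/-!
# Nagata's theorem: over a valuation ring, a submodule `N` of a finite free module over a polynomial
ring with torsion-free quotient is finitely generated.
-/

set_option autoImplicit false
set_option linter.unusedSectionVars false

namespace Groth.Agent.Lib.Helper58.NagataPoly

open IsLocalRing Groth.Agent.Lib.Helper58.NagataRees

variable {R : Type*} [CommRing R] [IsDomain R] [ValuationRing R]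
  {σ : Type*} [Fintype σ] {ι : Type*} [Finite ι]

/-- elements of `N` of degree `≤ d`. -/
def Nd (N : Submodule (MvPolynomial σ R) (ι → MvPolynomial σ R)) (d : ℕ) :
    Submodule R (ι → MvPolynomial σ R) where
  carrier := {f | f ∈ N ∧ ∀ j, (f j).totalDegree ≤ d}
  add_mem' := by
    rintro f g ⟨hf, hf'⟩ ⟨hg, hg'⟩
    exact ⟨N.add_mem hf hg, fun j =>
      (MvPolynomial.totalDegree_add _ _).trans (max_le (hf' j) (hg' j))⟩
  zero_mem' := ⟨N.zero_mem, fun j => by simp⟩
  smul_mem' := by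
    rintro r f ⟨hf, hf'⟩
    refine ⟨?_, fun j => ?_⟩
    · rw [← algebraMap_smul (MvPolynomial σ R) r f]
      exact N.smul_mem _ hf
    · exact (MvPolynomial.totalDegree_smul_le r (f j)).trans (hf' j)

variable (N : Submodule (MvPolynomial σ R) (ι → MvPolynomial σ R))

lemma mem_Nd {d : ℕ} {f : ι → MvPolynomial σ R} :
    f ∈ Nd N d ↔ f ∈ N ∧ ∀ j, (f j).totalDegree ≤ d := Iff.rfl

lemma Nd_mono {a b : ℕ} (h : a ≤ b) : Nd N a ≤ Nd N b :=
  fun _ hf => ⟨hf.1, fun j => (hf.2 j).trans h⟩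

lemma X_smul_mem_Nd {d : ℕ} (i : σ) {f : ι → MvPolynomial σ R} (hf : f ∈ Nd N d) :
    (MvPolynomial.X i : MvPolynomial σ R) • f ∈ Nd N (d + 1) := by
  refine ⟨N.smul_mem _ hf.1, fun j => ?_⟩
  rw [Pi.smul_apply, smul_eq_mul, mul_comm]
  refine (MvPolynomial.totalDegree_mul _ _).trans ?_
  have : (MvPolynomial.X i : MvPolynomial σ R).totalDegree ≤ 1 := by
    refine (MvPolynomial.totalDegree_monomial_le _ _).trans ?_
    simp
  have := hf.2 j
  omega

/-- the submodule of vectors of degree `≤ d`. -/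
noncomputable def Fd (R : Type*) [CommRing R] (σ : Type*) (ι : Type*) (d : ℕ) :
    Submodule R (ι → MvPolynomial σ R) :=
  Submodule.pi Set.univ fun _ => MvPolynomial.restrictTotalDegree σ R d

lemma mem_Fd {d : ℕ} {f : ι → MvPolynomial σ R} :
    f ∈ Fd R σ ι d ↔ ∀ j, (f j).totalDegree ≤ d := by
  simp [Fd, Submodule.mem_pi, MvPolynomial.mem_restrictTotalDegree]

lemma Fd_fg (d : ℕ) : (Fd R σ ι d).FG :=
  Submodule.fg_pi fun _ => (Module.Finite.iff_fg).mp inferInstance

lemma Nd_le_Fd (d : ℕ) : Nd N d ≤ Fd R σ ι d := fun _ hf => mem_Fd.mpr hf.2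

/-- `N_d` is a finitely generated `R`-module. -/
theorem Nd_fg (htf : ∀ a : R, a ≠ 0 → ∀ f : ι → MvPolynomial σ R, a • f ∈ N → f ∈ N) (d : ℕ) :
    (Nd N d).FG := by
  have hfin : Module.Finite R (Fd R σ ι d) := Module.Finite.iff_fg.mpr (Fd_fg d)
  let K : Submodule R (Fd R σ ι d) := (Nd N d).comap (Fd R σ ι d).subtype
  have htfQ : ∀ (a : R) (q : (Fd R σ ι d) ⧸ K), a • q = 0 → a = 0 ∨ q = 0 := by
    intro a q hq
    by_cases ha : a = 0
    · exact Or.inl ha
    right
    obtain ⟨f, rfl⟩ := Submodule.Quotient.mk_surjective K q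
    rw [← Submodule.Quotient.mk_smul, Submodule.Quotient.mk_eq_zero] at hq
    rw [Submodule.Quotient.mk_eq_zero]
    have h1 : a • (f : ι → MvPolynomial σ R) ∈ Nd N d := hq
    exact ⟨htf a ha _ h1.1, mem_Fd.mp f.2⟩
  have hfree : Module.Free R ((Fd R σ ι d) ⧸ K) :=
    Groth.Agent.Lib.Helper58.NagataFree.free_of_finite_of_torsionFree R _ htfQ
  have hfinQ : Module.Finite R ((Fd R σ ι d) ⧸ K) := inferInstance
  have hproj : Module.Projective R ((Fd R σ ι d) ⧸ K) := Module.Projective.of_free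
  have hfp : Module.FinitePresentation R ((Fd R σ ι d) ⧸ K) :=
    Module.finitePresentation_of_projective R _
  have hker : (LinearMap.ker K.mkQ).FG :=
    Module.FinitePresentation.fg_ker K.mkQ (Submodule.mkQ_surjective K)
  rw [Submodule.ker_mkQ] at hker
  have h2 := hker.map (Fd R σ ι d).subtype
  have h3 : K.map (Fd R σ ι d).subtype = Nd N d := by
    rw [Submodule.map_comap_subtype]
    exact inf_eq_right.mpr (Nd_le_Fd N d)
  rwa [h3] at h2

/-- reduction modulo the maximal ideal. -/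
noncomputable def red (f : ι → MvPolynomial σ R) : ι → MvPolynomial σ (ResidueField R) :=
  fun j => MvPolynomial.map (residue R) (f j)

lemma red_add (f g : ι → MvPolynomial σ R) : red (f + g) = red f + red g := by
  funext j; simp [red]

lemma red_zero : red (0 : ι → MvPolynomial σ R) = 0 := by
  funext j; simp [red]

lemma red_smul (p : MvPolynomial σ R) (f : ι → MvPolynomial σ R) :
    red (p • f) = (MvPolynomial.map (residue R) p) • red f := by
  funext j; simp [red]

lemma red_sum {κ : Type*} (s : Finset κ) (f : κ → (ι → MvPolynomial σ R)) :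
    red (∑ x ∈ s, f x) = ∑ x ∈ s, red (f x) := by
  classical
  induction s using Finset.induction_on with
  | empty => simpa using red_zero
  | insert a s ha ih => rw [Finset.sum_insert ha, Finset.sum_insert ha, red_add, ih]

/-- the image of `N_d` modulo the maximal ideal. -/
noncomputable def G (d : ℕ) : Submodule (ResidueField R) (ι → MvPolynomial σ (ResidueField R)) where
  carrier := {h | ∃ f ∈ Nd N d, red f = h}
  add_mem' := by
    rintro _ _ ⟨f, hf, rfl⟩ ⟨g, hg, rfl⟩
    exact ⟨f + g, (Nd N d).add_mem hf hg, red_add f g⟩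
  zero_mem' := ⟨0, (Nd N d).zero_mem, red_zero⟩
  smul_mem' := by
    rintro c _ ⟨f, hf, rfl⟩
    obtain ⟨r, rfl⟩ := residue_surjective c
    refine ⟨r • f, (Nd N d).smul_mem r hf, ?_⟩
    rw [← algebraMap_smul (MvPolynomial σ R) r f, red_smul,
      ← algebraMap_smul (MvPolynomial σ (ResidueField R)) (residue R r) (red f)]
    congr 1
    simp [MvPolynomial.algebraMap_eq]

lemma isFilt_G : IsFilt (G N) where
  mono d := by
    rintro _ ⟨f, hf, rfl⟩
    exact ⟨f, Nd_mono N (Nat.le_succ d) hf, rfl⟩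
  mulX d i := by
    rintro _ ⟨f, hf, rfl⟩
    refine ⟨MvPolynomial.X i • f, X_smul_mem_Nd N i hf, ?_⟩
    rw [red_smul, MvPolynomial.map_X]
  deg d := by
    rintro _ ⟨f, hf, rfl⟩ j
    exact (Finset.sup_mono (MvPolynomial.support_map_subset _ _)).trans (hf.2 j)

lemma red_sub (f g : ι → MvPolynomial σ R) : red (f - g) = red f - red g := by
  funext j; simp [red]

/-- content lemma: an element of `N_e` which vanishes modulo the maximal ideal lies in
`m • N_e`. -/
lemma mem_smul_of_red_eq_zero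
    (htf : ∀ a : R, a ≠ 0 → ∀ f : ι → MvPolynomial σ R, a • f ∈ N → f ∈ N) {e : ℕ}
    {u : ι → MvPolynomial σ R} (hu : u ∈ Nd N e) (hred : red u = 0) :
    u ∈ maximalIdeal R • Nd N e := by
  classical
  have : Fintype ι := Fintype.ofFinite ι
  by_cases hu0 : u = 0
  · rw [hu0]; exact Submodule.zero_mem _
  let Idx : Finset (Σ _ : ι, σ →₀ ℕ) := Finset.univ.sigma fun j => (u j).support
  have hne : Idx.Nonempty := by
    by_contra hemp
    rw [Finset.not_nonempty_iff_eq_empty] at hemp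
    apply hu0
    funext j
    by_contra hj
    obtain ⟨α, hα⟩ := MvPolynomial.support_nonempty.mpr hj
    have : (⟨j, α⟩ : Σ _ : ι, σ →₀ ℕ) ∈ Idx := Finset.mem_sigma.mpr ⟨Finset.mem_univ j, hα⟩
    rw [hemp] at this
    exact absurd this (Finset.notMem_empty _)
  obtain ⟨x₀, hx₀, hdvd⟩ := Groth.Agent.Lib.Helper58.ValFinite.exists_dvd_all Idx hne
    (fun x => (u x.1).coeff x.2)
  set c₀ := (u x₀.1).coeff x₀.2 with hc₀
  have hx₀' : x₀.2 ∈ (u x₀.1).support := (Finset.mem_sigma.mp hx₀).2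
  have hc₀ne : c₀ ≠ 0 := MvPolynomial.mem_support_iff.mp hx₀'
  have hc₀m : c₀ ∈ maximalIdeal R := by
    have h1 := congrArg (fun v => (v x₀.1).coeff x₀.2) hred
    simp only [red, MvPolynomial.coeff_map, Pi.zero_apply, MvPolynomial.coeff_zero] at h1
    exact (residue_eq_zero_iff _).mp h1
  choose! q hq using hdvd
  let u' : ι → MvPolynomial σ R := fun j =>
    ∑ α ∈ (u j).support, MvPolynomial.monomial α (q ⟨j, α⟩)
  have hcu' : c₀ • u' = u := by
    funext j
    simp only [u', Pi.smul_apply, Finset.smul_sum, MvPolynomial.smul_monomial, smul_eq_mul]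
    conv_rhs => rw [← MvPolynomial.support_sum_monomial_coeff (u j)]
    refine Finset.sum_congr rfl fun α hα => ?_
    rw [← hq ⟨j, α⟩ (Finset.mem_sigma.mpr ⟨Finset.mem_univ j, hα⟩)]
  have hu'N : u' ∈ N := htf c₀ hc₀ne u' (by rw [hcu']; exact hu.1)
  have hu'deg : ∀ j, (u' j).totalDegree ≤ e := by
    intro j
    refine MvPolynomial.totalDegree_finsetSum_le fun α hα => ?_
    refine (MvPolynomial.totalDegree_monomial_le _ _).trans ?_
    exact (MvPolynomial.le_totalDegree hα).trans (hu.2 j)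
  rw [← hcu']
  exact Submodule.smul_mem_smul hc₀m ⟨hu'N, hu'deg⟩

/-- `N_d + ∑ x_i N_d`. -/
def Nstep (d : ℕ) : Submodule R (ι → MvPolynomial σ R) where
  carrier := {f | ∃ g₀ ∈ Nd N d, ∃ g : σ → (ι → MvPolynomial σ R), (∀ i, g i ∈ Nd N d) ∧
    f = g₀ + ∑ i, (MvPolynomial.X i : MvPolynomial σ R) • g i}
  add_mem' := by
    rintro _ _ ⟨a₁, ha₁, b₁, hb₁, rfl⟩ ⟨a₂, ha₂, b₂, hb₂, rfl⟩
    refine ⟨a₁ + a₂, (Nd N d).add_mem ha₁ ha₂, fun i => b₁ i + b₂ i,
      fun i => (Nd N d).add_mem (hb₁ i) (hb₂ i), ?_⟩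
    simp only [smul_add, Finset.sum_add_distrib]
    abel
  zero_mem' := ⟨0, (Nd N d).zero_mem, fun _ => 0, fun _ => (Nd N d).zero_mem, by simp⟩
  smul_mem' := by
    rintro r _ ⟨a, ha, b, hb, rfl⟩
    refine ⟨r • a, (Nd N d).smul_mem r ha, fun i => r • b i, fun i => (Nd N d).smul_mem r (hb i), ?_⟩
    simp only [smul_add, Finset.smul_sum]
    congr 1
    refine Finset.sum_congr rfl fun i _ => ?_
    rw [smul_comm]

lemma Nstep_le (d : ℕ) : Nstep N d ≤ Nd N (d + 1) := by
  rintro _ ⟨a, ha, b, hb, rfl⟩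
  refine (Nd N (d + 1)).add_mem (Nd_mono N (Nat.le_succ d) ha) ?_
  exact (Nd N (d + 1)).sum_mem fun i _ => X_smul_mem_Nd N i (hb i)

lemma Nd_succ_le (htf : ∀ a : R, a ≠ 0 → ∀ f : ι → MvPolynomial σ R, a • f ∈ N → f ∈ N)
    {d : ℕ} (hD : ∀ h ∈ G N (d + 1), Good (G N) d h) : Nd N (d + 1) ≤ Nstep N d := by
  refine Submodule.le_of_le_smul_of_le_jacobson_bot (I := maximalIdeal R) (Nd_fg N htf (d + 1))
    (maximalIdeal_le_jacobson _) ?_
  intro f hf
  obtain ⟨h₀, hh₀, h', hh', hsum⟩ := hD (red f) ⟨f, hf, rfl⟩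
  obtain ⟨g₀, hg₀, rfl⟩ := hh₀
  choose g hg hg' using hh'
  let gg : ι → MvPolynomial σ R := g₀ + ∑ i, (MvPolynomial.X i : MvPolynomial σ R) • g i
  have hgg : gg ∈ Nstep N d := ⟨g₀, hg₀, g, hg, rfl⟩
  have hredgg : red gg = red f := by
    rw [hsum, red_add, red_sum]
    congr 1
    refine Finset.sum_congr rfl fun i _ => ?_
    rw [red_smul, MvPolynomial.map_X, hg' i]
  have hu : f - gg ∈ Nd N (d + 1) := (Nd N (d + 1)).sub_mem hf (Nstep_le N d hgg)
  have hured : red (f - gg) = 0 := by rw [red_sub, hredgg, sub_self]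
  have := mem_smul_of_red_eq_zero N htf hu hured
  have e : f = gg + (f - gg) := by abel
  rw [e]
  exact Submodule.add_mem_sup hgg this

/-- **Nagata's theorem** (submodule form): over a valuation ring `R`, a submodule `N` of a finite
free module over `R[x₁,…,xₙ]` with `R`-torsion-free quotient is finitely generated. -/
theorem fg_of_torsionFree
    (htf : ∀ a : R, a ≠ 0 → ∀ f : ι → MvPolynomial σ R, a • f ∈ N → f ∈ N) : N.FG := by
  classical
  have : Fintype ι := Fintype.ofFinite ι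
  obtain ⟨D, hD⟩ := (isFilt_G N).exists_bound
  set Nspan := Submodule.span (MvPolynomial σ R) (Nd N D : Set (ι → MvPolynomial σ R)) with hNspan
  have hstep : ∀ d, (Nd N (D + d) : Set (ι → MvPolynomial σ R)) ⊆ Nspan := by
    intro d
    induction d with
    | zero => exact Submodule.subset_span
    | succ d ih =>
      intro f hf
      have hf' : f ∈ Nd N (D + d + 1) := hf
      obtain ⟨a, ha, b, hb, rfl⟩ := Nd_succ_le N htf (hD (D + d) (Nat.le_add_right D d)) hf'
      refine Nspan.add_mem (ih ha) (Nspan.sum_mem fun i _ => Nspan.smul_mem _ (ih (hb i)))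
  have hle : N ≤ Nspan := by
    intro f hf
    let d := Finset.univ.sup fun j => (f j).totalDegree
    have hfd : f ∈ Nd N d := ⟨hf, fun j => Finset.le_sup (f := fun j => (f j).totalDegree)
      (Finset.mem_univ j)⟩
    exact hstep d (Nd_mono N (Nat.le_add_left d D) hfd)
  have hge : Nspan ≤ N := Submodule.span_le.mpr fun f hf => hf.1
  have hN : N = Nspan := le_antisymm hle hge
  obtain ⟨Γ, hΓ⟩ := Nd_fg N htf D
  refine ⟨Γ, ?_⟩
  rw [hN, hNspan, ← hΓ, Submodule.span_span_of_tower]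

end Groth.Agent.Lib.Helper58.NagataPoly
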