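import Mathlib
import Groth.Agent.Lib.Helper58.NagataPoly

/-!
# Finite torsion-free modules over (localizations of) finite type algebras over a valuation ring
are finitely presented (Nagata; Raynaud–Gruson 3.4.6 for valuation rings).
-/

set_option autoImplicit false
set_option linter.unusedSectionVars false

namespace Groth.Agent.Lib.Helper58.NagataFP

variable (R : Type*) [CommRing R] [IsDomain R] [ValuationRing R]

/-- **Nagata**: a finite module over a finite type algebra over a valuation ring `R`, torsion-free
over `R`, is finitely presented. -/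
theorem finitePresentation_of_finiteType (B : Type*) [CommRing B] [Algebra R B]
    [Algebra.FiniteType R B] (M : Type*) [AddCommGroup M] [Module B M] [Module R M]
    [IsScalarTower R B M] [Module.Finite B M]
    (htf : ∀ a : R, a ≠ 0 → ∀ m : M, a • m = 0 → m = 0) : Module.FinitePresentation B M := by
  classical
  obtain ⟨n, f, hf⟩ := Algebra.FiniteType.iff_quotient_mvPolynomial''.mp
    (inferInstance : Algebra.FiniteType R B)
  obtain ⟨r, π, hπ⟩ := Module.Finite.exists_fin' B M
  -- componentwise `f`
  let Fm : (Fin r → MvPolynomial (Fin n) R) → (Fin r → B) := fun v j => f (v j)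
  have Fm_add : ∀ v w, Fm (v + w) = Fm v + Fm w := by
    intro v w; funext j; simp [Fm]
  have Fm_zero : Fm 0 = 0 := by funext j; simp [Fm]
  have Fm_smul : ∀ (p : MvPolynomial (Fin n) R) v, Fm (p • v) = f p • Fm v := by
    intro p v; funext j; simp [Fm]
  have Fm_surj : Function.Surjective Fm := by
    intro w
    choose v hv using fun j => hf (w j)
    exact ⟨v, funext hv⟩
  let N : Submodule (MvPolynomial (Fin n) R) (Fin r → MvPolynomial (Fin n) R) :=
    { carrier := {v | π (Fm v) = 0}
      add_mem' := by
        intro v w hv hw
        change π (Fm (v + w)) = 0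
        rw [Fm_add, map_add, hv, hw, add_zero]
      zero_mem' := by
        change π (Fm 0) = 0
        rw [Fm_zero, map_zero]
      smul_mem' := by
        intro p v hv
        change π (Fm (p • v)) = 0
        rw [Fm_smul, map_smul, hv, smul_zero] }
  have hN : N.FG := by
    apply Groth.Agent.Lib.Helper58.NagataPoly.fg_of_torsionFree N
    intro a ha v hv
    change π (Fm (a • v)) = 0 at hv
    change π (Fm v) = 0
    apply htf a ha
    rw [← algebraMap_smul (MvPolynomial (Fin n) R) a v, Fm_smul, map_smul] at hv
    rw [← algebraMap_smul B a (π (Fm v))]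
    convert hv using 2
    exact (f.commutes a).symm
  obtain ⟨Γ, hΓ⟩ := hN
  have hker : (LinearMap.ker π).FG := by
    refine ⟨Γ.image Fm, le_antisymm ?_ ?_⟩
    · rw [Submodule.span_le]
      intro w hw
      rw [Finset.coe_image] at hw
      obtain ⟨v, hv, rfl⟩ := hw
      have : v ∈ N := by rw [← hΓ]; exact Submodule.subset_span hv
      exact this
    · have key : ∀ v, v ∈ Submodule.span (MvPolynomial (Fin n) R)
          (Γ : Set (Fin r → MvPolynomial (Fin n) R)) →
          Fm v ∈ Submodule.span B (Fm '' (Γ : Set (Fin r → MvPolynomial (Fin n) R))) := by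
        intro v hv
        induction hv using Submodule.span_induction with
        | mem v hv => exact Submodule.subset_span ⟨v, hv, rfl⟩
        | zero => rw [Fm_zero]; exact Submodule.zero_mem _
        | add v w _ _ ihv ihw => rw [Fm_add]; exact Submodule.add_mem _ ihv ihw
        | smul p v _ ih => rw [Fm_smul]; exact Submodule.smul_mem _ _ ih
      intro w hw
      obtain ⟨v, rfl⟩ := Fm_surj w
      have hvN : v ∈ N := hw
      rw [← hΓ] at hvN
      rw [Finset.coe_image]
      exact key v hvN
  exact Module.finitePresentation_of_free_of_surjective π hπ hker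

/-- localized version: `B` a localization of a finite type `R`-algebra `B₀`. -/
theorem finitePresentation_of_isLocalization (B₀ : Type*) [CommRing B₀] [Algebra R B₀]
    [Algebra.FiniteType R B₀] (T : Submonoid B₀) (B : Type*) [CommRing B] [Algebra B₀ B]
    [IsLocalization T B] [Algebra R B] [IsScalarTower R B₀ B]
    (M : Type*) [AddCommGroup M] [Module B M] [Module R M]
    [IsScalarTower R B M] [Module.Finite B M]
    (htf : ∀ a : R, a ≠ 0 → ∀ m : M, a • m = 0 → m = 0) : Module.FinitePresentation B M := by
  classical
  let _ : Module B₀ M := Module.compHom M (algebraMap B₀ B)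
  have : IsScalarTower B₀ B M := IsScalarTower.of_algebraMap_smul fun _ _ => rfl
  have : IsScalarTower R B₀ M := by
    constructor
    intro a b m
    rw [← algebraMap_smul B b m, ← algebraMap_smul B (a • b) m, Algebra.smul_def, map_mul,
      mul_smul, ← IsScalarTower.algebraMap_apply, algebraMap_smul]
  obtain ⟨Γ, hΓ⟩ := (Module.Finite.fg_top : (⊤ : Submodule B M).FG)
  let M₀ : Submodule B₀ M := Submodule.span B₀ (Γ : Set M)
  have : Module.Finite B₀ M₀ := Module.Finite.span_of_finite B₀ Γ.finite_toSet
  have htf₀ : ∀ a : R, a ≠ 0 → ∀ m : M₀, a • m = 0 → m = 0 := by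
    intro a ha m hm
    apply Subtype.ext
    apply htf a ha
    have := congrArg Subtype.val hm
    simpa using this
  have : Module.FinitePresentation B₀ M₀ := finitePresentation_of_finiteType R B₀ M₀ htf₀
  have : IsLocalizedModule T M₀.subtype := by
    refine ⟨?_, ?_, ?_⟩
    · intro t
      rw [Module.End.isUnit_iff]
      have hu : IsUnit (algebraMap B₀ B t) := IsLocalization.map_units B t
      obtain ⟨u, hu'⟩ := hu
      constructor
      · intro m m' h
        have h' : algebraMap B₀ B t • m = algebraMap B₀ B t • m' := h
        rw [← hu'] at h'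
        have := congrArg (fun z => (↑u⁻¹ : B) • z) h'
        simpa [smul_smul] using this
      · intro m
        refine ⟨(↑u⁻¹ : B) • m, ?_⟩
        change algebraMap B₀ B t • ((↑u⁻¹ : B) • m) = m
        rw [← hu', smul_smul, Units.mul_inv, one_smul]
    · intro y
      have hy : y ∈ Submodule.span B (Γ : Set M) := by rw [hΓ]; trivial
      obtain ⟨c, -, hc⟩ := Submodule.mem_span_finset.mp hy
      obtain ⟨t, ht⟩ := IsLocalization.exist_integer_multiples T Γ c
      choose! a ha using ht
      refine ⟨⟨⟨∑ γ ∈ Γ, a γ • γ, ?_⟩, t⟩, ?_⟩
      · exact Submodule.sum_mem _ fun γ hγ =>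
          Submodule.smul_mem _ _ (Submodule.subset_span hγ)
      · change (t : B₀) • y = ∑ γ ∈ Γ, a γ • γ
        rw [← hc, Finset.smul_sum]
        refine Finset.sum_congr rfl fun γ hγ => ?_
        rw [← algebraMap_smul B (a γ) γ, ha γ hγ, smul_assoc]
    · intro x y h
      refine ⟨1, ?_⟩
      rw [one_smul, one_smul]
      exact Subtype.ext h
  exact FinitePresentation.of_isBaseChange M₀.subtype
    (IsLocalizedModule.isBaseChange T B M₀.subtype)

/-- **Stacks 053E for valuation rings** (local, essentially of finite type version). -/
theorem finitePresentation_of_essFiniteType (B : Type*) [CommRing B] [Algebra R B]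
    [Algebra.EssFiniteType R B] (M : Type*) [AddCommGroup M] [Module B M] [Module R M]
    [IsScalarTower R B M] [Module.Finite B M]
    (htf : ∀ a : R, a ≠ 0 → ∀ m : M, a • m = 0 → m = 0) : Module.FinitePresentation B M :=
  finitePresentation_of_isLocalization R (Algebra.EssFiniteType.subalgebra R B)
    (Algebra.EssFiniteType.submonoid R B) B M htf

end Groth.Agent.Lib.Helper58.NagataFP
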