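import Mathlib

/-!
# Lifting morphisms into an affine morphism along `p` with `O_T → p_* O_W` bijective (helper58)

`p : W ⟶ T`, `t : T ⟶ S`, `q : Z ⟶ S` affine.  If `p.app (t ⁻¹ᵁ U)` is bijective for every affine
open `U ⊆ S`, then composition with `p` is a bijection between `S`-morphisms `T ⟶ Z` and
`S`-morphisms `W ⟶ Z`.
-/

set_option autoImplicit false
set_option linter.style.haveILetI false

namespace Groth.Agent.Lib.Helper58.AffLift

open AlgebraicGeometry CategoryTheory CategoryTheory.Limits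

universe u

section AffineTarget

variable {W T Z : Scheme.{u}}

theorem eq_of_comp_eq_of_isAffine [IsAffine Z] (p : W ⟶ T)
    (hp : Function.Injective p.appTop) (a a' : T ⟶ Z) (h : p ≫ a = p ≫ a') : a = a' := by
  apply ext_of_isAffine
  have h1 : a.appTop ≫ p.appTop = a'.appTop ≫ p.appTop := by
    rw [← Scheme.Hom.comp_appTop, ← Scheme.Hom.comp_appTop, h]
  ext x
  apply hp
  exact congrArg (fun φ => φ.hom x) h1

theorem exists_lift_of_isAffine [IsAffine Z] (p : W ⟶ T)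
    (hp : Function.Bijective p.appTop) (b : W ⟶ Z) : ∃ a : T ⟶ Z, p ≫ a = b := by
  have hiso : IsIso p.appTop := (ConcreteCategory.isIso_iff_bijective _).mpr hp
  refine ⟨T.toSpecΓ ≫ Spec.map (b.appTop ≫ inv p.appTop) ≫ Z.isoSpec.inv, ?_⟩
  rw [← Category.assoc, Scheme.toSpecΓ_naturality, Category.assoc, ← Category.assoc (Spec.map _),
    ← Spec.map_comp, Category.assoc, IsIso.inv_hom_id, Category.comp_id, ← Category.assoc,
    ← Scheme.toSpecΓ_naturality, Category.assoc, ← Scheme.isoSpec_hom, Iso.hom_inv_id,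
    Category.comp_id]

end AffineTarget


section Restrict

variable {W T S Z : Scheme.{u}} (p : W ⟶ T) (t : T ⟶ S) (q : Z ⟶ S)

theorem appTop_morphismRestrict_bijective (V : T.Opens) (h : Function.Bijective (p.app V)) :
    Function.Bijective (p ∣_ V).appTop := by
  rw [morphismRestrict_appTop]
  have hV : V.ι ''ᵁ ⊤ = V := by simp
  have h1 : Function.Bijective (p.app (V.ι ''ᵁ ⊤)) := by
    have : ∀ V' : T.Opens, V' = V → Function.Bijective (p.app V') := by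
      rintro _ rfl; exact h
    exact this _ hV
  have h2 : Function.Bijective
      (W.presheaf.map (eqToHom (image_morphismRestrict_preimage p V ⊤)).op) :=
    ConcreteCategory.bijective_of_isIso _
  exact h2.comp h1

theorem range_subset_preimage {Y : Scheme.{u}} (g : Y ⟶ Z) (U : S.Opens)
    (hrU : ∀ y : Y, (g ≫ q) y ∈ U) :
    Set.range g.base ⊆ Set.range (q ⁻¹ᵁ U).ι.base := by
  rw [Scheme.Opens.range_ι]
  rintro _ ⟨y, rfl⟩
  exact hrU y

variable [IsAffineHom q]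

/-- Local uniqueness. -/
theorem eq_of_comp_eq_local (U : S.Opens) (hU : IsAffineOpen U)
    (hB : Function.Bijective (p.app (t ⁻¹ᵁ U)))
    (g g' : (t ⁻¹ᵁ U).toScheme ⟶ Z) (hg : g ≫ q = (t ⁻¹ᵁ U).ι ≫ t)
    (hg' : g' ≫ q = (t ⁻¹ᵁ U).ι ≫ t)
    (h : (p ∣_ (t ⁻¹ᵁ U)) ≫ g = (p ∣_ (t ⁻¹ᵁ U)) ≫ g') : g = g' := by
  have hmem : ∀ y : (t ⁻¹ᵁ U).toScheme, ((t ⁻¹ᵁ U).ι ≫ t) y ∈ U := fun y => y.2
  have H : Set.range g.base ⊆ Set.range (q ⁻¹ᵁ U).ι.base :=
    range_subset_preimage q g U (by rw [hg]; exact hmem)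
  have H' : Set.range g'.base ⊆ Set.range (q ⁻¹ᵁ U).ι.base :=
    range_subset_preimage q g' U (by rw [hg']; exact hmem)
  haveI : IsAffine (q ⁻¹ᵁ U).toScheme := hU.preimage q
  have e : IsOpenImmersion.lift (q ⁻¹ᵁ U).ι g H = IsOpenImmersion.lift (q ⁻¹ᵁ U).ι g' H' := by
    apply eq_of_comp_eq_of_isAffine (p ∣_ (t ⁻¹ᵁ U))
      (appTop_morphismRestrict_bijective p _ hB).1
    rw [← cancel_mono (q ⁻¹ᵁ U).ι, Category.assoc, Category.assoc, IsOpenImmersion.lift_fac,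
      IsOpenImmersion.lift_fac, h]
  rw [← IsOpenImmersion.lift_fac (q ⁻¹ᵁ U).ι g H, e, IsOpenImmersion.lift_fac]

/-- Local existence. -/
theorem exists_lift_local (U : S.Opens) (hU : IsAffineOpen U)
    (hB : Function.Bijective (p.app (t ⁻¹ᵁ U))) (b : W ⟶ Z) (hb : b ≫ q = p ≫ t) :
    ∃ g : (t ⁻¹ᵁ U).toScheme ⟶ Z, g ≫ q = (t ⁻¹ᵁ U).ι ≫ t ∧
      (p ∣_ (t ⁻¹ᵁ U)) ≫ g = (p ⁻¹ᵁ (t ⁻¹ᵁ U)).ι ≫ b := by
  haveI : IsAffine (q ⁻¹ᵁ U).toScheme := hU.preimage q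
  haveI : IsAffine U.toScheme := hU
  have hbij := appTop_morphismRestrict_bijective p _ hB
  have H : Set.range ((p ⁻¹ᵁ (t ⁻¹ᵁ U)).ι ≫ b).base ⊆ Set.range (q ⁻¹ᵁ U).ι.base := by
    apply range_subset_preimage q _ U
    intro y
    rw [Category.assoc, hb]
    exact y.2
  obtain ⟨a', ha'⟩ := exists_lift_of_isAffine (p ∣_ (t ⁻¹ᵁ U)) hbij
    (IsOpenImmersion.lift (q ⁻¹ᵁ U).ι ((p ⁻¹ᵁ (t ⁻¹ᵁ U)).ι ≫ b) H)
  have h2 : (p ∣_ (t ⁻¹ᵁ U)) ≫ a' ≫ (q ⁻¹ᵁ U).ι = (p ⁻¹ᵁ (t ⁻¹ᵁ U)).ι ≫ b := by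
    rw [← Category.assoc, ha', IsOpenImmersion.lift_fac]
  refine ⟨a' ≫ (q ⁻¹ᵁ U).ι, ?_, h2⟩
  have h3 : a' ≫ (q ∣_ U) = t ∣_ U := by
    apply eq_of_comp_eq_of_isAffine (p ∣_ (t ⁻¹ᵁ U)) hbij.1
    rw [← cancel_mono U.ι]
    simp only [Category.assoc, morphismRestrict_ι]
    rw [reassoc_of% h2, hb, ← morphismRestrict_ι_assoc]
  rw [Category.assoc, ← morphismRestrict_ι, ← Category.assoc, h3, morphismRestrict_ι]

end Restrict


section Glue

open Scheme.AffineZariskiSite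

variable {W T S Z : Scheme.{u}} (p : W ⟶ T) (t : T ⟶ S) (q : Z ⟶ S) [IsAffineHom q]

/-- Global uniqueness. -/
theorem eq_of_comp_eq
    (HB : ∀ U : S.Opens, IsAffineOpen U → Function.Bijective (p.app (t ⁻¹ᵁ U)))
    (a a' : T ⟶ Z) (ha : a ≫ q = t) (ha' : a' ≫ q = t) (h : p ≫ a = p ≫ a') : a = a' := by
  refine Scheme.Cover.hom_ext (T.openCoverOfIsOpenCover _
    (.comap (iSup_affineOpens_eq_top S) t.base.hom)) _ _ fun U ↦ ?_
  change (t ⁻¹ᵁ U.1).ι ≫ a = (t ⁻¹ᵁ U.1).ι ≫ a'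
  apply eq_of_comp_eq_local p t q U.1 U.2 (HB U.1 U.2)
  · rw [Category.assoc, ha]
  · rw [Category.assoc, ha']
  · rw [← Category.assoc, ← Category.assoc, morphismRestrict_ι, Category.assoc, Category.assoc, h]

set_option backward.isDefEq.respectTransparency false in
/-- Global existence. -/
theorem exists_lift
    (HB : ∀ U : S.Opens, IsAffineOpen U → Function.Bijective (p.app (t ⁻¹ᵁ U)))
    (b : W ⟶ Z) (hb : b ≫ q = p ≫ t) : ∃ a : T ⟶ Z, a ≫ q = t ∧ p ≫ a = b := by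
  choose g hg1 hg2 using fun U : S.AffineZariskiSite =>
    exists_lift_local p t q U.1 U.2 (HB U.1 U.2) b hb
  have hcompat : ∀ (U V : S.AffineZariskiSite) (hUV : U.1 ≤ V.1),
      T.homOfLE (t.preimage_mono hUV) ≫ g V = g U := by
    intro U V hUV
    apply eq_of_comp_eq_local p t q U.1 U.2 (HB U.1 U.2)
    · rw [Category.assoc, hg1, Scheme.homOfLE_ι_assoc]
    · exact hg1 U
    · have e : (p ∣_ (t ⁻¹ᵁ U.1)) ≫ T.homOfLE (t.preimage_mono hUV) =
          W.homOfLE (p.preimage_mono (t.preimage_mono hUV)) ≫ (p ∣_ (t ⁻¹ᵁ V.1)) := by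
        rw [← cancel_mono (t ⁻¹ᵁ V.1).ι]
        simp only [Category.assoc, Scheme.homOfLE_ι, morphismRestrict_ι, Scheme.homOfLE_ι_assoc]
      rw [reassoc_of% e, hg2, hg2, Scheme.homOfLE_ι_assoc]
  let a : T ⟶ Z := Scheme.OpenCover.glueMorphismsOfLocallyDirected
    ((directedCover S).pullback₁ t)
    (fun U ↦ (pullbackRestrictIsoRestrict t U.1).hom ≫ g U) fun {U V : S.AffineZariskiSite} i ↦ by
      have : (pullbackRestrictIsoRestrict t U.1).inv ≫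
          Scheme.Cover.trans ((directedCover S).pullback₁ t) i ≫
          (pullbackRestrictIsoRestrict t V.1).hom = T.homOfLE
            (t.preimage_mono (toOpens_mono i.1.1)) := by
        rw [← cancel_mono (Scheme.Opens.ι _)]
        simp +instances [Scheme.Cover.trans, Scheme.Cover.locallyDirectedPullbackCover]
      rw [← Iso.inv_comp_eq, reassoc_of% this]
      exact hcompat U V (toOpens_mono i.1.1)
  have hι : ∀ U : S.AffineZariskiSite, (t ⁻¹ᵁ U.1).ι ≫ a = g U := by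
    intro U
    rw [← cancel_epi (pullbackRestrictIsoRestrict t U.1).hom, ← Category.assoc]
    trans ((directedCover S).pullback₁ t).f U ≫ a
    · congr 1
      rw [pullbackRestrictIsoRestrict_hom_ι]
      rfl
    exact Scheme.OpenCover.map_glueMorphismsOfLocallyDirected _ _ _ _
  refine ⟨a, ?_, ?_⟩
  · refine Scheme.Cover.hom_ext (T.openCoverOfIsOpenCover _
      (.comap (iSup_affineOpens_eq_top S) t.base.hom)) _ _ fun U ↦ ?_
    change (t ⁻¹ᵁ U.1).ι ≫ a ≫ q = (t ⁻¹ᵁ U.1).ι ≫ t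
    rw [reassoc_of% hι ⟨U.1, U.2⟩]
    exact hg1 ⟨U.1, U.2⟩
  · refine Scheme.Cover.hom_ext (W.openCoverOfIsOpenCover _
      (.comap (iSup_affineOpens_eq_top S) (p ≫ t).base.hom)) _ _ fun U ↦ ?_
    change (p ⁻¹ᵁ (t ⁻¹ᵁ U.1)).ι ≫ p ≫ a = (p ⁻¹ᵁ (t ⁻¹ᵁ U.1)).ι ≫ b
    rw [← morphismRestrict_ι_assoc, hι ⟨U.1, U.2⟩]
    exact hg2 ⟨U.1, U.2⟩

end Glue

end Groth.Agent.Lib.Helper58.AffLift
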