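import Mathlib
import Groth.Agent.Lib.Helper64.HomSh3
import Groth.Agent.Lib.Helper40.HomColim1

/-!
# The sheaf Hom into a "Hartogs" module is Hartogs (helper58)

* `SecFam F G V`: a family of sectionwise linear maps `Γ(F,W) → Γ(G,W)`, `W ≤ V`, compatible with
  restriction; `SecFam.sec` is the section of `RefHull.homSh F G` over `V` it defines
  (`SecFam.secApp_sec`).  (The identification of `𝓗om(F,G)(V)` with compatible families, in the
  direction not available in helper64/helper40.)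
* `bijective_res_homSh`: if all restriction maps `G(W) → G(W ⊓ U)` are bijective, so are those of
  `𝓗om(F, G)`, for ANY module `F`.
-/

set_option autoImplicit false
set_option linter.style.haveILetI false
universe u

open AlgebraicGeometry CategoryTheory Opposite TopologicalSpace

namespace Groth.Agent.Lib.Helper58.DualHartogs

open Groth.Agent.Lib.Lead.QCohAff Groth.Agent.Lib.Lead.SheafGlue
open Groth.Agent.Lib.Helper64.HomSh Groth.Agent.Lib.Helper40.HomColim

set_option backward.isDefEq.respectTransparency.types false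

variable {X : Scheme.{u}} {F G : X.Modules} {V : X.Opens}

theorem mem_inf' {x : X} {W W' : X.Opens} (h : x ∈ W) (h' : x ∈ W') : x ∈ W ⊓ W' := ⟨h, h'⟩

/-- a compatible family of sectionwise linear maps over the opens below `V` -/
structure SecFam (F G : X.Modules) (V : X.Opens) where
  Φ : ∀ (W : X.Opens), W ≤ V → (Γ(F, W) →ₗ[Γ(X, W)] Γ(G, W))
  compat : ∀ (W W' : X.Opens) (hW : W ≤ V) (hW' : W' ≤ W) (m : Γ(F, W)),
    G.presheaf.map (homOfLE hW').op (Φ W hW m) =
      Φ W' (hW'.trans hW) (F.presheaf.map (homOfLE hW').op m)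

namespace SecFam

variable (T : SecFam F G V)

/-- the value at `x` on a representative -/
noncomputable def val (x : X) (hx : x ∈ V) {W : X.Opens} (hxW : x ∈ W) (m : Γ(F, W)) :
    G.presheaf.stalk x :=
  G.presheaf.germ (W ⊓ V) x (mem_inf' hxW hx)
    (T.Φ (W ⊓ V) inf_le_right (F.presheaf.map (homOfLE (inf_le_left : W ⊓ V ≤ W)).op m))

theorem val_res (x : X) (hx : x ∈ V) {W W' : X.Opens} (h : W' ≤ W) (hxW' : x ∈ W')
    (m : Γ(F, W)) :
    T.val x hx hxW' (F.presheaf.map (homOfLE h).op m) = T.val x hx (h hxW') m := by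
  unfold val
  have hle : W' ⊓ V ≤ W ⊓ V := inf_le_inf h le_rfl
  rw [← germ_res G hle x (mem_inf' hxW' hx), T.compat (W ⊓ V) (W' ⊓ V) inf_le_right hle, res_res, res_res]

theorem val_eq_of_germ_eq (x : X) (hx : x ∈ V) {W₁ W₂ : X.Opens} (h₁ : x ∈ W₁) (h₂ : x ∈ W₂)
    (m₁ : Γ(F, W₁)) (m₂ : Γ(F, W₂))
    (h : F.presheaf.germ W₁ x h₁ m₁ = F.presheaf.germ W₂ x h₂ m₂) :
    T.val x hx h₁ m₁ = T.val x hx h₂ m₂ := by
  obtain ⟨W, hxW, i₁, i₂, heq⟩ := TopCat.Presheaf.germ_eq F.presheaf x h₁ h₂ m₁ m₂ h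
  have e₁ : i₁ = homOfLE (leOfHom i₁) := Subsingleton.elim _ _
  have e₂ : i₂ = homOfLE (leOfHom i₂) := Subsingleton.elim _ _
  rw [e₁, e₂] at heq
  rw [← T.val_res x hx (leOfHom i₁) hxW m₁, ← T.val_res x hx (leOfHom i₂) hxW m₂, heq]

/-- the stalk map as a function -/
noncomputable def stalkFun (x : X) (hx : x ∈ V) (v : F.presheaf.stalk x) : G.presheaf.stalk x :=
  T.val x hx (TopCat.Presheaf.exists_germ_eq F.presheaf v).choose_spec.choose
    (TopCat.Presheaf.exists_germ_eq F.presheaf v).choose_spec.choose_spec.choose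

theorem stalkFun_germ (x : X) (hx : x ∈ V) {W : X.Opens} (hxW : x ∈ W) (m : Γ(F, W)) :
    T.stalkFun x hx (F.presheaf.germ W x hxW m) = T.val x hx hxW m := by
  unfold stalkFun
  apply T.val_eq_of_germ_eq
  exact (TopCat.Presheaf.exists_germ_eq F.presheaf
    (F.presheaf.germ W x hxW m)).choose_spec.choose_spec.choose_spec

theorem val_add (x : X) (hx : x ∈ V) {W : X.Opens} (hxW : x ∈ W) (m m' : Γ(F, W)) :
    T.val x hx hxW (m + m') = T.val x hx hxW m + T.val x hx hxW m' := by
  unfold val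
  rw [map_add, map_add, map_add]

theorem val_smul (x : X) (hx : x ∈ V) {W : X.Opens} (hxW : x ∈ W) (r : Γ(X, W)) (m : Γ(F, W)) :
    T.val x hx hxW (r • m) = X.presheaf.germ W x hxW r • T.val x hx hxW m := by
  unfold val
  rw [res_smul, map_smul, germ_smul, germX_res]

/-- the stalk map -/
noncomputable def stalkHom (x : X) (hx : x ∈ V) : RefHull.StalkHom F G x where
  toFun := T.stalkFun x hx
  map_add' v w := by
    obtain ⟨W₁, h₁, m₁, rfl⟩ := TopCat.Presheaf.exists_germ_eq F.presheaf v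
    obtain ⟨W₂, h₂, m₂, rfl⟩ := TopCat.Presheaf.exists_germ_eq F.presheaf w
    rw [← germ_res F (inf_le_left : W₁ ⊓ W₂ ≤ W₁) x (mem_inf' h₁ h₂) m₁,
      ← germ_res F (inf_le_right : W₁ ⊓ W₂ ≤ W₂) x (mem_inf' h₁ h₂) m₂, ← map_add,
      stalkFun_germ, stalkFun_germ, stalkFun_germ, val_add]
  map_smul' a v := by
    obtain ⟨W₁, h₁, r, rfl⟩ := TopCat.Presheaf.exists_germ_eq X.presheaf a
    obtain ⟨W₂, h₂, m, rfl⟩ := TopCat.Presheaf.exists_germ_eq F.presheaf v
    rw [RingHom.id_apply, ← germX_res (inf_le_left : W₁ ⊓ W₂ ≤ W₁) x (mem_inf' h₁ h₂) r,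
      ← germ_res F (inf_le_right : W₁ ⊓ W₂ ≤ W₂) x (mem_inf' h₁ h₂) m, ← germ_smul,
      stalkFun_germ, stalkFun_germ, val_smul]

theorem stalkHom_germ (x : X) (hx : x ∈ V) {W : X.Opens} (hW : W ≤ V) (hxW : x ∈ W)
    (m : Γ(F, W)) :
    T.stalkHom x hx (F.presheaf.germ W x hxW m) = G.presheaf.germ W x hxW (T.Φ W hW m) := by
  change T.stalkFun x hx _ = _
  rw [stalkFun_germ]
  unfold val
  rw [← T.compat W (W ⊓ V) hW inf_le_left, germ_res]

/-- the section of the sheaf Hom defined by a compatible family -/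
noncomputable def sec : Γ(RefHull.homSh F G, V) :=
  ⟨fun x => T.stalkHom x.1 x.2, fun W i m x =>
    ⟨W, x.2, 𝟙 W, T.Φ W i.le m, fun y => T.stalkHom_germ y.1 (i.le y.2) i.le y.2 m⟩⟩

theorem secApp_sec {W : X.Opens} (hW : W ≤ V) (m : Γ(F, W)) :
    secApp T.sec hW m = T.Φ W hW m := by
  apply sec_ext
  intro y hy
  rw [germ_secApp]
  exact T.stalkHom_germ y (hW hy) hW hy m

end SecFam

/-! ### Hartogs -/

variable (U : X.Opens)

/-- the restriction maps of `𝓗om(F, G)` to `U` are injective when those of `G` are -/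
theorem injective_res_homSh
    (hG : ∀ W : X.Opens, Function.Injective (G.presheaf.map (homOfLE (inf_le_left : W ⊓ U ≤ W)).op))
    (V : X.Opens) :
    Function.Injective
      ((RefHull.homSh F G).presheaf.map (homOfLE (inf_le_left : V ⊓ U ≤ V)).op) := by
  intro f f' hff
  apply homSh_ext_secApp
  intro W hW m
  apply hG W
  rw [secApp_res f hW inf_le_left, secApp_res f' hW inf_le_left]
  have hle : W ⊓ U ≤ V ⊓ U := inf_le_inf hW le_rfl
  rw [← secApp_resHom (inf_le_left : V ⊓ U ≤ V) f hle, ← secApp_resHom (inf_le_left : V ⊓ U ≤ V) f' hle,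
    hff]

/-- the inverse of a bijective restriction map -/
noncomputable def ext (hG : ∀ W : X.Opens,
      Function.Bijective (G.presheaf.map (homOfLE (inf_le_left : W ⊓ U ≤ W)).op))
    (W : X.Opens) (n : Γ(G, W ⊓ U)) : Γ(G, W) :=
  ((hG W).2 n).choose

theorem res_ext (hG : ∀ W : X.Opens,
      Function.Bijective (G.presheaf.map (homOfLE (inf_le_left : W ⊓ U ≤ W)).op))
    (W : X.Opens) (n : Γ(G, W ⊓ U)) :
    G.presheaf.map (homOfLE (inf_le_left : W ⊓ U ≤ W)).op (ext U hG W n) = n :=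
  ((hG W).2 n).choose_spec

theorem ext_res (hG : ∀ W : X.Opens,
      Function.Bijective (G.presheaf.map (homOfLE (inf_le_left : W ⊓ U ≤ W)).op))
    (W : X.Opens) (n : Γ(G, W)) :
    ext U hG W (G.presheaf.map (homOfLE (inf_le_left : W ⊓ U ≤ W)).op n) = n :=
  (hG W).1 (res_ext U hG W _)

/-- the compatible family extending a section of the sheaf Hom over `V ⊓ U` -/
noncomputable def extFam (hG : ∀ W : X.Opens,
      Function.Bijective (G.presheaf.map (homOfLE (inf_le_left : W ⊓ U ≤ W)).op))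
    (V : X.Opens) (g : Γ(RefHull.homSh F G, V ⊓ U)) : SecFam F G V where
  Φ W hW :=
    { toFun := fun m => ext U hG W (secApp g (inf_le_inf hW le_rfl : W ⊓ U ≤ V ⊓ U)
        (F.presheaf.map (homOfLE (inf_le_left : W ⊓ U ≤ W)).op m))
      map_add' := fun m m' => by
        apply (hG W).1
        rw [res_ext, map_add, map_add, map_add, res_ext, res_ext]
      map_smul' := fun r m => by
        apply (hG W).1
        rw [res_ext, RingHom.id_apply, res_smul, res_smul, res_ext, map_smul] }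
  compat W W' hW hW' m := by
    apply (hG W').1
    change G.presheaf.map _ (G.presheaf.map _ (ext U hG W _)) = G.presheaf.map _ (ext U hG W' _)
    rw [res_ext, res_res]
    have hle : W' ⊓ U ≤ W ⊓ U := inf_le_inf hW' le_rfl
    rw [← res_res G (inf_le_left : W ⊓ U ≤ W) hle, res_ext, secApp_res g _ hle, res_res, res_res]

/-- **Hartogs for the sheaf Hom**: if the restriction maps `G(W) → G(W ⊓ U)` are all bijective,
then so are those of `𝓗om(F, G)`, for any module `F`. -/
theorem bijective_res_homSh (hG : ∀ W : X.Opens,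
      Function.Bijective (G.presheaf.map (homOfLE (inf_le_left : W ⊓ U ≤ W)).op))
    (V : X.Opens) :
    Function.Bijective
      ((RefHull.homSh F G).presheaf.map (homOfLE (inf_le_left : V ⊓ U ≤ V)).op) := by
  refine ⟨injective_res_homSh U (fun W => (hG W).1) V, fun g => ⟨(extFam U hG V g).sec, ?_⟩⟩
  apply homSh_ext_secApp
  intro W hW m
  rw [secApp_resHom, SecFam.secApp_sec]
  apply (hG W).1
  change G.presheaf.map _ (ext U hG W _) = _
  rw [res_ext, secApp_res g hW inf_le_left]

end Groth.Agent.Lib.Helper58.DualHartogs
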