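import Mathlib
import Groth.Agent.Lib.Helper56.FiberLoc
import Groth.Agent.Lib.Helper56.FlatRkAscent
import Groth.Agent.Lib.Helper77.ReflRank1
import Groth.Agent.Lib.Helper77.FlatDepth3
import Groth.Agent.Lib.Helper37.OnePoint

set_option autoImplicit false
set_option linter.style.haveILetI false
universe u

namespace Groth.Agent.Lib.Helper58.NormalFamAlg

open LocCoh IsLocalRing

/-- a reduced Noetherian local ring of positive dimension has depth at least one -/
theorem one_le_depth_of_reduced_local (F : Type u) [CommRing F] [IsNoetherianRing F]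
    [IsLocalRing F] [IsReduced F] (h1 : 1 ≤ ringKrullDim F) : 1 ≤ depth F F := by
  rcases Groth.Agent.Lib.Helper77.ReflRank1.maximalIdeal_eq_bot_or_exists_nzd (R := F) with hbot | ⟨x, hxm, hx⟩
  · exfalso
    have hf : IsField F := IsLocalRing.isField_iff_maximalIdeal_eq.mpr hbot
    rw [ringKrullDim_eq_zero_of_isField hf] at h1
    norm_num at h1
  · have hreg : IsSMulRegular F x := by
      intro a b hab
      simp only [smul_eq_mul] at hab
      have : x * (a - b) = 0 := by rw [mul_sub, hab, sub_self]
      have h0 := (mem_nonZeroDivisors_iff.1 hx).1 (a - b) this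
      exact sub_eq_zero.1 h0
    unfold depth
    rw [Groth.Agent.Lib.Helper67.one_le_idealDepth_iff]
    exact Or.inr ⟨x, hxm, hreg⟩

theorem le_zero_of_lt_one (x : WithBot ℕ∞) (h : x < 1) : x ≤ 0 := by
  induction x using WithBot.recBotCoe with
  | bot => exact bot_le
  | coe n =>
    have h' : n < 1 := by exact_mod_cast h
    have : n = 0 := by
      rcases eq_or_ne n 0 with h0 | h0
      · exact h0
      · exact absurd h' (not_lt.2 (Order.one_le_iff_ne_zero.2 h0))
    subst this
    exact le_rfl

theorem ringKrullDim_atPrime_le (F : Type u) [CommRing F] (Q : Ideal F) [Q.IsPrime] :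
    ringKrullDim (Localization.AtPrime Q) ≤ ringKrullDim F := by
  rw [IsLocalization.AtPrime.ringKrullDim_eq_height Q (Localization.AtPrime Q)]
  exact Ideal.height_le_ringKrullDim_of_ne_top (Ideal.IsPrime.ne_top inferInstance)

/-- a reduced Noetherian ring of dimension at most one satisfies `(S_2)` -/
theorem hasSk_two_of_reduced_dim_le_one (F : Type u) [CommRing F] [IsNoetherianRing F] [IsReduced F]
    (hd : ringKrullDim F ≤ 1) : HasSk 2 F F := by
  rw [Groth.Agent.Lib.Helper56.hasSk_self_iff]
  intro Q _
  haveI : IsNoetherianRing (Localization.AtPrime Q) :=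
    IsLocalization.isNoetherianRing Q.primeCompl _ inferInstance
  haveI : IsReduced (Localization.AtPrime Q) := inferInstance
  have hdQ : ringKrullDim (Localization.AtPrime Q) ≤ 1 := (ringKrullDim_atPrime_le F Q).trans hd
  by_cases h1 : 1 ≤ ringKrullDim (Localization.AtPrime Q)
  · have h2 := one_le_depth_of_reduced_local _ h1
    have hd1 : ringKrullDim (Localization.AtPrime Q) = 1 := le_antisymm hdQ h1
    rw [hd1]
    refine (min_le_right _ _).trans ?_
    exact_mod_cast h2
  · have h0 := le_zero_of_lt_one _ (not_le.1 h1)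
    refine (min_le_right _ _).trans (h0.trans ?_)
    exact_mod_cast (bot_le : (0 : ℕ∞) ≤ depth (Localization.AtPrime Q) (Localization.AtPrime Q))

theorem one_le_height_of_ne_bot {A : Type u} [CommRing A] [IsDomain A] (p : Ideal A) [p.IsPrime]
    (hp : p ≠ ⊥) : 1 ≤ p.height := by
  rw [Order.one_le_iff_ne_zero]
  intro h0
  exact hp (Ideal.height_eq_zero_iff_eq_bot.1 h0)

open Groth.Agent.Lib.Helper77.FlatDepth in
/-- Flat `A → B` of Noetherian rings, `A` a normal domain, fibre local rings reduced of dimension
at most one and regular over the generic point: then `B` is normal. -/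
theorem isNormal_of_flat_of_fibres (A B : Type u) [CommRing A] [CommRing B] [IsDomain A]
    [IsNoetherianRing A] [IsNoetherianRing B] [Algebra A B] [Module.Flat A B]
    (hA : ∀ (p : Ideal A) [p.IsPrime], IsDomain (Localization.AtPrime p) ∧
      IsIntegrallyClosed (Localization.AtPrime p))
    (hred : ∀ (q : Ideal B) [q.IsPrime], IsReduced (EGA4.FibLocRing A B q))
    (hdim : ∀ (q : Ideal B) [q.IsPrime], ringKrullDim (EGA4.FibLocRing A B q) ≤ 1)
    (hgen : ∀ (q : Ideal B) [q.IsPrime], q.comap (algebraMap A B) = ⊥ →
      IsRegularLocalRing (EGA4.FibLocRing A B q)) :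
    ∀ (q : Ideal B) [q.IsPrime], IsDomain (Localization.AtPrime q) ∧
      IsIntegrallyClosed (Localization.AtPrime q) := by
  obtain ⟨hR1A, hS2A⟩ := (Groth.Agent.Lib.Helper56.serre_normal_iff A).1 hA
  have hNF : ∀ (q : Ideal B) [q.IsPrime], IsNoetherianRing (EGA4.FibLocRing A B q) := by
    intro q _
    haveI : IsNoetherianRing (Localization.AtPrime q) :=
      IsLocalization.isNoetherianRing q.primeCompl _ inferInstance
    infer_instance
  have hS2B : HasSk 2 B B := by
    apply Groth.Agent.Lib.Helper56.hasSk_of_flat_of_fibLocRing A B 2 _ hS2A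
    intro q _
    haveI := hNF q
    haveI := hred q
    exact hasSk_two_of_reduced_dim_le_one _ (hdim q)
  have hR1B : HasRk 1 B := by
    intro q _ hq
    have hpq : (q.comap (algebraMap A B)).height ≤ q.height :=
      Groth.Agent.Lib.Helper56.height_comap_le_of_flat A B q
    have hA' : IsRegularLocalRing (Localization.AtPrime (q.comap (algebraMap A B))) :=
      hR1A _ (hpq.trans hq)
    apply Groth.Agent.Lib.Helper56.isRegularLocalRing_atPrime_of_fibre A B q hA'
    by_cases hp : q.comap (algebraMap A B) = ⊥
    · exact hgen q hp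
    · have h1 : 1 ≤ (q.comap (algebraMap A B)).height := one_le_height_of_ne_bot _ hp
      obtain ⟨-, hdimf, -⟩ := loc_formulas A B q
      rw [IsLocalization.AtPrime.ringKrullDim_eq_height q (Localization.AtPrime q),
        IsLocalization.AtPrime.ringKrullDim_eq_height (q.comap (algebraMap A B))
          (Localization.AtPrime (q.comap (algebraMap A B)))] at hdimf
      have hnn : (0 : WithBot ℕ∞) ≤ ringKrullDim (FibLoc A B q) := ringKrullDim_nonneg_of_nontrivial
      have hne : ringKrullDim (FibLoc A B q) ≠ ⊥ := fun h => by rw [h] at hnn; simp at hnn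
      obtain ⟨n, hn⟩ := WithBot.ne_bot_iff_exists.1 hne
      rw [← hn] at hdimf
      have hdimf' : q.height = (q.comap (algebraMap A B)).height + n := by exact_mod_cast hdimf
      have hn0 : n = 0 := by
        by_contra hn0
        have hn1 : 1 ≤ n := Order.one_le_iff_ne_zero.2 hn0
        have h2 : (1 : ℕ∞) + 1 ≤ q.height := by rw [hdimf']; exact add_le_add h1 hn1
        have h3 : (1 : ℕ∞) + 1 ≤ 1 := h2.trans (by exact_mod_cast hq)
        norm_num at h3
      have hK : Ring.KrullDimLE 0 (EGA4.FibLocRing A B q) := by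
        rw [Ring.krullDimLE_iff]
        show ringKrullDim (FibLoc A B q) ≤ _
        rw [← hn, hn0]
        rfl
      haveI := hred q
      exact Groth.Agent.Lib.Helper37.OnePoint.isRegularLocalRing_of_isField _
        (Ring.KrullDimLE.isField_of_isReduced)
  exact (Groth.Agent.Lib.Helper56.serre_normal_iff B).2 ⟨hR1B, hS2B⟩

end Groth.Agent.Lib.Helper58.NormalFamAlg
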