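import Mathlib
import Groth.Prelude.Def_Pi1
import Groth.Agent.Lib.Helper58.NormalFamAlg
import Groth.Agent.Lib.Helper73.Sk.FibLocBridge
import Groth.Agent.Lib.Helper73.Sk.FibreStalkSquare
import Groth.Agent.Lib.Helper64.DimLib
import Groth.Agent.Lib.Helper51.SmoothStalk

set_option autoImplicit false
set_option linter.style.haveILetI false
universe u

open CategoryTheory CategoryTheory.Limits AlgebraicGeometry TopologicalSpace

namespace Groth.Agent.Lib.Helper58.NormalFam

open Groth.Agent.Lib.Helper73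

variable {C S : Scheme.{u}} (f : C ⟶ S)

/-- the fibre local ring of `Γ(S,V) → Γ(C,W)` at a prime is the local ring of the fibre of `f` -/
theorem nonempty_fibLocRing_equiv {V : S.Opens} {W : C.Opens} (hV : IsAffineOpen V)
    (hW : IsAffineOpen W) (e : W ≤ f ⁻¹ᵁ V) (q : PrimeSpectrum Γ(C, W)) :
    letI : Algebra Γ(S, V) Γ(C, W) := (f.appLE V W e).hom.toAlgebra
    Nonempty (EGA4.FibLocRing Γ(S, V) Γ(C, W) q.asIdeal ≃+*
      (f.fiber (f (hW.fromSpec q))).presheaf.stalk (f.asFiber (hW.fromSpec q))) := by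
  letI : Algebra Γ(S, V) Γ(C, W) := (f.appLE V W e).hom.toAlgebra
  have e1 := fiberStalkSpecEquiv Γ(S, V) (R := Γ(C, W)) q
  have hsq : specAlg Γ(S, V) Γ(C, W) ≫ hV.fromSpec = hW.fromSpec ≫ f :=
    IsAffineOpen.SpecMap_appLE_fromSpec f hV hW e
  obtain ⟨e2⟩ := nonempty_fiberStalk_equiv_of_square hW.fromSpec hV.fromSpec
    (specAlg Γ(S, V) Γ(C, W)) f hsq q
  exact ⟨e1.symm.trans e2⟩

theorem fibre_stalk_props [LocallyOfFiniteType f] [GeometricallyReduced f] (s : S)
    (hdim : topologicalKrullDim (f.fiber s) = 1) (z : f.fiber s) :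
    IsReduced ((f.fiber s).presheaf.stalk z) ∧ IsNoetherianRing ((f.fiber s).presheaf.stalk z) ∧
      ringKrullDim ((f.fiber s).presheaf.stalk z) ≤ 1 := by
  haveI : LocallyOfFiniteType (f.fiberToSpecResidueField s) :=
    MorphismProperty.pullback_snd (P := @LocallyOfFiniteType) _ _ inferInstance
  haveI : IsLocallyNoetherian (f.fiber s) :=
    LocallyOfFiniteType.isLocallyNoetherian (f.fiberToSpecResidueField s)
  refine ⟨inferInstance, inferInstance, ?_⟩
  exact (Groth.Agent.Lib.Helper64.DimLib.ringKrullDim_stalk_le _ z).trans hdim.le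

theorem fibre_stalk_regular (s : S) (hsm : Smooth (f.fiberToSpecResidueField s)) (z : f.fiber s) :
    IsRegularLocalRing ((f.fiber s).presheaf.stalk z) := by
  haveI := hsm
  exact Groth.Agent.Lib.Helper51.isRegularLocalRing_stalk_of_mem_smoothLocus
    (k := S.residueField s) (f.fiberToSpecResidueField s) z
    (by rw [Scheme.Hom.smoothLocus_eq_top]; trivial)

theorem fibre_stalk_regular' (η s : S) (hs : s = η) (hsm : Smooth (f.fiberToSpecResidueField η))
    (z : f.fiber s) : IsRegularLocalRing ((f.fiber s).presheaf.stalk z) := by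
  subst hs
  exact fibre_stalk_regular f s hsm z

theorem isNormalScheme_of_family [IsIntegral S] [IsLocallyNoetherian S]
    (hS : Pi1.IsNormalScheme S) [Flat f] [LocallyOfFiniteType f] [GeometricallyReduced f]
    (hdim : ∀ s : S, topologicalKrullDim (f.fiber s) = 1)
    (hsm : Smooth (f.fiberToSpecResidueField (genericPoint S))) : Pi1.IsNormalScheme C := by
  haveI : IsLocallyNoetherian C := LocallyOfFiniteType.isLocallyNoetherian f
  intro x
  obtain ⟨_, ⟨V, hV : IsAffineOpen V, rfl⟩, hxV, -⟩ :=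
    S.isBasis_affineOpens.exists_subset_of_mem_open (Set.mem_univ (f x)) isOpen_univ
  obtain ⟨_, ⟨W, hW : IsAffineOpen W, rfl⟩, hxW, hWV⟩ :=
    C.isBasis_affineOpens.exists_subset_of_mem_open
      (show x ∈ ((f ⁻¹ᵁ V : C.Opens) : Set C) from hxV) (f ⁻¹ᵁ V).isOpen
  have e : W ≤ f ⁻¹ᵁ V := hWV
  letI : Algebra Γ(S, V) Γ(C, W) := (f.appLE V W e).hom.toAlgebra
  haveI : Module.Flat Γ(S, V) Γ(C, W) := f.flat_appLE hV hW e
  haveI : IsNoetherianRing Γ(S, V) := IsLocallyNoetherian.component_noetherian ⟨V, hV⟩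
  haveI : IsNoetherianRing Γ(C, W) := IsLocallyNoetherian.component_noetherian ⟨W, hW⟩
  haveI : Nonempty V := ⟨⟨f x, hxV⟩⟩
  haveI : IsDomain Γ(S, V) := inferInstance
  -- normality of the base ring
  have hA : ∀ (p : Ideal Γ(S, V)) [p.IsPrime], IsDomain (Localization.AtPrime p) ∧
      IsIntegrallyClosed (Localization.AtPrime p) := by
    intro p hp
    set y : PrimeSpectrum Γ(S, V) := ⟨p, hp⟩ with hy
    have hs : hV.fromSpec y ∈ V := by
      rw [← SetLike.mem_coe, ← hV.range_fromSpec]; exact Set.mem_range_self y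
    letI : Algebra Γ(S, V) (S.presheaf.stalk (hV.fromSpec y)) :=
      TopCat.Presheaf.algebra_section_stalk S.presheaf ⟨hV.fromSpec y, hs⟩
    haveI hloc : IsLocalization.AtPrime (S.presheaf.stalk (hV.fromSpec y)) p :=
      hV.isLocalization_stalk' y hs
    let eq : Localization.AtPrime p ≃+* S.presheaf.stalk (hV.fromSpec y) :=
      (IsLocalization.algEquiv p.primeCompl (Localization.AtPrime p)
        (S.presheaf.stalk (hV.fromSpec y))).toRingEquiv
    obtain ⟨h1, h2⟩ := hS (hV.fromSpec y)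
    exact ⟨eq.toMulEquiv.isDomain _, IsIntegrallyClosed.of_equiv eq.symm⟩
  -- fibre data
  have hfib : ∀ (q : Ideal Γ(C, W)) [hq : q.IsPrime],
      Nonempty (EGA4.FibLocRing Γ(S, V) Γ(C, W) q ≃+*
        (f.fiber (f (hW.fromSpec ⟨q, hq⟩))).presheaf.stalk (f.asFiber (hW.fromSpec ⟨q, hq⟩))) :=
    fun q hq => nonempty_fibLocRing_equiv f hV hW e ⟨q, hq⟩
  have hred : ∀ (q : Ideal Γ(C, W)) [q.IsPrime], IsReduced (EGA4.FibLocRing Γ(S, V) Γ(C, W) q) := by
    intro q hq
    obtain ⟨eq⟩ := hfib q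
    haveI := (fibre_stalk_props f _ (hdim _) (f.asFiber (hW.fromSpec ⟨q, hq⟩))).1
    exact isReduced_of_injective eq.toRingHom eq.injective
  have hdim' : ∀ (q : Ideal Γ(C, W)) [q.IsPrime],
      ringKrullDim (EGA4.FibLocRing Γ(S, V) Γ(C, W) q) ≤ 1 := by
    intro q hq
    obtain ⟨eq⟩ := hfib q
    rw [ringKrullDim_eq_of_ringEquiv eq]
    exact (fibre_stalk_props f _ (hdim _) (f.asFiber (hW.fromSpec ⟨q, hq⟩))).2.2
  have hgen : ∀ (q : Ideal Γ(C, W)) [q.IsPrime], q.comap (algebraMap Γ(S, V) Γ(C, W)) = ⊥ →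
      IsRegularLocalRing (EGA4.FibLocRing Γ(S, V) Γ(C, W) q) := by
    intro q hq hbot
    obtain ⟨eq⟩ := hfib q
    have hsq : Spec.map (f.appLE V W e) ≫ hV.fromSpec = hW.fromSpec ≫ f :=
      IsAffineOpen.SpecMap_appLE_fromSpec f hV hW e
    have hpt : f (hW.fromSpec ⟨q, hq⟩) = genericPoint S := by
      have h1 : f (hW.fromSpec ⟨q, hq⟩) = hV.fromSpec (Spec.map (f.appLE V W e) ⟨q, hq⟩) := by
        rw [← Scheme.Hom.comp_apply, ← Scheme.Hom.comp_apply, hsq]
      have h2 : Spec.map (f.appLE V W e) ⟨q, hq⟩ = genericPoint (Spec Γ(S, V)) := by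
        rw [genericPoint_eq_bot_of_affine]
        apply PrimeSpectrum.ext
        exact hbot
      have hη : genericPoint S ∈ V :=
        ((genericPoint_spec S).mem_open_set_iff V.isOpen).mpr ⟨_, trivial, hxV⟩
      rw [h1, h2, ← hV.primeIdealOf_genericPoint]
      exact hV.fromSpec_primeIdealOf ⟨genericPoint S, _⟩
    haveI := fibre_stalk_regular' f (genericPoint S) _ hpt hsm (f.asFiber (hW.fromSpec ⟨q, hq⟩))
    exact IsRegularLocalRing.of_ringEquiv eq.symm
  have key := Groth.Agent.Lib.Helper58.NormalFamAlg.isNormal_of_flat_of_fibres Γ(S, V) Γ(C, W)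
    hA hred hdim' hgen (hW.primeIdealOf ⟨x, hxW⟩).asIdeal
  letI : Algebra Γ(C, W) (C.presheaf.stalk x) :=
    TopCat.Presheaf.algebra_section_stalk C.presheaf ⟨x, hxW⟩
  haveI hloc : IsLocalization.AtPrime (C.presheaf.stalk x) (hW.primeIdealOf ⟨x, hxW⟩).asIdeal :=
    hW.isLocalization_stalk ⟨x, hxW⟩
  let eq : Localization.AtPrime (hW.primeIdealOf ⟨x, hxW⟩).asIdeal ≃+* C.presheaf.stalk x :=
    (IsLocalization.algEquiv (hW.primeIdealOf ⟨x, hxW⟩).asIdeal.primeCompl
      (Localization.AtPrime (hW.primeIdealOf ⟨x, hxW⟩).asIdeal) (C.presheaf.stalk x)).toRingEquiv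
  obtain ⟨h1, h2⟩ := key
  exact ⟨eq.symm.toMulEquiv.isDomain _, IsIntegrallyClosed.of_equiv eq⟩

end Groth.Agent.Lib.Helper58.NormalFam
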