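import Mathlib

/-!
# Elementwise regularity at a prime (helper58)

`InSat q I z`: `z` lies in the contraction of `I·B_q` to `B`.
`RegAt q I y`: `y` is a nonzerodivisor on `(B/I)_q`, stated elementwise in `B`.
`LocQuot Λ Σ I0`: `Λ : B → C` exhibits `C` as the localization at `Σ` of `B/I0`.
Transfer of `RegAt` along `LocQuot` maps, and descent along flat maps.
-/

set_option autoImplicit false
set_option linter.style.haveILetI false

namespace Groth.Agent.Lib.Helper58.RegAt

variable {B : Type*} [CommRing B]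

/-- `z` lies in the contraction of `I·B_q`. -/
def InSat (q I : Ideal B) (z : B) : Prop := ∃ t, t ∉ q ∧ t * z ∈ I

/-- `y` is a nonzerodivisor on `(B/I)_q`. -/
def RegAt (q I : Ideal B) (y : B) : Prop := ∀ r, InSat q I (y * r) → InSat q I r

theorem InSat.of_mem {q I : Ideal B} [hq : q.IsPrime] {z : B} (hz : z ∈ I) : InSat q I z :=
  ⟨1, fun h => hq.ne_top ((Ideal.eq_top_iff_one q).2 h), by simpa using hz⟩

theorem InSat.mul_left {q I : Ideal B} {z : B} (h : InSat q I z) (c : B) : InSat q I (c * z) := by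
  obtain ⟨t, ht, htz⟩ := h
  exact ⟨t, ht, by rw [mul_left_comm]; exact I.mul_mem_left c htz⟩

theorem InSat.of_mul {q I : Ideal B} [hq : q.IsPrime] {u z : B} (hu : u ∉ q)
    (h : InSat q I (u * z)) : InSat q I z := by
  obtain ⟨t, ht, htz⟩ := h
  exact ⟨t * u, fun h => (hq.mem_or_mem h).elim ht hu, by rw [mul_assoc]; exact htz⟩

theorem InSat.mono {q I J : Ideal B} (hIJ : I ≤ J) {z : B} (h : InSat q I z) : InSat q J z := by
  obtain ⟨t, ht, htz⟩ := h
  exact ⟨t, ht, hIJ htz⟩

theorem inSat_maximalIdeal_iff [IsLocalRing B] (J : Ideal B) (z : B) :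
    InSat (IsLocalRing.maximalIdeal B) J z ↔ z ∈ J := by
  constructor
  · rintro ⟨t, ht, htz⟩
    have hu : IsUnit t := by
      by_contra hnu
      exact ht ((IsLocalRing.mem_maximalIdeal t).2 hnu)
    obtain ⟨u, rfl⟩ := hu
    have := J.mul_mem_left (↑u⁻¹ : B) htz
    rwa [← mul_assoc, Units.inv_mul, one_mul] at this
  · intro hz
    exact InSat.of_mem hz

theorem regAt_maximalIdeal_iff [IsLocalRing B] (J : Ideal B) (y : B) :
    RegAt (IsLocalRing.maximalIdeal B) J y ↔ ∀ r, y * r ∈ J → r ∈ J := by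
  unfold RegAt
  simp only [inSat_maximalIdeal_iff]

/-- `Λ : B → C` exhibits `C` as the localization at `Σ` of `B/I0`. -/
structure LocQuot {C : Type*} [CommRing C] (Λ : B →+* C) (S : Submonoid B) (I0 : Ideal B) :
    Prop where
  units : ∀ σ ∈ S, IsUnit (Λ σ)
  surj : ∀ c : C, ∃ σ ∈ S, ∃ z : B, Λ σ * c = Λ z
  ker : ∀ w : B, Λ w = 0 → ∃ σ ∈ S, σ * w ∈ I0

section Transfer

variable {C : Type*} [CommRing C] {Λ : B →+* C} {S : Submonoid B} {I0 : Ideal B}

theorem LocQuot.mem_map (h : LocQuot Λ S I0) (I : Ideal B) {x : C} (hx : x ∈ I.map Λ) :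
    ∃ σ ∈ S, ∃ i ∈ I, Λ σ * x = Λ i := by
  unfold Ideal.map at hx
  induction hx using Submodule.span_induction with
  | mem x hx =>
    obtain ⟨i, hi, rfl⟩ := hx
    exact ⟨1, S.one_mem, i, hi, by simp⟩
  | zero => exact ⟨1, S.one_mem, 0, I.zero_mem, by simp⟩
  | add x y _ _ hx hy =>
    obtain ⟨σ1, hσ1, i1, hi1, e1⟩ := hx
    obtain ⟨σ2, hσ2, i2, hi2, e2⟩ := hy
    refine ⟨σ1 * σ2, S.mul_mem hσ1 hσ2, σ2 * i1 + σ1 * i2,
      I.add_mem (I.mul_mem_left _ hi1) (I.mul_mem_left _ hi2), ?_⟩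
    rw [map_add, map_mul, map_mul, map_mul, ← e1, ← e2]
    ring
  | smul c x _ hx =>
    obtain ⟨σ1, hσ1, i1, hi1, e1⟩ := hx
    obtain ⟨σ2, hσ2, z, e2⟩ := h.surj c
    refine ⟨σ2 * σ1, S.mul_mem hσ2 hσ1, z * i1, I.mul_mem_left _ hi1, ?_⟩
    rw [map_mul, map_mul, ← e1, ← e2, smul_eq_mul]
    ring

variable (h : LocQuot Λ S I0) {q : Ideal B} [hq : q.IsPrime] {Q : Ideal C} [hQ : Q.IsPrime]
  (hQq : Q.comap Λ = q) (hS : ∀ σ ∈ S, σ ∉ q)

include h hQq hS

theorem LocQuot.not_mem_iff (t : B) : Λ t ∉ Q ↔ t ∉ q := by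
  rw [← hQq, Ideal.mem_comap]

theorem LocQuot.inSat_iff {I : Ideal B} (hI : I0 ≤ I) (z : B) :
    InSat Q (I.map Λ) (Λ z) ↔ InSat q I z := by
  constructor
  · rintro ⟨T, hT, hTz⟩
    obtain ⟨σ, hσ, t0, e0⟩ := h.surj T
    have ht0 : t0 ∉ q := by
      intro hmem
      have h1 : Λ t0 ∈ Q := by
        have : t0 ∈ Q.comap Λ := hQq ▸ hmem
        exact this
      rw [← e0] at h1
      rcases hQ.mem_or_mem h1 with h2 | h2
      · exact hS σ hσ (by rw [← hQq]; exact h2)
      · exact hT h2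
    have h3 : Λ (t0 * z) ∈ I.map Λ := by
      rw [map_mul, ← e0, mul_assoc]
      exact Ideal.mul_mem_left _ _ hTz
    obtain ⟨σ1, hσ1, i, hi, e1⟩ := h.mem_map I h3
    have h4 : Λ (σ1 * (t0 * z) - i) = 0 := by
      rw [map_sub, map_mul, e1, sub_self]
    obtain ⟨σ2, hσ2, h5⟩ := h.ker _ h4
    refine ⟨σ2 * σ1 * t0, ?_, ?_⟩
    · intro hmem
      rcases hq.mem_or_mem hmem with h6 | h6
      · rcases hq.mem_or_mem h6 with h7 | h7
        · exact hS σ2 hσ2 h7
        · exact hS σ1 hσ1 h7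
      · exact ht0 h6
    · have h6 : σ2 * (σ1 * (t0 * z) - i) + σ2 * i ∈ I :=
        I.add_mem (hI h5) (I.mul_mem_left _ hi)
      have h7 : σ2 * (σ1 * (t0 * z) - i) + σ2 * i = σ2 * σ1 * t0 * z := by ring
      rwa [h7] at h6
  · rintro ⟨t, ht, htz⟩
    refine ⟨Λ t, ?_, ?_⟩
    · rw [← hQq] at ht
      exact ht
    · rw [← map_mul]
      exact Ideal.mem_map_of_mem _ htz

theorem LocQuot.regAt_iff {I : Ideal B} (hI : I0 ≤ I) (y : B) :
    RegAt Q (I.map Λ) (Λ y) ↔ RegAt q I y := by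
  constructor
  · intro hreg r hr
    rw [← h.inSat_iff hQq hS hI] at hr ⊢
    rw [map_mul] at hr
    exact hreg _ hr
  · intro hreg c hc
    obtain ⟨σ, hσ, z, e⟩ := h.surj c
    have hσQ : Λ σ ∉ Q := by
      intro hmem
      exact hS σ hσ (by rw [← hQq]; exact hmem)
    have h1 : InSat Q (I.map Λ) (Λ (y * z)) := by
      rw [map_mul, ← e]
      have := hc.mul_left (Λ σ)
      rwa [mul_left_comm] at this
    rw [h.inSat_iff hQq hS hI] at h1
    have h2 := hreg _ h1
    rw [← h.inSat_iff hQq hS hI, ← e] at h2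
    exact h2.of_mul hσQ

end Transfer

/-- The localization at a prime is a `LocQuot`. -/
theorem locQuot_atPrime (q : Ideal B) [q.IsPrime] (R : Type*) [CommRing R] [Algebra B R]
    [IsLocalization.AtPrime R q] : LocQuot (algebraMap B R) q.primeCompl ⊥ where
  units σ hσ := IsLocalization.map_units R ⟨σ, hσ⟩
  surj c := by
    obtain ⟨⟨z, σ⟩, e⟩ := IsLocalization.surj q.primeCompl c
    exact ⟨σ.1, σ.2, z, by rw [mul_comm]; exact e⟩
  ker w hw := by
    obtain ⟨σ, e⟩ := (IsLocalization.map_eq_zero_iff q.primeCompl R w).1 hw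
    exact ⟨σ.1, σ.2, by rw [e]; exact Ideal.zero_mem _⟩

/-- `RegAt q I y` read in the local ring `B_q`. -/
theorem regAt_iff_localization (q : Ideal B) [q.IsPrime] (R : Type*) [CommRing R] [Algebra B R]
    [IsLocalization.AtPrime R q] (I : Ideal B) (y : B) :
    letI : IsLocalRing R := IsLocalization.AtPrime.isLocalRing R q
    RegAt q I y ↔ ∀ r : R, algebraMap B R y * r ∈ I.map (algebraMap B R) →
      r ∈ I.map (algebraMap B R) := by
  letI : IsLocalRing R := IsLocalization.AtPrime.isLocalRing R q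
  have h := locQuot_atPrime q R
  have hQq : (IsLocalRing.maximalIdeal R).comap (algebraMap B R) = q :=
    IsLocalization.AtPrime.comap_maximalIdeal R q
  rw [← h.regAt_iff hQq (fun σ hσ => hσ) bot_le y, regAt_maximalIdeal_iff]

theorem inSat_iff_localization (q : Ideal B) [q.IsPrime] (R : Type*) [CommRing R] [Algebra B R]
    [IsLocalization.AtPrime R q] (I : Ideal B) (z : B) :
    InSat q I z ↔ algebraMap B R z ∈ I.map (algebraMap B R) := by
  letI : IsLocalRing R := IsLocalization.AtPrime.isLocalRing R q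
  have h := locQuot_atPrime q R
  have hQq : (IsLocalRing.maximalIdeal R).comap (algebraMap B R) = q :=
    IsLocalization.AtPrime.comap_maximalIdeal R q
  rw [← h.inSat_iff hQq (fun σ hσ => hσ) bot_le z, inSat_maximalIdeal_iff]

section FlatDescent

variable {C' C : Type*} [CommRing C'] [CommRing C] [Algebra C' C] [Module.Flat C' C]

/-- Descent of saturation membership along a flat ring map. -/
theorem inSat_of_flat (Q : Ideal C) [Q.IsPrime] (J : Ideal C') (c' : C')
    (h : InSat Q (J.map (algebraMap C' C)) (algebraMap C' C c')) :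
    InSat (Q.comap (algebraMap C' C)) J c' := by
  set Q' : Ideal C' := Q.comap (algebraMap C' C) with hQ'
  haveI : Q.LiesOver Q' := ⟨rfl⟩
  letI : Algebra (Localization.AtPrime Q') (Localization.AtPrime Q) :=
    Localization.AtPrime.algebraOfLiesOver Q' Q
  haveI : Module.FaithfullyFlat (Localization.AtPrime Q') (Localization.AtPrime Q) :=
    Module.FaithfullyFlat.of_flat_of_isLocalHom
  rw [inSat_iff_localization Q' (Localization.AtPrime Q')]
  rw [inSat_iff_localization Q (Localization.AtPrime Q)] at h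
  rw [← Ideal.comap_map_eq_self_of_faithfullyFlat (B := Localization.AtPrime Q)
    (J.map (algebraMap C' (Localization.AtPrime Q')))]
  rw [Ideal.mem_comap, Ideal.map_map, ← IsScalarTower.algebraMap_apply,
    ← IsScalarTower.algebraMap_eq]
  rw [Ideal.map_map, ← IsScalarTower.algebraMap_eq, ← IsScalarTower.algebraMap_apply] at h
  exact h

theorem regAt_of_flat (Q : Ideal C) [Q.IsPrime] (J : Ideal C') (y : C')
    (h : RegAt Q (J.map (algebraMap C' C)) (algebraMap C' C y)) :
    RegAt (Q.comap (algebraMap C' C)) J y := by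
  intro r hr
  apply inSat_of_flat Q J r
  apply h
  rw [← map_mul]
  obtain ⟨t, ht, htz⟩ := hr
  exact ⟨algebraMap C' C t, ht, by rw [← map_mul]; exact Ideal.mem_map_of_mem _ htz⟩

end FlatDescent

end Groth.Agent.Lib.Helper58.RegAt
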