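import Mathlib
import Groth.Agent.Lib.Helper58.RegAt

/-!
# Base change of a regular pair with flat quotients (helper58)
-/

set_option autoImplicit false
set_option linter.style.haveILetI false
universe u

namespace Groth.Agent.Lib.Helper58.RegBC

open TensorProduct Groth.Agent.Lib.Helper58.RegAt
open scoped Pointwise

section Generic

variable {B : Type*} [CommRing B]

theorem regAt_of_forall {q I : Ideal B} {y : B} (h : ∀ r, y * r ∈ I → r ∈ I) : RegAt q I y := by
  rintro r ⟨t, ht, htr⟩
  refine ⟨t, ht, h _ ?_⟩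
  rw [mul_left_comm]
  exact htr

theorem locQuot_of_isLocalization (M : Submonoid B) (T : Type*) [CommRing T] [Algebra B T]
    [IsLocalization M T] : LocQuot (algebraMap B T) M ⊥ where
  units σ hσ := IsLocalization.map_units T ⟨σ, hσ⟩
  surj c := by
    obtain ⟨⟨z, σ⟩, e⟩ := IsLocalization.surj M c
    exact ⟨σ.1, σ.2, z, by rw [mul_comm]; exact e⟩
  ker w hw := by
    obtain ⟨σ, e⟩ := (IsLocalization.map_eq_zero_iff M T w).1 hw
    exact ⟨σ.1, σ.2, by rw [e]; exact Ideal.zero_mem _⟩

/-- Transfer of `RegAt` from a localization `T` of `B` at a submonoid disjoint from `q`. -/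
theorem regAt_of_localization (M : Submonoid B) (T : Type*) [CommRing T] [Algebra B T]
    [IsLocalization M T] (q : Ideal B) [hq : q.IsPrime] (hM : ∀ σ ∈ M, σ ∉ q) (I : Ideal B) (y : B)
    (h : ∀ r : T, algebraMap B T y * r ∈ I.map (algebraMap B T) → r ∈ I.map (algebraMap B T)) :
    RegAt q I y := by
  have hdisj : Disjoint (M : Set B) (q : Set B) := by
    rw [Set.disjoint_left]
    intro σ hσ hσq
    exact hM σ hσ hσq
  haveI : (q.map (algebraMap B T)).IsPrime := IsLocalization.isPrime_of_isPrime_disjoint M T q hq hdisj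
  have hQq : (q.map (algebraMap B T)).comap (algebraMap B T) = q :=
    IsLocalization.comap_map_of_isPrime_disjoint M T hq hdisj
  exact ((locQuot_of_isLocalization M T).regAt_iff hQq hM bot_le y).1 (regAt_of_forall h)

end Generic

section BC1

variable (R S A B : Type*) [CommRing R] [CommRing S] [CommRing A] [CommRing B]
  [Algebra R S] [Algebra R A] [Algebra R B] [Algebra A B] [Algebra S B]
  [IsScalarTower R A B] [IsScalarTower R S B] [Algebra.IsPushout R S A B]
variable {M M' P : Type*} [AddCommGroup M] [Module R M] [Module A M] [IsScalarTower R A M]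
  [AddCommGroup M'] [Module R M'] [Module A M'] [IsScalarTower R A M']
  [AddCommGroup P] [Module R P]

theorem cancel_naturality (g : M →ₗ[A] M') (y : S ⊗[R] M) :
    (g.lTensor B) ((Algebra.IsPushout.cancelBaseChange R S A B M).symm y) =
      (Algebra.IsPushout.cancelBaseChange R S A B M').symm
        (((g.restrictScalars R).lTensor S) y) := by
  induction y with
  | zero => simp
  | add x y hx hy => simp only [map_add, hx, hy]
  | tmul s m =>
    rw [Algebra.IsPushout.cancelBaseChange_symm_tmul, LinearMap.lTensor_tmul,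
      LinearMap.lTensor_tmul, Algebra.IsPushout.cancelBaseChange_symm_tmul]
    rfl

include S in
theorem lTensor_injective_of_flat_coker (g : M →ₗ[A] M') (f : M' →ₗ[R] P)
    (hf : Function.Surjective f) (hg : Function.Injective g)
    (H : Function.Exact (g.restrictScalars R) f) [Module.Flat R P] :
    Function.Injective (g.lTensor B) := by
  have hinj : Function.Injective ((g.restrictScalars R).lTensor S) :=
    LinearMap.lTensor_injective_of_exact_of_flat f hf (g.restrictScalars R) hg H S
  rw [injective_iff_map_eq_zero]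
  intro x hx
  obtain ⟨y, rfl⟩ := (Algebra.IsPushout.cancelBaseChange R S A B M).symm.surjective x
  rw [cancel_naturality] at hx
  have h1 : ((g.restrictScalars R).lTensor S) y = 0 := by
    apply (Algebra.IsPushout.cancelBaseChange R S A B M').symm.injective
    rw [hx, map_zero]
  have h2 : y = 0 := by
    apply hinj
    rw [h1, map_zero]
  rw [h2, map_zero]

end BC1

section BC2

variable (A' A1 B' B : Type u) [CommRing A'] [CommRing A1] [CommRing B'] [CommRing B]
  [Algebra A' A1] [Algebra A' B'] [Algebra A' B] [Algebra B' B] [Algebra A1 B]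
  [IsScalarTower A' B' B] [IsScalarTower A' A1 B] [Algebra.IsPushout A' A1 B' B]

theorem exact_lsmul_mkQ {R' : Type u} [CommRing R'] (N : Type u) [AddCommGroup N] [Module R' N]
    (y : R') : Function.Exact (LinearMap.lsmul R' N y) (y • (⊤ : Submodule R' N)).mkQ := by
  rw [LinearMap.exact_iff, Submodule.ker_mkQ]
  ext x
  rw [Submodule.mem_smul_pointwise_iff_exists, LinearMap.mem_range]
  constructor
  · rintro ⟨z, -, rfl⟩
    exact ⟨z, rfl⟩
  · rintro ⟨z, rfl⟩
    exact ⟨z, Submodule.mem_top, rfl⟩

variable (R' : Type u) [CommRing R'] [Algebra B' R'] (N : Type u) [AddCommGroup N] [Module R' N]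
  [Module B' N] [Module A' N] [IsScalarTower B' R' N] [IsScalarTower A' B' N]
  (Q : Type u) [AddCommGroup Q] [Module A' Q]

include A1 in
theorem injective_lTensor_lsmul (y : R') (hreg : IsSMulRegular N y)
    (f : N →ₗ[A'] Q) (hf : Function.Surjective f)
    (hex : Function.Exact (LinearMap.lsmul R' N y) f) [Module.Flat A' Q] :
    Function.Injective (((LinearMap.lsmul R' N y).restrictScalars B').lTensor B) := by
  refine lTensor_injective_of_flat_coker A' A1 B' B
    ((LinearMap.lsmul R' N y).restrictScalars B') f hf ?_ ?_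
  · intro x z hxz
    exact hreg hxz
  · exact hex

end BC2

section Main

variable {A' A1 B' B : Type u} [CommRing A'] [CommRing A1] [CommRing B'] [CommRing B]
  [Algebra A' A1] [Algebra A' B'] [Algebra A' B] [Algebra B' B] [Algebra A1 B]
  [IsScalarTower A' B' B] [IsScalarTower A' A1 B] [Algebra.IsPushout A' A1 B' B]

include A1 in
theorem regAt_baseChange_aux (R' : Type u) [CommRing R'] [Algebra B' R'] [Algebra A' R']
    [IsScalarTower A' B' R'] (q : Ideal B) [q.IsPrime]
    [IsLocalization (q.comap (algebraMap B' B)).primeCompl R'] (aR bR : R')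
    (h1 : IsSMulRegular R' aR)
    (h2 : Module.Flat A' (QuotSMulTop aR R'))
    (h3 : IsSMulRegular (QuotSMulTop aR R') bR)
    (h4 : Module.Flat A' (QuotSMulTop bR (QuotSMulTop aR R'))) :
    (∀ r : B ⊗[B'] R', ((1 : B) ⊗ₜ[B'] aR) * r = 0 → r = 0) ∧
    (∀ r : B ⊗[B'] R', ((1 : B) ⊗ₜ[B'] bR) * r ∈ Ideal.span {(1 : B) ⊗ₜ[B'] aR} →
      r ∈ Ideal.span {(1 : B) ⊗ₜ[B'] aR}) := by
  let gA : R' →ₗ[B'] R' := (LinearMap.lsmul R' R' aR).restrictScalars B'
  let gB : R' →ₗ[B'] R' := (LinearMap.lsmul R' R' bR).restrictScalars B'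
  let g2 : QuotSMulTop aR R' →ₗ[B'] QuotSMulTop aR R' :=
    (LinearMap.lsmul R' (QuotSMulTop aR R') bR).restrictScalars B'
  let π : R' →ₗ[B'] QuotSMulTop aR R' := ((aR • (⊤ : Submodule R' R')).mkQ).restrictScalars B'
  have hπsurj : Function.Surjective π := Submodule.mkQ_surjective (aR • (⊤ : Submodule R' R'))
  have hexA : Function.Exact gA π := exact_lsmul_mkQ R' aR
  have hgA : ∀ x : B ⊗[B'] R', gA.lTensor B x = ((1 : B) ⊗ₜ[B'] aR) * x := by
    intro x
    induction x using TensorProduct.induction_on with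
    | zero => simp
    | add x y hx hy => rw [map_add, hx, hy, mul_add]
    | tmul β r =>
      rw [LinearMap.lTensor_tmul, Algebra.TensorProduct.tmul_mul_tmul, one_mul]
      rfl
  have hgB : ∀ x : B ⊗[B'] R', gB.lTensor B x = ((1 : B) ⊗ₜ[B'] bR) * x := by
    intro x
    induction x using TensorProduct.induction_on with
    | zero => simp
    | add x y hx hy => rw [map_add, hx, hy, mul_add]
    | tmul β r =>
      rw [LinearMap.lTensor_tmul, Algebra.TensorProduct.tmul_mul_tmul, one_mul]
      rfl
  have hinjA : Function.Injective (gA.lTensor B) :=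
    injective_lTensor_lsmul A' A1 B' B R' R' (QuotSMulTop aR R') aR h1
      (((aR • (⊤ : Submodule R' R')).mkQ).restrictScalars A')
      (Submodule.mkQ_surjective (aR • (⊤ : Submodule R' R')))
      (exact_lsmul_mkQ R' aR)
  have hinj2 : Function.Injective (g2.lTensor B) :=
    injective_lTensor_lsmul A' A1 B' B R' (QuotSMulTop aR R') (QuotSMulTop bR (QuotSMulTop aR R'))
      bR h3 (((bR • (⊤ : Submodule R' (QuotSMulTop aR R'))).mkQ).restrictScalars A')
      (Submodule.mkQ_surjective (bR • (⊤ : Submodule R' (QuotSMulTop aR R'))))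
      (exact_lsmul_mkQ (QuotSMulTop aR R') bR)
  have hcomm : π.comp gB = g2.comp π := by
    apply LinearMap.ext
    intro r
    show (aR • (⊤ : Submodule R' R')).mkQ (bR • r) = bR • (aR • (⊤ : Submodule R' R')).mkQ r
    rw [map_smul]
  have hexT : Function.Exact (gA.lTensor B) (π.lTensor B) := lTensor_exact B hexA hπsurj
  constructor
  · intro r hr
    apply hinjA
    rw [hgA, hr, map_zero]
  · intro r hr
    rw [Ideal.mem_span_singleton'] at hr ⊢
    obtain ⟨w, hw⟩ := hr
    have h5 : (π.lTensor B) (gB.lTensor B r) = 0 := by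
      rw [hgB, ← hw, mul_comm, ← hgA]
      exact hexT.apply_apply_eq_zero w
    have h6 : (g2.lTensor B) (π.lTensor B r) = 0 := by
      rw [← LinearMap.comp_apply, ← LinearMap.lTensor_comp, ← hcomm, LinearMap.lTensor_comp,
        LinearMap.comp_apply]
      exact h5
    have h7 : π.lTensor B r = 0 := by
      apply hinj2
      rw [h6, map_zero]
    obtain ⟨w', hw'⟩ := (hexT r).1 h7
    refine ⟨w', ?_⟩
    rw [mul_comm, ← hgA]
    exact hw'

end Main

end Groth.Agent.Lib.Helper58.RegBC
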