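import Mathlib
import Groth.Agent.Lib.Helper58.RegAt

/-!
# The fibre ring `κ(p) ⊗_K B0` of `A1 ⊗_K B0` as a `LocQuot` (helper58)
-/

set_option autoImplicit false
set_option linter.style.haveILetI false

namespace Groth.Agent.Lib.Helper58.FibreLQ

open TensorProduct Groth.Agent.Lib.Helper58.RegAt

variable (K : Type*) [CommRing K] (A1 B0 : Type*) [CommRing A1] [CommRing B0] [Algebra K A1]
  [Algebra K B0] (p : Ideal A1) [p.IsPrime]

/-- The map `A1 ⊗ B0 → κ(p) ⊗ B0`. -/
noncomputable def fib : A1 ⊗[K] B0 →ₐ[K] p.ResidueField ⊗[K] B0 :=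
  Algebra.TensorProduct.map (IsScalarTower.toAlgHom K A1 p.ResidueField) (AlgHom.id K B0)

@[simp] theorem fib_tmul (a : A1) (β : B0) :
    fib K A1 B0 p (a ⊗ₜ β) = algebraMap A1 p.ResidueField a ⊗ₜ β := by
  simp [fib]

theorem exists_mul_eq (x : p.ResidueField) :
    ∃ d, d ∉ p ∧ ∃ a : A1, algebraMap A1 p.ResidueField d * x = algebraMap A1 p.ResidueField a := by
  obtain ⟨y, rfl⟩ := IsLocalRing.residue_surjective x
  obtain ⟨⟨a, d⟩, e⟩ := IsLocalization.surj p.primeCompl y
  refine ⟨d.1, d.2, a, ?_⟩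
  have h := congrArg (IsLocalRing.residue (Localization.AtPrime p)) e
  rw [map_mul] at h
  rw [IsScalarTower.algebraMap_apply A1 (Localization.AtPrime p) p.ResidueField,
    IsScalarTower.algebraMap_apply A1 (Localization.AtPrime p) p.ResidueField,
    IsLocalRing.ResidueField.algebraMap_eq, mul_comm]
  exact h

theorem fib_injective_aux [Module.Flat K B0] :
    Function.Injective (Algebra.TensorProduct.map
      (IsScalarTower.toAlgHom K (A1 ⧸ p) p.ResidueField) (AlgHom.id K B0)) := by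
  have h1 : Function.Injective ((IsScalarTower.toAlgHom K (A1 ⧸ p) p.ResidueField).toLinearMap) :=
    Ideal.injective_algebraMap_quotient_residueField p
  exact Module.Flat.rTensor_preserves_injective_linearMap (M := B0) _ h1

theorem fib_eq_comp : fib K A1 B0 p =
    (Algebra.TensorProduct.map (IsScalarTower.toAlgHom K (A1 ⧸ p) p.ResidueField)
      (AlgHom.id K B0)).comp
      (Algebra.TensorProduct.map (Ideal.Quotient.mkₐ K p) (AlgHom.id K B0)) := by
  apply Algebra.TensorProduct.ext'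
  intro a β
  rw [AlgHom.comp_apply, fib, Algebra.TensorProduct.map_tmul, Algebra.TensorProduct.map_tmul,
    Algebra.TensorProduct.map_tmul]
  congr 1

theorem ker_fib [Module.Flat K B0] (w : A1 ⊗[K] B0) (hw : fib K A1 B0 p w = 0) :
    w ∈ p.map (algebraMap A1 (A1 ⊗[K] B0)) := by
  rw [fib_eq_comp] at hw
  have h1 : Algebra.TensorProduct.map (Ideal.Quotient.mkₐ K p) (AlgHom.id K B0) w = 0 := by
    apply fib_injective_aux K A1 B0 p
    rw [map_zero]
    exact hw
  have h2 : w ∈ RingHom.ker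
      (Algebra.TensorProduct.map (Ideal.Quotient.mkₐ K p) (AlgHom.id K B0)) := h1
  rw [Algebra.TensorProduct.rTensor_ker (Ideal.Quotient.mkₐ K p) (C := B0)
    (Ideal.Quotient.mkₐ_surjective K p)] at h2
  have hk : RingHom.ker (Ideal.Quotient.mkₐ K p) = p := by
    ext x
    simp [RingHom.mem_ker, Ideal.Quotient.eq_zero_iff_mem]
  rw [hk] at h2
  have hE : Ideal.map (Algebra.TensorProduct.includeLeft : A1 →ₐ[K] A1 ⊗[K] B0) p =
      Ideal.map (algebraMap A1 (A1 ⊗[K] B0)) p := by
    refine congrArg Ideal.span ?_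
    ext x
    constructor <;> rintro ⟨a, ha, rfl⟩ <;>
      exact ⟨a, ha, by simp [Algebra.TensorProduct.algebraMap_apply]⟩
  rw [← hE]
  exact h2

theorem locQuot_fib [Module.Flat K B0] : LocQuot (fib K A1 B0 p).toRingHom
    (Algebra.algebraMapSubmonoid (A1 ⊗[K] B0) p.primeCompl)
    (p.map (algebraMap A1 (A1 ⊗[K] B0))) where
  units σ hσ := by
    obtain ⟨d, hd, rfl⟩ := hσ
    have h1 : (fib K A1 B0 p).toRingHom (algebraMap A1 (A1 ⊗[K] B0) d) =
        algebraMap A1 p.ResidueField d ⊗ₜ 1 := by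
      simp [Algebra.TensorProduct.algebraMap_apply]
    rw [h1]
    have h2 : IsUnit (algebraMap A1 p.ResidueField d) := by
      rw [isUnit_iff_ne_zero, Ne, Ideal.algebraMap_residueField_eq_zero]
      exact hd
    exact h2.map (Algebra.TensorProduct.includeLeft : p.ResidueField →ₐ[K] p.ResidueField ⊗[K] B0)
  surj c := by
    induction c with
    | zero => exact ⟨1, Submonoid.one_mem _, 0, by simp⟩
    | tmul x β =>
      obtain ⟨d, hd, a, e⟩ := exists_mul_eq A1 p x
      refine ⟨algebraMap A1 (A1 ⊗[K] B0) d, ⟨d, hd, rfl⟩, a ⊗ₜ β, ?_⟩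
      simp only [AlgHom.toRingHom_eq_coe, RingHom.coe_coe, Algebra.TensorProduct.algebraMap_apply,
        Algebra.algebraMap_self, RingHom.id_apply, fib_tmul, Algebra.TensorProduct.tmul_mul_tmul,
        one_mul, e]
    | add c1 c2 h1 h2 =>
      obtain ⟨σ1, hσ1, z1, e1⟩ := h1
      obtain ⟨σ2, hσ2, z2, e2⟩ := h2
      refine ⟨σ1 * σ2, Submonoid.mul_mem _ hσ1 hσ2, σ2 * z1 + σ1 * z2, ?_⟩
      rw [map_add, map_mul, map_mul, map_mul, ← e1, ← e2]
      ring
  ker w hw := ⟨1, Submonoid.one_mem _, by rw [one_mul]; exact ker_fib K A1 B0 p w hw⟩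

end Groth.Agent.Lib.Helper58.FibreLQ
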