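import Mathlib
import Groth.Agent.Lib.Helper58.FibreLQ
import Groth.Agent.Lib.Helper56.FiberLoc

/-!
# Primes of the fibre ring `κ(p) ⊗_K B0` over a prime of `A1 ⊗_K B0` (helper58)
-/

set_option autoImplicit false
set_option linter.style.haveILetI false
universe u

namespace Groth.Agent.Lib.Helper58.FibrePrime

open TensorProduct Groth.Agent.Lib.Helper58.RegAt Groth.Agent.Lib.Helper58.FibreLQ

variable (K : Type u) [CommRing K] (A1 B0 : Type u) [CommRing A1] [CommRing B0] [Algebra K A1]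
  [Algebra K B0]

theorem exists_prime_comap_fib (q : Ideal (A1 ⊗[K] B0)) [q.IsPrime] :
    ∃ (Q : Ideal ((q.comap (algebraMap A1 (A1 ⊗[K] B0))).ResidueField ⊗[K] B0)) (_ : Q.IsPrime),
      Q.comap (fib K A1 B0 (q.comap (algebraMap A1 (A1 ⊗[K] B0)))).toRingHom = q := by
  set p : Ideal A1 := q.comap (algebraMap A1 (A1 ⊗[K] B0)) with hp
  obtain ⟨Q0, hQ0, hQ0q⟩ := Groth.Agent.Lib.Helper56.exists_fiber_prime A1 (A1 ⊗[K] B0) q
  let e := Algebra.TensorProduct.cancelBaseChange K A1 A1 p.ResidueField B0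
  refine ⟨Q0.comap (e.symm : _ →+* _), Ideal.comap_isPrime _ _, ?_⟩
  rw [Ideal.comap_comap]
  have hcomp : ((e.symm : p.ResidueField ⊗[K] B0 →+* p.ResidueField ⊗[A1] (A1 ⊗[K] B0)).comp
      (fib K A1 B0 p).toRingHom) =
      ((Algebra.TensorProduct.includeRight :
        (A1 ⊗[K] B0) →ₐ[A1] p.Fiber (A1 ⊗[K] B0)) : _ →+* _) := by
    apply RingHom.ext
    intro z
    induction z with
    | zero => simp
    | add x y hx hy => rw [map_add, map_add, hx, hy]
    | tmul a β =>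
      show e.symm (fib K A1 B0 p (a ⊗ₜ β)) = 1 ⊗ₜ (a ⊗ₜ β)
      rw [fib_tmul, Algebra.TensorProduct.cancelBaseChange_symm_tmul]
      have h1 : (a ⊗ₜ[K] β : A1 ⊗[K] B0) = a • (1 ⊗ₜ[K] β) := by
        rw [TensorProduct.smul_tmul', smul_eq_mul, mul_one]
      rw [h1, TensorProduct.tmul_smul, TensorProduct.smul_tmul', Algebra.smul_def, mul_one]
  rw [hcomp]
  exact hQ0q

end Groth.Agent.Lib.Helper58.FibrePrime
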