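import Mathlib
import Groth.Agent.Lib.Helper58.FibrePrime

/-!
# Descent of fibre regularity to a subalgebra (helper58)

`A' ⊆ A1` a `K`-subalgebra, `B' = A' ⊗_K B0 → B = A1 ⊗_K B0`.  If `φ y'` is regular at `q` modulo
`J'B + pB` then `y'` is regular at `q' = φ⁻¹ q` modulo `J'` (for `J' ⊇ p'B'`).
-/

set_option autoImplicit false
set_option linter.style.haveILetI false
universe u

namespace Groth.Agent.Lib.Helper58.RegDescent

open TensorProduct Groth.Agent.Lib.Helper58.RegAt Groth.Agent.Lib.Helper58.FibreLQ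
  Groth.Agent.Lib.Helper58.FibrePrime

variable (K : Type u) [CommRing K] (A1 B0 : Type u) [CommRing A1] [CommRing B0] [Algebra K A1]
  [Algebra K B0]

/-- The map `A' ⊗ B0 → A1 ⊗ B0`. -/
noncomputable def phi (A' : Subalgebra K A1) : (A' ⊗[K] B0) →ₐ[K] (A1 ⊗[K] B0) :=
  Algebra.TensorProduct.map A'.val (AlgHom.id K B0)

@[simp] theorem phi_tmul (A' : Subalgebra K A1) (a : A') (β : B0) :
    phi K A1 B0 A' (a ⊗ₜ β) = (a : A1) ⊗ₜ β := by
  simp [phi]

theorem phi_algebraMap (A' : Subalgebra K A1) (a : A') :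
    phi K A1 B0 A' (algebraMap A' (A' ⊗[K] B0) a) = algebraMap A1 (A1 ⊗[K] B0) (a : A1) := by
  simp [Algebra.TensorProduct.algebraMap_apply]

section

variable (A' : Subalgebra K A1) (q : Ideal (A1 ⊗[K] B0)) [q.IsPrime]

/-- the prime of `A1` under `q` -/
abbrev pOf : Ideal A1 := q.comap (algebraMap A1 (A1 ⊗[K] B0))
/-- the prime of `B'` under `q` -/
noncomputable abbrev q'Of : Ideal (A' ⊗[K] B0) := q.comap (phi K A1 B0 A').toRingHom
/-- the prime of `A'` under `q` -/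
noncomputable abbrev p'Of : Ideal A' := (q'Of K A1 B0 A' q).comap (algebraMap A' (A' ⊗[K] B0))

theorem p'Of_eq : p'Of K A1 B0 A' q = (pOf K A1 B0 q).comap (A'.val : A' →+* A1) := by
  ext a
  simp only [p'Of, q'Of, pOf, Ideal.mem_comap]
  rw [show (phi K A1 B0 A').toRingHom (algebraMap A' (A' ⊗[K] B0) a) =
    algebraMap A1 (A1 ⊗[K] B0) (a : A1) from phi_algebraMap K A1 B0 A' a]
  rfl

/-- residue field map -/
noncomputable def rho : (p'Of K A1 B0 A' q).ResidueField →ₐ[K] (pOf K A1 B0 q).ResidueField :=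
  Ideal.ResidueField.mapₐ _ _ A'.val (p'Of_eq K A1 B0 A' q)

theorem rho_algebraMap (a : A') :
    rho K A1 B0 A' q (algebraMap A' _ a) = algebraMap A1 _ (a : A1) := by
  simp [rho]

/-- map of fibre rings -/
noncomputable def psi : (p'Of K A1 B0 A' q).ResidueField ⊗[K] B0 →ₐ[K]
    (pOf K A1 B0 q).ResidueField ⊗[K] B0 :=
  Algebra.TensorProduct.map (rho K A1 B0 A' q) (AlgHom.id K B0)

theorem psi_fib (z : A' ⊗[K] B0) :
    psi K A1 B0 A' q (fib K A' B0 (p'Of K A1 B0 A' q) z) =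
      fib K A1 B0 (pOf K A1 B0 q) (phi K A1 B0 A' z) := by
  induction z with
  | zero => simp
  | add x y hx hy => rw [map_add, map_add, hx, hy, map_add, map_add]
  | tmul a β =>
    rw [fib_tmul, phi_tmul, fib_tmul, psi, Algebra.TensorProduct.map_tmul, rho_algebraMap]
    rfl

theorem flat_psi :
    letI : Algebra ((p'Of K A1 B0 A' q).ResidueField ⊗[K] B0)
      ((pOf K A1 B0 q).ResidueField ⊗[K] B0) := (psi K A1 B0 A' q).toRingHom.toAlgebra
    Module.Flat ((p'Of K A1 B0 A' q).ResidueField ⊗[K] B0)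
      ((pOf K A1 B0 q).ResidueField ⊗[K] B0) := by
  letI : Algebra ((p'Of K A1 B0 A' q).ResidueField ⊗[K] B0)
      ((pOf K A1 B0 q).ResidueField ⊗[K] B0) := (psi K A1 B0 A' q).toRingHom.toAlgebra
  letI : Algebra (p'Of K A1 B0 A' q).ResidueField (pOf K A1 B0 q).ResidueField :=
    (rho K A1 B0 A' q).toRingHom.toAlgebra
  haveI : IsScalarTower K (p'Of K A1 B0 A' q).ResidueField (pOf K A1 B0 q).ResidueField :=
    IsScalarTower.of_algebraMap_eq (fun x => ((rho K A1 B0 A' q).commutes x).symm)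
  haveI : IsScalarTower (p'Of K A1 B0 A' q).ResidueField
      ((p'Of K A1 B0 A' q).ResidueField ⊗[K] B0) ((pOf K A1 B0 q).ResidueField ⊗[K] B0) := by
    apply IsScalarTower.of_algebraMap_eq
    intro x
    show _ = psi K A1 B0 A' q (algebraMap _ _ x)
    rw [Algebra.TensorProduct.algebraMap_apply, Algebra.TensorProduct.algebraMap_apply, psi,
      Algebra.TensorProduct.map_tmul]
    rfl
  have hpo : Algebra.IsPushout (p'Of K A1 B0 A' q).ResidueField (pOf K A1 B0 q).ResidueField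
      ((p'Of K A1 B0 A' q).ResidueField ⊗[K] B0) ((pOf K A1 B0 q).ResidueField ⊗[K] B0) := by
    apply Algebra.IsPushout.tensorProduct_tensorProduct K B0
    apply RingHom.ext
    intro β
    show psi K A1 B0 A' q ((1 : (p'Of K A1 B0 A' q).ResidueField) ⊗ₜ β) = 1 ⊗ₜ β
    rw [psi, Algebra.TensorProduct.map_tmul, map_one]
    rfl
  have hpo' := hpo.symm
  exact Module.Flat.isBaseChange (R := (p'Of K A1 B0 A' q).ResidueField)
    (M := (pOf K A1 B0 q).ResidueField) (S := (p'Of K A1 B0 A' q).ResidueField ⊗[K] B0)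
    _ hpo'.out

theorem regAt_descent [Module.Flat K B0] (J' : Ideal (A' ⊗[K] B0))
    (hJ' : (p'Of K A1 B0 A' q).map (algebraMap A' (A' ⊗[K] B0)) ≤ J') (y' : A' ⊗[K] B0)
    (h : RegAt q (J'.map (phi K A1 B0 A').toRingHom ⊔
      (pOf K A1 B0 q).map (algebraMap A1 (A1 ⊗[K] B0))) (phi K A1 B0 A' y')) :
    RegAt (q'Of K A1 B0 A' q) J' y' := by
  obtain ⟨Q, hQ, hQq⟩ := exists_prime_comap_fib K A1 B0 q
  letI : Algebra ((p'Of K A1 B0 A' q).ResidueField ⊗[K] B0)
      ((pOf K A1 B0 q).ResidueField ⊗[K] B0) := (psi K A1 B0 A' q).toRingHom.toAlgebra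
  haveI := flat_psi K A1 B0 A' q
  have hLQ := locQuot_fib K A1 B0 (pOf K A1 B0 q)
  have hLQ' := locQuot_fib K A' B0 (p'Of K A1 B0 A' q)
  have hS : ∀ σ ∈ Algebra.algebraMapSubmonoid (A1 ⊗[K] B0) (pOf K A1 B0 q).primeCompl, σ ∉ q := by
    rintro σ ⟨d, hd, rfl⟩ hmem
    exact hd hmem
  have hS' : ∀ σ ∈ Algebra.algebraMapSubmonoid (A' ⊗[K] B0) (p'Of K A1 B0 A' q).primeCompl,
      σ ∉ q'Of K A1 B0 A' q := by
    rintro σ ⟨d, hd, rfl⟩ hmem
    exact hd hmem
  -- step 1: to the fibre ring of B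
  have h1 := (hLQ.regAt_iff hQq hS le_sup_right (phi K A1 B0 A' y')).2 h
  -- ideal equality
  have hideal : (J'.map (phi K A1 B0 A').toRingHom ⊔
      (pOf K A1 B0 q).map (algebraMap A1 (A1 ⊗[K] B0))).map
        (fib K A1 B0 (pOf K A1 B0 q)).toRingHom =
      (J'.map (fib K A' B0 (p'Of K A1 B0 A' q)).toRingHom).map
        (algebraMap ((p'Of K A1 B0 A' q).ResidueField ⊗[K] B0)
          ((pOf K A1 B0 q).ResidueField ⊗[K] B0)) := by
    rw [Ideal.map_sup, Ideal.map_map, Ideal.map_map, Ideal.map_map]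
    have hz : Ideal.map ((fib K A1 B0 (pOf K A1 B0 q)).toRingHom.comp
        (algebraMap A1 (A1 ⊗[K] B0))) (pOf K A1 B0 q) = ⊥ := by
      rw [eq_bot_iff, Ideal.map_le_iff_le_comap]
      intro a ha
      rw [Ideal.mem_comap, Ideal.mem_bot]
      show fib K A1 B0 (pOf K A1 B0 q) (algebraMap A1 (A1 ⊗[K] B0) a) = 0
      rw [Algebra.TensorProduct.algebraMap_apply, fib_tmul]
      have : algebraMap A1 (pOf K A1 B0 q).ResidueField (algebraMap A1 A1 a) = 0 := by
        rw [Algebra.algebraMap_self, RingHom.id_apply, Ideal.algebraMap_residueField_eq_zero]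
        exact ha
      rw [this, TensorProduct.zero_tmul]
    rw [hz, sup_bot_eq]
    congr 1
    apply RingHom.ext
    intro z
    exact (psi_fib K A1 B0 A' q z).symm
  rw [hideal] at h1
  have h2 : RegAt Q ((J'.map (fib K A' B0 (p'Of K A1 B0 A' q)).toRingHom).map
      (algebraMap ((p'Of K A1 B0 A' q).ResidueField ⊗[K] B0)
          ((pOf K A1 B0 q).ResidueField ⊗[K] B0)))
      (algebraMap ((p'Of K A1 B0 A' q).ResidueField ⊗[K] B0)
          ((pOf K A1 B0 q).ResidueField ⊗[K] B0)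
        ((fib K A' B0 (p'Of K A1 B0 A' q)).toRingHom y')) := by
    have he : algebraMap ((p'Of K A1 B0 A' q).ResidueField ⊗[K] B0)
          ((pOf K A1 B0 q).ResidueField ⊗[K] B0)
        ((fib K A' B0 (p'Of K A1 B0 A' q)).toRingHom y') =
        (fib K A1 B0 (pOf K A1 B0 q)).toRingHom (phi K A1 B0 A' y') :=
      psi_fib K A1 B0 A' q y'
    rw [he]
    exact h1
  have h3 := regAt_of_flat Q _ _ h2
  have hQq' : (Q.comap (algebraMap ((p'Of K A1 B0 A' q).ResidueField ⊗[K] B0)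
      ((pOf K A1 B0 q).ResidueField ⊗[K] B0))).comap
      (fib K A' B0 (p'Of K A1 B0 A' q)).toRingHom = q'Of K A1 B0 A' q := by
    rw [Ideal.comap_comap]
    have : (algebraMap ((p'Of K A1 B0 A' q).ResidueField ⊗[K] B0)
      ((pOf K A1 B0 q).ResidueField ⊗[K] B0)).comp (fib K A' B0 (p'Of K A1 B0 A' q)).toRingHom =
      (fib K A1 B0 (pOf K A1 B0 q)).toRingHom.comp (phi K A1 B0 A').toRingHom := by
      apply RingHom.ext
      intro z
      exact psi_fib K A1 B0 A' q z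
    rw [this, ← Ideal.comap_comap, hQq]
  exact (hLQ'.regAt_iff hQq' hS' hJ' y').1 h3

end

end Groth.Agent.Lib.Helper58.RegDescent
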