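import Mathlib
import Groth.Agent.Lib.Helper58.RegAt
import Groth.Agent.Lib.Helper77.FlatDepth

/-!
# Noetherian step: fibre-regular pair ⇒ regular pair with flat quotients (helper58)
-/

set_option autoImplicit false
set_option linter.style.haveILetI false
universe u

namespace Groth.Agent.Lib.Helper58.RegNoeth

open TensorProduct Groth.Agent.Lib.Helper58.RegAt IsLocalRing
open scoped Pointwise

section Aux

variable {R : Type u} [CommRing R]

theorem smul_top_eq (J : Ideal R) : (J • (⊤ : Submodule R R) : Submodule R R) = J := by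
  rw [smul_eq_mul, Ideal.mul_top]

theorem pointwise_smul_top_eq (y : R) : (y • (⊤ : Submodule R R) : Submodule R R) =
    Ideal.span {y} := by
  ext x
  rw [Submodule.mem_smul_pointwise_iff_exists, Ideal.mem_span_singleton']
  constructor
  · rintro ⟨z, -, rfl⟩
    exact ⟨z, by rw [smul_eq_mul, mul_comm]⟩
  · rintro ⟨z, rfl⟩
    exact ⟨z, Submodule.mem_top, by rw [smul_eq_mul, mul_comm]⟩

theorem mk_mem_smul_top_iff (J : Ideal R) (y z : R) :
    (Submodule.Quotient.mk z : QuotSMulTop y R) ∈ J • (⊤ : Submodule R (QuotSMulTop y R)) ↔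
      z ∈ J ⊔ Ideal.span {y} := by
  have h1 : J • (⊤ : Submodule R (QuotSMulTop y R)) =
      Submodule.map (y • (⊤ : Submodule R R)).mkQ (J • (⊤ : Submodule R R)) := by
    rw [Submodule.map_smul'', Submodule.map_top, Submodule.range_mkQ]
  rw [h1, smul_top_eq, Submodule.mem_map]
  constructor
  · rintro ⟨j, hj, e⟩
    have h2 : j - z ∈ (y • (⊤ : Submodule R R) : Submodule R R) := by
      rw [← Submodule.Quotient.eq]
      exact e
    rw [pointwise_smul_top_eq] at h2
    have h3 : z = j - (j - z) := by ring
    rw [h3]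
    exact Ideal.sub_mem _ (Ideal.mem_sup_left hj) (Ideal.mem_sup_right h2)
  · intro hz
    obtain ⟨j, hj, w, hw, rfl⟩ := Submodule.mem_sup.1 hz
    refine ⟨j, hj, ?_⟩
    rw [Submodule.mkQ_apply, Submodule.Quotient.eq]
    have : j - (j + w) = -w := by ring
    rw [this, pointwise_smul_top_eq]
    exact Ideal.neg_mem_iff _ |>.2 hw

end Aux

variable {A' B' : Type u} [CommRing A'] [CommRing B'] [Algebra A' B'] [Module.Flat A' B']
  [IsNoetherianRing B'] (q' : Ideal B') [q'.IsPrime]

theorem noeth_step (a' b' : B')
    (h1 : RegAt q' ((q'.comap (algebraMap A' B')).map (algebraMap A' B')) a')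
    (h2 : RegAt q' ((q'.comap (algebraMap A' B')).map (algebraMap A' B') ⊔ Ideal.span {a'}) b') :
    IsSMulRegular (Localization.AtPrime q') (algebraMap B' (Localization.AtPrime q') a') ∧
    Module.Flat A' (QuotSMulTop (algebraMap B' (Localization.AtPrime q') a')
      (Localization.AtPrime q')) ∧
    IsSMulRegular (QuotSMulTop (algebraMap B' (Localization.AtPrime q') a')
      (Localization.AtPrime q')) (algebraMap B' (Localization.AtPrime q') b') ∧
    Module.Flat A' (QuotSMulTop (algebraMap B' (Localization.AtPrime q') b')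
      (QuotSMulTop (algebraMap B' (Localization.AtPrime q') a') (Localization.AtPrime q'))) := by
  set p' : Ideal A' := q'.comap (algebraMap A' B') with hp'
  haveI : q'.LiesOver p' := ⟨rfl⟩
  letI : Algebra (Localization.AtPrime p') (Localization.AtPrime q') :=
    Localization.AtPrime.algebraOfLiesOver p' q'
  set R' := Localization.AtPrime q' with hR'
  set aR : R' := algebraMap B' R' a' with haR
  set bR : R' := algebraMap B' R' b' with hbR
  have hJ : (maximalIdeal (Localization.AtPrime p')).map
      (algebraMap (Localization.AtPrime p') R') =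
      (p'.map (algebraMap A' B')).map (algebraMap B' R') := by
    rw [← Localization.AtPrime.map_eq_maximalIdeal, Ideal.map_map, Ideal.map_map,
      ← IsScalarTower.algebraMap_eq, ← IsScalarTower.algebraMap_eq]
  rw [regAt_iff_localization q' R'] at h1 h2
  -- step 1
  have hy1 : IsSMulRegular (R' ⧸ ((maximalIdeal (Localization.AtPrime p')).map
      (algebraMap (Localization.AtPrime p') R')) • (⊤ : Submodule R' R')) aR := by
    rw [isSMulRegular_iff_right_eq_zero_of_smul]
    intro x hx
    obtain ⟨r, rfl⟩ := Submodule.Quotient.mk_surjective _ x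
    rw [← Submodule.Quotient.mk_smul, Submodule.Quotient.mk_eq_zero, smul_top_eq, hJ,
      smul_eq_mul] at hx
    rw [Submodule.Quotient.mk_eq_zero, smul_top_eq, hJ]
    exact h1 r hx
  obtain ⟨hreg1, hflat1⟩ :=
    Groth.Agent.Lib.Helper77.FlatDepth.regular_of_regular_fib
      (A := Localization.AtPrime p') (B := R') R' aR hy1
  -- step 2
  haveI := hflat1
  have hy2 : IsSMulRegular ((QuotSMulTop aR R') ⧸ ((maximalIdeal (Localization.AtPrime p')).map
      (algebraMap (Localization.AtPrime p') R')) • (⊤ : Submodule R' (QuotSMulTop aR R'))) bR := by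
    rw [isSMulRegular_iff_right_eq_zero_of_smul]
    intro x hx
    obtain ⟨n, rfl⟩ := Submodule.Quotient.mk_surjective _ x
    obtain ⟨r, rfl⟩ := Submodule.Quotient.mk_surjective _ n
    rw [← Submodule.Quotient.mk_smul, ← Submodule.Quotient.mk_smul, Submodule.Quotient.mk_eq_zero,
      mk_mem_smul_top_iff, hJ, smul_eq_mul] at hx
    rw [Submodule.Quotient.mk_eq_zero, mk_mem_smul_top_iff, hJ]
    have hmap : (p'.map (algebraMap A' B') ⊔ Ideal.span {a'}).map (algebraMap B' R') =
        (p'.map (algebraMap A' B')).map (algebraMap B' R') ⊔ Ideal.span {aR} := by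
      rw [Ideal.map_sup, Ideal.map_span, Set.image_singleton]
    rw [hmap] at h2
    exact h2 r hx
  obtain ⟨hreg2, hflat2⟩ :=
    Groth.Agent.Lib.Helper77.FlatDepth.regular_of_regular_fib
      (A := Localization.AtPrime p') (B := R') (QuotSMulTop aR R') bR hy2
  haveI := hflat2
  exact ⟨hreg1, Module.Flat.trans A' (Localization.AtPrime p') _, hreg2,
    Module.Flat.trans A' (Localization.AtPrime p') _⟩

end Groth.Agent.Lib.Helper58.RegNoeth
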