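import Mathlib
import Groth.Agent.Lib.Helper58.RegDescent
import Groth.Agent.Lib.Helper58.RegNoeth
import Groth.Agent.Lib.Helper58.RegBC

/-!
# Regular pairs on `A1 ⊗_K B0` from regular pairs on the fibre, by Noetherian approximation
(helper58)
-/

set_option autoImplicit false
set_option linter.style.haveILetI false
universe u

namespace Groth.Agent.Lib.Helper58.RegApprox

open TensorProduct Groth.Agent.Lib.Helper58.RegAt Groth.Agent.Lib.Helper58.RegDescent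
  Groth.Agent.Lib.Helper58.RegNoeth Groth.Agent.Lib.Helper58.RegBC

variable (K : Type u) [CommRing K] (A1 B0 : Type u) [CommRing A1] [CommRing B0] [Algebra K A1]
  [Algebra K B0]

theorem range_phi_mono {A' A'' : Subalgebra K A1} (h : A' ≤ A'') :
    Set.range (phi K A1 B0 A') ⊆ Set.range (phi K A1 B0 A'') := by
  rintro _ ⟨z, rfl⟩
  refine ⟨Algebra.TensorProduct.map (Subalgebra.inclusion h) (AlgHom.id K B0) z, ?_⟩
  induction z with
  | zero => simp
  | add x y hx hy => rw [map_add, map_add, hx, hy, map_add]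
  | tmul a β =>
    rw [Algebra.TensorProduct.map_tmul, phi_tmul, phi_tmul]
    rfl

theorem exists_fg_subalgebra (z : A1 ⊗[K] B0) :
    ∃ A' : Subalgebra K A1, A'.FG ∧ z ∈ Set.range (phi K A1 B0 A') := by
  induction z with
  | zero => exact ⟨⊥, Subalgebra.fg_bot, 0, map_zero _⟩
  | tmul a β =>
    refine ⟨Algebra.adjoin K {a}, ?_, ?_⟩
    · exact ⟨{a}, by simp⟩
    · exact ⟨(⟨a, Algebra.subset_adjoin (Set.mem_singleton a)⟩ : Algebra.adjoin K {a}) ⊗ₜ β,
        by rw [phi_tmul]⟩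
  | add x y hx hy =>
    obtain ⟨A'1, h1, hx1⟩ := hx
    obtain ⟨A'2, h2, hy2⟩ := hy
    refine ⟨A'1 ⊔ A'2, h1.sup h2, ?_⟩
    obtain ⟨x', rfl⟩ := range_phi_mono K A1 B0 (le_sup_left : A'1 ≤ A'1 ⊔ A'2) hx1
    obtain ⟨y', rfl⟩ := range_phi_mono K A1 B0 (le_sup_right : A'2 ≤ A'1 ⊔ A'2) hy2
    exact ⟨x' + y', map_add _ _ _⟩

theorem exists_fg_subalgebra₂ (a b : A1 ⊗[K] B0) :
    ∃ A' : Subalgebra K A1, A'.FG ∧ a ∈ Set.range (phi K A1 B0 A') ∧
      b ∈ Set.range (phi K A1 B0 A') := by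
  obtain ⟨A'1, h1, ha⟩ := exists_fg_subalgebra K A1 B0 a
  obtain ⟨A'2, h2, hb⟩ := exists_fg_subalgebra K A1 B0 b
  exact ⟨A'1 ⊔ A'2, h1.sup h2, range_phi_mono K A1 B0 le_sup_left ha,
    range_phi_mono K A1 B0 le_sup_right hb⟩

variable [Algebra.FiniteType K B0] [IsNoetherianRing K] [Module.Flat K B0]

attribute [local instance] Algebra.TensorProduct.rightAlgebra in
theorem regAt_pair_of_fibre (q : Ideal (A1 ⊗[K] B0)) [q.IsPrime] (a b : A1 ⊗[K] B0)
    (h1 : RegAt q ((pOf K A1 B0 q).map (algebraMap A1 (A1 ⊗[K] B0))) a)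
    (h2 : RegAt q ((pOf K A1 B0 q).map (algebraMap A1 (A1 ⊗[K] B0)) ⊔ Ideal.span {a}) b) :
    RegAt q ⊥ a ∧ RegAt q (Ideal.span {a}) b := by
  obtain ⟨A', hfg, ⟨a', rfl⟩, ⟨b', rfl⟩⟩ := exists_fg_subalgebra₂ K A1 B0 a b
  haveI : Algebra.FiniteType K A' := (Subalgebra.fg_iff_finiteType A').1 hfg
  haveI : IsNoetherianRing A' := Algebra.FiniteType.isNoetherianRing K A'
  haveI : IsNoetherianRing (A' ⊗[K] B0) := Algebra.FiniteType.isNoetherianRing A' (A' ⊗[K] B0)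
  -- ideal computations
  have hle : ((p'Of K A1 B0 A' q).map (algebraMap A' (A' ⊗[K] B0))).map
      (phi K A1 B0 A').toRingHom ≤ (pOf K A1 B0 q).map (algebraMap A1 (A1 ⊗[K] B0)) := by
    rw [Ideal.map_map, Ideal.map_le_iff_le_comap]
    intro x hx
    rw [Ideal.mem_comap]
    have : ((phi K A1 B0 A').toRingHom.comp (algebraMap A' (A' ⊗[K] B0))) x =
        algebraMap A1 (A1 ⊗[K] B0) (x : A1) := phi_algebraMap K A1 B0 A' x
    rw [this]
    apply Ideal.mem_map_of_mem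
    rw [p'Of_eq] at hx
    exact hx
  -- descent
  have d1 : RegAt (q'Of K A1 B0 A' q) ((p'Of K A1 B0 A' q).map (algebraMap A' (A' ⊗[K] B0))) a' := by
    apply regAt_descent K A1 B0 A' q _ le_rfl
    rw [sup_eq_right.2 hle]
    exact h1
  have d2 : RegAt (q'Of K A1 B0 A' q) ((p'Of K A1 B0 A' q).map (algebraMap A' (A' ⊗[K] B0)) ⊔
      Ideal.span {a'}) b' := by
    apply regAt_descent K A1 B0 A' q _ le_sup_left
    have : Ideal.map (phi K A1 B0 A').toRingHom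
        ((p'Of K A1 B0 A' q).map (algebraMap A' (A' ⊗[K] B0)) ⊔ Ideal.span {a'}) ⊔
        (pOf K A1 B0 q).map (algebraMap A1 (A1 ⊗[K] B0)) =
        (pOf K A1 B0 q).map (algebraMap A1 (A1 ⊗[K] B0)) ⊔
          Ideal.span {phi K A1 B0 A' a'} := by
      rw [Ideal.map_sup, Ideal.map_span, Set.image_singleton, sup_right_comm,
        sup_eq_right.2 hle]
      rfl
    rw [this]
    exact h2
  -- Noetherian step
  obtain ⟨n1, n2, n3, n4⟩ := noeth_step (A' := A') (q'Of K A1 B0 A' q) a' b' d1 d2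
  -- base change
  letI : Algebra (A' ⊗[K] B0) (A1 ⊗[K] B0) := (phi K A1 B0 A').toRingHom.toAlgebra
  haveI : IsScalarTower A' (A' ⊗[K] B0) (A1 ⊗[K] B0) :=
    IsScalarTower.of_algebraMap_eq (fun x => (phi_algebraMap K A1 B0 A' x).symm)
  haveI : IsScalarTower K (A' ⊗[K] B0) (A1 ⊗[K] B0) :=
    IsScalarTower.of_algebraMap_eq (fun x => ((phi K A1 B0 A').commutes x).symm)
  haveI : IsScalarTower B0 (A' ⊗[K] B0) (A1 ⊗[K] B0) :=
    IsScalarTower.of_algebraMap_eq (fun x => by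
      show (1 : A1) ⊗ₜ[K] x = phi K A1 B0 A' ((1 : A') ⊗ₜ[K] x)
      rw [phi_tmul]
      rfl)
  haveI hpo : Algebra.IsPushout A' A1 (A' ⊗[K] B0) (A1 ⊗[K] B0) :=
    (Algebra.IsPushout.comp_iff K A' B0 (A' ⊗[K] B0) (T := A1) (T' := A1 ⊗[K] B0)).1 inferInstance
  haveI : IsLocalization
      ((q.comap (algebraMap (A' ⊗[K] B0) (A1 ⊗[K] B0))).primeCompl)
      (Localization.AtPrime (q'Of K A1 B0 A' q)) :=
    inferInstanceAs (IsLocalization (q'Of K A1 B0 A' q).primeCompl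
      (Localization.AtPrime (q'Of K A1 B0 A' q)))
  obtain ⟨c1, c2⟩ := regAt_baseChange_aux (A' := A') (A1 := A1) (B' := A' ⊗[K] B0)
    (B := A1 ⊗[K] B0) (Localization.AtPrime (q'Of K A1 B0 A' q)) q _ _ n1 n2 n3 n4
  -- conclusion
  have hM : ∀ σ ∈ Algebra.algebraMapSubmonoid (A1 ⊗[K] B0) (q'Of K A1 B0 A' q).primeCompl,
      σ ∉ q := by
    rintro σ ⟨d, hd, rfl⟩ hmem
    exact hd hmem
  have hT : ∀ y' : A' ⊗[K] B0, algebraMap (A1 ⊗[K] B0)
      ((A1 ⊗[K] B0) ⊗[A' ⊗[K] B0] Localization.AtPrime (q'Of K A1 B0 A' q))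
      (phi K A1 B0 A' y') =
      (1 : A1 ⊗[K] B0) ⊗ₜ[A' ⊗[K] B0]
        algebraMap (A' ⊗[K] B0) (Localization.AtPrime (q'Of K A1 B0 A' q)) y' := by
    intro y'
    rw [Algebra.TensorProduct.algebraMap_apply, Algebra.algebraMap_self, RingHom.id_apply,
      Algebra.algebraMap_eq_smul_one (A := Localization.AtPrime (q'Of K A1 B0 A' q)),
      ← TensorProduct.smul_tmul, Algebra.smul_def, mul_one]
    rfl
  constructor
  · apply regAt_of_localization
      (Algebra.algebraMapSubmonoid (A1 ⊗[K] B0) (q'Of K A1 B0 A' q).primeCompl)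
      ((A1 ⊗[K] B0) ⊗[A' ⊗[K] B0] Localization.AtPrime (q'Of K A1 B0 A' q)) q hM
    intro r hr
    rw [Ideal.map_bot, Ideal.mem_bot] at hr ⊢
    rw [hT] at hr
    exact c1 r hr
  · apply regAt_of_localization
      (Algebra.algebraMapSubmonoid (A1 ⊗[K] B0) (q'Of K A1 B0 A' q).primeCompl)
      ((A1 ⊗[K] B0) ⊗[A' ⊗[K] B0] Localization.AtPrime (q'Of K A1 B0 A' q)) q hM
    intro r hr
    rw [Ideal.map_span, Set.image_singleton, hT] at hr ⊢
    rw [hT] at hr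
    exact c2 r hr

end Groth.Agent.Lib.Helper58.RegApprox
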