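import Mathlib
import Groth.Prelude.Def_EGA4b
import Groth.Agent.Lib.Helper58.RegApprox
import Groth.Agent.Lib.Helper64.HartogsRing

/-!
# Regular pairs: from the fibre local ring to the local ring (helper58)

`hasRegPair_of_fibre`: for `BW = A1 ⊗_K B0` (as a pushout), `q` a prime of `BW`: a regular pair in
the fibre local ring `FibLocRing A1 BW q` gives a regular pair in `BW_q`.
No Noetherian hypothesis on `A1`.
-/

set_option autoImplicit false
set_option linter.style.haveILetI false
universe u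

namespace Groth.Agent.Lib.Helper58.RegPairBridge

open TensorProduct IsLocalRing Groth.Agent.Lib.Helper58.RegAt Groth.Agent.Lib.Helper58.RegDescent
  Groth.Agent.Lib.Helper58.RegApprox Groth.Agent.Lib.Helper64.HartogsRing

section Depth

theorem two_le_depth_of_hasRegPair {R : Type u} [CommRing R] [IsLocalRing R] (h : HasRegPair R) :
    2 ≤ LocCoh.depth R R := by
  obtain ⟨a, ha, b, hb, h1, h2⟩ := h
  have hw : RingTheory.Sequence.IsWeaklyRegular R [a, b] := by
    rw [RingTheory.Sequence.isWeaklyRegular_cons_iff]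
    refine ⟨?_, ?_⟩
    · rw [isSMulRegular_iff_right_eq_zero_of_smul]
      exact h1
    · rw [RingTheory.Sequence.isWeaklyRegular_cons_iff]
      refine ⟨?_, RingTheory.Sequence.IsWeaklyRegular.nil _ _⟩
      rw [isSMulRegular_iff_right_eq_zero_of_smul]
      intro x hx
      obtain ⟨z, rfl⟩ := Submodule.Quotient.mk_surjective _ x
      rw [← Submodule.Quotient.mk_smul, Submodule.Quotient.mk_eq_zero,
        Submodule.mem_smul_pointwise_iff_exists] at hx
      obtain ⟨z2, -, hz2⟩ := hx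
      obtain ⟨z', hz'⟩ := h2 z z2 hz2.symm
      rw [Submodule.Quotient.mk_eq_zero, Submodule.mem_smul_pointwise_iff_exists]
      exact ⟨z', trivial, hz'.symm⟩
  unfold LocCoh.depth LocCoh.idealDepth
  split_ifs with htop
  · exact le_top
  · refine le_iSup₂_of_le [a, b] ⟨hw, ?_⟩ (by simp)
    intro r hr
    simp only [List.mem_cons, List.not_mem_nil, or_false] at hr
    rcases hr with rfl | rfl
    · exact ha
    · exact hb

end Depth

section Lift

variable {R Rbar : Type*} [CommRing R] [IsLocalRing R] [CommRing Rbar] [IsLocalRing Rbar]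

theorem lift_regPair (π : R →+* Rbar) (hπ : Function.Surjective π) (h : HasRegPair Rbar) :
    ∃ α ∈ maximalIdeal R, ∃ β ∈ maximalIdeal R,
      (∀ r, α * r ∈ RingHom.ker π → r ∈ RingHom.ker π) ∧
      (∀ r, β * r ∈ RingHom.ker π ⊔ Ideal.span {α} → r ∈ RingHom.ker π ⊔ Ideal.span {α}) := by
  obtain ⟨a, ha, b, hb, h1, h2⟩ := h
  obtain ⟨α, rfl⟩ := hπ a
  obtain ⟨β, rfl⟩ := hπ b
  have hmem : ∀ c : R, π c ∈ maximalIdeal Rbar → c ∈ maximalIdeal R := by
    intro c hc
    rw [mem_maximalIdeal, mem_nonunits_iff] at hc ⊢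
    intro hu
    exact hc (hu.map π)
  refine ⟨α, hmem α ha, β, hmem β hb, ?_, ?_⟩
  · intro r hr
    rw [RingHom.mem_ker, map_mul] at hr
    rw [RingHom.mem_ker]
    exact h1 _ hr
  · intro r hr
    obtain ⟨k, hk, w, hw, e⟩ := Submodule.mem_sup.1 hr
    obtain ⟨c, rfl⟩ := Ideal.mem_span_singleton'.1 hw
    have e2 : π β * π r = π α * π c := by
      rw [← map_mul, ← e, map_add, RingHom.mem_ker.1 hk, zero_add, map_mul, mul_comm]
    obtain ⟨z', hz'⟩ := h2 (π r) (π c) e2
    obtain ⟨z, rfl⟩ := hπ z'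
    have hker : r - α * z ∈ RingHom.ker π := by
      rw [RingHom.mem_ker, map_sub, map_mul, hz', smul_eq_mul, sub_self]
    have : r = (r - α * z) + z * α := by ring
    rw [this]
    exact Ideal.add_mem _ (Ideal.mem_sup_left hker)
      (Ideal.mem_sup_right (Ideal.mem_span_singleton'.2 ⟨z, rfl⟩))

end Lift

section Equiv

variable {B B2 : Type*} [CommRing B] [CommRing B2]

theorem comap_eq_map_symm (e : B ≃+* B2) (I : Ideal B2) :
    I.comap (e : B →+* B2) = I.map (e.symm : B2 →+* B) := by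
  apply le_antisymm
  · intro x hx
    rw [Ideal.mem_comap] at hx
    have := Ideal.mem_map_of_mem (e.symm : B2 →+* B) hx
    simpa using this
  · rw [Ideal.map_le_iff_le_comap]
    intro y hy
    simp only [Ideal.mem_comap, RingHom.coe_coe, RingEquiv.apply_symm_apply]
    exact hy

theorem RegAt.of_ringEquiv (e : B ≃+* B2) {q I : Ideal B} {y : B} (h : RegAt q I y) :
    RegAt (q.comap (e.symm : B2 →+* B)) (I.comap (e.symm : B2 →+* B)) (e y) := by
  intro r2 hr2
  obtain ⟨t2, ht2, h2⟩ := hr2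
  have h3 : InSat q I (y * e.symm r2) := by
    refine ⟨e.symm t2, ht2, ?_⟩
    have : e.symm (t2 * (e y * r2)) ∈ I := h2
    rwa [map_mul, map_mul, RingEquiv.symm_apply_apply] at this
  obtain ⟨t, ht, h4⟩ := h _ h3
  refine ⟨e t, ?_, ?_⟩
  · show e.symm (e t) ∉ q
    rwa [RingEquiv.symm_apply_apply]
  · show e.symm (e t * r2) ∈ I
    rwa [map_mul, RingEquiv.symm_apply_apply]

end Equiv

section Main

variable (K A1 B0 BW : Type u) [CommRing K] [CommRing A1] [CommRing B0] [CommRing BW]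
  [Algebra K A1] [Algebra K B0] [Algebra K BW] [Algebra A1 BW] [Algebra B0 BW]
  [IsScalarTower K A1 BW] [IsScalarTower K B0 BW] [Algebra.IsPushout K A1 B0 BW]
  [Algebra.FiniteType K B0] [IsNoetherianRing K] [Module.Flat K B0]

include K B0 in
/-- the core statement for a pushout `BW` (transfer from the literal tensor product) -/
theorem regAt_pair_of_fibre' (q : Ideal BW) [q.IsPrime] (a b : BW)
    (h1 : RegAt q ((q.comap (algebraMap A1 BW)).map (algebraMap A1 BW)) a)
    (h2 : RegAt q ((q.comap (algebraMap A1 BW)).map (algebraMap A1 BW) ⊔ Ideal.span {a}) b) :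
    RegAt q ⊥ a ∧ RegAt q (Ideal.span {a}) b := by
  let ε : A1 ⊗[K] B0 ≃ₐ[A1] BW := Algebra.IsPushout.equiv K A1 B0 BW
  let e : A1 ⊗[K] B0 ≃+* BW := ε.toRingEquiv
  set q0 : Ideal (A1 ⊗[K] B0) := q.comap (e : A1 ⊗[K] B0 →+* BW) with hq0
  haveI : q0.IsPrime := Ideal.comap_isPrime _ _
  have hp : pOf K A1 B0 q0 = q.comap (algebraMap A1 BW) := by
    ext x
    simp only [pOf, hq0, Ideal.mem_comap]
    have : (e : A1 ⊗[K] B0 →+* BW) (algebraMap A1 (A1 ⊗[K] B0) x) = algebraMap A1 BW x :=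
      ε.commutes x
    rw [this]
  have hcomapmap : ∀ I : Ideal BW, I.comap (e : A1 ⊗[K] B0 →+* BW) =
      I.map (e.symm : BW →+* A1 ⊗[K] B0) := fun I => comap_eq_map_symm e I
  have hpmap : ((q.comap (algebraMap A1 BW)).map (algebraMap A1 BW)).comap
      (e : A1 ⊗[K] B0 →+* BW) = (pOf K A1 B0 q0).map (algebraMap A1 (A1 ⊗[K] B0)) := by
    rw [hcomapmap, Ideal.map_map, hp]
    congr 1
    apply RingHom.ext
    intro x
    show e.symm (algebraMap A1 BW x) = _
    rw [RingEquiv.symm_apply_eq]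
    exact (ε.commutes x).symm
  have g1 := RegAt.of_ringEquiv e.symm h1
  have g2 := RegAt.of_ringEquiv e.symm h2
  rw [RingEquiv.symm_symm] at g1 g2
  rw [hpmap] at g1
  have hsup : ((q.comap (algebraMap A1 BW)).map (algebraMap A1 BW) ⊔ Ideal.span {a}).comap
      (e : A1 ⊗[K] B0 →+* BW) =
      (pOf K A1 B0 q0).map (algebraMap A1 (A1 ⊗[K] B0)) ⊔ Ideal.span {e.symm a} := by
    rw [hcomapmap, Ideal.map_sup, ← hcomapmap, hpmap, Ideal.map_span, Set.image_singleton]
    rfl
  rw [hsup] at g2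
  obtain ⟨c1, c2⟩ := regAt_pair_of_fibre K A1 B0 q0 (e.symm a) (e.symm b) g1 g2
  have d1 := RegAt.of_ringEquiv e c1
  have d2 := RegAt.of_ringEquiv e c2
  have hq : q0.comap (e.symm : BW →+* A1 ⊗[K] B0) = q := by
    rw [hq0, Ideal.comap_comap]
    have : (e : A1 ⊗[K] B0 →+* BW).comp (e.symm : BW →+* A1 ⊗[K] B0) = RingHom.id BW := by
      apply RingHom.ext
      intro x
      exact e.apply_symm_apply x
    rw [this, Ideal.comap_id]
  have hbot : (⊥ : Ideal (A1 ⊗[K] B0)).comap (e.symm : BW →+* A1 ⊗[K] B0) = ⊥ := by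
    rw [← RingHom.ker_eq_comap_bot]
    exact (RingHom.injective_iff_ker_eq_bot _).1 e.symm.injective
  have hspan : (Ideal.span {e.symm a}).comap (e.symm : BW →+* A1 ⊗[K] B0) = Ideal.span {a} := by
    have h' : (Ideal.span {e.symm a}).comap (e.symm : BW →+* A1 ⊗[K] B0) =
        (Ideal.span {e.symm a}).map (e : A1 ⊗[K] B0 →+* BW) := by
      have := comap_eq_map_symm e.symm (Ideal.span {e.symm a})
      rw [RingEquiv.symm_symm] at this
      exact this
    rw [h', Ideal.map_span, Set.image_singleton]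
    congr 2
    exact e.apply_symm_apply a
  rw [hq, hbot, RingEquiv.apply_symm_apply] at d1
  rw [hq, hspan, RingEquiv.apply_symm_apply] at d2
  exact ⟨d1, d2⟩

include K B0 in
theorem hasRegPair_of_fibre (q : Ideal BW) [q.IsPrime] (R : Type u) [CommRing R] [IsLocalRing R]
    [Algebra BW R] [IsLocalization.AtPrime R q] [IsLocalRing (EGA4.FibLocRing A1 BW q)]
    (h : HasRegPair (EGA4.FibLocRing A1 BW q)) : HasRegPair R := by
  set Rq := Localization.AtPrime q with hRq
  set J : Ideal Rq := (q.comap (algebraMap A1 BW)).map (algebraMap A1 Rq) with hJ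
  have hJ' : J = ((q.comap (algebraMap A1 BW)).map (algebraMap A1 BW)).map (algebraMap BW Rq) := by
    rw [hJ, Ideal.map_map, ← IsScalarTower.algebraMap_eq]
  obtain ⟨α, hα, β, hβ, l1, l2⟩ := lift_regPair (Ideal.Quotient.mk J) Ideal.Quotient.mk_surjective h
  rw [Ideal.mk_ker] at l1 l2
  -- numerators
  obtain ⟨⟨a, s⟩, ea⟩ := IsLocalization.surj q.primeCompl α
  obtain ⟨⟨b, t⟩, eb⟩ := IsLocalization.surj q.primeCompl β
  have hs : IsUnit (algebraMap BW Rq s) := IsLocalization.map_units Rq s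
  have ht : IsUnit (algebraMap BW Rq t) := IsLocalization.map_units Rq t
  obtain ⟨us, hus⟩ := hs
  obtain ⟨ut, hut⟩ := ht
  simp only at ea eb
  rw [← hus] at ea
  rw [← hut] at eb
  have haq : a ∈ q := by
    rw [← IsLocalization.AtPrime.to_map_mem_maximal_iff Rq q a, ← ea]
    exact Ideal.mul_mem_right _ _ hα
  have hbq : b ∈ q := by
    rw [← IsLocalization.AtPrime.to_map_mem_maximal_iff Rq q b, ← eb]
    exact Ideal.mul_mem_right _ _ hβ
  have hspan : Ideal.span {algebraMap BW Rq a} = Ideal.span {α} := by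
    rw [← ea]
    exact Ideal.span_singleton_mul_right_unit us.isUnit α
  have r1 : RegAt q ((q.comap (algebraMap A1 BW)).map (algebraMap A1 BW)) a := by
    rw [regAt_iff_localization q Rq, ← hJ', ← ea]
    intro r hr
    have : α * (↑us * r) ∈ J := by rwa [← mul_assoc]
    have h3 := l1 _ this
    have h4 := J.mul_mem_left (↑us⁻¹ : Rq) h3
    rwa [← mul_assoc, Units.inv_mul, one_mul] at h4
  have r2 : RegAt q ((q.comap (algebraMap A1 BW)).map (algebraMap A1 BW) ⊔ Ideal.span {a}) b := by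
    rw [regAt_iff_localization q Rq, Ideal.map_sup, ← hJ', Ideal.map_span, Set.image_singleton,
      hspan, ← eb]
    intro r hr
    have : β * (↑ut * r) ∈ J ⊔ Ideal.span {α} := by rwa [← mul_assoc]
    have h3 := l2 _ this
    have h4 := (J ⊔ Ideal.span {α}).mul_mem_left (↑ut⁻¹ : Rq) h3
    rwa [← mul_assoc, Units.inv_mul, one_mul] at h4
  obtain ⟨c1, c2⟩ := regAt_pair_of_fibre' K A1 B0 BW q a b r1 r2
  rw [regAt_iff_localization q R] at c1 c2
  rw [Ideal.map_bot] at c1
  rw [Ideal.map_span, Set.image_singleton] at c2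
  refine ⟨algebraMap BW R a, (IsLocalization.AtPrime.to_map_mem_maximal_iff R q a).2 haq,
    algebraMap BW R b, (IsLocalization.AtPrime.to_map_mem_maximal_iff R q b).2 hbq, ?_, ?_⟩
  · intro z hz
    have := c1 z (by rw [Ideal.mem_bot]; exact hz)
    rwa [Ideal.mem_bot] at this
  · intro z1 z2 hz
    have h5 : algebraMap BW R b * z1 ∈ Ideal.span {algebraMap BW R a} := by
      rw [Ideal.mem_span_singleton']
      exact ⟨z2, by rw [mul_comm]; exact hz.symm⟩
    obtain ⟨z', hz'⟩ := Ideal.mem_span_singleton'.1 (c2 z1 h5)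
    exact ⟨z', by rw [smul_eq_mul, mul_comm]; exact hz'.symm⟩

end Main

end Groth.Agent.Lib.Helper58.RegPairBridge
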