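import Mathlib
import Groth.Prelude.Def_CInt
import Groth.Agent.Lib.Helper58.RegPairBridge
import Groth.Agent.Lib.Helper58.NormalFam
import Groth.Agent.Lib.Helper64.HartogsRel
import Groth.Agent.Lib.Helper77.RegularCM

/-!
# Regular pairs in the local rings of `X ×_k S` (helper58)

`X` smooth over a field `k`, `S` any `k`-scheme: at a point `x` of `X ×_k S` whose fibre local ring
has dimension `≥ 2`, the local ring of `X ×_k S` has a regular pair (depth `≥ 2`).
-/

set_option autoImplicit false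
set_option linter.style.haveILetI false
universe u

open CategoryTheory CategoryTheory.Limits AlgebraicGeometry TopologicalSpace

namespace Groth.Agent.Lib.Helper58.RhoShBridge

open Groth.Agent.Lib.Helper64.HartogsRing Groth.Agent.Lib.Helper64
  Groth.Agent.Lib.Helper58.RegPairBridge Groth.Agent.Lib.Helper58.NormalFam

theorem flat_of_isField (K M : Type*) [CommRing K] (h : IsField K) [AddCommGroup M] [Module K M] :
    Module.Flat K M := by
  letI := h.toField
  infer_instance

theorem hasRegPair_of_regular {B : Type u} [CommRing B] [IsRegularLocalRing B]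
    (h : (2 : WithBot ℕ∞) ≤ ringKrullDim B) : HasRegPair B := by
  apply hasRegPair_of_two_le_depth
  have h1 := Groth.Agent.Lib.Helper77.RegularCM.depth_eq_dim B
  rw [← h1] at h
  have h2 : ((2 : ℕ∞) : WithBot ℕ∞) ≤ ((LocCoh.depth B B : ℕ∞) : WithBot ℕ∞) := h
  exact WithBot.coe_le_coe.1 h2

variable {k : Type u} [Field k] {X S : Scheme.{u}} (a : X ⟶ Spec (CommRingCat.of k))
  (b : S ⟶ Spec (CommRingCat.of k))

theorem hasRegPair_stalk_pullback [Smooth a] (x : ↥(pullback a b))
    (hx : (2 : WithBot ℕ∞) ≤ ringKrullDim ↑(CInt.fiberStalk (pullback.snd a b) x)) :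
    HasRegPair ((pullback a b).presheaf.stalk x) := by
  have H : IsPullback (pullback.fst a b) (pullback.snd a b) a b := IsPullback.of_hasPullback a b
  obtain ⟨V, hV, hsV, -⟩ := exists_isAffineOpen_mem_and_subset
    (x := (pullback.snd a b) x) (U := ⊤) trivial
  obtain ⟨X0, hX0, hxX0, -⟩ := exists_isAffineOpen_mem_and_subset
    (x := (pullback.fst a b) x) (U := ⊤) trivial
  have hUS : IsAffineOpen (⊤ : (Spec (CommRingCat.of k)).Opens) := isAffineOpen_top _
  have hUST : V ≤ b ⁻¹ᵁ (⊤ : (Spec (CommRingCat.of k)).Opens) := by simp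
  have hUSX : X0 ≤ a ⁻¹ᵁ (⊤ : (Spec (CommRingCat.of k)).Opens) := by simp
  set W : (pullback a b).Opens := (pullback.fst a b) ⁻¹ᵁ X0 ⊓ (pullback.snd a b) ⁻¹ᵁ V with hWdef
  have hW : IsAffineOpen W := by
    have : IsAffine _ := hUS
    have : IsAffine _ := hV
    have : IsAffine _ := hX0
    exact .of_isIso (Scheme.Hom.isPullback_resLE H hUST hUSX hWdef).isoPullback.hom
  have hxW : x ∈ W := ⟨hxX0, hsV⟩
  have hWV : W ≤ (pullback.snd a b) ⁻¹ᵁ V := inf_le_right
  have hWX : W ≤ (pullback.fst a b) ⁻¹ᵁ X0 := inf_le_left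
  have hpo := (isIso_pushoutSection_iff H hUST hUSX hWdef).mp
    (isIso_pushoutSection_of_isAffineOpen H hUST hUSX hWdef hUS hV hX0)
  obtain ⟨qP, hqP⟩ : ∃ qP : PrimeSpectrum Γ(pullback a b, W), hW.fromSpec qP = x :=
    ⟨hW.primeIdealOf ⟨x, hxW⟩, hW.fromSpec_primeIdealOf ⟨x, hxW⟩⟩
  subst hqP
  -- the fibre local ring
  haveI : Smooth (pullback.snd a b) := MorphismProperty.pullback_snd (P := @Smooth) _ _ inferInstance
  have hsm : Smooth ((pullback.snd a b).fiberToSpecResidueField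
      ((pullback.snd a b) (hW.fromSpec qP))) :=
    MorphismProperty.pullback_snd (P := @Smooth) _ _ inferInstance
  haveI := fibre_stalk_regular (pullback.snd a b) _ hsm
    ((pullback.snd a b).asFiber (hW.fromSpec qP))
  have hreg := hasRegPair_of_regular hx
  -- algebra structures
  letI : Algebra Γ(S, V) Γ(pullback a b, W) := ((pullback.snd a b).appLE V W hWV).hom.toAlgebra
  obtain ⟨efib⟩ := nonempty_fibLocRing_equiv (pullback.snd a b) hV hW hWV qP
  haveI : IsLocalRing (EGA4.FibLocRing Γ(S, V) Γ(pullback a b, W) qP.asIdeal) :=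
    efib.symm.isLocalRing
  have hfibreg : HasRegPair (EGA4.FibLocRing Γ(S, V) Γ(pullback a b, W) qP.asIdeal) :=
    HartogsRel.HasRegPair.of_ringEquiv efib.symm hreg
  letI : Algebra Γ(Spec (CommRingCat.of k), ⊤) Γ(S, V) := (b.appLE ⊤ V hUST).hom.toAlgebra
  letI : Algebra Γ(Spec (CommRingCat.of k), ⊤) Γ(X, X0) := (a.appLE ⊤ X0 hUSX).hom.toAlgebra
  letI : Algebra Γ(X, X0) Γ(pullback a b, W) := ((pullback.fst a b).appLE X0 W hWX).hom.toAlgebra
  letI : Algebra Γ(Spec (CommRingCat.of k), ⊤) Γ(pullback a b, W) :=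
    ((a.appLE ⊤ X0 hUSX) ≫ ((pullback.fst a b).appLE X0 W hWX)).hom.toAlgebra
  haveI : IsScalarTower Γ(Spec (CommRingCat.of k), ⊤) Γ(X, X0) Γ(pullback a b, W) :=
    IsScalarTower.of_algebraMap_eq (fun _ => rfl)
  haveI : IsScalarTower Γ(Spec (CommRingCat.of k), ⊤) Γ(S, V) Γ(pullback a b, W) :=
    IsScalarTower.of_algebraMap_eq (fun z => by
      have := congrArg (fun φ => φ.hom z) hpo.w
      exact this)
  have hpo' : Algebra.IsPushout Γ(Spec (CommRingCat.of k), ⊤) Γ(X, X0) Γ(S, V)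
      Γ(pullback a b, W) := CommRingCat.isPushout_iff_isPushout.1 hpo
  haveI : Algebra.IsPushout Γ(Spec (CommRingCat.of k), ⊤) Γ(S, V) Γ(X, X0)
      Γ(pullback a b, W) := hpo'.symm
  -- field facts
  have eK : Γ(Spec (CommRingCat.of k), ⊤) ≃+* k :=
    (Scheme.ΓSpecIso (CommRingCat.of k)).commRingCatIsoToRingEquiv
  have hKfield : IsField Γ(Spec (CommRingCat.of k), ⊤) :=
    eK.toMulEquiv.isField (Field.toIsField k)
  haveI : IsNoetherianRing Γ(Spec (CommRingCat.of k), ⊤) :=
    isNoetherianRing_of_ringEquiv k eK.symm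
  haveI : Module.Flat Γ(Spec (CommRingCat.of k), ⊤) Γ(X, X0) := flat_of_isField _ _ hKfield
  haveI : Algebra.FiniteType Γ(Spec (CommRingCat.of k), ⊤) Γ(X, X0) :=
    a.finiteType_appLE hUS hX0 hUSX
  -- the stalk as a localization
  have hy : hW.fromSpec qP ∈ W := hxW
  letI : Algebra Γ(pullback a b, W) ((pullback a b).presheaf.stalk (hW.fromSpec qP)) :=
    TopCat.Presheaf.algebra_section_stalk (pullback a b).presheaf ⟨hW.fromSpec qP, hy⟩
  haveI : IsLocalization.AtPrime ((pullback a b).presheaf.stalk (hW.fromSpec qP)) qP.asIdeal :=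
    hW.isLocalization_stalk' qP hy
  exact hasRegPair_of_fibre Γ(Spec (CommRingCat.of k), ⊤) Γ(S, V) Γ(X, X0) Γ(pullback a b, W)
    qP.asIdeal _ hfibreg

end Groth.Agent.Lib.Helper58.RhoShBridge
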