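import Mathlib
import Groth.Agent.Lib.Helper58.RhoShBridge
import Groth.Agent.Lib.Helper73.Sk.FibreStalkSquare
import Groth.Agent.Lib.Helper64.HartogsMod
import Groth.Agent.Lib.Helper64.RefS2
import Groth.Agent.Lib.Helper22.Syzygy
import Groth.Agent.Lib.Helper22.FibreFree
import Groth.Agent.Lib.Helper35.InvHom
import Groth.Agent.Lib.Helper15.DCohLocal
import Groth.Agent.Lib.Lead.CohAff4

set_option autoImplicit false
set_option linter.style.haveILetI false
universe u
open CategoryTheory CategoryTheory.Limits AlgebraicGeometry TopologicalSpace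

namespace Groth.Agent.Lib.Helper58.VBHart

open Groth.Agent.Lib.Helper64.HartogsRing Groth.Agent.Lib.Helper64.HartogsMod
open Groth.Agent.Lib.Helper64

variable {k : Type u} [Field k] {S X : Scheme.{u}} (b : S ⟶ Spec (CommRingCat.of k))
  (a : X ⟶ Spec (CommRingCat.of k))

/-- swapped-order version of `RhoShBridge.hasRegPair_stalk_pullback`. -/
theorem hasRegPair_stalk_pullback_swap [Smooth a] (x : ↥(pullback b a))
    (hx : (2 : WithBot ℕ∞) ≤ ringKrullDim ↑(CInt.fiberStalk (pullback.fst b a) x)) :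
    HasRegPair ((pullback b a).presheaf.stalk x) := by
  let σ : pullback b a ⟶ pullback a b := (pullbackSymmetry b a).hom
  have hsq : pullback.fst b a ≫ 𝟙 S = σ ≫ pullback.snd a b := by
    rw [Category.comp_id, pullbackSymmetry_hom_comp_snd]
  obtain ⟨e⟩ := Groth.Agent.Lib.Helper73.nonempty_fiberStalk_equiv_of_square σ (𝟙 S)
    (pullback.fst b a) (pullback.snd a b) hsq x
  have hx' : (2 : WithBot ℕ∞) ≤ ringKrullDim ↑(CInt.fiberStalk (pullback.snd a b) (σ x)) := by
    rw [← ringKrullDim_eq_of_ringEquiv e]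
    exact hx
  have h1 := RhoShBridge.hasRegPair_stalk_pullback a b (σ x) hx'
  exact HartogsRel.HasRegPair.of_ringEquiv
    (asIso (σ.stalkMap x)).commRingCatIsoToRingEquiv h1

section VB

open Scheme.Modules Groth.Agent.Lib.Helper35.AbSheaf Groth.Agent.Lib.Helper35.InvHom

variable {P : Scheme.{u}}

/-- Hartogs for finite locally free modules on a locally Noetherian scheme. -/
theorem bijective_res_of_isFinLocFree [IsLocallyNoetherian P] (E : P.Modules)
    (hE : FlatMod.IsFinLocFree E) (U : P.Opens)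
    (hreg : ∀ x : P, x ∉ U → HasRegPair (P.presheaf.stalk x)) (V : P.Opens) :
    Function.Bijective (E.presheaf.map (homOfLE (inf_le_left : V ⊓ U ≤ V)).op) := by
  haveI : E.IsQuasicoherent :=
    Groth.Agent.Lib.Helper22.Syzygy.isQuasicoherent_of_isFinLocFree E hE
  refine HartogsMod.bijective_res_inf E
    (fun V hV => Groth.Agent.Lib.Helper29.QCohLoc.LocAt.of_isQuasicoherent E hV) U ?_ V
  intro x hx
  obtain ⟨W, n, hxW, hiso⟩ := hE x
  haveI : Module.Free (P.presheaf.stalk x) (E.presheaf.stalk x) :=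
    Groth.Agent.Lib.Helper22.FibreFree.free_stalk_of_iso_freeMod E x hxW hiso
  haveI : Module.Finite (P.presheaf.stalk x) (E.presheaf.stalk x) :=
    Groth.Agent.Lib.Lead.CohAff.finite_stalk_of_isFiniteType E
      (Groth.Agent.Lib.Helper15.DCohLocal.isCoh_of_isFinLocFree E hE).2 x
  exact Groth.Agent.Lib.Helper64.RefS2.hasRegPairMod_of_isReflexive (hreg x hx)

theorem isIso_unit_of_isFinLocFree [IsLocallyNoetherian P] (E : P.Modules)
    (hE : FlatMod.IsFinLocFree E) (U : P.Opens)
    (hreg : ∀ x : P, x ∉ U → HasRegPair (P.presheaf.stalk x)) :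
    IsIso ((restrictAdjunction U.ι).unit.app E) := by
  rw [Hom.isIso_iff_isIso_app]
  intro V
  rw [restrictAdjunction_unit_app_app, ConcreteCategory.isIso_iff_bijective]
  have E' : U.ι ''ᵁ (U.ι ⁻¹ᵁ V) = V ⊓ U := by
    rw [Scheme.Hom.image_preimage_eq_opensRange_inf, Scheme.Opens.opensRange_ι, inf_comm]
  exact (res_bijective_congr E.presheaf rfl E' (U.ι.image_preimage_le V) inf_le_left).mpr
    (bijective_res_of_isFinLocFree E hE U hreg V)

end VB

end Groth.Agent.Lib.Helper58.VBHart
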