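import Mathlib
import Groth.Agent.Lib.Helper60.Ns1
import Groth.Agent.Lib.Helper64.DualInv1
import Groth.Agent.Lib.Helper58.DualHartogs
import Groth.Agent.Lib.Helper58.VBHart
import Groth.Prelude.Def_ExtPow2
import Groth.Agent.Lib.Helper40.AffBC1

/-!
# The determinant of a module locally free on a big open (helper58)

* `bijective_smul_ιMulti`: the top exterior power of a free module with an `h`-element basis is
  free of rank one on the wedge of the basis.
* `exists_frame`, `exists_isGen_extPow`: an `h`-th exterior power (`ExtPow.IsExtPow`) of a module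
  with a frame of length `h` over `W` has a free generator over every affine open below `W`.
* `secApp_bidualMap`, `bidualMap_gen`, `bijective_bidualMap_app`: the biduality map sends a free
  generator to the double dual generator.
* `isIso_restrict_bidualMap`: `F|_U` locally free of rank `h`, `L` an `h`-th exterior power of `F`
  ⇒ `(bidualMap L)|_U` is an isomorphism.
* `isIso_unit_ddual`: on a locally Noetherian scheme, if the stalks off `U` have a regular pair,
  the unit `L^** → j_* j^* L^**` is an isomorphism, for ANY module `L`.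
-/

set_option autoImplicit false
set_option linter.style.haveILetI false
universe u

open AlgebraicGeometry CategoryTheory Opposite TopologicalSpace

namespace Groth.Agent.Lib.Helper58.DetHart

/-- the top exterior power of a free module with an `h`-element basis is free of rank one on the
wedge of the basis -/
theorem bijective_smul_ιMulti {R M : Type*} [CommRing R] [AddCommGroup M] [Module R M] {h : ℕ}
    (v : Fin h → M)
    (hv : Function.Bijective (fun c : Fin h → R => ∑ i, c i • v i)) :
    Function.Bijective (fun r : R => r • exteriorPower.ιMulti R h v) := by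
  classical
  let L : (Fin h → R) →ₗ[R] M := Fintype.linearCombination R v
  have hL : Function.Bijective L := by
    convert hv using 1
    funext c
    exact Fintype.linearCombination_apply R v c
  let b : Module.Basis (Fin h) R M := Module.Basis.ofEquivFun (LinearEquiv.ofBijective L hL).symm
  have hb : ∀ i, b i = v i := by
    intro i
    rw [Module.Basis.coe_ofEquivFun, LinearEquiv.symm_symm]
    change Fintype.linearCombination R v _ = v i
    rw [Fintype.linearCombination_apply]
    simp [Pi.single_apply]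
  let B := b.exteriorPower h
  let s₀ : Set.powersetCard (Fin h) h := Set.powersetCard.ofFinEmbEquiv (RelEmbedding.refl _)
  have hs₀ : B s₀ = exteriorPower.ιMulti R h v := by
    rw [exteriorPower.basis_apply]
    unfold exteriorPower.ιMulti_family
    rw [Equiv.symm_apply_apply]
    congr 1
    funext i
    exact hb i
  have huniq : ∀ s : Set.powersetCard (Fin h) h, s = s₀ := by
    intro s
    apply Subtype.ext
    have h1 : s.val = Finset.univ := Finset.eq_univ_of_card _ (by rw [s.prop, Fintype.card_fin])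
    have h2 : s₀.val = Finset.univ := Finset.eq_univ_of_card _ (by rw [s₀.prop, Fintype.card_fin])
    rw [h1, h2]
  haveI : Unique (Set.powersetCard (Fin h) h) := ⟨⟨s₀⟩, huniq⟩
  rw [← hs₀]
  constructor
  · intro r r' hrr
    have := congrArg (fun x => B.repr x s₀) hrr
    simpa using this
  · intro n
    refine ⟨B.repr n s₀, ?_⟩
    have := B.sum_repr n
    rw [Fintype.sum_unique] at this
    have hd : (default : Set.powersetCard (Fin h) h) = s₀ := huniq _
    rw [hd] at this
    exact this


open Groth.Agent.Lib.Lead.QCohAff Groth.Agent.Lib.Lead.SheafGlue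
open Groth.Agent.Lib.Helper64.HomSh Groth.Agent.Lib.Helper40.HomColim
open Groth.Agent.Lib.Helper60.FrameLib Groth.Agent.Lib.Helper60.NonSimple
open Groth.Agent.Lib.Helper35.Gen
open Groth.Agent.Lib.Lead.Inv

set_option backward.isDefEq.respectTransparency.types false

variable {X : Scheme.{u}}

theorem exists_frame (F : X.Modules) (U : X.Opens) (h : ℕ)
    (hFU : FlatMod.IsFinLocFreeOfRank h (F.restrict U.ι)) (x : X) (hx : x ∈ U) :
    ∃ W : X.Opens, W ≤ U ∧ x ∈ W ∧ ∃ e : Fin h → Γ(F, W), IsFrame F W e := by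
  obtain ⟨U', hxU', e, he⟩ := exists_local_frame (F.restrict U.ι) hFU ⟨x, hx⟩
  have h3 := isFrame_of_restrict F U.ι U' e he
  refine ⟨U.ι ''ᵁ U', ?_, ⟨⟨x, hx⟩, hxU', rfl⟩, _, h3⟩
  have := Scheme.Hom.image_le_opensRange U.ι U'
  rwa [Scheme.Opens.opensRange_ι] at this

/-- on affine opens below a frame, the wedge of the frame generates the exterior power -/
theorem bijective_smul_wedge (F L : X.Modules) (h : ℕ)
    (φ : ∀ U : X.affineOpens, (L.val.obj (op U.1)) ≃ₗ[Γ(X, U.1)]
      ↥(⋀[Γ(X, U.1)]^h (F.val.obj (op U.1))))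
    {W : X.Opens} (e : Fin h → Γ(F, W)) (he : IsFrame F W e) (W' : X.affineOpens)
    (hW' : W'.1 ≤ W) :
    Function.Bijective (fun r : Γ(X, W'.1) =>
      r • ((φ W').symm (exteriorPower.ιMulti _ h
        (fun i => (F.presheaf.map (homOfLE hW').op (e i) : F.val.obj (op W'.1)))) : Γ(L, W'.1))) := by
  have h1 := bijective_smul_ιMulti (R := Γ(X, W'.1)) (M := F.val.obj (op W'.1))
    (fun i => (F.presheaf.map (homOfLE hW').op (e i) : F.val.obj (op W'.1))) (he W'.1 hW')
  have h2 : (fun r : Γ(X, W'.1) =>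
      r • ((φ W').symm (exteriorPower.ιMulti _ h
        (fun i => (F.presheaf.map (homOfLE hW').op (e i) : F.val.obj (op W'.1)))) : Γ(L, W'.1))) =
      (φ W').symm ∘ (fun r : Γ(X, W'.1) => r • exteriorPower.ιMulti _ h
        (fun i => (F.presheaf.map (homOfLE hW').op (e i) : F.val.obj (op W'.1)))) := by
    funext r
    exact ((φ W').symm.map_smul r _).symm
  rw [h2]
  exact (φ W').symm.bijective.comp h1


open Groth.Agent.Lib.Helper64.StalkGen in
/-- the exterior power of a module with a frame over `W` has a generator over every affine open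
below `W` -/
theorem exists_isGen_extPow (F L : X.Modules) (h : ℕ) (hL : ExtPow.IsExtPow h F L)
    {W : X.Opens} (e : Fin h → Γ(F, W)) (he : IsFrame F W e) (W₀ : X.Opens)
    (hW₀ : IsAffineOpen W₀) (hW₀W : W₀ ≤ W) :
    ∃ ℓ : Γ(L, W₀), Lead.Inv.IsGen L W₀ ℓ := by
  obtain ⟨φ, hφ⟩ := hL
  let A₀ : X.affineOpens := ⟨W₀, hW₀⟩
  let ℓ : Γ(L, W₀) := (φ A₀).symm (exteriorPower.ιMulti _ h
    (fun i => (F.presheaf.map (homOfLE hW₀W).op (e i) : F.val.obj (op W₀))))
  -- restriction to smaller affine opens
  have hres : ∀ (W' : X.affineOpens) (hW' : W'.1 ≤ W₀),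
      L.presheaf.map (homOfLE hW').op ℓ = ((φ W').symm (exteriorPower.ιMulti _ h
        (fun i => (F.presheaf.map (homOfLE (hW'.trans hW₀W)).op (e i) : F.val.obj (op W'.1)))) :
          Γ(L, W'.1)) := by
    intro W' hW'
    have h1 := hφ A₀ W' hW' (fun i => (F.presheaf.map (homOfLE hW₀W).op (e i) : F.val.obj (op W₀)))
    refine h1.trans ?_
    congr 2
    funext i
    exact res_res F hW₀W hW' (e i)
  have hbij : ∀ (W' : X.affineOpens) (hW' : W'.1 ≤ W₀),
      Function.Bijective (fun r : Γ(X, W'.1) => r • L.presheaf.map (homOfLE hW').op ℓ) := by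
    intro W' hW'
    rw [hres W' hW']
    exact bijective_smul_wedge F L h φ e he W' (hW'.trans hW₀W)
  -- affine neighbourhoods
  have hnb : ∀ (y : X) (Wy : X.Opens), y ∈ Wy → ∃ W' : X.affineOpens, y ∈ W'.1 ∧ W'.1 ≤ Wy := by
    intro y Wy hy
    obtain ⟨W', hW'aff, hyW', hW'⟩ := Opens.isBasis_iff_nbhd.mp X.isBasis_affineOpens hy
    exact ⟨⟨W', hW'aff⟩, hyW', hW'⟩
  refine ⟨ℓ, isGen_of_stalk L ℓ ?_⟩
  intro y hy
  constructor
  · intro a a' haa
    obtain ⟨W₁, h₁, r, rfl⟩ := TopCat.Presheaf.exists_germ_eq X.presheaf a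
    obtain ⟨W₂, h₂, r', rfl⟩ := TopCat.Presheaf.exists_germ_eq X.presheaf a'
    obtain ⟨W', hyW', hW'⟩ := hnb y (W₁ ⊓ W₂ ⊓ W₀) ⟨⟨h₁, h₂⟩, hy⟩
    have hW'1 : W'.1 ≤ W₁ := hW'.trans (inf_le_left.trans inf_le_left)
    have hW'2 : W'.1 ≤ W₂ := hW'.trans (inf_le_left.trans inf_le_right)
    have hW'0 : W'.1 ≤ W₀ := hW'.trans inf_le_right
    simp only at haa
    rw [← germX_res hW'1 y hyW' r, ← germX_res hW'2 y hyW' r', ← germ_res L hW'0 y hyW' ℓ,
      ← germ_smul, ← germ_smul] at haa
    obtain ⟨W'', hyW'', i₁, i₂, heq⟩ := TopCat.Presheaf.germ_eq L.presheaf y hyW' hyW' _ _ haa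
    obtain ⟨W₃, hyW₃, hW₃⟩ := hnb y W'' hyW''
    have hW₃' : W₃.1 ≤ W'.1 := hW₃.trans (leOfHom i₁)
    have e₁ : i₁ = homOfLE (leOfHom i₁) := Subsingleton.elim _ _
    have e₂ : i₂ = homOfLE (leOfHom i₁) := Subsingleton.elim _ _
    rw [e₁, e₂] at heq
    have heq' := congrArg (L.presheaf.map (homOfLE hW₃).op) heq
    rw [res_res, res_res, res_smul, res_smul, res_res] at heq'
    have h3 := (hbij W₃ (hW₃'.trans hW'0)).1 heq'
    calc X.presheaf.germ W₁ y h₁ r
        = X.presheaf.germ W₃.1 y hyW₃ (X.presheaf.map (homOfLE hW₃').op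
            (X.presheaf.map (homOfLE hW'1).op r)) := by rw [germX_res, germX_res]
      _ = X.presheaf.germ W₃.1 y hyW₃ (X.presheaf.map (homOfLE hW₃').op
            (X.presheaf.map (homOfLE hW'2).op r')) := by rw [h3]
      _ = X.presheaf.germ W₂ y h₂ r' := by rw [germX_res, germX_res]
  · intro v
    obtain ⟨W₁, h₁, m, rfl⟩ := TopCat.Presheaf.exists_germ_eq L.presheaf v
    obtain ⟨W', hyW', hW'⟩ := hnb y (W₁ ⊓ W₀) ⟨h₁, hy⟩
    have hW'1 : W'.1 ≤ W₁ := hW'.trans inf_le_left
    have hW'0 : W'.1 ≤ W₀ := hW'.trans inf_le_right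
    obtain ⟨r, hr⟩ := (hbij W' hW'0).2 (L.presheaf.map (homOfLE hW'1).op m)
    refine ⟨X.presheaf.germ W'.1 y hyW' r, ?_⟩
    simp only at hr ⊢
    rw [← germ_res L hW'0 y hyW' ℓ, ← germ_smul, hr, germ_res]


open Groth.Agent.Lib.Helper64.DualInv

/-- the action of `bidualMap L s` on a linear form is evaluation at `s` -/
theorem secApp_bidualMap (L : X.Modules) {W V : X.Opens} (hV : V ≤ W) (s : Γ(L, W))
    (θ : Γ(RefHull.dual L, V)) :
    secApp (F := RefHull.dual L) (G := Coh.structureModule X) ((RefHull.bidualMap L).app W s) hV θ =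
      secApp (F := L) (G := Coh.structureModule X) θ le_rfl (L.presheaf.map (homOfLE hV).op s) := by
  apply sec_ext
  intro y hy
  rw [germ_secApp, germ_secApp, RefHull.bidualMap_app_apply, RefHull.bidualAt_apply,
    RefHull.evalStalk_germ, germ_res]

/-- the biduality map sends a generator to the double dual generator -/
theorem bidualMap_gen (L : X.Modules) {W₀ : X.Opens} {ℓ : Γ(L, W₀)} (he : Lead.Inv.IsGen L W₀ ℓ) :
    (RefHull.bidualMap L).app W₀ ℓ = dualGen (isGen_dualGen he) := by
  apply hom_ext_of_span (F := RefHull.dual L) (G := Coh.structureModule X)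
    (fun _ : Unit => dualGen he)
  · intro y hy
    exact span_germ_of_isGen (isGen_dualGen he) y hy
  · intro _
    rw [secApp_bidualMap, secApp_dualGen]
    have h1 := secApp_dualGen he
    rw [res_self]
    exact h1

/-- the biduality map is bijective on sections over opens below an open with a generator -/
theorem bijective_bidualMap_app (L : X.Modules) {W₀ : X.Opens} {ℓ : Γ(L, W₀)}
    (he : Lead.Inv.IsGen L W₀ ℓ) (W' : X.Opens) (hW' : W' ≤ W₀) :
    Function.Bijective ((RefHull.bidualMap L).app W') := by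
  have h1 := he W' hW'
  have h2 := isGen_dualGen (isGen_dualGen he) W' hW'
  have key : (fun r : Γ(X, W') => r • (RefHull.ddual L).presheaf.map (homOfLE hW').op
        (dualGen (isGen_dualGen he))) =
      ((RefHull.bidualMap L).app W') ∘ (fun r : Γ(X, W') => r • L.presheaf.map (homOfLE hW').op ℓ) := by
    funext r
    change _ = (RefHull.bidualMap L).app W' (r • L.presheaf.map (homOfLE hW').op ℓ)
    rw [Scheme.Modules.Hom.app_smul, ← bidualMap_gen L he]
    congr 1
    exact (Groth.Agent.Lib.Helper60.ProjUPLib.hom_rs (RefHull.bidualMap L) hW' ℓ).symm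
  rw [key] at h2
  exact (Function.Bijective.of_comp_iff _ h1).mp h2


/-- **local freeness of the top exterior power**: over an open where `F` is locally free of rank
`h`, the biduality map of an `h`-th exterior power of `F` is an isomorphism. -/
theorem isIso_restrict_bidualMap (F L : X.Modules) (h : ℕ) (hL : ExtPow.IsExtPow h F L)
    (U : X.Opens) (hFU : FlatMod.IsFinLocFreeOfRank h (F.restrict U.ι)) :
    IsIso ((Scheme.Modules.restrictFunctor U.ι).map (RefHull.bidualMap L)) := by
  apply Groth.Agent.Lib.Helper40.AffBC.isIso_of_app_bijective_of_basis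
    {V' : (U : Scheme.{u}).Opens | ∃ (W₀ : X.Opens) (ℓ : Γ(L, W₀)),
      Lead.Inv.IsGen L W₀ ℓ ∧ U.ι ''ᵁ V' ≤ W₀}
  · rw [Opens.isBasis_iff_nbhd]
    intro V'' x hxV''
    obtain ⟨W, hWU, hxW, e, he⟩ := exists_frame F U h hFU x.1 x.2
    obtain ⟨W₀, hW₀aff, hxW₀, hW₀W⟩ := Opens.isBasis_iff_nbhd.mp X.isBasis_affineOpens hxW
    obtain ⟨ℓ, hℓ⟩ := exists_isGen_extPow F L h hL e he W₀ hW₀aff hW₀W
    refine ⟨V'' ⊓ U.ι ⁻¹ᵁ W₀, ⟨W₀, ℓ, hℓ, ?_⟩, ⟨hxV'', hxW₀⟩, inf_le_left⟩
    exact (Scheme.Hom.image_mono U.ι inf_le_right).trans (U.ι.image_preimage_le W₀)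
  · rintro V' ⟨W₀, ℓ, hℓ, hle⟩
    exact bijective_bidualMap_app L hℓ (U.ι ''ᵁ V') hle


open Scheme.Modules Groth.Agent.Lib.Helper35.InvHom Groth.Agent.Lib.Helper64.HartogsRing in
/-- **Hartogs for double duals**: on a locally Noetherian scheme `P`, if the local rings at the
points outside `U` have a regular pair, then `L^** → j_* j^* L^**` is an isomorphism for every
module `L`. -/
theorem isIso_unit_ddual {P : Scheme.{u}} [IsLocallyNoetherian P] (L : P.Modules) (U : P.Opens)
    (hreg : ∀ x : P, x ∉ U → HasRegPair (P.presheaf.stalk x)) :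
    IsIso ((restrictAdjunction U.ι).unit.app (RefHull.ddual L)) := by
  have hO : FlatMod.IsFinLocFree (Coh.structureModule P) := by
    intro x
    refine ⟨⊤, 1, trivial, ⟨?_⟩⟩
    exact (Scheme.Modules.restrictUnitIso _) ≪≫
      (Limits.coproductUniqueIso (fun _ : Fin 1 => Coh.structureModule _)).symm
  rw [Hom.isIso_iff_isIso_app]
  intro V
  rw [restrictAdjunction_unit_app_app, ConcreteCategory.isIso_iff_bijective]
  have E' : U.ι ''ᵁ (U.ι ⁻¹ᵁ V) = V ⊓ U := by
    rw [Scheme.Hom.image_preimage_eq_opensRange_inf, Scheme.Opens.opensRange_ι, inf_comm]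
  exact (res_bijective_congr (RefHull.ddual L).presheaf rfl E' (U.ι.image_preimage_le V)
    inf_le_left).mpr
    (DualHartogs.bijective_res_homSh U
      (fun W => VBHart.bijective_res_of_isFinLocFree (Coh.structureModule P) hO U hreg W) V)

end Groth.Agent.Lib.Helper58.DetHart
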