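import Mathlib
import Groth.Agent.Lib.Lead.QCohCrit
import Groth.Agent.Lib.Helper64.HomSh4
import Groth.Agent.Lib.Helper64.FinTypeStalk
import Groth.Agent.Lib.Helper29.QCohStalkExact

/-!
# A finite type submodule of a quasi-coherent module is quasi-coherent (helper58)

* `isQuasicoherent_of_mono`: `ι : F ⟶ A` mono, `A` quasi-coherent, `F` of finite type ⇒ `F`
  quasi-coherent (no Noetherian hypothesis).
-/

set_option autoImplicit false
set_option linter.style.haveILetI false
universe u

open AlgebraicGeometry CategoryTheory Opposite TopologicalSpace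

namespace Groth.Agent.Lib.Helper58.SubQCoh

open Groth.Agent.Lib.Lead.QCohAff Groth.Agent.Lib.Lead.SheafGlue Groth.Agent.Lib.Lead.QCohCrit
open Groth.Agent.Lib.Helper64.FinTypeStalk
open Groth.Agent.Lib.Helper64.HomSh

set_option backward.isDefEq.respectTransparency.types false

variable {X : Scheme.{u}} {F A : X.Modules}

theorem mem_inf' {x : X} {W W' : X.Opens} (h : x ∈ W) (h' : x ∈ W') : x ∈ W ⊓ W' := ⟨h, h'⟩

theorem res_sum (F : X.Modules) {U V : X.Opens} (h : V ≤ U) {n : ℕ} (m : Fin n → Γ(F, U)) :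
    F.presheaf.map (homOfLE h).op (∑ i, m i) = ∑ i, F.presheaf.map (homOfLE h).op (m i) :=
  map_sum (F.presheaf.map (homOfLE h).op).hom m Finset.univ

/-- spreading out a stalk relation `t_y = Σ c_i (s_i)_y` -/
theorem exists_nhd_eq_sum (F : X.Modules) {V : X.Opens} {n : ℕ} (s : Fin n → Γ(F, V))
    {D : X.Opens} (hD : D ≤ V) (t : Γ(F, D)) (y : X) (hy : y ∈ D)
    (hspan : F.presheaf.germ D y hy t ∈ Submodule.span (X.presheaf.stalk y)
      (Set.range fun i => F.presheaf.germ V y (hD hy) (s i))) :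
    ∃ (W : X.Opens) (hW : W ≤ D) (_ : y ∈ W) (c : Fin n → Γ(X, W)),
      F.presheaf.map (homOfLE hW).op t =
        ∑ i, c i • F.presheaf.map (homOfLE (hW.trans hD)).op (s i) := by
  obtain ⟨c, hc⟩ := (Submodule.mem_span_range_iff_exists_fun _).1 hspan
  choose Wc hyWc r hr using fun i => TopCat.Presheaf.exists_germ_eq X.presheaf (c i)
  obtain ⟨W₀, hyW₀, hW₀D, hW₀c⟩ := exists_common_nhd y Wc hyWc D hy
  have h1 : F.presheaf.germ W₀ y hyW₀ (F.presheaf.map (homOfLE hW₀D).op t) =
      F.presheaf.germ W₀ y hyW₀ (∑ i, X.presheaf.map (homOfLE (hW₀c i)).op (r i) •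
        F.presheaf.map (homOfLE (hW₀D.trans hD)).op (s i)) := by
    rw [germ_res, ← hc, map_sum]
    apply Finset.sum_congr rfl
    intro i _
    rw [germ_smul, germX_res, germ_res, hr i]
  obtain ⟨W, hyW, i₁, i₂, heq⟩ := TopCat.Presheaf.germ_eq F.presheaf y hyW₀ hyW₀ _ _ h1
  have e₁ : i₁ = homOfLE (leOfHom i₁) := Subsingleton.elim _ _
  have e₂ : i₂ = homOfLE (leOfHom i₁) := Subsingleton.elim _ _
  rw [e₁, e₂, res_res, res_sum] at heq
  refine ⟨W, (leOfHom i₁).trans hW₀D, hyW,
    fun i => X.presheaf.map (homOfLE ((leOfHom i₁).trans (hW₀c i))).op (r i), ?_⟩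
  rw [heq]
  apply Finset.sum_congr rfl
  intro i _
  rw [res_smul, res_res, res_resX]

/-- sections of a submodule of a quasi-coherent module vanishing on `D(f)` are killed by a power
of `f` -/
theorem exists_pow_smul_eq_zero_of_mono (ι : F ⟶ A) [Mono ι] [A.IsQuasicoherent] {V : X.Opens}
    (hV : IsAffineOpen V) (f : Γ(X, V)) (σ : Γ(F, V))
    (hσ : F.presheaf.map (homOfLE (X.basicOpen_le f)).op σ = 0) : ∃ k : ℕ, f ^ k • σ = 0 := by
  obtain ⟨k, hk⟩ := (LocOn.of_isQuasicoherent A hV).1 f (ι.app V σ) (by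
    rw [← Groth.Agent.Lib.Helper29.QCohLoc.app_res, hσ, map_zero])
  refine ⟨k, Groth.Agent.Lib.Helper29.QCohLoc.app_injective_of_mono ι V ?_⟩
  rw [Scheme.Modules.Hom.app_smul, hk, map_zero]

/-- a submodule of a quasi-coherent module which is generated (stalkwise) over an affine open `V`
by finitely many sections is localizing on `V` -/
theorem locOn_of_mono (ι : F ⟶ A) [Mono ι] [A.IsQuasicoherent] {V : X.Opens}
    (hV : IsAffineOpen V) {n : ℕ} (s : Fin n → Γ(F, V))
    (hs : ∀ (y : X) (hy : y ∈ V), Submodule.span (X.presheaf.stalk y)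
      (Set.range fun i => F.presheaf.germ V y hy (s i)) = ⊤) : LocOn F V := by
  haveI hO : (Coh.structureModule X).IsQuasicoherent :=
    Groth.Agent.Lib.Helper22.IsoLocus.structureModule_isQuasicoherent X
  refine ⟨fun f σ hσ => exists_pow_smul_eq_zero_of_mono ι hV f σ hσ, fun f t => ?_⟩
  let D : X.Opens := X.basicOpen f
  have hD : IsAffineOpen D := hV.basicOpen f
  have hDV : D ≤ V := X.basicOpen_le f
  -- the submodule generated by the `ι (s i)` over `D`
  let sD : Fin n → Γ(F, D) := fun i => F.presheaf.map (homOfLE hDV).op (s i)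
  let N' : Submodule Γ(X, D) Γ(A, D) := Submodule.span Γ(X, D) (Set.range fun i => ι.app D (sD i))
  let m' : Γ(A, D) := ι.app D t
  let J : Ideal Γ(X, D) := N'.comap (LinearMap.toSpanSingleton Γ(X, D) Γ(A, D) m')
  have hJ : ∀ r : Γ(X, D), r ∈ J ↔ r • m' ∈ N' := fun r => by
    change LinearMap.toSpanSingleton Γ(X, D) Γ(A, D) m' r ∈ N' ↔ _
    rw [LinearMap.toSpanSingleton_apply]
  have hJtop : J = ⊤ := by
    rw [← Ideal.span_eq J, ← hD.self_le_iSup_basicOpen_iff]
    intro y hy
    obtain ⟨W, hWD, hyW, c, hc⟩ := exists_nhd_eq_sum F s hDV t y hy (by rw [hs y (hDV hy)]; trivial)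
    obtain ⟨g, hgW, hyg⟩ := hD.exists_basicOpen_le ⟨y, hyW⟩ hy
    let G : X.Opens := X.basicOpen g
    have hGD : G ≤ D := X.basicOpen_le g
    obtain ⟨N, a, ha⟩ := LocOn.exists_res_eq_pow_smul_fin
      (LocOn.of_isQuasicoherent (Coh.structureModule X) hD) g
      (fun i => (show Γ(Coh.structureModule X, X.basicOpen g) from
        X.presheaf.map (homOfLE hgW).op (c i)))
    -- `a i` as functions
    let a' : Fin n → Γ(X, D) := fun i => (show Γ(X, D) from a i)
    have ha' : ∀ i, X.presheaf.map (homOfLE hGD).op (a' i) =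
        (X.presheaf.map (homOfLE hGD).op g) ^ N * X.presheaf.map (homOfLE hgW).op (c i) :=
      fun i => ha i
    let τ : Γ(F, D) := g ^ N • t - ∑ i, a' i • sD i
    have hτ : F.presheaf.map (homOfLE hGD).op τ = 0 := by
      have h1 := congrArg (F.presheaf.map (homOfLE hgW).op) hc
      rw [res_res, res_sum] at h1
      change F.presheaf.map (homOfLE hGD).op (g ^ N • t - ∑ i, a' i • sD i) = 0
      rw [map_sub, res_smul, res_sum, map_pow, h1, Finset.smul_sum, sub_eq_zero]
      apply Finset.sum_congr rfl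
      intro i _
      rw [res_smul, res_smul, res_res, res_res, ha' i, mul_smul]
    obtain ⟨l, hl⟩ := exists_pow_smul_eq_zero_of_mono ι hD g τ hτ
    have hmem : g ^ (l + N + 1) ∈ J := by
      rw [hJ]
      have h2 : g ^ l • (g ^ N • t) = ∑ i, (g ^ l * a' i) • sD i := by
        have h3 : g ^ l • τ = 0 := hl
        change g ^ l • (g ^ N • t - ∑ i, a' i • sD i) = 0 at h3
        rw [smul_sub, sub_eq_zero, Finset.smul_sum] at h3
        rw [h3]
        apply Finset.sum_congr rfl
        intro i _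
        rw [mul_smul]
      have h4 : g ^ (l + N + 1) • m' = ∑ i, (g * (g ^ l * a' i)) • ι.app D (sD i) := by
        change g ^ (l + N + 1) • ι.app D t = _
        rw [← Scheme.Modules.Hom.app_smul, pow_succ', pow_add, mul_smul, mul_smul, h2,
          Finset.smul_sum, map_sum]
        apply Finset.sum_congr rfl
        intro i _
        rw [← mul_smul, Scheme.Modules.Hom.app_smul]
      rw [h4]
      exact Submodule.sum_mem _ fun i _ =>
        Submodule.smul_mem _ _ (Submodule.subset_span ⟨i, rfl⟩)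
    rw [Opens.mem_iSup]
    refine ⟨⟨g ^ (l + N + 1), hmem⟩, ?_⟩
    change y ∈ X.basicOpen (g ^ (l + N + 1))
    rw [Scheme.basicOpen_pow _ _ (Nat.succ_pos _)]
    exact hyg
  have hm' : m' ∈ N' := by
    have h1 : (1 : Γ(X, D)) ∈ J := by rw [hJtop]; trivial
    rw [hJ, one_smul] at h1
    exact h1
  obtain ⟨b, hb⟩ := (Submodule.mem_span_range_iff_exists_fun _).1 hm'
  have ht : t = ∑ i, b i • sD i := by
    apply Groth.Agent.Lib.Helper29.QCohLoc.app_injective_of_mono ι D
    change m' = _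
    rw [← hb, map_sum]
    apply Finset.sum_congr rfl
    intro i _
    rw [Scheme.Modules.Hom.app_smul]
  obtain ⟨N, a, ha⟩ := LocOn.exists_res_eq_pow_smul_fin
    (LocOn.of_isQuasicoherent (Coh.structureModule X) hV) f
    (fun i => (show Γ(Coh.structureModule X, X.basicOpen f) from b i))
  let a' : Fin n → Γ(X, V) := fun i => (show Γ(X, V) from a i)
  have ha' : ∀ i, X.presheaf.map (homOfLE hDV).op (a' i) =
      (X.presheaf.map (homOfLE hDV).op f) ^ N * b i := fun i => ha i
  refine ⟨N, ∑ i, a' i • s i, ?_⟩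
  change F.presheaf.map (homOfLE hDV).op (∑ i, a' i • s i) = _
  rw [res_sum, ht, Finset.smul_sum]
  apply Finset.sum_congr rfl
  intro i _
  rw [res_smul, ha' i, mul_smul]

/-- **a finite type submodule of a quasi-coherent module is quasi-coherent** -/
theorem isQuasicoherent_of_mono (ι : F ⟶ A) [Mono ι] [A.IsQuasicoherent]
    (hF : SheafOfModules.IsFiniteType (R := X.ringCatSheaf) F) : F.IsQuasicoherent := by
  apply isQuasicoherent_of_locOn
  intro x
  obtain ⟨U, hxU, n, s, hs⟩ := exists_local_generators F hF x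
  obtain ⟨V, hV, hxV, hVU⟩ := Opens.isBasis_iff_nbhd.mp X.isBasis_affineOpens hxU
  refine ⟨V, hV, hxV, locOn_of_mono ι hV (fun i => F.presheaf.map (homOfLE hVU).op (s i)) ?_⟩
  intro y hy
  exact span_res hVU s hs y hy

end Groth.Agent.Lib.Helper58.SubQCoh
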