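import Mathlib
import Groth.Agent.Lib.Helper58.SubQCoh
import Groth.Agent.Lib.Helper58.DetHart
import Groth.Agent.Lib.Helper64.NormalS2
import Groth.Agent.Lib.Lead.CohAff4

/-!
# The double dual of a finite type submodule of a flat quasi-coherent module on a normal scheme
(helper58)

* `isIso_restrict_of_stalk_bijective`: a morphism of modules whose stalk maps are bijective at the
  points of `U` restricts to an isomorphism on `U`.
* `isFlatAt_of_dim_le_one`: on a normal locally Noetherian scheme, a submodule of a flat module is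
  flat at the points of codimension `≤ 1`.
* `exists_ddual_iso_pushforward`: `F^** ≅ j_* j^* F` compatibly with the canonical maps, for `F` a
  finite type submodule of a flat quasi-coherent module on a normal locally Noetherian scheme and
  `U` the flat locus of `F`.
-/

set_option autoImplicit false
set_option linter.style.haveILetI false
universe u

open AlgebraicGeometry CategoryTheory Opposite TopologicalSpace

namespace Groth.Agent.Lib.Helper58.BidualPush

open Groth.Agent.Lib.Helper64.HomSh Groth.Agent.Lib.Helper64.HartogsRing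

set_option backward.isDefEq.respectTransparency.types false

variable {X : Scheme.{u}}

/-- a morphism whose stalk maps are bijective at the points of `U` restricts to an isomorphism
on `U` -/
theorem isIso_restrict_of_stalk_bijective {M N : X.Modules} (φ : M ⟶ N) (U : X.Opens)
    (h : ∀ x ∈ U, Function.Bijective (RefHull.stalkMapₗ φ x)) :
    IsIso ((Scheme.Modules.restrictFunctor U.ι).map φ) := by
  rw [Scheme.Modules.Hom.isIso_iff_isIso_app]
  intro V'
  rw [ConcreteCategory.isIso_iff_bijective]
  let F : TopCat.Sheaf Ab X := ⟨M.presheaf, M.isSheaf⟩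
  let G : TopCat.Sheaf Ab X := ⟨N.presheaf, N.isSheaf⟩
  let f : F ⟶ G := ⟨(Scheme.Modules.toPresheaf X).map φ⟩
  have hb := TopCat.Presheaf.app_bijective_of_stalkFunctor_map_bijective f (U.ι ''ᵁ V')
    (fun x hx => h x ((Scheme.Hom.image_le_opensRange U.ι V').trans
      (le_of_eq (Scheme.Opens.opensRange_ι U)) hx))
  exact hb

/-- on a normal locally Noetherian scheme, a submodule of a flat module is flat at the points of
codimension at most one -/
theorem isFlatAt_of_dim_le_one [IsLocallyNoetherian X] (hX : Pi1.IsNormalScheme X)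
    {F A : X.Modules} (ι : F ⟶ A) [Mono ι] (hA : FlatMod.IsFlat A) (x : X)
    (hx : ringKrullDim (X.presheaf.stalk x) ≤ 1) : FlatMod.IsFlatAt F x := by
  obtain ⟨hdom, hic⟩ := hX x
  haveI := hdom
  haveI := hic
  haveI : Ring.KrullDimLE 1 (X.presheaf.stalk x) := Ring.krullDimLE_iff.mpr hx
  haveI : Ring.DimensionLEOne (X.presheaf.stalk x) :=
    ⟨fun {p} hp hprime => Ideal.IsPrime.isMaximal_of_ne_bot hprime hp⟩
  haveI : IsDedekindDomain (X.presheaf.stalk x) := {}
  haveI : Module.Flat (X.presheaf.stalk x) (A.presheaf.stalk x) := hA x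
  have hinj : Function.Injective (RefHull.stalkMapₗ ι x) :=
    TopCat.Presheaf.stalkFunctor_map_injective_of_app_injective
      (f := Scheme.Modules.Hom.mapPresheaf ι)
      (fun U => Groth.Agent.Lib.Helper29.QCohLoc.app_injective_of_mono ι U) x
  haveI : Module.IsTorsionFree (X.presheaf.stalk x) (F.presheaf.stalk x) :=
    Function.Injective.moduleIsTorsionFree (RefHull.stalkMapₗ ι x) hinj
      (fun r m => map_smul (RefHull.stalkMapₗ ι x) r m)
  exact (inferInstance : Module.Flat (X.presheaf.stalk x) (F.presheaf.stalk x))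

open Scheme.Modules in
/-- **`F^** = j_* j^* F`** -/
theorem exists_ddual_iso_pushforward [IsLocallyNoetherian X] (hX : Pi1.IsNormalScheme X)
    (A F : X.Modules) (hA : Coh.IsQCoh A) (hAfl : FlatMod.IsFlat A) (ι : F ⟶ A) [Mono ι]
    (hF : CohB1.IsFT F) (U : X.Opens) (hU : (U : Set X) = {s : X | FlatMod.IsFlatAt F s}) :
    ∃ e : RefHull.ddual F ≅ (pushforward U.ι).obj (F.restrict U.ι),
      RefHull.bidualMap F ≫ e.hom = (restrictAdjunction U.ι).unit.app F := by
  haveI : A.IsQuasicoherent := hA
  have hFq : F.IsQuasicoherent := SubQCoh.isQuasicoherent_of_mono ι hF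
  have hcoh : Coh.IsCoh F := ⟨hFq, hF⟩
  have hmemU : ∀ x : X, x ∈ U ↔ FlatMod.IsFlatAt F x := fun x => by
    change x ∈ (U : Set X) ↔ _
    rw [hU]
    rfl
  -- Hartogs for the double dual
  have h1 : IsIso ((restrictAdjunction U.ι).unit.app (RefHull.ddual F)) := by
    apply DetHart.isIso_unit_ddual
    intro x hx
    obtain ⟨hdom, hic⟩ := hX x
    haveI := hdom
    haveI := hic
    apply hasRegPair_of_two_le_depth
    apply Groth.Agent.Lib.Helper64.NormalS2.two_le_depth_of_normal
    intro hdim
    exact hx ((hmemU x).2 (isFlatAt_of_dim_le_one hX ι hAfl x hdim))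
  -- the biduality map is an isomorphism over `U`
  have h2 : IsIso ((restrictFunctor U.ι).map (RefHull.bidualMap F)) := by
    apply isIso_restrict_of_stalk_bijective
    intro x hx
    rw [bijective_stalkMap_bidualMap_iff (isFP_of_isCoh hcoh) (isFP_of_isCoh (isCoh_dual hcoh)) x]
    haveI : Module.Flat (X.presheaf.stalk x) (F.presheaf.stalk x) := (hmemU x).1 hx
    haveI : Module.Finite (X.presheaf.stalk x) (F.presheaf.stalk x) :=
      Groth.Agent.Lib.Lead.CohAff.finite_stalk_of_isFiniteType F hF x
    haveI : Module.Free (X.presheaf.stalk x) (F.presheaf.stalk x) :=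
      Module.free_of_flat_of_isLocalRing
    exact (inferInstance : Module.IsReflexive (X.presheaf.stalk x) (F.presheaf.stalk x))
  let β := RefHull.bidualMap F
  refine ⟨asIso ((restrictAdjunction U.ι).unit.app (RefHull.ddual F)) ≪≫
    (pushforward U.ι).mapIso (asIso ((restrictFunctor U.ι).map β)).symm, ?_⟩
  have hnat := (restrictAdjunction U.ι).unit.naturality β
  simp only [Functor.id_obj, Functor.id_map, Functor.comp_obj, Functor.comp_map] at hnat
  simp only [Iso.trans_hom, asIso_hom, Functor.mapIso_hom, Iso.symm_hom, asIso_inv]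
  rw [← Category.assoc, hnat, Category.assoc, ← Functor.map_comp, IsIso.hom_inv_id,
    CategoryTheory.Functor.map_id, Category.comp_id]

end Groth.Agent.Lib.Helper58.BidualPush
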