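import Mathlib
import Groth.Agent.Lib.Helper73.DimFormula.FibreDimSemi
import Groth.Agent.Lib.Helper73.DimFormula.IrrEq
import Groth.Agent.Lib.Helper73.DimFormula.FieldExtScheme

/-!
# Locally, a fibrewise-big open contains a quasi-compact fibrewise-big open (helper58)

`exists_big_local`: `π : P ⟶ S` quasi-compact, locally of finite type with constant fibre dimension `d`,
`U ⊆ P` open such that the fibre local rings at points off `U` have dimension `≥ 2`.  Then every
`x ∉ U` has an affine open neighbourhood `V` and a compact open `W ⊆ V ∩ U` such that the fibre local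
rings at all points of `V ∖ W` have dimension `≥ 2`.  Uses Chevalley's semicontinuity theorem
(helper73 `isOpen_fibreDimAt_le`) for the closed subscheme `V ∖ W`.
-/

set_option autoImplicit false
universe u

open CategoryTheory CategoryTheory.Limits Opposite TopologicalSpace AlgebraicGeometry

namespace Groth.Agent.Lib.Helper58.BigLocal

open Groth.Agent.Lib.Helper73

/-- On an irreducible scheme locally of finite type over a field the local dimension is constant. -/
theorem fibreDimAt_const_of_irreducible {k : Type u} [Field k] {X : Scheme.{u}}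
    (a : X ⟶ Spec (CommRingCat.of k)) [LocallyOfFiniteType a] [IrreducibleSpace X] (x0 : X) :
    FlatMor.fibreDimAt a x0 = ((resTrdegNat a (genericPoint X) : ℕ) : WithBot ℕ∞) := by
  obtain ⟨z, hzx, hfz, hzmax, hz⟩ := exists_maximal_fiber_resTrdegNat_eq_fibreDimAt a x0
  have : Subsingleton ↥(Spec (CommRingCat.of k)) :=
    inferInstanceAs (Subsingleton (PrimeSpectrum k))
  have h1 : genericPoint X = z :=
    hzmax _ (genericPoint_specializes z) (Subsingleton.elim _ _)
  rw [hz, h1]

/-- Constant fibre dimension for a base change of an irreducible scheme over a field. -/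
theorem fibreDimAt_pullback_snd {k : Type u} [Field k] {X S : Scheme.{u}}
    (a : X ⟶ Spec (CommRingCat.of k)) (b : S ⟶ Spec (CommRingCat.of k))
    [LocallyOfFiniteType a] [IrreducibleSpace X] (y : ↥(pullback a b)) :
    FlatMor.fibreDimAt (pullback.snd a b) y =
      ((resTrdegNat a (genericPoint X) : ℕ) : WithBot ℕ∞) := by
  rw [fibreDimAt_eq_of_isPullback a b (pullback.fst a b) (pullback.snd a b)
    (IsPullback.of_hasPullback a b) y]
  exact fibreDimAt_const_of_irreducible a _


/-- The fibre of a quasi-compact morphism locally of finite type is a Noetherian space. -/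
theorem noetherianSpace_fiber {P S : Scheme.{u}} (π : P ⟶ S) [LocallyOfFiniteType π]
    [QuasiCompact π] (s : S) : NoetherianSpace ↥(π.fiber s) := by
  have h1 : IsLocallyNoetherian (π.fiber s) :=
    LocallyOfFiniteType.isLocallyNoetherian (π.fiberToSpecResidueField s)
  have h2 : CompactSpace ↥(π.fiber s) :=
    QuasiCompact.compactSpace_of_compactSpace (π.fiberToSpecResidueField s)
  have : IsNoetherian (π.fiber s) := { }
  infer_instance

/-- The part of an open set lying in one fibre is compact. -/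
theorem isCompact_inter_fiber {P S : Scheme.{u}} (π : P ⟶ S) [LocallyOfFiniteType π]
    [QuasiCompact π] (s : S) (O : P.Opens) :
    IsCompact {y : P | y ∈ O ∧ π y = s} := by
  have := noetherianSpace_fiber π s
  have hK : IsCompact (π.fiberι s '' ((π.fiberι s) ⁻¹' (O : Set P))) :=
    (NoetherianSpace.isCompact _).image (π.fiberι s).continuous
  convert hK using 1
  rw [Set.image_preimage_eq_inter_range, π.range_fiberι s]
  rfl


/-- The closed subscheme `V(s)` of an affine open, as a scheme with an immersion into `P`. -/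
noncomputable abbrev cutι {P : Scheme.{u}} {V0 : P.Opens} (hV0 : IsAffineOpen V0)
    (I : Ideal Γ(P, V0)) : Spec (CommRingCat.of (Γ(P, V0) ⧸ I)) ⟶ P :=
  Spec.map (CommRingCat.ofHom (Ideal.Quotient.mk I)) ≫ hV0.fromSpec

theorem range_cutι {P : Scheme.{u}} {V0 : P.Opens} (hV0 : IsAffineOpen V0)
    (s : Set Γ(P, V0)) :
    Set.range (cutι hV0 (Ideal.span s)) = {y : P | y ∈ V0 ∧ ∀ f ∈ s, y ∉ P.basicOpen f} := by
  have h1 : Set.range (Spec.map (CommRingCat.ofHom (Ideal.Quotient.mk (Ideal.span s)))) =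
      PrimeSpectrum.zeroLocus s := by
    have := range_comap_of_surjective _ (Ideal.Quotient.mk (Ideal.span s))
      Ideal.Quotient.mk_surjective
    rw [Ideal.mk_ker, PrimeSpectrum.zeroLocus_span] at this
    exact this
  rw [cutι, Scheme.Hom.comp_base, TopCat.coe_comp, Set.range_comp, h1,
    hV0.fromSpec_image_zeroLocus]
  ext y
  simp only [Set.mem_inter_iff, Scheme.mem_zeroLocus_iff, Set.mem_ofPred_eq, SetLike.mem_coe]
  tauto

/-- residue transcendence degree is unchanged by precomposing with a preimmersion -/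
theorem resTrdegNat_comp_preimmersion {T P S : Scheme.{u}} (i : T ⟶ P) [IsPreimmersion i]
    (π : P ⟶ S) [LocallyOfFiniteType π] [LocallyOfFiniteType (i ≫ π)] (t : T) :
    resTrdegNat (i ≫ π) t = resTrdegNat π (i t) := by
  have h := resTrdeg_comp_of_bijective_left i π t (residueFieldMap_bijective_of_isPreimmersion i t)
  rw [resTrdeg_eq_resTrdegNat, resTrdeg_eq_resTrdegNat] at h
  exact_mod_cast h

/-- numerics: from `fibreDimAt = d` and the formula `fibreDimAt = dim + trdeg`. -/
theorem dim_add_resTrdegNat {P S : Scheme.{u}} (π : P ⟶ S) [LocallyOfFiniteType π]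
    (d : ℕ) (y : P) (hd : FlatMor.fibreDimAt π y = ((d : ℕ) : WithBot ℕ∞)) :
    ∃ n : ℕ, ringKrullDim ((π.fiber (π.base y)).presheaf.stalk (π.asFiber y)) = n ∧
      n + resTrdegNat π y = d := by
  obtain ⟨n, hn⟩ := exists_ringKrullDim_fiber_stalk_eq_natCast π y
  refine ⟨n, hn, ?_⟩
  have h := fibreDimAt_eq π y
  rw [hd, hn] at h
  exact_mod_cast h.symm


theorem exists_big_local {P S : Scheme.{u}} (π : P ⟶ S) [LocallyOfFiniteType π] [QuasiCompact π]
    (d : ℕ) (hd : ∀ y : P, FlatMor.fibreDimAt π y = ((d : ℕ) : WithBot ℕ∞))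
    (U : P.Opens)
    (hU : ∀ y : P, y ∉ U → (2 : WithBot ℕ∞) ≤
      ringKrullDim ((π.fiber (π.base y)).presheaf.stalk (π.asFiber y)))
    (x : P) (hx : x ∉ U) :
    ∃ V : P.Opens, IsAffineOpen V ∧ x ∈ V ∧ ∃ W : P.Opens, W ≤ V ⊓ U ∧ IsCompact (W : Set P) ∧
      ∀ y ∈ V, y ∉ W → (2 : WithBot ℕ∞) ≤
        ringKrullDim ((π.fiber (π.base y)).presheaf.stalk (π.asFiber y)) := by
  classical
  obtain ⟨V0, hV0, hxV0, -⟩ := exists_isAffineOpen_mem_and_subset (x := x) (U := ⊤) trivial
  have hK := isCompact_inter_fiber π (π x) (V0 ⊓ U)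
  have hcov : ∀ y : P, y ∈ {y : P | y ∈ V0 ⊓ U ∧ π y = π x} →
      ∃ g : Γ(P, V0), P.basicOpen g ≤ V0 ⊓ U ∧ y ∈ P.basicOpen g := by
    rintro y ⟨hy, -⟩
    exact hV0.exists_basicOpen_le (V := V0 ⊓ U) ⟨y, hy⟩ hy.1
  choose! g hgle hgmem using hcov
  obtain ⟨t, htK, htcov⟩ := hK.elim_nhds_subcover (fun y => (P.basicOpen (g y) : Set P))
    (fun y hy => (P.basicOpen (g y)).isOpen.mem_nhds (hgmem y hy))
  let W : P.Opens := ⨆ y ∈ t, P.basicOpen (g y)
  have hWcoe : (W : Set P) = ⋃ y ∈ t, (P.basicOpen (g y) : Set P) := by simp [W]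
  have hWmem : ∀ y : P, y ∈ W ↔ ∃ y' ∈ t, y ∈ P.basicOpen (g y') := by
    intro y
    rw [← SetLike.mem_coe, hWcoe]
    simp
  have hWle : W ≤ V0 ⊓ U := by
    intro y hy
    obtain ⟨y', hy't, hy'⟩ := (hWmem y).mp hy
    exact hgle y' (htK y' hy't) hy'
  have hWc : IsCompact (W : Set P) := by
    rw [hWcoe]
    exact t.finite_toSet.isCompact_biUnion (fun y _ => (hV0.basicOpen (g y)).isCompact)
  -- the closed subscheme
  let s : Set Γ(P, V0) := g '' (t : Set P)
  let ιT := cutι hV0 (Ideal.span s)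
  have hrange : ∀ y : P, y ∈ Set.range ιT ↔ y ∈ V0 ∧ y ∉ W := by
    intro y
    rw [range_cutι hV0 s]
    simp only [Set.mem_ofPred_eq, hWmem]
    constructor
    · rintro ⟨h1, h2⟩
      refine ⟨h1, ?_⟩
      rintro ⟨y', hy't, hy'⟩
      exact h2 (g y') ⟨y', hy't, rfl⟩ hy'
    · rintro ⟨h1, h2⟩
      refine ⟨h1, ?_⟩
      rintro f ⟨y', hy't, rfl⟩ hy'
      exact h2 ⟨y', hy't, hy'⟩
  have hxW : x ∉ W := fun h => hx (hWle h).2
  obtain ⟨tx, htx⟩ : x ∈ Set.range ιT := (hrange x).mpr ⟨hxV0, hxW⟩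
  obtain ⟨nx, hnx, hnxd⟩ := dim_add_resTrdegNat π d x (hd x)
  have h2nx : 2 ≤ nx := by
    have := hU x hx
    rw [hnx] at this
    exact_mod_cast this
  -- Chevalley
  let h := ιT ≫ π
  have hopen := isOpen_fibreDimAt_le (d - 2) _ _ h
  have htxO : FlatMor.fibreDimAt h tx ≤ ((d - 2 : ℕ) : WithBot ℕ∞) := by
    refine fibreDimAt_le_of_forall_generization h tx (d - 2) ?_
    intro η' hη' hhη'
    rw [resTrdegNat_comp_preimmersion ιT π η']
    have hηx : ιT η' ⤳ x := htx ▸ hη'.map ιT.continuous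
    have hπη : π (ιT η') = π x := by
      have h0 : h η' = h tx := hhη'
      rw [← htx]
      exact h0
    have hηr := (hrange (ιT η')).mp ⟨η', rfl⟩
    have hηU : ιT η' ∉ U := by
      intro hηU
      have hmem : ιT η' ∈ {y : P | y ∈ V0 ⊓ U ∧ π y = π x} := ⟨⟨hηr.1, hηU⟩, hπη⟩
      have h3 := htcov hmem
      rw [← hWcoe] at h3
      exact hηr.2 h3
    obtain ⟨n, hn, hnd⟩ := dim_add_resTrdegNat π d (ιT η') (hd _)
    have : 2 ≤ n := by
      have := hU _ hηU
      rw [hn] at this
      exact_mod_cast this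
    omega
  obtain ⟨N0, hN0, hN0eq⟩ := ιT.isEmbedding.isInducing.isOpen_iff.mp hopen
  have hxN0 : x ∈ N0 := by
    have : tx ∈ ιT ⁻¹' N0 := by rw [hN0eq]; exact htxO
    rw [← htx]; exact this
  obtain ⟨c, hcle, hxc⟩ := hV0.exists_basicOpen_le (V := (⟨N0, hN0⟩ : P.Opens) ⊓ V0)
    ⟨x, hxN0, hxV0⟩ hxV0
  have hcV0 : P.basicOpen c ≤ V0 := P.basicOpen_le c
  refine ⟨P.basicOpen c, hV0.basicOpen c, hxc, W ⊓ P.basicOpen c, ?_, ?_, ?_⟩
  · exact le_inf inf_le_right (inf_le_left.trans (hWle.trans inf_le_right))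
  · exact hV0.isQuasiSeparated (W : Set P) (P.basicOpen c : Set P) (hWle.trans inf_le_left)
      W.isOpen hWc hcV0 (P.basicOpen c).isOpen (hV0.basicOpen c).isCompact
  · intro y hyc hyW
    have hyV0 := hcV0 hyc
    have hyN0 : y ∈ N0 := (hcle hyc).1
    have hyW' : y ∉ W := fun h => hyW ⟨h, hyc⟩
    obtain ⟨ty, hty⟩ := (hrange y).mpr ⟨hyV0, hyW'⟩
    have htyO : FlatMor.fibreDimAt h ty ≤ ((d - 2 : ℕ) : WithBot ℕ∞) := by
      have : ty ∈ ιT ⁻¹' N0 := by
        show ιT ty ∈ N0
        rw [hty]; exact hyN0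
      rw [hN0eq] at this
      exact this
    have h1 := (resTrdegNat_le_fibreDimAt h ty).trans htyO
    have h1' : resTrdegNat h ty ≤ d - 2 := by exact_mod_cast h1
    rw [resTrdegNat_comp_preimmersion ιT π ty, hty] at h1'
    obtain ⟨n, hn, hnd⟩ := dim_add_resTrdegNat π d y (hd y)
    rw [hn]
    have : 2 ≤ n := by omega
    exact_mod_cast this


end Groth.Agent.Lib.Helper58.BigLocal
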