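import Mathlib
import Groth.Agent.Lib.Helper58.HenselPairIdem

set_option autoImplicit false

namespace Groth.Agent.Lib.Helper58.HensSplit

open Groth.Agent.Lib.Helper58.HenselPair PrimeSpectrum

universe u

section Ring

variable {A : Type u} [CommRing A] (I : Ideal A) [HenselianRing A I]
variable (A' : Type u) [CommRing A'] [Algebra A A'] [Algebra.IsIntegral A A']

/-- Over an integral algebra `A'` of a henselian pair `(A, I)`: if `O ⊆ Spec A'` is open and
`O ∩ V(I A')` is closed, there is a clopen `W ⊆ O` containing `O ∩ V(I A')`. -/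
theorem exists_isClopen_subset_of_isClosed_inter (O : Set (PrimeSpectrum A')) (hO : IsOpen O)
    (hcl : IsClosed (O ∩ zeroLocus (I.map (algebraMap A A') : Set A'))) :
    ∃ W : Set (PrimeSpectrum A'), IsClopen W ∧ W ⊆ O ∧
      O ∩ zeroLocus (I.map (algebraMap A A') : Set A') ⊆ W := by
  set J : Ideal A' := I.map (algebraMap A A') with hJ
  let q : A' →+* A' ⧸ J := Ideal.Quotient.mk J
  have hq : Function.Surjective q := Ideal.Quotient.mk_surjective
  have hrange : Set.range (comap q) = zeroLocus (J : Set A') := by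
    rw [range_comap_of_surjective _ q hq, Ideal.mk_ker]
  -- the clopen subset of `Spec (A'/J)`
  have hP_open : IsOpen (comap q ⁻¹' O) := hO.preimage (continuous_comap q)
  have hP_closed : IsClosed (comap q ⁻¹' O) := by
    have : comap q ⁻¹' O = comap q ⁻¹' (O ∩ zeroLocus (J : Set A')) := by
      ext x
      simp only [Set.mem_preimage, Set.mem_inter_iff, iff_self_and]
      intro _
      rw [← hrange]; exact ⟨x, rfl⟩
    rw [this]
    exact hcl.preimage (continuous_comap q)
  obtain ⟨ε, hε, hPε⟩ := PrimeSpectrum.isClopen_iff.mp ⟨hP_closed, hP_open⟩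
  obtain ⟨e, he, rfl⟩ := exists_idempotent_lift_of_isIntegral (A := A) (I := I) ε hε
  have hinter : ∀ p : PrimeSpectrum A', p ∈ zeroLocus (J : Set A') →
      (p ∈ (basicOpen e : Set (PrimeSpectrum A')) ↔ p ∈ O) := by
    intro p hp
    rw [← hrange] at hp
    obtain ⟨p', rfl⟩ := hp
    have h1 : comap q p' ∈ O ↔ p' ∈ (basicOpen (q e) : Set _) := by
      rw [← hPε]; rfl
    rw [h1]
    rfl
  have hclopen : IsClopen (basicOpen e : Set (PrimeSpectrum A')) :=
    PrimeSpectrum.isClopen_iff.mpr ⟨e, he, rfl⟩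
  refine ⟨basicOpen e, hclopen, ?_, ?_⟩
  · -- `D(e) ⊆ O`
    by_contra hne
    rw [Set.not_subset] at hne
    obtain ⟨p, hpe, hpO⟩ := hne
    have hZ : IsClosed ((basicOpen e : Set (PrimeSpectrum A')) \ O) :=
      hclopen.1.sdiff hO
    obtain ⟨K, hK⟩ := (isClosed_iff_zeroLocus_ideal _).mp hZ
    have hKne : K ≠ ⊤ := by
      rintro rfl
      have : p ∈ zeroLocus ((⊤ : Ideal A') : Set A') := by rw [← hK]; exact ⟨hpe, hpO⟩
      simp at this
    obtain ⟨M, hM, hKM⟩ := Ideal.exists_le_maximal K hKne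
    let m : PrimeSpectrum A' := ⟨M, hM.isPrime⟩
    have hm : m ∈ (basicOpen e : Set (PrimeSpectrum A')) \ O := by
      rw [hK]; exact hKM
    have hmJ : m ∈ zeroLocus (J : Set A') := by
      intro x hx
      have hjac : J ≤ Ideal.jacobson ⊥ := map_le_jacobson_of_isIntegral HenselianRing.jac
      exact (sInf_le ⟨bot_le, hM⟩ : Ideal.jacobson ⊥ ≤ M) (hjac hx)
    exact hm.2 ((hinter m hmJ).mp hm.1)
  · rintro p ⟨hpO, hpJ⟩
    exact (hinter p hpJ).mpr hpO

end Ring

end Groth.Agent.Lib.Helper58.HensSplit
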