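import Mathlib
import Groth.Agent.Lib.Helper58.HensSplitRing

set_option autoImplicit false

namespace Groth.Agent.Lib.Helper58.ClopenLift

open Groth.Agent.Lib.Helper58.HenselPair PrimeSpectrum

universe u

section Top

variable {X X' X₀ : Type*} [TopologicalSpace X] [TopologicalSpace X'] [TopologicalSpace X₀]

/-- Clopen lifting property for a subset `Z` of `X`: relatively clopen subsets of `Z` which are
closed in `X` are cut out by a unique clopen subset of `X`. -/
def LiftClopen (X : Type*) [TopologicalSpace X] (Z : Set X) : Prop :=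
  ∀ V' : Set X, V' ⊆ Z → IsClosed V' → (∃ O, IsOpen O ∧ V' = O ∩ Z) →
    ∃! U : Set X, IsClopen U ∧ U ∩ Z = V'

omit [TopologicalSpace X] [TopologicalSpace X₀] in
theorem preimage_eq_iff_inter_range {q : X₀ → X} (hq : Function.Injective q) (U : Set X)
    (V : Set X₀) : q ⁻¹' U = V ↔ U ∩ Set.range q = q '' V := by
  constructor
  · rintro rfl
    rw [Set.image_preimage_eq_inter_range]
  · intro h
    have := congrArg (fun s => q ⁻¹' s) h
    simp only [Set.preimage_inter, Set.preimage_range, Set.inter_univ] at this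
    rw [this, Set.preimage_image_eq _ hq]

theorem liftClopen_range_iff {q : X₀ → X} (hq : Topology.IsClosedEmbedding q) :
    (∀ V : Set X₀, IsClopen V → ∃! U : Set X, IsClopen U ∧ q ⁻¹' U = V) ↔
      LiftClopen X (Set.range q) := by
  constructor
  · intro H V' hV'Z hV'cl ⟨O, hO, hV'O⟩
    have hVclopen : IsClopen (q ⁻¹' V') := by
      refine ⟨hV'cl.preimage hq.continuous, ?_⟩
      have : q ⁻¹' V' = q ⁻¹' O := by
        rw [hV'O, Set.preimage_inter, Set.preimage_range, Set.inter_univ]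
      rw [this]
      exact hO.preimage hq.continuous
    have himg : q '' (q ⁻¹' V') = V' := by
      rw [Set.image_preimage_eq_inter_range, Set.inter_eq_left]; exact hV'Z
    obtain ⟨U, ⟨hU, hUV⟩, huniq⟩ := H _ hVclopen
    refine ⟨U, ⟨hU, ?_⟩, ?_⟩
    · rw [(preimage_eq_iff_inter_range hq.injective U _).mp hUV, himg]
    · rintro U' ⟨hU', hU'V⟩
      apply huniq
      refine ⟨hU', (preimage_eq_iff_inter_range hq.injective U' _).mpr ?_⟩
      rw [hU'V, himg]
  · intro H V hV
    have hcl : IsClosed (q '' V) := hq.isClosedMap _ hV.1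
    have hopen : ∃ O, IsOpen O ∧ q '' V = O ∩ Set.range q := by
      obtain ⟨O, hO, hOV⟩ := hq.isInducing.isOpen_iff.mp hV.2
      refine ⟨O, hO, ?_⟩
      rw [← hOV, Set.image_preimage_eq_inter_range]
    obtain ⟨U, ⟨hU, hUV⟩, huniq⟩ := H (q '' V) (Set.image_subset_range q V) hcl hopen
    refine ⟨U, ⟨hU, (preimage_eq_iff_inter_range hq.injective U V).mpr hUV⟩, ?_⟩
    rintro U' ⟨hU', hU'V⟩
    exact huniq U' ⟨hU', (preimage_eq_iff_inter_range hq.injective U' V).mp hU'V⟩

theorem LiftClopen.of_homeomorph (h : X ≃ₜ X') {Z : Set X} (H : LiftClopen X Z) :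
    LiftClopen X' (h '' Z) := by
  intro V' hV'Z hV'cl ⟨O, hO, hV'O⟩
  have h1 : h ⁻¹' V' ⊆ Z := by
    intro x hx
    obtain ⟨z, hz, hzx⟩ := hV'Z hx
    rwa [← h.injective hzx]
  have h2 : IsClosed (h ⁻¹' V') := hV'cl.preimage h.continuous
  have h3 : ∃ O', IsOpen O' ∧ h ⁻¹' V' = O' ∩ Z := by
    refine ⟨h ⁻¹' O, hO.preimage h.continuous, ?_⟩
    rw [hV'O, Set.preimage_inter, Set.preimage_image_eq _ h.injective]
  obtain ⟨U, ⟨hU, hUV⟩, huniq⟩ := H _ h1 h2 h3
  refine ⟨h '' U, ⟨⟨h.isClosed_image.mpr hU.1, h.isOpen_image.mpr hU.2⟩, ?_⟩, ?_⟩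
  · rw [← Set.image_inter h.injective, hUV, Set.image_preimage_eq _ h.surjective]
  · rintro U' ⟨hU', hU'V⟩
    have := huniq (h ⁻¹' U') ⟨hU'.preimage h.continuous, by
      rw [← hU'V, Set.preimage_inter, Set.preimage_image_eq _ h.injective]⟩
    rw [← this, Set.image_preimage_eq _ h.surjective]

end Top


section Ring

variable {A : Type u} [CommRing A] (I : Ideal A)
variable (B : Type u) [CommRing B] [Algebra A B]

/-- A closed subset of `Spec B` missing `V(J)`, `J ⊆ rad B`, is empty. -/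
theorem eq_empty_of_isClosed_of_inter_zeroLocus_eq_empty {J : Ideal B}
    (hJ : J ≤ Ideal.jacobson ⊥) (C : Set (PrimeSpectrum B)) (hC : IsClosed C)
    (hCJ : C ∩ zeroLocus (J : Set B) = ∅) : C = ∅ := by
  by_contra hne
  obtain ⟨p, hp⟩ := Set.nonempty_iff_ne_empty.mpr hne
  obtain ⟨K, hK⟩ := (isClosed_iff_zeroLocus_ideal _).mp hC
  have hKne : K ≠ ⊤ := by
    rintro rfl
    rw [hK] at hp
    simp at hp
  obtain ⟨M, hM, hKM⟩ := Ideal.exists_le_maximal K hKne
  let m : PrimeSpectrum B := ⟨M, hM.isPrime⟩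
  have hm : m ∈ C := by rw [hK]; exact hKM
  have hmJ : m ∈ zeroLocus (J : Set B) := fun x hx =>
    (sInf_le ⟨bot_le, hM⟩ : Ideal.jacobson ⊥ ≤ M) (hJ hx)
  have : m ∈ C ∩ zeroLocus (J : Set B) := ⟨hm, hmJ⟩
  rw [hCJ] at this
  exact this

theorem liftClopen_of_henselian [HenselianRing A I] [Algebra.IsIntegral A B] :
    LiftClopen (PrimeSpectrum B) (zeroLocus (I.map (algebraMap A B) : Set B)) := by
  intro V' hV'Z hV'cl ⟨O, hO, hV'O⟩
  obtain ⟨W, hW, hWO, hOW⟩ :=
    Groth.Agent.Lib.Helper58.HensSplit.exists_isClopen_subset_of_isClosed_inter I B O hO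
      (hV'O ▸ hV'cl)
  have hWV : W ∩ zeroLocus (I.map (algebraMap A B) : Set B) = V' := by
    rw [hV'O]
    apply Set.Subset.antisymm
    · exact Set.inter_subset_inter_left _ hWO
    · exact fun x hx => ⟨hOW hx, hx.2⟩
  refine ⟨W, ⟨hW, hWV⟩, ?_⟩
  rintro U ⟨hU, hUV⟩
  have hJ : I.map (algebraMap A B) ≤ Ideal.jacobson ⊥ :=
    map_le_jacobson_of_isIntegral HenselianRing.jac
  have h1 : U \ W = ∅ := by
    apply eq_empty_of_isClosed_of_inter_zeroLocus_eq_empty B hJ _ (hU.1.sdiff hW.2)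
    rw [Set.eq_empty_iff_forall_notMem]
    rintro x ⟨⟨hxU, hxW⟩, hxZ⟩
    have : x ∈ W ∩ zeroLocus (I.map (algebraMap A B) : Set B) := by
      rw [hWV, ← hUV]; exact ⟨hxU, hxZ⟩
    exact hxW this.1
  have h2 : W \ U = ∅ := by
    apply eq_empty_of_isClosed_of_inter_zeroLocus_eq_empty B hJ _ (hW.1.sdiff hU.2)
    rw [Set.eq_empty_iff_forall_notMem]
    rintro x ⟨⟨hxW, hxU⟩, hxZ⟩
    have : x ∈ U ∩ zeroLocus (I.map (algebraMap A B) : Set B) := by
      rw [hUV, ← hWV]; exact ⟨hxW, hxZ⟩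
    exact hxU this.1
  exact Set.Subset.antisymm (Set.sdiff_eq_empty.mp h1) (Set.sdiff_eq_empty.mp h2)

theorem bijOn_of_liftClopen
    (H : LiftClopen (PrimeSpectrum B) (zeroLocus (I.map (algebraMap A B) : Set B))) :
    Set.BijOn (Ideal.Quotient.mk (Ideal.map (algebraMap A B) I))
      {e : B | IsIdempotentElem e} {e | IsIdempotentElem e} := by
  set J : Ideal B := I.map (algebraMap A B) with hJdef
  let q : B →+* B ⧸ J := Ideal.Quotient.mk J
  have hq : Function.Surjective q := Ideal.Quotient.mk_surjective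
  have hce : Topology.IsClosedEmbedding (comap q) := isClosedEmbedding_comap_of_surjective _ q hq
  have hrange : Set.range (comap q) = zeroLocus (J : Set B) := by
    rw [range_comap_of_surjective _ q hq, Ideal.mk_ker]
  have hpre : ∀ e : B, comap q ⁻¹' (basicOpen e : Set (PrimeSpectrum B)) =
      (basicOpen (q e) : Set (PrimeSpectrum (B ⧸ J))) := fun e => rfl
  have hclopen : ∀ e : B, IsIdempotentElem e → IsClopen (basicOpen e : Set (PrimeSpectrum B)) :=
    fun e he => PrimeSpectrum.isClopen_iff.mpr ⟨e, he, rfl⟩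
  refine ⟨fun e he => he.map q, ?_, ?_⟩
  · intro e₁ h₁ e₂ h₂ h
    have hinter : (basicOpen e₁ : Set (PrimeSpectrum B)) ∩ zeroLocus (J : Set B) =
        (basicOpen e₂ : Set (PrimeSpectrum B)) ∩ zeroLocus (J : Set B) := by
      rw [← hrange, ← Set.image_preimage_eq_inter_range, ← Set.image_preimage_eq_inter_range,
        hpre, hpre]
      rw [show q e₁ = q e₂ from h]
    obtain ⟨U, -, huniq⟩ := H ((basicOpen e₁ : Set (PrimeSpectrum B)) ∩ zeroLocus (J : Set B))
      Set.inter_subset_right ((hclopen e₁ h₁).1.inter (isClosed_zeroLocus _))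
      ⟨_, (basicOpen e₁).2, rfl⟩
    have e1 := huniq _ ⟨hclopen e₁ h₁, rfl⟩
    have e2 := huniq _ ⟨hclopen e₂ h₂, hinter.symm⟩
    exact basicOpen_injOn_isIdempotentElem h₁ h₂ (SetLike.ext' (e1.trans e2.symm))
  · intro ε hε
    have hDε : IsClopen (basicOpen ε : Set (PrimeSpectrum (B ⧸ J))) :=
      PrimeSpectrum.isClopen_iff.mpr ⟨ε, hε, rfl⟩
    have hcl : IsClosed (comap q '' (basicOpen ε : Set _)) := hce.isClosedMap _ hDε.1
    obtain ⟨O, hO, hOε⟩ := hce.isInducing.isOpen_iff.mp hDε.2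
    have hopen : comap q '' (basicOpen ε : Set _) = O ∩ zeroLocus (J : Set B) := by
      rw [← hOε, Set.image_preimage_eq_inter_range, hrange]
    obtain ⟨U, ⟨hU, hUV⟩, -⟩ := H (comap q '' (basicOpen ε : Set _))
      (by rw [← hrange]; exact Set.image_subset_range _ _) hcl ⟨O, hO, hopen⟩
    obtain ⟨e, he, rfl⟩ := PrimeSpectrum.isClopen_iff.mp hU
    refine ⟨e, he, ?_⟩
    have h3 : (basicOpen (q e) : Set (PrimeSpectrum (B ⧸ J))) = basicOpen ε := by
      rw [← hpre]
      have : comap q ⁻¹' (basicOpen e : Set (PrimeSpectrum B)) =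
          comap q ⁻¹' ((basicOpen e : Set (PrimeSpectrum B)) ∩ zeroLocus (J : Set B)) := by
        rw [← hrange, Set.preimage_inter, Set.preimage_range, Set.inter_univ]
      rw [this, hUV, Set.preimage_image_eq _ hce.injective]
    exact basicOpen_injOn_isIdempotentElem (he.map q) hε (SetLike.ext' h3)

end Ring

end Groth.Agent.Lib.Helper58.ClopenLift
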