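import Mathlib
import Groth.Prelude.Def_Neron

/-! helper58: the generic fibre over a discrete valuation ring is the open `D(ϖ)`.

* `isLocalization_away_of_irreducible`: for a DVR `R` with uniformizer `ϖ`, any fraction field `K`
  is the localization of `R` away from `ϖ`.
* `isOpenImmersion_genPt`, `range_genPt`.
* `isIso_morphismRestrict_of_isIso_genericFibre`: a morphism of `R`-schemes which is an
  isomorphism on generic fibres is an isomorphism over `D(ϖ)`.
-/

set_option autoImplicit false
universe u

open CategoryTheory CategoryTheory.Limits AlgebraicGeometry TopologicalSpace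

namespace Groth.Agent.Lib.Helper58.DVRGen

theorem isLocalization_away_of_irreducible (R : Type*) [CommRing R] [IsDomain R]
    [IsDiscreteValuationRing R] (K : Type*) [Field K] [Algebra R K] [IsFractionRing R K]
    (ϖ : R) (hϖ : Irreducible ϖ) : IsLocalization.Away ϖ K := by
  have hinj : Function.Injective (algebraMap R K) := IsFractionRing.injective R K
  have hϖK : algebraMap R K ϖ ≠ 0 := by
    intro h
    exact hϖ.ne_zero (hinj (by rw [h, map_zero]))
  refine ⟨?_, ?_, ?_⟩
  · rintro ⟨_, n, rfl⟩
    simp only [map_pow]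
    exact (isUnit_iff_ne_zero.mpr hϖK).pow n
  · intro z
    obtain ⟨a, s, hs⟩ := IsLocalization.exists_mk'_eq (nonZeroDivisors R) z |>.imp fun a h => h
    have hs0 : (s : R) ≠ 0 := nonZeroDivisors.ne_zero s.2
    obtain ⟨n, u, hu⟩ := IsDiscreteValuationRing.eq_unit_mul_pow_irreducible hs0 hϖ
    refine ⟨(a * ((u⁻¹ : Rˣ) : R), ⟨ϖ ^ n, n, rfl⟩), ?_⟩
    have h1 : z * algebraMap R K (s : R) = algebraMap R K a := by
      rw [← hs, IsLocalization.mk'_spec]
    have h2 : algebraMap R K (s : R) = algebraMap R K (u : R) * algebraMap R K ϖ ^ n := by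
      rw [hu, map_mul, map_pow]
    have hu1 : algebraMap R K (u : R) * algebraMap R K ((u⁻¹ : Rˣ) : R) = 1 := by
      rw [← map_mul, Units.mul_inv, map_one]
    simp only [map_mul, map_pow]
    calc z * algebraMap R K ϖ ^ n
        = z * (algebraMap R K (u : R) * algebraMap R K ϖ ^ n) * algebraMap R K ((u⁻¹ : Rˣ) : R) := by
          rw [mul_comm (algebraMap R K (u : R)), mul_assoc z, mul_assoc, hu1, mul_one]
      _ = algebraMap R K a * algebraMap R K ((u⁻¹ : Rˣ) : R) := by rw [← h2, h1]
  · intro a b hab
    exact ⟨1, by rw [hinj hab]⟩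

/-- If the base change of `f` along an open immersion `j` is an isomorphism, then `f` is an
isomorphism over the range of `j`. -/
theorem isIso_morphismRestrict_of_isPullback {X Y X' Y' : Scheme.{u}} (f : Y ⟶ X)
    (j : X' ⟶ X) [IsOpenImmersion j] (j' : Y' ⟶ Y) (m : Y' ⟶ X') [IsIso m]
    (H : IsPullback j' m f j) (U : X.Opens) (hU : j.opensRange = U) : IsIso (f ∣_ U) := by
  have h1 : IsIso (pullback.snd f j) := by
    have := H.isoPullback_hom_snd
    have h2 : pullback.snd f j = H.isoPullback.inv ≫ m :=
      (Iso.eq_inv_comp _).mpr this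
    rw [h2]; infer_instance
  let e := IsOpenImmersion.isoOfRangeEq j U.ι (by
    rw [Scheme.Opens.range_ι]; exact congrArg (fun O : X.Opens => (O : Set X)) hU)
  have he : e.hom ≫ U.ι = j := IsOpenImmersion.isoOfRangeEq_hom_fac _ _ _
  let q := pullback.map f j f U.ι (𝟙 Y) e.hom (𝟙 X) (by simp) (by simp [he])
  have hq : q ≫ pullback.snd f U.ι = pullback.snd f j ≫ e.hom := pullback.lift_snd _ _ _
  have h3 : IsIso (pullback.snd f U.ι) := by
    have h4 : pullback.snd f U.ι = inv q ≫ pullback.snd f j ≫ e.hom := by
      rw [← hq, IsIso.inv_hom_id_assoc]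
    rw [h4]; infer_instance
  unfold morphismRestrict
  infer_instance

section DVR

variable (R : Type u) [CommRing R] [IsDomain R] [IsDiscreteValuationRing R]

theorem isOpenImmersion_genPt : IsOpenImmersion (Neron.genPt R) := by
  obtain ⟨ϖ, hϖ⟩ := IsDiscreteValuationRing.exists_irreducible R
  have := isLocalization_away_of_irreducible R (FractionRing R) ϖ hϖ
  exact IsOpenImmersion.of_isLocalization ϖ

theorem opensRange_genPt (ϖ : R) (hϖ : Irreducible ϖ) :
    haveI := isOpenImmersion_genPt R
    (Neron.genPt R).opensRange = PrimeSpectrum.basicOpen ϖ := by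
  have := isLocalization_away_of_irreducible R (FractionRing R) ϖ hϖ
  rw [SetLike.ext'_iff]
  exact PrimeSpectrum.localization_away_comap_range _ ϖ

/-- A morphism of `R`-schemes which is an isomorphism on generic fibres is an isomorphism
over `D(ϖ)`. -/
theorem isIso_morphismRestrict_of_isIso_genericFibre (ϖ : R) (hϖ : Irreducible ϖ)
    (X Y : Over (Spec (CommRingCat.of R))) (π : Y ⟶ X)
    (hgen : IsIso ((Neron.genericFibre R).map π)) :
    IsIso (π.left ∣_ (X.hom ⁻¹ᵁ (PrimeSpectrum.basicOpen ϖ))) := by
  have := isOpenImmersion_genPt R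
  let m : pullback Y.hom (Neron.genPt R) ⟶ pullback X.hom (Neron.genPt R) := ((Neron.genericFibre R).map π).left
  have hm : IsIso m := by
    have : IsIso ((Over.forget _).map ((Neron.genericFibre R).map π)) := inferInstance
    exact this
  have hm1 : m ≫ pullback.fst X.hom (Neron.genPt R) = pullback.fst Y.hom (Neron.genPt R) ≫ π.left := by
    exact pullback.lift_fst _ _ _
  have hm2 : m ≫ pullback.snd X.hom (Neron.genPt R) = pullback.snd Y.hom (Neron.genPt R) := by
    exact pullback.lift_snd _ _ _
  have hbot : IsPullback (pullback.fst X.hom (Neron.genPt R)) (pullback.snd X.hom (Neron.genPt R)) X.hom (Neron.genPt R) :=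
    IsPullback.of_hasPullback _ _
  have hbig : IsPullback (pullback.fst Y.hom (Neron.genPt R)) (m ≫ pullback.snd X.hom (Neron.genPt R)) (π.left ≫ X.hom) (Neron.genPt R) := by
    rw [hm2, Over.w π]
    exact IsPullback.of_hasPullback _ _
  have htop : IsPullback (pullback.fst Y.hom (Neron.genPt R)) m π.left (pullback.fst X.hom (Neron.genPt R)) :=
    IsPullback.of_bot hbig hm1.symm hbot
  refine isIso_morphismRestrict_of_isPullback π.left (pullback.fst X.hom (Neron.genPt R)) (pullback.fst Y.hom (Neron.genPt R)) m
    htop _ ?_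
  rw [Scheme.Hom.opensRange_pullbackFst, opensRange_genPt R ϖ hϖ]

end DVR

end Groth.Agent.Lib.Helper58.DVRGen
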