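import Mathlib
import Groth.Agent.Lib.Helper58.HenselPair

set_option autoImplicit false

namespace Groth.Agent.Lib.Helper58.HenselPair

open Polynomial

universe u v

section Colim

variable {ι : Type v} [Preorder ι] [IsDirectedOrder ι] [Nonempty ι]
  (B : ι → Type u) [∀ i, CommRing (B i)] (g : ∀ i j : ι, i ≤ j → (B i →+* B j))
  [DirectedSystem B (fun i j h => g i j h)]

/-- Every element of a direct limit of rings comes from a stage. -/
lemma directLimit_exists_of (z : DirectLimit B g) : ∃ i x, DirectLimit.Ring.of B g i x = z := by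
  obtain ⟨i, x, rfl⟩ := DirectLimit.exists_eq_mk _ z
  exact ⟨i, x, rfl⟩

/-- Two elements of a direct limit of rings can be represented at a common stage. -/
lemma directLimit_exists_of₂ (z w : DirectLimit B g) :
    ∃ i x y, DirectLimit.Ring.of B g i x = z ∧ DirectLimit.Ring.of B g i y = w := by
  obtain ⟨i, x, y, rfl, rfl⟩ := DirectLimit.exists_eq_mk₂ _ z w
  exact ⟨i, x, y, rfl, rfl⟩

lemma directLimit_of_eq_of_iff {i j : ι} (x : B i) (y : B j) :
    DirectLimit.Ring.of B g i x = DirectLimit.Ring.of B g j y ↔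
      ∃ k, ∃ (hik : i ≤ k) (hjk : j ≤ k), g i k hik x = g j k hjk y := by
  change (⟦⟨i, x⟩⟧ : DirectLimit B g) = ⟦⟨j, y⟩⟧ ↔ _
  rw [Quotient.eq]
  rfl

variable (K : ∀ i, Ideal (B i)) (hK : ∀ (i j : ι) (h : i ≤ j), (K i).map (g i j h) ≤ K j)

/-- The colimit ideal of a compatible family of ideals, described as a union. -/
def directLimitIdeal (hK : ∀ (i j : ι) (h : i ≤ j), (K i).map (g i j h) ≤ K j) :
    Ideal (DirectLimit B g) where
  carrier := {z | ∃ i, ∃ y ∈ K i, DirectLimit.Ring.of B g i y = z}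
  zero_mem' := by
    obtain ⟨i⟩ := ‹Nonempty ι›
    exact ⟨i, 0, zero_mem _, map_zero _⟩
  add_mem' := by
    rintro _ _ ⟨i, x, hx, rfl⟩ ⟨j, y, hy, rfl⟩
    obtain ⟨k, hik, hjk⟩ := exists_ge_ge i j
    refine ⟨k, g i k hik x + g j k hjk y, add_mem (hK i k hik (Ideal.mem_map_of_mem _ hx))
      (hK j k hjk (Ideal.mem_map_of_mem _ hy)), ?_⟩
    rw [map_add, DirectLimit.Ring.of_f, DirectLimit.Ring.of_f]
  smul_mem' := by
    rintro c _ ⟨j, y, hy, rfl⟩
    obtain ⟨i, x, rfl⟩ := directLimit_exists_of B g c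
    obtain ⟨k, hik, hjk⟩ := exists_ge_ge i j
    refine ⟨k, g i k hik x * g j k hjk y,
      Ideal.mul_mem_left _ _ (hK j k hjk (Ideal.mem_map_of_mem _ hy)), ?_⟩
    rw [map_mul, DirectLimit.Ring.of_f, DirectLimit.Ring.of_f, smul_eq_mul]

lemma mem_directLimitIdeal {z : DirectLimit B g} :
    z ∈ directLimitIdeal B g K hK ↔ ∃ i, ∃ y ∈ K i, DirectLimit.Ring.of B g i y = z := Iff.rfl

lemma iSup_map_of_eq_directLimitIdeal :
    (⨆ i, (K i).map (DirectLimit.Ring.of B g i)) = directLimitIdeal B g K hK := by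
  apply le_antisymm
  · refine iSup_le fun i => ?_
    rw [Ideal.map_le_iff_le_comap]
    intro y hy
    exact ⟨i, y, hy, rfl⟩
  · rintro _ ⟨i, y, hy, rfl⟩
    exact (le_iSup (fun i => (K i).map (DirectLimit.Ring.of B g i)) i) (Ideal.mem_map_of_mem _ hy)

include hK in
lemma mem_iSup_map_of_iff {z : DirectLimit B g} :
    z ∈ (⨆ i, (K i).map (DirectLimit.Ring.of B g i)) ↔
      ∃ i, ∃ y ∈ K i, DirectLimit.Ring.of B g i y = z := by
  rw [iSup_map_of_eq_directLimitIdeal B g K hK]; rfl

include hK in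
/-- A polynomial of degree `≤ n` with coefficients in the colimit ideal descends to a stage. -/
lemma exists_poly_of_coeff_mem (n : ℕ) (p : (DirectLimit B g)[X]) (hp : p.natDegree ≤ n)
    (hpK : ∀ k, p.coeff k ∈ (⨆ i, (K i).map (DirectLimit.Ring.of B g i))) :
    ∃ i, ∃ q : (B i)[X], q.natDegree ≤ n ∧ (∀ k, q.coeff k ∈ K i) ∧
      q.map (DirectLimit.Ring.of B g i) = p := by
  classical
  have hch : ∀ k, ∃ i, ∃ y ∈ K i, DirectLimit.Ring.of B g i y = p.coeff k := fun k =>
    (mem_iSup_map_of_iff B g K hK).1 (hpK k)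
  choose ik yk hyk hyk' using hch
  obtain ⟨i, hi⟩ := Finset.exists_le ((Finset.range (n + 1)).image ik)
  have hik : ∀ k ∈ Finset.range (n + 1), ik k ≤ i := fun k hk =>
    hi _ (Finset.mem_image_of_mem _ hk)
  let c : ℕ → B i := fun k => if h : k ∈ Finset.range (n + 1) then g (ik k) i (hik k h) (yk k) else 0
  have hc : ∀ k, c k ∈ K i := by
    intro k
    by_cases h : k ∈ Finset.range (n + 1)
    · simp only [c, dif_pos h]
      exact hK _ _ _ (Ideal.mem_map_of_mem _ (hyk k))
    · simp only [c, dif_neg h]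
      exact zero_mem _
  have hc' : ∀ k ∈ Finset.range (n + 1), DirectLimit.Ring.of B g i (c k) = p.coeff k := by
    intro k h
    simp only [c, dif_pos h]
    rw [DirectLimit.Ring.of_f, hyk']
  refine ⟨i, ∑ k ∈ Finset.range (n + 1), C (c k) * X ^ k, ?_, ?_, ?_⟩
  · refine Polynomial.natDegree_sum_le_of_forall_le _ _ fun k hk => ?_
    refine (Polynomial.natDegree_C_mul_X_pow_le _ _).trans ?_
    exact Nat.lt_succ_iff.1 (Finset.mem_range.1 hk)
  · intro k
    rw [Polynomial.finsetSum_coeff]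
    refine Ideal.sum_mem _ fun j _ => ?_
    rw [Polynomial.coeff_C_mul_X_pow]
    split_ifs
    · exact hc j
    · exact zero_mem _
  · rw [Polynomial.map_sum]
    conv_rhs => rw [Polynomial.as_sum_range' p (n + 1) (Nat.lt_succ_iff.2 hp)]
    refine Finset.sum_congr rfl fun k hk => ?_
    rw [Polynomial.map_mul, Polynomial.map_C, Polynomial.map_pow, Polynomial.map_X, hc' k hk,
      ← Polynomial.C_mul_X_pow_eq_monomial]

include hK in
/-- **Stacks 0FWT**: a filtered colimit of henselian pairs is a henselian pair. -/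
theorem henselian_directLimit [∀ i, HenselianRing (B i) (K i)] :
    HenselianRing (DirectLimit B g) (⨆ i, (K i).map (DirectLimit.Ring.of B g i)) := by
  classical
  refine henselian_of_gabber ?_ ?_
  · intro z hz
    obtain ⟨i, x, hx, rfl⟩ := (mem_iSup_map_of_iff B g K hK).1 hz
    rw [Ideal.mem_jacobson_bot]
    intro w
    obtain ⟨j, y, rfl⟩ := directLimit_exists_of B g w
    obtain ⟨k, hik, hjk⟩ := exists_ge_ge i j
    have hxk : g i k hik x ∈ K k := hK _ _ _ (Ideal.mem_map_of_mem _ hx)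
    have hu : IsUnit (g i k hik x * g j k hjk y + 1) :=
      (Ideal.mem_jacobson_bot.1 ((HenselianRing.jac (R := B k) (I := K k)) hxk)) _
    have := hu.map (DirectLimit.Ring.of B g k)
    rwa [map_add, map_mul, DirectLimit.Ring.of_f, DirectLimit.Ring.of_f, map_one] at this
  · intro n hn p hp hpK
    obtain ⟨i, q, hq, hqK, rfl⟩ := exists_poly_of_coeff_mem B g K hK n p hp hpK
    obtain ⟨α, hα1, hα⟩ := exists_root_gabber (A := B i) (I := K i) hq hqK
    refine ⟨DirectLimit.Ring.of B g i α, ?_, ?_⟩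
    · rw [← map_one (DirectLimit.Ring.of B g i), ← map_sub]
      exact (mem_iSup_map_of_iff B g K hK).2 ⟨i, _, hα1, rfl⟩
    · have : (X ^ n * (X - 1) + q.map (DirectLimit.Ring.of B g i) : (DirectLimit B g)[X]) =
          (X ^ n * (X - 1) + q).map (DirectLimit.Ring.of B g i) := by
        simp
      rw [this, Polynomial.IsRoot.def, Polynomial.eval_map_apply]
      rw [Polynomial.IsRoot.def] at hα
      rw [hα, map_zero]

end Colim

end Groth.Agent.Lib.Helper58.HenselPair
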