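import Mathlib
import Groth.Agent.Lib.Helper58.HenselPairColim

set_option autoImplicit false
universe u

namespace Groth.Agent.Lib.Helper58.DirLimFP

section FP

variable {A : Type u} [CommRing A]
  {κ : Type u} [Preorder κ] [IsDirectedOrder κ] [Nonempty κ]
  (Ra : κ → Type u) [∀ a, CommRing (Ra a)] [∀ a, Algebra A (Ra a)]
  (t : ∀ a b : κ, a ≤ b → (Ra a →+* Ra b)) [DirectedSystem Ra (fun a b h => t a b h)]
  (ht : ∀ (a b : κ) (h : a ≤ b), (t a b h).comp (algebraMap A (Ra a)) = algebraMap A (Ra b))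
  [Algebra A (DirectLimit Ra t)]
  (halg : ∀ (a : κ) (x : A), algebraMap A (DirectLimit Ra t) x =
    DirectLimit.Ring.of Ra t a (algebraMap A (Ra a) x))

/-- the transition maps as algebra maps. -/
def tAlg (a b : κ) (h : a ≤ b) : Ra a →ₐ[A] Ra b :=
  { t a b h with commutes' := fun x => congrArg (fun ρ : A →+* Ra b => ρ x) (ht a b h) }

/-- the canonical maps as algebra maps. -/
noncomputable def ofAlg (a : κ) : Ra a →ₐ[A] DirectLimit Ra t :=
  { DirectLimit.Ring.of Ra t a with commutes' := fun x => (halg a x).symm }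

include ht halg in
/-- a map from a finitely presented algebra to a direct limit factors through a stage. -/
theorem exists_factor_of_finitePresentation (R₀ : Type u) [CommRing R₀] [Algebra A R₀]
    [Algebra.FinitePresentation A R₀] (χ₀ : R₀ →ₐ[A] DirectLimit Ra t) :
    ∃ (a : κ) (φ₀ : R₀ →ₐ[A] Ra a), ∀ x, DirectLimit.Ring.of Ra t a (φ₀ x) = χ₀ x := by
  classical
  obtain ⟨n, f, hf, s, hs⟩ := Algebra.FinitePresentation.out (R := A) (A := R₀)
  -- lift the images of the variables to a common stage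
  have hex : ∀ i : Fin n, ∃ a, ∃ y : Ra a, DirectLimit.Ring.of Ra t a y = χ₀ (f (MvPolynomial.X i)) :=
    fun i => Groth.Agent.Lib.Helper58.HenselPair.directLimit_exists_of Ra t _
  choose ai yi hyi using hex
  obtain ⟨a₀, ha₀⟩ := Finset.exists_le (Finset.univ.image ai)
  have hai : ∀ i, ai i ≤ a₀ := fun i => ha₀ _ (Finset.mem_image_of_mem _ (Finset.mem_univ i))
  let y : Fin n → Ra a₀ := fun i => t (ai i) a₀ (hai i) (yi i)
  have hy : ∀ i, DirectLimit.Ring.of Ra t a₀ (y i) = χ₀ (f (MvPolynomial.X i)) := fun i => by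
    simp only [y]
    rw [DirectLimit.Ring.of_f, hyi]
  let θ : MvPolynomial (Fin n) A →ₐ[A] Ra a₀ := MvPolynomial.aeval y
  have hθ : (ofAlg Ra t halg a₀).comp θ = χ₀.comp f := by
    apply MvPolynomial.algHom_ext
    intro i
    simp only [AlgHom.comp_apply, θ, MvPolynomial.aeval_X]
    exact hy i
  have hθ' : ∀ q, DirectLimit.Ring.of Ra t a₀ (θ q) = χ₀ (f q) := fun q =>
    DFunLike.congr_fun hθ q
  -- kill the relations at a later stage
  have hrel : ∀ r ∈ s, ∃ b, ∃ h : a₀ ≤ b, t a₀ b h (θ r) = 0 := by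
    intro r hr
    have h0 : DirectLimit.Ring.of Ra t a₀ (θ r) = DirectLimit.Ring.of Ra t a₀ 0 := by
      rw [hθ', map_zero]
      have : r ∈ RingHom.ker f.toRingHom := by rw [← hs]; exact Ideal.subset_span hr
      have h1 : f r = 0 := this
      rw [h1, map_zero]
    obtain ⟨b, h1, h2, h3⟩ :=
      (Groth.Agent.Lib.Helper58.HenselPair.directLimit_of_eq_of_iff Ra t _ _).1 h0
    refine ⟨b, h1, ?_⟩
    rw [h3, map_zero]
  choose! br hbr hbr0 using hrel
  obtain ⟨b₀, hb₀⟩ := Finset.exists_le (insert a₀ (s.image br))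
  have hab : a₀ ≤ b₀ := hb₀ _ (Finset.mem_insert_self _ _)
  have hbr' : ∀ r ∈ s, br r ≤ b₀ := fun r hr =>
    hb₀ _ (Finset.mem_insert_of_mem (Finset.mem_image_of_mem _ hr))
  let θb : MvPolynomial (Fin n) A →ₐ[A] Ra b₀ := (tAlg Ra t ht a₀ b₀ hab).comp θ
  have hθb : ∀ r ∈ s, θb r = 0 := by
    intro r hr
    change t a₀ b₀ hab (θ r) = 0
    have := DirectedSystem.map_map' (f := t) (hbr r hr) (hbr' r hr) (θ r)
    rw [← this, hbr0 r hr, map_zero]
  have hker : RingHom.ker f.toRingHom ≤ RingHom.ker θb.toRingHom := by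
    rw [← hs, Ideal.span_le]
    intro r hr
    exact hθb r hr
  let φr : R₀ →+* Ra b₀ := RingHom.liftOfSurjective f.toRingHom hf ⟨θb.toRingHom, hker⟩
  have hφr : ∀ q, φr (f q) = θb q := fun q =>
    RingHom.liftOfSurjective_comp_apply f.toRingHom hf ⟨θb.toRingHom, hker⟩ q
  let φ₀ : R₀ →ₐ[A] Ra b₀ :=
    { φr with
      commutes' := fun x => by
        change φr (algebraMap A R₀ x) = _
        rw [← f.commutes, hφr, θb.commutes] }
  refine ⟨b₀, φ₀, fun x => ?_⟩
  obtain ⟨q, rfl⟩ := hf x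
  change DirectLimit.Ring.of Ra t b₀ (φr (f q)) = _
  rw [hφr]
  change DirectLimit.Ring.of Ra t b₀ (t a₀ b₀ hab (θ q)) = _
  rw [DirectLimit.Ring.of_f, hθ']

omit [Algebra A (DirectLimit Ra t)] in
include ht in
/-- two maps from a finite type algebra to a stage that agree in the limit agree at a later
stage. -/
theorem exists_eq_of_finiteType (R₀ : Type u) [CommRing R₀] [Algebra A R₀]
    [Algebra.FiniteType A R₀] (a : κ) (φ ψ : R₀ →ₐ[A] Ra a)
    (h : ∀ x, DirectLimit.Ring.of Ra t a (φ x) = DirectLimit.Ring.of Ra t a (ψ x)) :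
    ∃ (b : κ) (hab : a ≤ b), (tAlg Ra t ht a b hab).comp φ = (tAlg Ra t ht a b hab).comp ψ := by
  classical
  obtain ⟨n, f, hf⟩ := Algebra.FiniteType.iff_quotient_mvPolynomial''.1
    (inferInstance : Algebra.FiniteType A R₀)
  have hex : ∀ i : Fin n, ∃ b, ∃ hab : a ≤ b,
      t a b hab (φ (f (MvPolynomial.X i))) = t a b hab (ψ (f (MvPolynomial.X i))) := by
    intro i
    obtain ⟨b, h1, h2, h3⟩ :=
      (Groth.Agent.Lib.Helper58.HenselPair.directLimit_of_eq_of_iff Ra t _ _).1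
        (h (f (MvPolynomial.X i)))
    exact ⟨b, h1, h3⟩
  choose bi hbi hbi' using hex
  obtain ⟨b₀, hb₀⟩ := Finset.exists_le (insert a (Finset.univ.image bi))
  have hab : a ≤ b₀ := hb₀ _ (Finset.mem_insert_self _ _)
  have hbb : ∀ i, bi i ≤ b₀ := fun i =>
    hb₀ _ (Finset.mem_insert_of_mem (Finset.mem_image_of_mem _ (Finset.mem_univ i)))
  refine ⟨b₀, hab, ?_⟩
  have key : ((tAlg Ra t ht a b₀ hab).comp φ).comp f = ((tAlg Ra t ht a b₀ hab).comp ψ).comp f := by
    apply MvPolynomial.algHom_ext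
    intro i
    change t a b₀ hab (φ (f (MvPolynomial.X i))) = t a b₀ hab (ψ (f (MvPolynomial.X i)))
    have e1 := DirectedSystem.map_map' (f := t) (hbi i) (hbb i) (φ (f (MvPolynomial.X i)))
    have e2 := DirectedSystem.map_map' (f := t) (hbi i) (hbb i) (ψ (f (MvPolynomial.X i)))
    rw [← e1, ← e2, hbi']
  ext x
  obtain ⟨q, rfl⟩ := hf x
  exact DFunLike.congr_fun key q

end FP

end Groth.Agent.Lib.Helper58.DirLimFP
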