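import Mathlib
import Groth.Agent.Lib.Helper58.HenselPairColim

/-!
# Identifying a ring with a direct limit of rings
-/

set_option autoImplicit false
universe u

namespace Groth.Agent.Lib.Helper58.DirLimIso

open Groth.Agent.Lib.Helper58.HenselPair

variable {A : Type u} [CommRing A] {κ : Type u} [Preorder κ] [IsDirectedOrder κ] [Nonempty κ]
  (Ra : κ → Type u) [∀ a, CommRing (Ra a)] [∀ a, Algebra A (Ra a)]
  (t : ∀ a b : κ, a ≤ b → (Ra a →+* Ra b)) [DirectedSystem Ra (fun a b h => t a b h)]
  (ht : ∀ (a b : κ) (h : a ≤ b), (t a b h).comp (algebraMap A (Ra a)) = algebraMap A (Ra b))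

/-- an `A`-algebra structure on the direct limit of a system of `A`-algebras with ring hom
transition maps. -/
@[reducible] noncomputable def dlAlgebra : Algebra A (DirectLimit Ra t) :=
  ((DirectLimit.Ring.of Ra t (Classical.arbitrary κ)).comp
    (algebraMap A (Ra (Classical.arbitrary κ)))).toAlgebra

include ht in
lemma dlAlgebra_algebraMap (a : κ) (x : A) :
    (dlAlgebra Ra t).algebraMap x = DirectLimit.Ring.of Ra t a (algebraMap A (Ra a) x) := by
  obtain ⟨c, hc1, hc2⟩ := exists_ge_ge (Classical.arbitrary κ) a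
  change DirectLimit.Ring.of Ra t (Classical.arbitrary κ)
    (algebraMap A (Ra (Classical.arbitrary κ)) x) = _
  rw [← DirectLimit.Ring.of_f (G := Ra) (f := t) hc1, ← DirectLimit.Ring.of_f (G := Ra) (f := t) hc2]
  have h1 := congrArg (fun ρ : A →+* Ra c => ρ x) (ht (Classical.arbitrary κ) c hc1)
  have h2 := congrArg (fun ρ : A →+* Ra c => ρ x) (ht a c hc2)
  simp only [RingHom.comp_apply] at h1 h2
  rw [h1, h2]

/-- A ring `B` receiving compatible maps from a directed system which are jointly surjective and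
whose kernels die in the system is the direct limit: there is an inverse map `B → lim`. -/
theorem exists_algHom_of_bijective {B : Type u} [CommRing B] [Algebra A B]
    (g : ∀ a, Ra a →ₐ[A] B) (hg : ∀ (a b : κ) (h : a ≤ b) (x : Ra a), g b (t a b h x) = g a x)
    (hsurj : ∀ y : B, ∃ a x, g a x = y)
    (hinj : ∀ a x, g a x = 0 → ∃ b, ∃ h : a ≤ b, t a b h x = 0)
    [Algebra A (DirectLimit Ra t)]
    (halg : ∀ (a : κ) (x : A), algebraMap A (DirectLimit Ra t) x =
      DirectLimit.Ring.of Ra t a (algebraMap A (Ra a) x)) :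
    ∃ χ : B →ₐ[A] DirectLimit Ra t, (∀ a x, χ (g a x) = DirectLimit.Ring.of Ra t a x) ∧
      ∀ y : B, ∀ a x, χ y = DirectLimit.Ring.of Ra t a x → g a x = y := by
  let ν : DirectLimit Ra t →+* B :=
    DirectLimit.Ring.lift Ra t B (fun a => (g a).toRingHom) (fun a b h x => hg a b h x)
  have hν : ∀ a x, ν (DirectLimit.Ring.of Ra t a x) = g a x := fun a x =>
    DirectLimit.Ring.lift_of _ _ _ _ _
  have hbij : Function.Bijective ν := by
    constructor
    · rw [injective_iff_map_eq_zero]
      intro z hz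
      obtain ⟨a, x, rfl⟩ := directLimit_exists_of Ra t z
      rw [hν] at hz
      obtain ⟨b, h, hb⟩ := hinj a x hz
      rw [← DirectLimit.Ring.of_f (G := Ra) (f := t) h, hb, map_zero]
    · intro y
      obtain ⟨a, x, rfl⟩ := hsurj y
      exact ⟨DirectLimit.Ring.of Ra t a x, hν a x⟩
  let e : DirectLimit Ra t ≃+* B := RingEquiv.ofBijective ν hbij
  have he : ∀ z, e z = ν z := fun _ => rfl
  obtain ⟨a₀⟩ := ‹Nonempty κ›
  refine ⟨{ e.symm.toRingHom with commutes' := fun x => ?_ }, ?_, ?_⟩
  · change e.symm (algebraMap A B x) = algebraMap A (DirectLimit Ra t) x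
    rw [RingEquiv.symm_apply_eq, he, halg a₀, hν, AlgHom.commutes]
  · intro a x
    change e.symm (g a x) = _
    rw [RingEquiv.symm_apply_eq, he, hν]
  · intro y a x hy
    have h1 : e.symm y = DirectLimit.Ring.of Ra t a x := hy
    rw [RingEquiv.symm_apply_eq, he, hν] at h1
    exact h1.symm

end Groth.Agent.Lib.Helper58.DirLimIso
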