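import Mathlib
import Groth.Prelude.Def_Hens2
import Groth.Agent.Lib.Helper58.PairHensNbhd
import Groth.Agent.Lib.Helper58.PairHensQuot

/-!
# Maps from finitely presented algebras into a henselization factor through an étale neighbourhood
-/

set_option autoImplicit false
universe u

namespace Groth.Agent.Lib.Helper58.PairHens

section Factor

variable {A : Type u} [CommRing A] {I : Ideal A}
variable {B : Type u} [CommRing B] [Algebra A B]

/-- finitely many relations in a henselization die in a further étale neighbourhood. -/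
theorem exists_nbhd_of_finset_map_eq_zero (hB : Hens2.IsPairHenselization A I B)
    (A' : Type u) [CommRing A'] [Algebra A A'] [Algebra.Etale A A']
    (hb : Function.Bijective
      (Ideal.quotientMap (I.map (algebraMap A A')) (algebraMap A A') Ideal.le_comap_map))
    (φ : A' →ₐ[A] B) (s : Finset A') (hs : ∀ x ∈ s, φ x = 0) :
    ∃ (A'' : Type u) (_ : CommRing A'') (_ : Algebra A A'') (_ : Algebra.Etale A A''),
      Function.Bijective
        (Ideal.quotientMap (I.map (algebraMap A A'')) (algebraMap A A'') Ideal.le_comap_map) ∧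
      ∃ ψ : A' →ₐ[A] A'', ∀ x ∈ s, ψ x = 0 := by
  classical
  induction s using Finset.induction_on with
  | empty =>
    exact ⟨A', inferInstance, inferInstance, inferInstance, hb, AlgHom.id A A', fun x hx => by
      simp at hx⟩
  | insert a s _ ih =>
    obtain ⟨A'', _, _, _, hb'', ψ, hψ⟩ := ih (fun x hx => hs x (Finset.mem_insert_of_mem hx))
    obtain ⟨⟨φ''⟩, -⟩ := nonempty_unique_algHom_nbhd hB A'' hb''
    obtain ⟨hU⟩ := nonempty_unique_algHom_nbhd hB A' hb
    have hcomp : φ''.comp ψ = φ := (hU.uniq _).trans (hU.uniq _).symm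
    have h0 : φ'' (ψ a) = 0 := by
      have := AlgHom.congr_fun hcomp a
      rw [AlgHom.comp_apply] at this
      rw [this]
      exact hs a (Finset.mem_insert_self a s)
    obtain ⟨A''', _, _, _, hb''', ψ', hψ'⟩ := exists_nbhd_of_map_eq_zero hB A'' hb'' φ'' (ψ a) h0
    refine ⟨A''', inferInstance, inferInstance, inferInstance, hb''', ψ'.comp ψ, ?_⟩
    intro x hx
    rcases Finset.mem_insert.mp hx with rfl | hx
    · exact hψ'
    · rw [AlgHom.comp_apply, hψ x hx, map_zero]

/-- **Factorization**: a map from a finitely presented `Λ`-algebra `R` to a henselization `B` of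
`(A, I)` factors through an étale neighbourhood of `(A, I)`. -/
theorem exists_factor_nbhd (hB : Hens2.IsPairHenselization A I B)
    {Λ : Type u} [CommRing Λ] [Algebra Λ A] [Algebra Λ B] [IsScalarTower Λ A B]
    (R : Type u) [CommRing R] [Algebra Λ R] [Algebra.FinitePresentation Λ R] (χ : R →ₐ[Λ] B) :
    ∃ (A' : Type u) (_ : CommRing A') (_ : Algebra A A') (_ : Algebra.Etale A A'),
      Function.Bijective
        (Ideal.quotientMap (I.map (algebraMap A A')) (algebraMap A A') Ideal.le_comap_map) ∧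
      ∃ (φ : A' →ₐ[A] B) (ρ : R →+* A'),
        (∀ l : Λ, ρ (algebraMap Λ R l) = algebraMap A A' (algebraMap Λ A l)) ∧
        ∀ r : R, φ (ρ r) = χ r := by
  classical
  obtain ⟨n, f, hf, s, hs⟩ := Algebra.FinitePresentation.out (R := Λ) (A := R)
  obtain ⟨A₁, _, _, _, hb₁, φ₁, hφ₁⟩ :=
    exists_nbhd_of_finset hB (Finset.univ.image (fun i : Fin n => χ (f (MvPolynomial.X i))))
  have hy : ∀ i : Fin n, ∃ y : A₁, φ₁ y = χ (f (MvPolynomial.X i)) := fun i =>
    hφ₁ _ (Finset.mem_image_of_mem _ (Finset.mem_univ i))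
  choose y hy using hy
  let ρ₀ : MvPolynomial (Fin n) Λ →+* A₁ :=
    MvPolynomial.eval₂Hom ((algebraMap A A₁).comp (algebraMap Λ A)) y
  have hρ₀ : ∀ p, φ₁ (ρ₀ p) = χ (f p) := by
    intro p
    have : (φ₁ : A₁ →+* B).comp ρ₀ = (χ : R →+* B).comp (f : MvPolynomial (Fin n) Λ →+* R) := by
      apply MvPolynomial.ringHom_ext
      · intro l
        simp only [RingHom.comp_apply, ρ₀, MvPolynomial.eval₂Hom_C, RingHom.coe_coe,
          AlgHom.commutes]
        rw [← MvPolynomial.algebraMap_eq, AlgHom.commutes, AlgHom.commutes,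
          IsScalarTower.algebraMap_apply Λ A B]
      · intro i
        simp only [RingHom.comp_apply, ρ₀, MvPolynomial.eval₂Hom_X', RingHom.coe_coe]
        exact hy i
    exact congrArg (fun ρ : MvPolynomial (Fin n) Λ →+* B => ρ p) this
  have hkill : ∀ x ∈ s.image ρ₀, φ₁ x = 0 := by
    intro x hx
    obtain ⟨g, hg, rfl⟩ := Finset.mem_image.mp hx
    rw [hρ₀]
    have : g ∈ RingHom.ker f.toRingHom := by rw [← hs]; exact Ideal.subset_span hg
    rw [show f g = 0 from this, map_zero]
  obtain ⟨A₂, _, _, _, hb₂, ψ, hψ⟩ :=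
    exists_nbhd_of_finset_map_eq_zero hB A₁ hb₁ φ₁ (s.image ρ₀) hkill
  obtain ⟨⟨φ₂⟩, -⟩ := nonempty_unique_algHom_nbhd hB A₂ hb₂
  obtain ⟨hU⟩ := nonempty_unique_algHom_nbhd hB A₁ hb₁
  have hcomp : φ₂.comp ψ = φ₁ := (hU.uniq _).trans (hU.uniq _).symm
  let ρ₁ : MvPolynomial (Fin n) Λ →+* A₂ := (ψ : A₁ →+* A₂).comp ρ₀
  have hker : RingHom.ker f.toRingHom ≤ RingHom.ker ρ₁ := by
    rw [← hs, Ideal.span_le]
    intro g hg
    change ψ (ρ₀ g) = 0
    exact hψ _ (Finset.mem_image_of_mem _ hg)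
  let ρ : R →+* A₂ := f.toRingHom.liftOfSurjective hf ⟨ρ₁, hker⟩
  have hρ : ∀ p, ρ (f p) = ψ (ρ₀ p) := fun p =>
    f.toRingHom.liftOfSurjective_comp_apply hf ⟨ρ₁, hker⟩ p
  refine ⟨A₂, inferInstance, inferInstance, inferInstance, hb₂, φ₂, ρ, ?_, ?_⟩
  · intro l
    have : algebraMap Λ R l = f (MvPolynomial.C l) := by
      rw [← MvPolynomial.algebraMap_eq, AlgHom.commutes]
    rw [this, hρ]
    simp only [ρ₀, MvPolynomial.eval₂Hom_C, RingHom.comp_apply, AlgHom.commutes]
  · intro r
    obtain ⟨p, rfl⟩ := hf r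
    rw [hρ, ← hρ₀]
    exact AlgHom.congr_fun hcomp (ρ₀ p)

end Factor

end Groth.Agent.Lib.Helper58.PairHens
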