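import Mathlib
import Groth.Prelude.Def_Hens2
import Groth.Agent.Lib.Helper58.HenselPairZMT
import Groth.Agent.Lib.Helper58.HenselPairUniq
import Groth.Agent.Lib.Helper58.PairHensProps

/-!
# Henselization of a finite type algebra with finite reduction over a henselian pair
-/

set_option autoImplicit false
universe u

namespace Groth.Agent.Lib.Helper58.PairHens

variable {A : Type u} [CommRing A] (I : Ideal A) (R : Type u) [CommRing R] [Algebra A R]

/-- If `e` is an idempotent of `R` with `1 - e ∈ I R` and `R / (1 - e)` is integral over the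
henselian pair `(A, I)`, then `R / (1 - e)` is the henselization of `(R, I R)`. -/
theorem isPairHenselization_quotient_idempotent [HenselianRing A I] (e : R)
    (he : IsIdempotentElem e) (h1 : 1 - e ∈ I.map (algebraMap A R))
    [Algebra.IsIntegral A (R ⧸ Ideal.span {1 - e})] :
    Hens2.IsPairHenselization R (I.map (algebraMap A R)) (R ⧸ Ideal.span {1 - e}) := by
  constructor
  · have h := Groth.Agent.Lib.Helper58.HenselPair.henselian_of_isIntegral (A := A) (I := I)
      (R ⧸ Ideal.span {1 - e})
    have e1 : (I.map (algebraMap A R)).map (algebraMap R (R ⧸ Ideal.span {1 - e})) =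
        I.map (algebraMap A (R ⧸ Ideal.span {1 - e})) := by
      rw [Ideal.map_map, ← IsScalarTower.algebraMap_eq]
    rw [e1]
    exact h
  · intro C _ J f hC hle
    have hJ : J ≤ Ideal.jacobson ⊥ := HenselianRing.jac
    have hid : IsIdempotentElem (f (1 - e)) := (he.one_sub).map f
    have hmem : f (1 - e) ∈ J := hle (Ideal.mem_map_of_mem f h1)
    have hzero : f (1 - e) = 0 :=
      Groth.Agent.Lib.Helper58.HenselPair.idempotent_eq_zero_of_mem_jacobson hid (hJ hmem)
    have hker : ∀ a ∈ Ideal.span {1 - e}, f a = 0 := by
      intro a ha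
      obtain ⟨c, rfl⟩ := Ideal.mem_span_singleton'.mp ha
      rw [map_mul, hzero, mul_zero]
    refine ⟨Ideal.Quotient.lift _ f hker, ?_, ?_⟩
    · ext a
      rfl
    · intro g' hg'
      apply Ideal.Quotient.ringHom_ext
      refine RingHom.ext fun a => ?_
      have := congrArg (fun ρ : R →+* C => ρ a) hg'
      exact this

/-- `R / I R → B / I B` is bijective for a henselization `B` of `(R, I R)`. -/
theorem quotientMap_bijective_one {R : Type u} [CommRing R] (K : Ideal R)
    {B : Type u} [CommRing B] [Algebra R B]
    (hB : Hens2.IsPairHenselization R K B) :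
    Function.Bijective
      (Ideal.quotientMap (K.map (algebraMap R B)) (algebraMap R B) Ideal.le_comap_map) := by
  have hb := quotientMap_pow_bijective hB 1
  exact quotientMap_bijective_congr (algebraMap R B) (pow_one K)
    (by rw [pow_one]) Ideal.le_comap_map Ideal.le_comap_map hb

/-- **Stacks-type finiteness**: for a henselian pair `(A, I)`, a finite type `A`-algebra `R` with
`R / I R` finite over `A`, any henselization `B` of `(R, I R)` is a quotient of `R` by an idempotent
and is finite over `A`. -/
theorem exists_algEquiv_quotient_idempotent [HenselianRing A I] [Algebra.FiniteType A R]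
    [Module.Finite A (R ⧸ I.map (algebraMap A R))]
    (B : Type u) [CommRing B] [Algebra R B]
    (hB : Hens2.IsPairHenselization R (I.map (algebraMap A R)) B) :
    ∃ e : R, IsIdempotentElem e ∧ 1 - e ∈ I.map (algebraMap A R) ∧
      Module.Finite A (R ⧸ Ideal.span {1 - e}) ∧ Nonempty (B ≃ₐ[R] (R ⧸ Ideal.span {1 - e})) := by
  obtain ⟨e, he, h1, hfin⟩ :=
    Groth.Agent.Lib.Helper58.HenselPair.exists_idempotent_finite_quotient I R
  have hint : Algebra.IsIntegral A (R ⧸ Ideal.span {1 - e}) := Algebra.IsIntegral.of_finite A _
  exact ⟨e, he, h1, hfin, nonempty_algEquiv_of_isPairHenselization hB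
    (isPairHenselization_quotient_idempotent I R e he h1)⟩

end Groth.Agent.Lib.Helper58.PairHens
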