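import Mathlib
import Groth.Prelude.Def_Hens2
import Groth.Agent.Lib.Helper58.PairHensFactor
import Groth.Agent.Lib.Helper58.PairHensFinite
import Groth.Agent.Lib.Helper58.HenselPairZMT

/-!
# Etale localization of algebras with finite closed fibre over a pair (EGA IV 18.5.11 style)
-/

set_option autoImplicit false
universe u

namespace Groth.Agent.Lib.Helper58.PairHens

open TensorProduct

section Descent

variable {A : Type u} [CommRing A] {I : Ideal A} {H : Type u} [CommRing H] [Algebra A H]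
variable (B : Type u) [CommRing B] [Algebra A B]

/-- the base change of an algebra map is semilinear. -/
lemma tmap_smul {A₁ A₂ : Type u} [CommRing A₁] [CommRing A₂] [Algebra A A₁] [Algebra A A₂]
    (ψ : A₁ →ₐ[A] A₂) (a : A₁) (x : A₁ ⊗[A] B) :
    Algebra.TensorProduct.map ψ (AlgHom.id A B) (a • x) =
      ψ a • Algebra.TensorProduct.map ψ (AlgHom.id A B) x := by
  rw [Algebra.smul_def, Algebra.smul_def, map_mul, Algebra.TensorProduct.algebraMap_apply,
    Algebra.TensorProduct.algebraMap_apply, Algebra.TensorProduct.map_tmul]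
  simp

/-- the base change of an algebra map commutes with polynomial evaluation. -/
lemma tmap_aeval {A₁ A₂ : Type u} [CommRing A₁] [CommRing A₂] [Algebra A A₁] [Algebra A A₂]
    (ψ : A₁ →ₐ[A] A₂) (z : A₁ ⊗[A] B) (P : Polynomial A₁) :
    Algebra.TensorProduct.map ψ (AlgHom.id A B) (Polynomial.aeval z P) =
      Polynomial.aeval (Algebra.TensorProduct.map ψ (AlgHom.id A B) z) (P.map (ψ : A₁ →+* A₂)) := by
  rw [Polynomial.aeval_def, Polynomial.aeval_def, Polynomial.eval₂_map]
  have h := Polynomial.hom_eval₂ P (algebraMap A₁ (A₁ ⊗[A] B))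
    ((Algebra.TensorProduct.map ψ (AlgHom.id A B) : A₁ ⊗[A] B →ₐ[A] A₂ ⊗[A] B) :
      A₁ ⊗[A] B →+* A₂ ⊗[A] B) z
  have hc : ((Algebra.TensorProduct.map ψ (AlgHom.id A B) : A₁ ⊗[A] B →ₐ[A] A₂ ⊗[A] B) :
      A₁ ⊗[A] B →+* A₂ ⊗[A] B).comp (algebraMap A₁ (A₁ ⊗[A] B)) =
      (algebraMap A₂ (A₂ ⊗[A] B)).comp (ψ : A₁ →+* A₂) := by
    ext a
    simp [Algebra.TensorProduct.algebraMap_apply]
  rw [hc] at h
  exact h

/-- every element of `H ⊗ B` is defined over any subalgebra containing a suitable finite set. -/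
lemma exists_finset_of_tensor (s : H ⊗[A] B) :
    ∃ T : Finset H, ∀ (A' : Type u) [CommRing A'] [Algebra A A'] (φ : A' →ₐ[A] H),
      (∀ t ∈ T, t ∈ Set.range φ) →
      s ∈ Set.range (Algebra.TensorProduct.map φ (AlgHom.id A B)) := by
  classical
  induction s using TensorProduct.induction_on with
  | zero => exact ⟨∅, fun A' _ _ φ _ => ⟨0, map_zero _⟩⟩
  | tmul h b =>
    refine ⟨{h}, fun A' _ _ φ hφ => ?_⟩
    obtain ⟨a, ha⟩ := hφ h (Finset.mem_singleton_self h)
    exact ⟨a ⊗ₜ b, by simp [ha]⟩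
  | add x y hx hy =>
    obtain ⟨T1, h1⟩ := hx
    obtain ⟨T2, h2⟩ := hy
    refine ⟨T1 ∪ T2, fun A' _ _ φ hφ => ?_⟩
    obtain ⟨x', hx'⟩ := h1 A' φ (fun t ht => hφ t (Finset.mem_union_left _ ht))
    obtain ⟨y', hy'⟩ := h2 A' φ (fun t ht => hφ t (Finset.mem_union_right _ ht))
    exact ⟨x' + y', by rw [map_add, hx', hy']⟩

/-- finitely many elements of `H` and of `H ⊗ B` are defined over an étale neighbourhood. -/
theorem exists_nbhd_range (hH : Hens2.IsPairHenselization A I H) (T : Finset H)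
    (S : Finset (H ⊗[A] B)) :
    ∃ (A' : Type u) (_ : CommRing A') (_ : Algebra A A') (_ : Algebra.Etale A A'),
      Function.Bijective
        (Ideal.quotientMap (I.map (algebraMap A A')) (algebraMap A A') Ideal.le_comap_map) ∧
      ∃ (φ : A' →ₐ[A] H), (∀ t ∈ T, t ∈ Set.range φ) ∧
        ∀ s ∈ S, s ∈ Set.range (Algebra.TensorProduct.map φ (AlgHom.id A B)) := by
  classical
  choose Ts hTs using exists_finset_of_tensor (A := A) (H := H) B
  obtain ⟨A', _, _, _, hb, φ, hφ⟩ := exists_nbhd_of_finset hH (T ∪ S.biUnion Ts)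
  refine ⟨A', inferInstance, inferInstance, inferInstance, hb, φ,
    fun t ht => hφ t (Finset.mem_union_left _ ht), fun s hs => ?_⟩
  exact hTs s A' φ (fun t ht => hφ t (Finset.mem_union_right _ (Finset.mem_biUnion.2 ⟨s, hs, ht⟩)))

/-- an element of `A₁ ⊗ B` dying in `H ⊗ B` is killed by an element of `A₁` congruent to `1`. -/
theorem exists_smul_eq_zero_of_tmap_eq_zero (hH : Hens2.IsPairHenselization A I H)
    (A₁ : Type u) [CommRing A₁] [Algebra A A₁] [Algebra.Etale A A₁]
    (hb : Function.Bijective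
      (Ideal.quotientMap (I.map (algebraMap A A₁)) (algebraMap A A₁) Ideal.le_comap_map))
    (φ : A₁ →ₐ[A] H) (x : A₁ ⊗[A] B)
    (hx : Algebra.TensorProduct.map φ (AlgHom.id A B) x = 0) :
    ∃ a : A₁, a - 1 ∈ I.map (algebraMap A A₁) ∧ a • x = 0 := by
  classical
  let _ : Algebra A₁ H := φ.toRingHom.toAlgebra
  have _ : IsScalarTower A A₁ H := IsScalarTower.of_algebraMap_eq (fun a => (φ.commutes a).symm)
  have hH₁ : Hens2.IsPairHenselization A₁ (I.map (algebraMap A A₁)) H :=
    isPairHenselization_nbhd hb hH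
  have hflat : Module.Flat A₁ H := flat_of_isPairHenselization hH₁
  have hbij := quotientMap_bijective_one (I.map (algebraMap A A₁)) hH₁
  obtain ⟨hinj, hsurj⟩ := quotMap_bijective_iff.1 hbij
  -- the comparison map
  let Θ : H ⊗[A] B →ₐ[A] (A₁ ⊗[A] B) ⊗[A₁] H :=
    Algebra.TensorProduct.lift
      ((Algebra.TensorProduct.includeRight : H →ₐ[A₁] (A₁ ⊗[A] B) ⊗[A₁] H).restrictScalars A)
      (((Algebra.TensorProduct.includeLeft : (A₁ ⊗[A] B) →ₐ[A₁] (A₁ ⊗[A] B) ⊗[A₁] H).restrictScalars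
        A).comp (Algebra.TensorProduct.includeRight : B →ₐ[A] A₁ ⊗[A] B))
      (fun _ _ => Commute.all _ _)
  have hΘ : ∀ z : A₁ ⊗[A] B,
      Θ (Algebra.TensorProduct.map φ (AlgHom.id A B) z) = z ⊗ₜ[A₁] (1 : H) := by
    intro z
    induction z using TensorProduct.induction_on with
    | zero => simp
    | tmul a b =>
      rw [Algebra.TensorProduct.map_tmul]
      change Θ (φ a ⊗ₜ[A] b) = _
      rw [Algebra.TensorProduct.lift_tmul]
      change ((1 : A₁ ⊗[A] B) ⊗ₜ[A₁] (φ a)) * (((1 : A₁) ⊗ₜ[A] b) ⊗ₜ[A₁] (1 : H)) = _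
      rw [Algebra.TensorProduct.tmul_mul_tmul, one_mul, mul_one]
      have h1 : φ a = a • (1 : H) := by
        rw [Algebra.smul_def, mul_one]; rfl
      rw [h1, ← TensorProduct.smul_tmul, TensorProduct.smul_tmul', smul_eq_mul, mul_one]
    | add z w hz hw => rw [map_add, map_add, hz, hw, TensorProduct.add_tmul]
  have h0 : x ⊗ₜ[A₁] (1 : H) = 0 := by rw [← hΘ, hx, map_zero]
  have hm : Function.Injective
      (LinearMap.rTensor H (Submodule.span A₁ (Set.range (fun _ : Unit => x))).subtype) :=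
    Module.Flat.rTensor_preserves_injective_linearMap _ (Submodule.injective_subtype _)
  obtain ⟨k, a, y, h₁, h₂⟩ :=
    TensorProduct.vanishesTrivially_of_sum_tmul_eq_zero_of_rTensor_injective A₁
      (m := fun _ : Unit => x) (n := fun _ : Unit => (1 : H)) hm (by simpa using h0)
  have h₁' : (1 : H) = ∑ j, φ (a () j) * y j := by
    have h1 : (1 : H) = ∑ j, a () j • y j := h₁ ()
    rw [h1]
    refine Finset.sum_congr rfl fun j _ => ?_
    rw [Algebra.smul_def]; rfl
  have h₂' : ∀ j, a () j • x = 0 := fun j => by simpa using h₂ j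
  choose c hc using hsurj
  refine ⟨∑ j, a () j * c (y j), ?_, ?_⟩
  · apply hinj
    have e1 : algebraMap A₁ H (∑ j, a () j * c (y j) - 1) =
        - ∑ j, φ (a () j) * (y j - algebraMap A₁ H (c (y j))) := by
      rw [map_sub, map_one, map_sum]
      conv_lhs => rw [h₁']
      rw [← Finset.sum_sub_distrib, ← Finset.sum_neg_distrib]
      refine Finset.sum_congr rfl fun j _ => ?_
      rw [map_mul]
      change φ (a () j) * _ - _ = _
      ring
    rw [e1]
    refine Ideal.neg_mem_iff _ |>.2 (Ideal.sum_mem _ fun j _ => Ideal.mul_mem_left _ _ (hc (y j)))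
  · rw [Finset.sum_smul]
    refine Finset.sum_eq_zero fun j _ => ?_
    rw [mul_comm, mul_smul, h₂' j, smul_zero]

/-- finitely many elements of `A₁ ⊗ B` dying in `H ⊗ B` die over a smaller étale neighbourhood. -/
theorem exists_nbhd_tensor_eq_zero (hH : Hens2.IsPairHenselization A I H)
    (A₁ : Type u) [CommRing A₁] [Algebra A A₁] [Algebra.Etale A A₁]
    (hb : Function.Bijective
      (Ideal.quotientMap (I.map (algebraMap A A₁)) (algebraMap A A₁) Ideal.le_comap_map))
    (φ : A₁ →ₐ[A] H) (X : Finset (A₁ ⊗[A] B))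
    (hX : ∀ x ∈ X, Algebra.TensorProduct.map φ (AlgHom.id A B) x = 0) :
    ∃ (A₂ : Type u) (_ : CommRing A₂) (_ : Algebra A A₂) (_ : Algebra.Etale A A₂),
      Function.Bijective
        (Ideal.quotientMap (I.map (algebraMap A A₂)) (algebraMap A A₂) Ideal.le_comap_map) ∧
      ∃ ψ : A₁ →ₐ[A] A₂, ∀ x ∈ X, Algebra.TensorProduct.map ψ (AlgHom.id A B) x = 0 := by
  classical
  have h1 : ∀ x ∈ X, ∃ a : A₁, a - 1 ∈ I.map (algebraMap A A₁) ∧ a • x = 0 := fun x hx =>
    exists_smul_eq_zero_of_tmap_eq_zero B hH A₁ hb φ x (hX x hx)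
  choose! a ha1 ha2 using h1
  obtain ⟨σ, hσ⟩ := exists_pt_of_quotMap_bijective hb
  have hσa : ∀ x ∈ X, σ (a x) = 1 := fun x hx => by
    have : a x - 1 ∈ RingHom.ker σ := by rw [hσ]; exact ha1 x hx
    rw [RingHom.mem_ker, map_sub, map_one, sub_eq_zero] at this
    exact this
  have hσp : σ (∏ x ∈ X, a x) = 1 := by
    rw [map_prod]
    exact Finset.prod_eq_one hσa
  obtain ⟨E', _, _, _, g, σ', -, hu, hker⟩ := exists_tight_nbhd σ (∏ x ∈ X, a x)
    (by rw [hσp]; exact isUnit_one)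
  refine ⟨E', inferInstance, inferInstance, inferInstance, quotMap_bijective_of_ker_eq σ' hker,
    g, fun x hx => ?_⟩
  have h2 : (∏ y ∈ X, a y) • x = 0 := by
    rw [← Finset.mul_prod_erase X a hx, mul_comm, mul_smul, ha2 x hx, smul_zero]
  have h3 := congrArg (Algebra.TensorProduct.map g (AlgHom.id A B)) h2
  rw [tmap_smul, map_zero] at h3
  exact (hu.smul_eq_zero).1 h3

end Descent

section Main

variable (A : Type u) [CommRing A] (I : Ideal A) (B : Type u) [CommRing B] [Algebra A B]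

/-- over the henselization, the part of `B` finite over the base splits off. -/
theorem exists_idempotent_henselization [Algebra.FiniteType A B]
    (hfin : Module.Finite A (B ⧸ I.map (algebraMap A B)))
    (H : Type u) [CommRing H] [Algebra A H] (hH : Hens2.IsPairHenselization A I H) :
    ∃ e : H ⊗[A] B, IsIdempotentElem e ∧ 1 - e ∈ I.map (algebraMap A (H ⊗[A] B)) ∧
      Module.Finite H ((H ⊗[A] B) ⧸ Ideal.span {1 - e}) := by
  have _ : HenselianRing H (I.map (algebraMap A H)) := hH.1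
  have hideal : (I.map (algebraMap A H)).map (algebraMap H (H ⊗[A] B)) =
      (I.map (algebraMap A B)).map
        (Algebra.TensorProduct.includeRight : B →ₐ[A] H ⊗[A] B) := by
    rw [Ideal.map_map, ← IsScalarTower.algebraMap_eq]
    change _ = Ideal.map (Algebra.TensorProduct.includeRight : B →ₐ[A] H ⊗[A] B).toRingHom _
    rw [Ideal.map_map]
    congr 1
    ext a
    simp [Algebra.TensorProduct.algebraMap_apply, Algebra.algebraMap_eq_smul_one,
      TensorProduct.smul_tmul]
  have hfin' : Module.Finite H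
      ((H ⊗[A] B) ⧸ (I.map (algebraMap A H)).map (algebraMap H (H ⊗[A] B))) := by
    have h1 : Module.Finite H (H ⊗[A] (B ⧸ I.map (algebraMap A B))) :=
      Module.Finite.base_change A H _
    have e1 := Algebra.TensorProduct.tensorQuotientEquiv (R := A) H B H (I.map (algebraMap A B))
    have h2 : Module.Finite H ((H ⊗[A] B) ⧸ (I.map (algebraMap A B)).map
        (Algebra.TensorProduct.includeRight : B →ₐ[A] H ⊗[A] B)) :=
      Module.Finite.equiv e1.toLinearEquiv
    rw [hideal]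
    exact h2
  obtain ⟨e, he, h1, hfinR⟩ :=
    Groth.Agent.Lib.Helper58.HenselPair.exists_idempotent_finite_quotient
      (I.map (algebraMap A H)) (H ⊗[A] B)
  refine ⟨e, he, ?_, hfinR⟩
  rw [Ideal.map_map, ← IsScalarTower.algebraMap_eq] at h1
  exact h1

/-- **Etale localization**: over a suitable étale neighbourhood of `(A, I)` the part of `B`
finite over the base splits off. -/
theorem exists_nbhd_idempotent_finite [Algebra.FiniteType A B]
    (hfin : Module.Finite A (B ⧸ I.map (algebraMap A B))) :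
    ∃ (A' : Type u) (_ : CommRing A') (_ : Algebra A A') (_ : Algebra.Etale A A'),
      Function.Bijective
        (Ideal.quotientMap (I.map (algebraMap A A')) (algebraMap A A') Ideal.le_comap_map) ∧
      ∃ e : A' ⊗[A] B, IsIdempotentElem e ∧ 1 - e ∈ I.map (algebraMap A (A' ⊗[A] B)) ∧
        Module.Finite A' ((A' ⊗[A] B) ⧸ Ideal.span {1 - e}) := by
  classical
  have hH := Hp.isPairHenselization A I
  obtain ⟨e, he, h1e, hfinR⟩ := exists_idempotent_henselization A I B hfin (Hp A I) hH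
  -- generators of `B`
  obtain ⟨s, hs⟩ := (Algebra.FiniteType.out : (⊤ : Subalgebra A B).FG)
  -- integral equations over the henselization
  have hP : ∀ b : B, ∃ P : Polynomial (Hp A I), P.Monic ∧
      Polynomial.aeval ((1 : Hp A I) ⊗ₜ[A] b) P * e = 0 := by
    intro b
    have hint : IsIntegral (Hp A I)
        (Ideal.Quotient.mk (Ideal.span {1 - e}) ((1 : Hp A I) ⊗ₜ[A] b)) := IsIntegral.of_finite _ _
    obtain ⟨P, hPm, hP0⟩ := hint
    refine ⟨P, hPm, ?_⟩
    rw [← Polynomial.aeval_def] at hP0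
    have h2 : Polynomial.aeval (Ideal.Quotient.mk (Ideal.span {1 - e}) ((1 : Hp A I) ⊗ₜ[A] b)) P =
        Ideal.Quotient.mk (Ideal.span {1 - e}) (Polynomial.aeval ((1 : Hp A I) ⊗ₜ[A] b) P) :=
      Polynomial.aeval_algHom_apply (Ideal.Quotient.mkₐ (Hp A I) (Ideal.span {1 - e})) _ P
    rw [h2, Ideal.Quotient.eq_zero_iff_mem, Ideal.mem_span_singleton'] at hP0
    obtain ⟨w, hw⟩ := hP0
    rw [← hw, mul_assoc, sub_mul, one_mul, he.eq, sub_self, mul_zero]
  choose P hPm hPe using hP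
  -- the relation `1 - e ∈ I (H ⊗ B)`
  have hspan : 1 - e ∈ Ideal.span (algebraMap A (Hp A I ⊗[A] B) '' (I : Set A)) := h1e
  obtain ⟨n, f, g, hfg⟩ := Submodule.mem_span_set'.1 hspan
  have hg : ∀ i : Fin n, ∃ j : A, j ∈ I ∧ algebraMap A (Hp A I ⊗[A] B) j = (g i : Hp A I ⊗[A] B) :=
    fun i => (g i).2
  choose j hjI hj using hg
  -- descend to a neighbourhood
  obtain ⟨A₁, _, _, _, hb₁, φ₁, hT, hS⟩ := exists_nbhd_range B hH
    (s.biUnion (fun b => (P b).coeffs)) (insert e (Finset.univ.image f))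
  obtain ⟨e₁, he₁⟩ := hS e (Finset.mem_insert_self _ _)
  have hf' : ∀ i : Fin n, ∃ y : A₁ ⊗[A] B,
      Algebra.TensorProduct.map φ₁ (AlgHom.id A B) y = f i := fun i =>
    hS (f i) (Finset.mem_insert_of_mem (Finset.mem_image_of_mem _ (Finset.mem_univ i)))
  choose f' hf' using hf'
  have hP' : ∀ b ∈ s, ∃ Q : Polynomial A₁, Q.map (φ₁ : A₁ →+* Hp A I) = P b ∧ Q.Monic := by
    intro b hb
    have hl : P b ∈ Polynomial.lifts (φ₁ : A₁ →+* Hp A I) := by
      rw [Polynomial.lifts_iff_coeffs_subset_range]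
      intro c hc
      exact hT c (Finset.mem_biUnion.2 ⟨b, hb, hc⟩)
    obtain ⟨Q, hQ, -, hQm⟩ := Polynomial.lifts_and_natDegree_eq_and_monic hl (hPm b)
    exact ⟨Q, hQ, hQm⟩
  choose! P' hP'map hP'm using hP'
  -- the equations
  let X : Finset (A₁ ⊗[A] B) :=
    insert (e₁ * e₁ - e₁) (insert (1 - e₁ - ∑ i, f' i * algebraMap A (A₁ ⊗[A] B) (j i))
      (s.image (fun b => Polynomial.aeval ((1 : A₁) ⊗ₜ[A] b) (P' b) * e₁)))
  have hX : ∀ x ∈ X, Algebra.TensorProduct.map φ₁ (AlgHom.id A B) x = 0 := by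
    intro x hx
    simp only [X, Finset.mem_insert, Finset.mem_image] at hx
    rcases hx with rfl | rfl | ⟨b, hb, rfl⟩
    · rw [map_sub, map_mul, he₁, he.eq, sub_self]
    · rw [map_sub, map_sub, map_one, he₁, map_sum, ← hfg, sub_eq_zero]
      refine Finset.sum_congr rfl fun i _ => ?_
      rw [map_mul, hf', AlgHom.commutes, hj, smul_eq_mul]
    · rw [map_mul, tmap_aeval, he₁, hP'map b hb, Algebra.TensorProduct.map_tmul, map_one]
      exact hPe b
  obtain ⟨A₂, _, _, _, hb₂, ψ, hψ⟩ := exists_nbhd_tensor_eq_zero B hH A₁ hb₁ φ₁ X hX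
  refine ⟨A₂, inferInstance, inferInstance, inferInstance, hb₂,
    Algebra.TensorProduct.map ψ (AlgHom.id A B) e₁, ?_, ?_, ?_⟩
  · have h := hψ (e₁ * e₁ - e₁) (by simp [X])
    rw [map_sub, map_mul, sub_eq_zero] at h
    exact h
  · have h := hψ (1 - e₁ - ∑ i, f' i * algebraMap A (A₁ ⊗[A] B) (j i)) (by simp [X])
    rw [map_sub, map_sub, map_one, sub_eq_zero] at h
    rw [h, map_sum]
    refine Ideal.sum_mem _ fun i _ => ?_
    rw [map_mul, AlgHom.commutes]
    exact Ideal.mul_mem_left _ _ (Ideal.mem_map_of_mem _ (hjI i))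
  · set e₂ := Algebra.TensorProduct.map ψ (AlgHom.id A B) e₁ with he₂
    have hgen : ∀ b ∈ s, IsIntegral A₂
        (Ideal.Quotient.mk (Ideal.span {1 - e₂}) ((1 : A₂) ⊗ₜ[A] b)) := by
      intro b hb
      refine ⟨(P' b).map (ψ : A₁ →+* A₂), (hP'm b hb).map _, ?_⟩
      rw [← Polynomial.aeval_def]
      have h2 : Polynomial.aeval (Ideal.Quotient.mk (Ideal.span {1 - e₂}) ((1 : A₂) ⊗ₜ[A] b))
          ((P' b).map (ψ : A₁ →+* A₂)) =
          Ideal.Quotient.mk (Ideal.span {1 - e₂})
            (Polynomial.aeval ((1 : A₂) ⊗ₜ[A] b) ((P' b).map (ψ : A₁ →+* A₂))) :=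
        Polynomial.aeval_algHom_apply (Ideal.Quotient.mkₐ A₂ (Ideal.span {1 - e₂})) _ _
      rw [h2, Ideal.Quotient.eq_zero_iff_mem, Ideal.mem_span_singleton']
      have h := hψ (Polynomial.aeval ((1 : A₁) ⊗ₜ[A] b) (P' b) * e₁)
        (by simp only [X, Finset.mem_insert, Finset.mem_image]; exact Or.inr (Or.inr ⟨b, hb, rfl⟩))
      rw [map_mul, tmap_aeval, Algebra.TensorProduct.map_tmul, map_one] at h
      change Polynomial.aeval ((1 : A₂) ⊗ₜ[A] b) ((P' b).map (ψ : A₁ →+* A₂)) * e₂ = 0 at h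
      refine ⟨Polynomial.aeval ((1 : A₂) ⊗ₜ[A] b) ((P' b).map (ψ : A₁ →+* A₂)), ?_⟩
      rw [mul_sub, mul_one, h, sub_zero]
    let ιB : B →ₐ[A] (A₂ ⊗[A] B) ⧸ Ideal.span {1 - e₂} :=
      (Ideal.Quotient.mkₐ A (Ideal.span {1 - e₂})).comp
        (Algebra.TensorProduct.includeRight : B →ₐ[A] A₂ ⊗[A] B)
    have hB : ∀ b : B, IsIntegral A₂ (ιB b) := by
      have hle : (⊤ : Subalgebra A B) ≤
          ((integralClosure A₂ ((A₂ ⊗[A] B) ⧸ Ideal.span {1 - e₂})).restrictScalars A).comap ιB := by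
        rw [← hs]
        apply Algebra.adjoin_le
        intro b hb
        exact hgen b hb
      intro b
      exact hle (Algebra.mem_top : b ∈ (⊤ : Subalgebra A B))
    have hint : Algebra.IsIntegral A₂ ((A₂ ⊗[A] B) ⧸ Ideal.span {1 - e₂}) := by
      constructor
      intro c
      obtain ⟨t, rfl⟩ := Ideal.Quotient.mk_surjective c
      induction t using TensorProduct.induction_on with
      | zero => rw [map_zero]; exact isIntegral_zero
      | tmul a b =>
        have h3 : Ideal.Quotient.mk (Ideal.span {1 - e₂}) (a ⊗ₜ[A] b) = a • ιB b := by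
          change _ = a • Ideal.Quotient.mk (Ideal.span {1 - e₂}) ((1 : A₂) ⊗ₜ[A] b)
          rw [← Ideal.Quotient.mkₐ_eq_mk A₂, ← map_smul, TensorProduct.smul_tmul', smul_eq_mul,
            mul_one]
        rw [h3]
        exact (hB b).smul a
      | add x y hx hy => rw [map_add]; exact hx.add hy
    have hft : Algebra.FiniteType A₂ ((A₂ ⊗[A] B) ⧸ Ideal.span {1 - e₂}) :=
      Algebra.FiniteType.of_surjective (Ideal.Quotient.mkₐ A₂ (Ideal.span {1 - e₂}))
        (Ideal.Quotient.mkₐ_surjective A₂ _)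
    exact Algebra.IsIntegral.finite

/-- **EGA IV 18.5.11-type statement**: étale-locally around `V(I)`, an algebra of finite type with
finite closed fibre has an open and closed part finite over the base. -/
theorem exists_etale_local_finite [Algebra.FiniteType A B]
    (hfin : Module.Finite A (B ⧸ Ideal.map (algebraMap A B) I)) :
    ∃ (A' : Type u) (_ : CommRing A') (_ : Algebra A A') (_ : Algebra.Etale A A')
      (C : Type u) (_ : CommRing C) (_ : Algebra A C) (_ : Algebra A' C) (_ : Algebra B C)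
      (_ : IsScalarTower A A' C) (_ : IsScalarTower A B C),
      Function.Surjective ((Ideal.Quotient.mk (Ideal.map (algebraMap A A') I)).comp (algebraMap A A')) ∧
      RingHom.ker ((Ideal.Quotient.mk (Ideal.map (algebraMap A A') I)).comp (algebraMap A A')) = I ∧
      Algebra.Etale B C ∧ Module.Finite A' C ∧
      Function.Surjective ((Ideal.Quotient.mk (Ideal.map (algebraMap A C) I)).comp (algebraMap B C)) ∧
      RingHom.ker ((Ideal.Quotient.mk (Ideal.map (algebraMap A C) I)).comp (algebraMap B C)) =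
        Ideal.map (algebraMap A B) I := by
  classical
  obtain ⟨A', _, _, _, hb, e, he, h1e, hfinC⟩ := exists_nbhd_idempotent_finite A I B hfin
  obtain ⟨hinj, hsurj⟩ := quotMap_bijective_iff.1 hb
  obtain ⟨σ, hσ⟩ := exists_pt_of_quotMap_bijective hb
  let _ : Algebra B (A' ⊗[A] B) :=
    (Algebra.TensorProduct.includeRight : B →ₐ[A] A' ⊗[A] B).toRingHom.toAlgebra
  have hBmap : ∀ b : B, algebraMap B (A' ⊗[A] B) b = (1 : A') ⊗ₜ[A] b := fun b => rfl
  have _ : IsScalarTower A B (A' ⊗[A] B) := IsScalarTower.of_algebraMap_eq (fun a =>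
    ((Algebra.TensorProduct.includeRight : B →ₐ[A] A' ⊗[A] B).commutes a).symm)
  have hBC : ∀ b : B, algebraMap B ((A' ⊗[A] B) ⧸ Ideal.span {1 - e}) b =
      Ideal.Quotient.mk (Ideal.span {1 - e}) ((1 : A') ⊗ₜ[A] b) := fun b => rfl
  have hABC : IsScalarTower A B ((A' ⊗[A] B) ⧸ Ideal.span {1 - e}) :=
    IsScalarTower.of_algebraMap_eq (R := A) (S := B) (A := (A' ⊗[A] B) ⧸ Ideal.span {1 - e})
      (fun a => by
      rw [IsScalarTower.algebraMap_apply A (A' ⊗[A] B) ((A' ⊗[A] B) ⧸ Ideal.span {1 - e}),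
        IsScalarTower.algebraMap_apply A B (A' ⊗[A] B)]
      rfl)
  -- étaleness
  let eqv : B ⊗[A] A' ≃ₐ[B] A' ⊗[A] B :=
    { Algebra.TensorProduct.comm A B A' with
      commutes' := fun b => by
        change Algebra.TensorProduct.comm A B A' (b ⊗ₜ[A] (1 : A')) = (1 : A') ⊗ₜ[A] b
        rw [Algebra.TensorProduct.comm_tmul] }
  have hE1 : Algebra.Etale B (A' ⊗[A] B) := Algebra.Etale.of_equiv eqv
  have hloc : IsLocalization.Away e ((A' ⊗[A] B) ⧸ Ideal.span {1 - e}) :=
    IsLocalization.Away.quotient_of_isIdempotentElem he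
  have hE2 : Algebra.Etale (A' ⊗[A] B) ((A' ⊗[A] B) ⧸ Ideal.span {1 - e}) :=
    Algebra.Etale.of_isLocalizationAway e
  have hE : Algebra.Etale B ((A' ⊗[A] B) ⧸ Ideal.span {1 - e}) :=
    Algebra.Etale.comp B (A' ⊗[A] B) _
  -- the retraction to `B / I B`
  let ρ : A' ⊗[A] B →ₐ[A] B ⧸ I.map (algebraMap A B) :=
    Algebra.TensorProduct.lift ((quotMap (I.map (algebraMap A B)) le_rfl).comp σ)
      (Ideal.Quotient.mkₐ A (I.map (algebraMap A B))) (fun _ _ => Commute.all _ _)
  have hρ1 : ∀ b : B, ρ ((1 : A') ⊗ₜ[A] b) = Ideal.Quotient.mk _ b := by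
    intro b
    change Algebra.TensorProduct.lift _ _ _ ((1 : A') ⊗ₜ[A] b) = _
    rw [Algebra.TensorProduct.lift_tmul, map_one, one_mul]
    rfl
  have hρI : I.map (algebraMap A (A' ⊗[A] B)) ≤ RingHom.ker ρ.toRingHom := by
    rw [Ideal.map_le_iff_le_comap]
    intro i hi
    change ρ (algebraMap A (A' ⊗[A] B) i) = 0
    rw [AlgHom.commutes, IsScalarTower.algebraMap_apply A B (B ⧸ I.map (algebraMap A B))]
    exact Ideal.Quotient.eq_zero_iff_mem.2 (Ideal.mem_map_of_mem _ hi)
  have hIC : I.map (algebraMap A ((A' ⊗[A] B) ⧸ Ideal.span {1 - e})) =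
      (I.map (algebraMap A (A' ⊗[A] B))).map (Ideal.Quotient.mk (Ideal.span {1 - e})) := by
    rw [Ideal.map_map]
    rfl
  refine ⟨A', inferInstance, inferInstance, inferInstance, (A' ⊗[A] B) ⧸ Ideal.span {1 - e},
    inferInstance, inferInstance, inferInstance, inferInstance, inferInstance, hABC,
    ?_, ?_, hE, hfinC, ?_, ?_⟩
  · intro y
    obtain ⟨w, rfl⟩ := Ideal.Quotient.mk_surjective y
    obtain ⟨a, ha⟩ := hsurj w
    refine ⟨a, ?_⟩
    rw [RingHom.comp_apply]
    exact (Ideal.Quotient.eq.2 ha).symm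
  · ext a
    rw [RingHom.mem_ker, RingHom.comp_apply, Ideal.Quotient.eq_zero_iff_mem]
    exact ⟨hinj a, fun h => Ideal.mem_map_of_mem _ h⟩
  · intro y
    obtain ⟨c, rfl⟩ := Ideal.Quotient.mk_surjective y
    obtain ⟨t, rfl⟩ := Ideal.Quotient.mk_surjective c
    induction t using TensorProduct.induction_on with
    | zero => exact ⟨0, by simp⟩
    | tmul a' b =>
      obtain ⟨a, ha⟩ := hsurj a'
      refine ⟨a • b, ?_⟩
      rw [RingHom.comp_apply, hBC, Ideal.Quotient.eq, ← map_sub, hIC]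
      apply Ideal.mem_map_of_mem
      have h1 : (1 : A') ⊗ₜ[A] (a • b) - a' ⊗ₜ[A] b =
          - (algebraMap A' (A' ⊗[A] B) (a' - algebraMap A A' a) * ((1 : A') ⊗ₜ[A] b)) := by
        rw [Algebra.TensorProduct.algebraMap_apply, Algebra.TensorProduct.tmul_mul_tmul, mul_one,
          one_mul, Algebra.algebraMap_self, RingHom.id_apply, TensorProduct.sub_tmul,
          ← TensorProduct.smul_tmul, Algebra.algebraMap_eq_smul_one]
        ring
      rw [h1]
      refine (Ideal.neg_mem_iff _).2 (Ideal.mul_mem_right _ _ ?_)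
      have h2 : (I.map (algebraMap A A')).map (algebraMap A' (A' ⊗[A] B)) =
          I.map (algebraMap A (A' ⊗[A] B)) := by
        rw [Ideal.map_map, ← IsScalarTower.algebraMap_eq]
      rw [← h2]
      exact Ideal.mem_map_of_mem _ ha
    | add x y hx hy =>
      obtain ⟨b₁, h₁⟩ := hx
      obtain ⟨b₂, h₂⟩ := hy
      exact ⟨b₁ + b₂, by rw [map_add, h₁, h₂, map_add, map_add]⟩
  · ext b
    rw [RingHom.mem_ker, RingHom.comp_apply, Ideal.Quotient.eq_zero_iff_mem]
    constructor
    · intro h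
      rw [hBC, hIC, Ideal.mem_quotient_iff_mem_sup] at h
      have h2 : I.map (algebraMap A (A' ⊗[A] B)) ⊔ Ideal.span {1 - e} ≤
          I.map (algebraMap A (A' ⊗[A] B)) :=
        sup_le le_rfl ((Ideal.span_singleton_le_iff_mem _).2 h1e)
      have h3 : ρ ((1 : A') ⊗ₜ[A] b) = 0 := hρI (h2 h)
      rw [hρ1] at h3
      exact Ideal.Quotient.eq_zero_iff_mem.1 h3
    · intro h
      have h2 : (I.map (algebraMap A B)).map
          (algebraMap B ((A' ⊗[A] B) ⧸ Ideal.span {1 - e})) =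
          I.map (algebraMap A ((A' ⊗[A] B) ⧸ Ideal.span {1 - e})) := by
        rw [Ideal.map_map, ← IsScalarTower.algebraMap_eq]
      rw [← h2]
      exact Ideal.mem_map_of_mem _ h

end Main

end Groth.Agent.Lib.Helper58.PairHens
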