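import Mathlib
import Groth.Agent.Lib.Helper22.FibreFree
import Groth.Agent.Lib.Helper22.DedekindFree
import Groth.Agent.Lib.Helper12.Sky6
import Groth.Agent.Lib.Helper67.FiberStalk
import Groth.Agent.Lib.Helper76.RegularLocal
import Groth.Prelude.Def_CInt

/-!
# Fibrewise torsion-free + flat ⇒ free near points of fibre-codimension ≤ 1 (helper58)

* `flat_quot_of_torsionFree`: `φ : A → R0` surjective, `R0` a PID, `R0 ⊗_A M` torsion-free, `M` finite
  ⇒ `M / (ker φ) M` is flat over `A / ker φ`.
* `exists_free_nhds`: `π : P ⟶ S`, `F` f.p. and flat over `S`, the fibre local ring at `x` regular of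
  dimension `≤ 1`, the stalk at `x` of the pullback of `F` to the fibre torsion-free ⇒ `F` is free of
  finite rank near `x`.
-/

set_option autoImplicit false
set_option linter.style.haveILetI false
set_option linter.deprecated false
universe u
open TensorProduct CategoryTheory CategoryTheory.Limits AlgebraicGeometry

namespace Groth.Agent.Lib.Helper58.FibTF

section Alg

variable {A R0 : Type u} [CommRing A] [CommRing R0] (φ : A →+* R0) (hφ : Function.Surjective φ)
  (M : Type u) [AddCommGroup M] [Module A M]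

/-- `M / (ker φ) M → R0 ⊗_A M`. -/
noncomputable def jMap :
    letI := φ.toAlgebra
    (M ⧸ (RingHom.ker φ • ⊤ : Submodule A M)) →ₗ[A] R0 ⊗[A] M :=
  letI := φ.toAlgebra
  Submodule.liftQ _ (TensorProduct.mk A R0 M 1) (by
    rw [Submodule.smul_le]
    intro i hi m _
    rw [LinearMap.mem_ker, TensorProduct.mk_apply, ← TensorProduct.smul_tmul]
    have : i • (1 : R0) = 0 := by
      rw [Algebra.smul_def, mul_one]
      exact hi
    rw [this, TensorProduct.zero_tmul])

include hφ in
theorem jMap_injective :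
    letI := φ.toAlgebra
    Function.Injective (jMap φ M) := by
  letI := φ.toAlgebra
  let e : (A ⧸ RingHom.ker φ) ≃+* R0 := RingHom.quotientKerEquivOfSurjective hφ
  have he : ∀ a : A, e.symm (φ a) = Ideal.Quotient.mk _ a := by
    intro a
    rw [RingEquiv.symm_apply_eq]
    rfl
  let k : R0 ⊗[A] M →ₗ[A] (M ⧸ (RingHom.ker φ • ⊤ : Submodule A M)) :=
    TensorProduct.lift (LinearMap.mk₂ A (fun r0 m => e.symm r0 • Submodule.Quotient.mk m)
      (fun r r' m => by rw [map_add, add_smul])
      (fun a r m => by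
        rw [Algebra.smul_def, map_mul]
        change (e.symm (φ a) * _) • _ = _
        rw [he, mul_smul]
        rfl)
      (fun r m m' => by rw [Submodule.Quotient.mk_add, smul_add])
      (fun a r m => by
        rw [Submodule.Quotient.mk_smul, smul_comm]))
  have hk : ∀ x, k (jMap φ M x) = x := by
    intro x
    obtain ⟨m, rfl⟩ := Submodule.Quotient.mk_surjective _ x
    change k ((1 : R0) ⊗ₜ[A] m) = _
    rw [TensorProduct.lift.tmul]
    change e.symm 1 • (Submodule.Quotient.mk m : M ⧸ (RingHom.ker φ • ⊤ : Submodule A M)) = _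
    rw [map_one, one_smul]
  exact Function.LeftInverse.injective hk

include hφ in
theorem flat_quot_of_torsionFree [IsDomain R0] [IsPrincipalIdealRing R0] [Module.Finite A M]
    (htf : letI := φ.toAlgebra; Module.IsTorsionFree R0 (R0 ⊗[A] M)) :
    Module.Flat (A ⧸ RingHom.ker φ) (M ⧸ (RingHom.ker φ • ⊤ : Submodule A M)) := by
  letI := φ.toAlgebra
  let e : (A ⧸ RingHom.ker φ) ≃+* R0 := RingHom.quotientKerEquivOfSurjective hφ
  haveI : IsDomain (A ⧸ RingHom.ker φ) := e.toMulEquiv.isDomain
  haveI : IsPrincipalIdealRing (A ⧸ RingHom.ker φ) :=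
    IsPrincipalIdealRing.of_surjective e.symm.toRingHom e.symm.surjective
  haveI : Module.Finite (A ⧸ RingHom.ker φ) (M ⧸ (RingHom.ker φ • ⊤ : Submodule A M)) :=
    Module.Finite.of_restrictScalars_finite A _ _
  have hsl : ∀ (a : A) (x : M ⧸ (RingHom.ker φ • ⊤ : Submodule A M)),
      jMap φ M (Ideal.Quotient.mk (RingHom.ker φ) a • x) = φ a • jMap φ M x := by
    intro a x
    have h1 : Ideal.Quotient.mk (RingHom.ker φ) a • x = a • x := by
      obtain ⟨m, rfl⟩ := Submodule.Quotient.mk_surjective _ x
      rfl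
    rw [h1, map_smul]
    exact (algebraMap_smul R0 a _).symm
  haveI : Module.IsTorsionFree (A ⧸ RingHom.ker φ)
      (M ⧸ (RingHom.ker φ • ⊤ : Submodule A M)) := by
    constructor
    intro r hr m1 m2 h
    apply jMap_injective φ hφ M
    obtain ⟨a, rfl⟩ := Ideal.Quotient.mk_surjective r
    have hne : φ a ≠ 0 := by
      intro h0
      have : Ideal.Quotient.mk (RingHom.ker φ) a = 0 := Ideal.Quotient.eq_zero_iff_mem.mpr h0
      exact hr.ne_zero this
    have hreg : IsRegular (φ a) := isRegular_of_ne_zero hne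
    apply htf.isSMulRegular hreg
    change φ a • jMap φ M m1 = φ a • jMap φ M m2
    rw [← hsl, ← hsl]
    exact congrArg _ h
  infer_instance

end Alg

section Sch

open Groth.Agent.Lib.Helper67

variable {P S : Scheme.{u}} (π : P ⟶ S)

theorem ker_transport {x x' : P} (h : x' = x) {R0 : CommRingCat.{u}}
    (φ' : P.presheaf.stalk x' ⟶ R0)
    (hk : RingHom.ker ((P.presheaf.stalkCongr (.of_eq h.symm)).hom ≫ φ').hom =
      FiberStalk.fibIdeal π x) :
    RingHom.ker φ'.hom = FiberStalk.fibIdeal π x' := by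
  subst h
  have h1 : (P.presheaf.stalkCongr (Inseparable.of_eq (rfl : x' = x'))).hom = 𝟙 _ := by
    simp [TopCat.Presheaf.stalkCongr]
  rw [h1, Category.id_comp] at hk
  exact hk

theorem exists_free_nhds (F : P.Modules) (hfp : CohB1.IsFP F) (hfl : FlatMod.IsFlatOver π F) (x : P)
    (hreg : IsRegularLocalRing ((π.fiber (π.base x)).presheaf.stalk (π.asFiber x)))
    (hdim : ringKrullDim ((π.fiber (π.base x)).presheaf.stalk (π.asFiber x)) ≤ 1)
    (htf : Module.IsTorsionFree ((π.fiber (π.base x)).presheaf.stalk (π.asFiber x))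
      (((Scheme.Modules.pullback (π.fiberι (π.base x))).obj F).presheaf.stalk (π.asFiber x))) :
    ∃ (V : P.Opens) (n : ℕ), x ∈ V ∧ Nonempty (F.restrict V.ι ≅ FlatMod.freeMod (↑V) n) := by
  haveI : SheafOfModules.IsFinitePresentation (R := P.ringCatSheaf) F := hfp
  haveI : F.IsQuasicoherent := inferInstance
  have hz : (π.fiberι (π.base x)) (π.asFiber x) = x := π.fiberι_asFiber x
  let φ := ((π.fiberι (π.base x)).stalkMap (π.asFiber x)).hom
  have hφ : Function.Surjective φ := (π.fiberι (π.base x)).stalkMap_surjective (π.asFiber x)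
  have hker : RingHom.ker φ = FiberStalk.fibIdeal π ((π.fiberι (π.base x)) (π.asFiber x)) :=
    ker_transport π hz _ (FiberStalk.ker_σ π x (π.asFiber x) hz)
  haveI := hreg
  haveI : IsDomain ((π.fiber (π.base x)).presheaf.stalk (π.asFiber x)) :=
    Groth.Agent.Lib.Helper76.isDomain_of_isRegularLocalRing _
  haveI : IsPrincipalIdealRing ((π.fiber (π.base x)).presheaf.stalk (π.asFiber x)) :=
    Groth.Agent.Lib.Helper22.DedekindFree.isPrincipalIdealRing_of_regular_of_dim_le_one _ hdim
  haveI := Groth.Agent.Lib.Helper22.FibreFree.finitePresentation_stalk F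
    ((π.fiberι (π.base x)) (π.asFiber x))
  let iso := (Groth.Agent.Lib.Helper12.Sky.stalkPullbackIso (π.fiberι (π.base x))
    (π.asFiber x)).app F
  let e' := iso.toLinearEquiv
  letI := φ.toAlgebra
  have htf' : Module.IsTorsionFree ((π.fiber (π.base x)).presheaf.stalk (π.asFiber x))
      (((π.fiber (π.base x)).presheaf.stalk (π.asFiber x)) ⊗[P.presheaf.stalk
        ((π.fiberι (π.base x)) (π.asFiber x))]
        (F.presheaf.stalk ((π.fiberι (π.base x)) (π.asFiber x)))) := by
    haveI := htf
    exact Function.Injective.moduleIsTorsionFree (N := ((Scheme.Modules.pullback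
      (π.fiberι (π.base x))).obj F).presheaf.stalk (π.asFiber x)) e'.symm e'.symm.injective
      (fun r m => e'.symm.map_smul r m)
  have h2 := flat_quot_of_torsionFree φ hφ
    (F.presheaf.stalk ((π.fiberι (π.base x)) (π.asFiber x))) htf'
  rw [hker] at h2
  obtain ⟨V, n, hxV, hiso⟩ :=
    Groth.Agent.Lib.Helper22.FibreFree.exists_open_iso_freeMod_of_fibre_flat π F
      inferInstance hfp _ (hfl _) h2
  exact ⟨V, n, hz ▸ hxV, hiso⟩

end Sch

end Groth.Agent.Lib.Helper58.FibTF
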