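import Mathlib

/-!
# Kernels of surjections onto flat modules

`ker F ∩ J P ≤ J ker F` for a surjection `F : P → C` with `C` flat (cf. helper6's
`Deform.ker_inf_smul_top_le`, which this file re-proves to keep imports light).
-/

set_option autoImplicit false

namespace Groth.Agent.Lib.Helper58.FlatKer

open TensorProduct

variable {B : Type*} [CommRing B] (J : Ideal B)

/-- If `J ⊗ C → B ⊗ C` is injective and `F : P → C` is surjective, then
`ker F ∩ J P ≤ J ker F`. -/
theorem ker_inf_smul_top_le {P C : Type*} [AddCommGroup P] [Module B P] [AddCommGroup C]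
    [Module B C] (F : P →ₗ[B] C) (hF : Function.Surjective F)
    (htor : Function.Injective (J.subtype.rTensor C)) :
    LinearMap.ker F ⊓ J • (⊤ : Submodule B P) ≤ J • LinearMap.ker F := by
  rintro x ⟨hxK, hxJ⟩
  rw [SetLike.mem_coe, ← Ideal.subtype_rTensor_range P J] at hxJ
  obtain ⟨t, rfl⟩ := hxJ
  have hnat : (TensorProduct.lid B C).toLinearMap ∘ₗ (J.subtype.rTensor C) ∘ₗ (F.lTensor J) =
      F ∘ₗ (TensorProduct.lid B P).toLinearMap ∘ₗ (J.subtype.rTensor P) := by
    ext j p
    simp
  have h1 : J.subtype.rTensor C (F.lTensor J t) = 0 := by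
    apply (TensorProduct.lid B C).injective
    have := LinearMap.congr_fun hnat t
    simp only [LinearMap.comp_apply, LinearEquiv.coe_coe] at this
    rw [this, map_zero]
    exact hxK
  have h2 : F.lTensor J t = 0 := htor (h1.trans (map_zero _).symm)
  obtain ⟨s, rfl⟩ := (lTensor_exact J (LinearMap.exact_subtype_ker_map F) hF t).mp h2
  clear hxK h1 h2
  induction s using TensorProduct.induction_on with
  | zero => simp
  | tmul j k =>
    simp only [LinearMap.lTensor_tmul, LinearMap.comp_apply, LinearMap.rTensor_tmul,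
      Submodule.subtype_apply, LinearEquiv.coe_coe, TensorProduct.lid_tmul]
    exact Submodule.smul_mem_smul j.2 k.2
  | add a b ha hb =>
    simp only [map_add]
    exact add_mem ha hb

/-- flat version. -/
theorem ker_inf_smul_top_le_of_flat {P C : Type*} [AddCommGroup P] [Module B P] [AddCommGroup C]
    [Module B C] [Module.Flat B C] (F : P →ₗ[B] C) (hF : Function.Surjective F) :
    LinearMap.ker F ⊓ J • (⊤ : Submodule B P) ≤ J • LinearMap.ker F :=
  ker_inf_smul_top_le J F hF
    (Module.Flat.rTensor_preserves_injective_linearMap _ Subtype.val_injective)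

/-- ring version: for a surjective `B`-algebra map `ψ : H → C` onto a flat `B`-algebra,
`ker ψ ∩ J H ≤ (J H) · ker ψ`. -/
theorem ker_inf_map_le_of_flat {H C : Type*} [CommRing H] [CommRing C] [Algebra B H] [Algebra B C]
    [Module.Flat B C] (ψ : H →ₐ[B] C) (hψ : Function.Surjective ψ) {x : H}
    (hx : ψ x = 0) (hxJ : x ∈ J.map (algebraMap B H)) :
    x ∈ J.map (algebraMap B H) * RingHom.ker ψ.toRingHom := by
  have h1 : x ∈ LinearMap.ker ψ.toLinearMap ⊓ J • (⊤ : Submodule B H) := by
    refine ⟨hx, ?_⟩
    rw [SetLike.mem_coe, Ideal.smul_top_eq_map]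
    exact hxJ
  have h2 := ker_inf_smul_top_le_of_flat J ψ.toLinearMap hψ h1
  refine Submodule.smul_induction_on h2 ?_ ?_
  · intro a ha k hk
    rw [Algebra.smul_def]
    exact Ideal.mul_mem_mul (Ideal.mem_map_of_mem _ ha) hk
  · intro y z hy hz
    exact Ideal.add_mem _ hy hz

end Groth.Agent.Lib.Helper58.FlatKer
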