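import Mathlib
import Groth.Agent.Lib.Helper58.FEtHensRing

set_option autoImplicit false

namespace Groth.Agent.Lib.Helper58.GammaBC

open AlgebraicGeometry CategoryTheory CategoryTheory.Limits TopologicalSpace Opposite TensorProduct

universe u

theorem appLE_top_top {X Y : Scheme.{u}} (f : X ⟶ Y) (e : (⊤ : X.Opens) ≤ f ⁻¹ᵁ ⊤) :
    f.appLE ⊤ ⊤ e = f.appTop :=
  Scheme.Hom.appLE_eq_app f

section

variable {X : Scheme.{u}} [CompactSpace X] [QuasiSeparatedSpace X]
variable (C : Type u) [CommRing C] [Algebra Γ(X, ⊤) C] [Module.Flat Γ(X, ⊤) C]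

/-- **Flat base change for global sections**: for `X` qcqs, `B = Γ(X, O_X)` and `C` a flat
`B`-algebra, `Γ(X ×_{Spec B} Spec C) = C`. -/
theorem isIso_appTop_snd :
    IsIso (pullback.snd X.toSpecΓ (Spec.map (CommRingCat.ofHom (algebraMap Γ(X, ⊤) C)))).appTop := by
  let f := Spec.map (CommRingCat.ofHom (algebraMap Γ(X, ⊤) C))
  have hflat : Flat f := by
    rw [Flat.SpecMap_iff]
    show (algebraMap Γ(X, ⊤) C).Flat
    rw [RingHom.flat_algebraMap_iff]; infer_instance
  have H : IsPullback (pullback.fst X.toSpecΓ f) (pullback.snd X.toSpecΓ f) X.toSpecΓ f :=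
    IsPullback.of_hasPullback _ _
  have h1 := isIso_pushoutSection_of_isQuasiSeparated_of_flat_right H
    (US := ⊤) (UT := ⊤) (UX := ⊤) (UY := ⊤) le_top le_top (by simp)
    (isAffineOpen_top _) (isAffineOpen_top _) CompactSpace.isCompact_univ
    (isQuasiSeparated_univ_iff.mpr inferInstance)
  have h2 := (isIso_pushoutSection_iff H (US := ⊤) (UT := ⊤) (UX := ⊤) (UY := ⊤)
    le_top le_top (by simp)).mp h1
  have h3 : IsIso (X.toSpecΓ.appLE ⊤ ⊤ le_top) := by
    rw [appLE_top_top, Scheme.toSpecΓ_appTop]; infer_instance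
  have h4 := h2.isIso_inr_of_isIso h3
  rwa [appLE_top_top] at h4

end


section Alg

/-- In a pushout square of commutative rings with `β` flat, the kernel of `inr` is generated by
the kernel of `α`. -/
theorem mem_map_ker_of_inr_eq_zero {B' G₀ C' P : CommRingCat.{u}} (α : B' ⟶ G₀) (β : B' ⟶ C')
    (inl : G₀ ⟶ P) (inr : C' ⟶ P) (h : IsPushout α β inl inr) (hβ : β.hom.Flat)
    (c : C') (hc : inr c = 0) : c ∈ (RingHom.ker α.hom).map β.hom := by
  algebraize [α.hom, β.hom]
  have hT := CommRingCat.isPushout_tensorProduct B' G₀ C'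
  have hα : CommRingCat.ofHom (algebraMap B' G₀) = α := rfl
  have hβ' : CommRingCat.ofHom (algebraMap B' C') = β := rfl
  rw [hα, hβ'] at hT
  let e := hT.isoIsPushout _ _ h
  have h1 : e.hom ((1 : G₀) ⊗ₜ[B'] c) = inr c := by
    have := congrArg (fun φ => φ.hom c) (hT.inr_isoIsPushout_hom _ _ h)
    exact this
  have h2 : ((1 : G₀) ⊗ₜ[B'] c : G₀ ⊗[B'] C') = 0 := by
    have h3 : e.hom ((1 : G₀) ⊗ₜ[B'] c) = e.hom 0 := by rw [h1, hc, map_zero]
    have hinj : Function.Injective e.hom := by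
      intro x y hxy
      have := congrArg e.inv.hom hxy
      simpa using this
    exact hinj h3
  -- flip the tensor product
  have h4 : (c ⊗ₜ[B'] (1 : G₀) : C' ⊗[B'] G₀) = 0 := by
    have := congrArg (Algebra.TensorProduct.comm B' G₀ C') h2
    simpa using this
  -- descend to `B' ⧸ K`
  let K : Ideal B' := RingHom.ker (algebraMap B' G₀)
  let ι : (B' ⧸ K) →ₗ[B'] G₀ :=
    (Ideal.Quotient.liftₐ K (Algebra.ofId B' G₀) (fun a ha => ha)).toLinearMap
  have hι : Function.Injective ι := by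
    rw [← LinearMap.ker_eq_bot, LinearMap.ker_eq_bot']
    intro x hx
    obtain ⟨b, rfl⟩ := Ideal.Quotient.mk_surjective x
    exact Ideal.Quotient.eq_zero_iff_mem.mpr hx
  have hinj := Module.Flat.lTensor_preserves_injective_linearMap (M := C') ι hι
  have h5 : (c ⊗ₜ[B'] (1 : B' ⧸ K) : C' ⊗[B'] (B' ⧸ K)) = 0 := by
    apply hinj
    rw [map_zero, LinearMap.lTensor_tmul]
    have : ι 1 = 1 := map_one (Ideal.Quotient.liftₐ K (Algebra.ofId B' G₀) (fun a ha => ha))
    rw [this, h4]
  exact (Groth.Agent.Lib.Helper58.FEtHens.tmul_one_eq_zero_iff K C' c).mp h5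

end Alg


section Inj

variable {X₀ : Scheme.{u}} [CompactSpace X₀] {B : CommRingCat.{u}}
variable (C : Type u) [CommRing C] [Algebra B C] [Module.Flat B C]

/-- **Injectivity part of flat base change** for a compact scheme `X₀` over `Spec B`: a section of
`C` which dies in `Γ(X₀ ×_B C)` lies in `ker (B → Γ(X₀)) C`. -/
theorem mem_map_ker_of_appTop_eq_zero (a : X₀ ⟶ Spec B) {Y₀ : Scheme.{u}} (g₀ : Y₀ ⟶ X₀)
    (t : Y₀ ⟶ Spec (CommRingCat.of C))
    (H : IsPullback g₀ t a (Spec.map (CommRingCat.ofHom (algebraMap B C))))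
    (c : C) (hc : t.appTop ((Scheme.ΓSpecIso (CommRingCat.of C)).inv c) = 0) :
    c ∈ (RingHom.ker ((Scheme.ΓSpecIso B).inv ≫ a.appTop).hom).map (algebraMap B C) := by
  let f := Spec.map (CommRingCat.ofHom (algebraMap B C))
  have hflat : Flat f := by
    rw [Flat.SpecMap_iff]
    show (algebraMap B C).Flat
    rw [RingHom.flat_algebraMap_iff]; infer_instance
  have hmono := mono_pushoutSection_of_isCompact_of_flat_right H
    (US := ⊤) (UT := ⊤) (UX := ⊤) (UY := ⊤) le_top le_top (by simp)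
    (isAffineOpen_top _) (isAffineOpen_top _) CompactSpace.isCompact_univ
  set α := a.appLE ⊤ ⊤ le_top with hα
  set β := f.appLE ⊤ ⊤ le_top with hβ
  have hinj : Function.Injective (pushoutSection H (US := ⊤) (UT := ⊤) (UX := ⊤) (UY := ⊤)
      le_top le_top (by simp)) :=
    ConcreteCategory.injective_of_mono_of_preservesPullback _
  let c' := (Scheme.ΓSpecIso (CommRingCat.of C)).inv c
  have h1 : (pushout.inr α β ≫ pushoutSection H (US := ⊤) (UT := ⊤) (UX := ⊤) (UY := ⊤)
      le_top le_top (by simp)) = t.appLE ⊤ ⊤ (by simp) := pushout.inr_desc _ _ _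
  have h2 : pushout.inr α β c' = 0 := by
    apply hinj
    rw [map_zero]
    have := congrArg (fun φ => φ.hom c') h1
    simp only [CommRingCat.hom_comp, RingHom.coe_comp, Function.comp_apply] at this
    rw [this, appLE_top_top]
    exact hc
  have h3 := mem_map_ker_of_inr_eq_zero α β _ _ (IsPushout.of_hasPushout α β)
    (f.flat_appLE (isAffineOpen_top _) (isAffineOpen_top _) _) c' h2
  -- translate along `ΓSpecIso`
  have h4 : (Scheme.ΓSpecIso (CommRingCat.of C)).hom c' = c := by
    simp [c']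
  have h5 := Ideal.mem_map_of_mem (Scheme.ΓSpecIso (CommRingCat.of C)).hom.hom h3
  rw [h4, Ideal.map_map] at h5
  have h6 : (Scheme.ΓSpecIso (CommRingCat.of C)).hom.hom.comp β.hom =
      (algebraMap B C).comp (Scheme.ΓSpecIso B).hom.hom := by
    have := Scheme.ΓSpecIso_naturality (CommRingCat.ofHom (algebraMap B C))
    rw [hβ, appLE_top_top]
    exact congrArg (fun φ => φ.hom) this
  rw [h6, ← Ideal.map_map] at h5
  refine Ideal.map_mono ?_ h5
  rw [Ideal.map_le_iff_le_comap]
  intro x hx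
  rw [Ideal.mem_comap, RingHom.mem_ker]
  rw [RingHom.mem_ker] at hx
  simp only [CommRingCat.hom_comp, RingHom.coe_comp, Function.comp_apply]
  have h7 : (Scheme.ΓSpecIso B).inv.hom ((Scheme.ΓSpecIso B).hom.hom x) = x := by
    simp
  rw [h7]
  rw [hα, appLE_top_top] at hx
  exact hx

end Inj

end Groth.Agent.Lib.Helper58.GammaBC
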