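import Mathlib
import Groth.Agent.Lib.Helper12.Sky7
import Groth.Agent.Lib.Helper58.SubQCoh
import Groth.Agent.Lib.Lead.FinTypeTop

/-!
# Stalks of pullbacks of arbitrary `O_Y`-modules: the germ formula (helper58)

* `stalkPullbackIso_hom_germ`: under helper12's `Sky.stalkPullbackIso` (valid for ARBITRARY modules),
  the germ at `x` of the unit section `η(t) ∈ Γ(f^* F, f⁻¹ V)` corresponds to `1 ⊗ t_{f x}`.
* `span_eq_top_of_extendScalars`: faithfully flat descent of "spanning".
* `isFiniteType_of_pullback`: finite type descends along flat surjective open morphisms, for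
  arbitrary modules.
-/

set_option autoImplicit false
set_option linter.style.haveILetI false
universe u
open CategoryTheory CategoryTheory.Limits AlgebraicGeometry TopologicalSpace Opposite

namespace Groth.Agent.Lib.Helper58.PullStalkGerm

open Groth.Agent.Lib.Helper12.Sky ChangeOfRings

set_option backward.isDefEq.respectTransparency.types false

section Germ

variable {X Y : Scheme.{u}} (f : X ⟶ Y) (x : X) (F : Y.Modules)

theorem conj_eq :
    (adjRight f x).unit.app F ≫ (pushSkyNatIso f x).inv.app _ =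
      (adjLeft f x).unit.app F ≫
        (skyFunctor x ⋙ Scheme.Modules.pushforward f).map ((stalkPullbackIso f x).hom.app F) := by
  have h1 := unit_conjugateEquiv (adjRight f x) (adjLeft f x) (stalkPullbackIso f x).hom F
  have h2 : conjugateEquiv (adjRight f x) (adjLeft f x) (stalkPullbackIso f x).hom =
      (pushSkyNatIso f x).inv := by
    rw [← conjugateIsoEquiv_apply_hom]
    unfold stalkPullbackIso
    rw [Equiv.apply_symm_apply]
    rfl
  rw [h2] at h1
  exact h1

theorem lhs_ev (V : Y.Opens) (hx : f.base x ∈ V) (t : Γ(F, V)) :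
    ev (toSecs x (U := f ⁻¹ᵁ V)
      (((adjRight f x).unit.app F ≫ (pushSkyNatIso f x).inv.app _).app V t)) hx =
    ((1 : X.presheaf.stalk x) ⊗ₜ[Y.presheaf.stalk (f.base x), (f.stalkMap x).hom]
      (F.presheaf.germ V (f.base x) hx t :
        ((DerSch.stalkFunctor Y (f.base x)).obj F))) := by
  rfl

theorem rhs_ev (V : Y.Opens) (hx : f.base x ∈ V) (t : Γ(F, V)) :
    ev (toSecs x (U := f ⁻¹ᵁ V)
      (((adjLeft f x).unit.app F ≫
        (skyFunctor x ⋙ Scheme.Modules.pushforward f).map
          ((stalkPullbackIso f x).hom.app F)).app V t)) hx =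
    ((stalkPullbackIso f x).hom.app F).hom
      (((Scheme.Modules.pullback f).obj F).presheaf.germ (f ⁻¹ᵁ V) x hx
        (((Scheme.Modules.pullbackPushforwardAdjunction f).unit.app F).app V t)) := by
  rfl

/-- **Germ formula** for the stalk of a pullback (arbitrary modules). -/
theorem stalkPullbackIso_hom_germ (V : Y.Opens) (hx : f.base x ∈ V) (t : Γ(F, V)) :
    ((stalkPullbackIso f x).hom.app F).hom
      (((Scheme.Modules.pullback f).obj F).presheaf.germ (f ⁻¹ᵁ V) x hx
        (((Scheme.Modules.pullbackPushforwardAdjunction f).unit.app F).app V t)) =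
    ((1 : X.presheaf.stalk x) ⊗ₜ[Y.presheaf.stalk (f.base x), (f.stalkMap x).hom]
      (F.presheaf.germ V (f.base x) hx t :
        ((DerSch.stalkFunctor Y (f.base x)).obj F))) := by
  have h := congrArg (fun ψ => ev (toSecs x (U := f ⁻¹ᵁ V) (ψ.app V t)) hx) (conj_eq f x F)
  exact ((rhs_ev f x F V hx t).symm.trans h.symm).trans (lhs_ev f x F V hx t)

end Germ

section Alg

variable {A B : Type u} [CommRing A] [CommRing B] (φ : A →+* B) (M : ModuleCat.{u} A)

/-- the element `1 ⊗ g` of the extension of scalars -/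
noncomputable def oneT (g : M) : (ModuleCat.extendScalars φ).obj M := (1 : B) ⊗ₜ[A, φ] g

theorem exists_finset_mem_span (w : (ModuleCat.extendScalars φ).obj M) :
    ∃ G : Finset M, w ∈ Submodule.span B ((oneT φ M) '' (G : Set M)) := by
  classical
  refine TensorProduct.induction_on w ?_ ?_ ?_
  · exact ⟨∅, Submodule.zero_mem _⟩
  · intro (b : B) m
    refine ⟨{m}, ?_⟩
    have e : ((b : B) ⊗ₜ[A, φ] m : (ModuleCat.extendScalars φ).obj M) = (b : B) • oneT φ M m := by
      unfold oneT
      erw [ModuleCat.ExtendScalars.smul_tmul]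
      rw [mul_one]
      rfl
    have h2 : ((b : B) • oneT φ M m : (ModuleCat.extendScalars φ).obj M) ∈
        Submodule.span B ((oneT φ M) '' (({m} : Finset M) : Set M)) :=
      Submodule.smul_mem _ _ (Submodule.subset_span ⟨m, by simp, rfl⟩)
    rw [← e] at h2
    exact h2
  · rintro w w' ⟨G, hG⟩ ⟨G', hG'⟩
    refine ⟨G ∪ G', Submodule.add_mem _ ?_ ?_⟩
    · exact Submodule.span_mono (Set.image_mono (by simp)) hG
    · exact Submodule.span_mono (Set.image_mono (by simp)) hG'

theorem exists_finset_span_eq_top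
    (hfin : Module.Finite B ((ModuleCat.extendScalars φ).obj M)) :
    ∃ G : Finset M, Submodule.span B ((oneT φ M) '' (G : Set M)) = ⊤ := by
  classical
  obtain ⟨S, hS⟩ := hfin.fg_top
  choose G hG using fun w => exists_finset_mem_span φ M w
  refine ⟨S.biUnion G, ?_⟩
  rw [eq_top_iff, ← hS, Submodule.span_le]
  intro w hw
  exact Submodule.span_mono
    (Set.image_mono (Finset.coe_subset.2 (Finset.subset_biUnion_of_mem G hw))) (hG w)

/-- faithfully flat descent of spanning sets -/
theorem span_eq_top_of_extendScalars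
    (hφ : letI := φ.toAlgebra; Module.FaithfullyFlat A B) (S : Set M)
    (h : Submodule.span B ((oneT φ M) '' S) = ⊤) : Submodule.span A S = ⊤ := by
  let N : Submodule A M := Submodule.span A S
  let q : M ⟶ ModuleCat.of A (M ⧸ N) := ModuleCat.ofHom N.mkQ
  have hq : (ModuleCat.extendScalars φ).map q = 0 := by
    apply ModuleCat.hom_ext
    apply LinearMap.ext
    intro w
    have hw : w ∈ Submodule.span B ((oneT φ M) '' S) := by rw [h]; trivial
    induction hw using Submodule.span_induction with
    | mem w hw =>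
      obtain ⟨g, hg, rfl⟩ := hw
      change (ModuleCat.extendScalars φ).map q ((1 : B) ⊗ₜ[A, φ] g) = 0
      rw [ModuleCat.ExtendScalars.map_tmul]
      have : q g = 0 := (Submodule.Quotient.mk_eq_zero N).2 (Submodule.subset_span hg)
      rw [this]
      letI : Module A B := Module.compHom B φ
      exact TensorProduct.tmul_zero _ _
    | zero => exact map_zero _
    | add a b _ _ ha hb => rw [map_add, ha, hb]; simp
    | smul r a _ ha => rw [map_smul, ha]; simp
  have hq0 := extendScalars_map_eq_zero φ hφ q hq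
  rw [eq_top_iff]
  intro m _
  have : q m = 0 := by rw [hq0]; rfl
  exact (Submodule.Quotient.mk_eq_zero N).1 this

end Alg

section Geom

open Groth.Agent.Lib.Lead.QCohAff
open Groth.Agent.Lib.Helper64.FinTypeStalk

variable {X Y : Scheme.{u}} (f : X ⟶ Y) (F : Y.Modules)

/-- the pulled back section `η(t) ∈ Γ(f^* F, f⁻¹ V)` -/
noncomputable def pullSec (V : Y.Opens) (t : Γ(F, V)) :
    Γ((Scheme.Modules.pullback f).obj F, f ⁻¹ᵁ V) :=
  ((Scheme.Modules.pullbackPushforwardAdjunction f).unit.app F).app V t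

theorem germ_pullSec (x : X) (V : Y.Opens) (hx : f.base x ∈ V) (t : Γ(F, V)) :
    ((stalkPullbackIso f x).hom.app F).hom
      (((Scheme.Modules.pullback f).obj F).presheaf.germ (f ⁻¹ᵁ V) x hx (pullSec f F V t)) =
    oneT (f.stalkMap x).hom ((DerSch.stalkFunctor Y (f.base x)).obj F)
      (F.presheaf.germ V (f.base x) hx t) :=
  stalkPullbackIso_hom_germ f x F V hx t

/-- if the pulled back sections span the stalk of `f^* F` at `x`, the sections span the stalk
of `F` at `f x` (`f` flat). -/
theorem span_germ_eq_top_of_pullSec [Flat f] (x : X) (V : Y.Opens) (hx : f.base x ∈ V)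
    {ι : Type*} (t : ι → Γ(F, V))
    (h : Submodule.span (X.presheaf.stalk x)
      (Set.range fun i => ((Scheme.Modules.pullback f).obj F).presheaf.germ (f ⁻¹ᵁ V) x hx
        (pullSec f F V (t i))) = ⊤) :
    Submodule.span (Y.presheaf.stalk (f.base x))
      (Set.range fun i => F.presheaf.germ V (f.base x) hx (t i)) = ⊤ := by
  apply span_eq_top_of_extendScalars (f.stalkMap x).hom
    ((DerSch.stalkFunctor Y (f.base x)).obj F) (faithfullyFlat_stalkMap f x)
  rw [eq_top_iff]
  intro w _
  let L : (((Scheme.Modules.pullback f).obj F).presheaf.stalk x) →ₗ[X.presheaf.stalk x]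
      ((ModuleCat.extendScalars (f.stalkMap x).hom).obj
        ((DerSch.stalkFunctor Y (f.base x)).obj F)) :=
    ((stalkPullbackIso f x).hom.app F).hom
  have key : ∀ z ∈ Submodule.span (X.presheaf.stalk x)
      (Set.range fun i => ((Scheme.Modules.pullback f).obj F).presheaf.germ (f ⁻¹ᵁ V) x hx
        (pullSec f F V (t i))),
      L z ∈ Submodule.span (X.presheaf.stalk x)
        ((oneT (f.stalkMap x).hom ((DerSch.stalkFunctor Y (f.base x)).obj F)) ''
          (Set.range fun i => F.presheaf.germ V (f.base x) hx (t i))) := by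
    intro z hz
    refine (Submodule.map_span_le L _ _).2 ?_ (Submodule.mem_map_of_mem hz)
    rintro _ ⟨i, rfl⟩
    have := germ_pullSec f F x V hx (t i)
    change L _ = _ at this
    rw [this]
    exact Submodule.subset_span ⟨_, ⟨i, rfl⟩, rfl⟩
  have hw := key (((stalkPullbackIso f x).inv.app F).hom w) (by rw [h]; trivial)
  have e : L (((stalkPullbackIso f x).inv.app F).hom w) = w := by
    have := (stalkPullbackIso f x).inv_hom_id_app F
    exact congrArg (fun ψ => ψ.hom w) this
  rwa [e] at hw

open Groth.Agent.Lib.Helper64.HomSh (exists_common_nhd) in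
open Groth.Agent.Lib.Helper58.SubQCoh (mem_inf') in
/-- if `f^* F` has a finitely generated stalk at `x`, there are finitely many sections of `F` near
`f x` whose pullbacks span the stalk of `f^* F` at `x`. -/
theorem exists_sections_span_pullSec (x : X)
    (hfin : Module.Finite (X.presheaf.stalk x)
      (((Scheme.Modules.pullback f).obj F).presheaf.stalk x)) :
    ∃ (V : Y.Opens) (hx : f.base x ∈ V) (n : ℕ) (t : Fin n → Γ(F, V)),
      Submodule.span (X.presheaf.stalk x)
        (Set.range fun i => ((Scheme.Modules.pullback f).obj F).presheaf.germ (f ⁻¹ᵁ V) x hx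
          (pullSec f F V (t i))) = ⊤ := by
  classical
  let L : (((Scheme.Modules.pullback f).obj F).presheaf.stalk x) ≃ₗ[X.presheaf.stalk x]
      ((ModuleCat.extendScalars (f.stalkMap x).hom).obj
        ((DerSch.stalkFunctor Y (f.base x)).obj F)) :=
    ((stalkPullbackIso f x).app F).toLinearEquiv
  have hfin' : Module.Finite (X.presheaf.stalk x)
      ((ModuleCat.extendScalars (f.stalkMap x).hom).obj
        ((DerSch.stalkFunctor Y (f.base x)).obj F)) := Module.Finite.equiv L
  obtain ⟨G, hG⟩ := exists_finset_span_eq_top (f.stalkMap x).hom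
    ((DerSch.stalkFunctor Y (f.base x)).obj F) hfin'
  let e : Fin G.card ≃ G := G.equivFin.symm
  let gg : Fin G.card → F.presheaf.stalk (f.base x) := fun i => (e i).1
  have hex : ∀ i : Fin G.card, ∃ (W : Y.Opens) (hW : f.base x ∈ W) (r : Γ(F, W)),
      F.presheaf.germ W (f.base x) hW r = gg i := fun i =>
    F.presheaf.exists_germ_eq (x := f.base x) (gg i)
  choose W hW r hr using hex
  obtain ⟨V, hxV, -, hVW⟩ := exists_common_nhd (f.base x) W hW ⊤ trivial
  let t : Fin G.card → Γ(F, V) := fun i => F.presheaf.map (homOfLE (hVW i)).op (r i)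
  have ht : ∀ i, F.presheaf.germ V (f.base x) hxV (t i) = gg i := fun i => by
    rw [← hr i]
    exact germ_res F (hVW i) (f.base x) hxV (r i)
  refine ⟨V, hxV, G.card, t, ?_⟩
  rw [eq_top_iff]
  intro z _
  have hz : L z ∈ Submodule.span (X.presheaf.stalk x)
      ((oneT (f.stalkMap x).hom ((DerSch.stalkFunctor Y (f.base x)).obj F)) '' (G : Set _)) := by
    rw [hG]; trivial
  have hle : Submodule.span (X.presheaf.stalk x)
      ((oneT (f.stalkMap x).hom ((DerSch.stalkFunctor Y (f.base x)).obj F)) '' (G : Set _)) ≤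
      Submodule.map L.toLinearMap (Submodule.span (X.presheaf.stalk x)
        (Set.range fun i => ((Scheme.Modules.pullback f).obj F).presheaf.germ (f ⁻¹ᵁ V) x hxV
          (pullSec f F V (t i)))) := by
    rw [Submodule.span_le]
    rintro _ ⟨g, hg, rfl⟩
    obtain ⟨i, hi⟩ := e.surjective ⟨g, hg⟩
    refine ⟨_, Submodule.subset_span ⟨i, rfl⟩, ?_⟩
    have h1 := germ_pullSec f F x V hxV (t i)
    rw [ht i] at h1
    have h2 : gg i = g := congrArg Subtype.val hi
    rw [h2] at h1
    exact h1
  obtain ⟨z', hz', hzz'⟩ := hle hz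
  have : z' = z := L.injective hzz'
  rw [← this]
  exact hz'

open Groth.Agent.Lib.Helper64.HomSh (exists_common_nhd) in
open Groth.Agent.Lib.Helper58.SubQCoh (mem_inf' exists_nhd_eq_sum) in
/-- spreading out: if `f^* F` is of finite type and the pulled back sections span its stalk at
`x`, they span its stalks on a neighbourhood of `x`. -/
theorem exists_open_span_pullSec
    (h : SheafOfModules.IsFiniteType (R := X.ringCatSheaf) ((Scheme.Modules.pullback f).obj F))
    (x : X) (V : Y.Opens) (hx : f.base x ∈ V) {n : ℕ} (t : Fin n → Γ(F, V))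
    (hspan : Submodule.span (X.presheaf.stalk x)
      (Set.range fun i => ((Scheme.Modules.pullback f).obj F).presheaf.germ (f ⁻¹ᵁ V) x hx
        (pullSec f F V (t i))) = ⊤) :
    ∃ (U' : X.Opens) (hU' : U' ≤ f ⁻¹ᵁ V), x ∈ U' ∧ ∀ (x' : X) (hx' : x' ∈ U'),
      Submodule.span (X.presheaf.stalk x')
        (Set.range fun i => ((Scheme.Modules.pullback f).obj F).presheaf.germ (f ⁻¹ᵁ V) x'
          (hU' hx') (pullSec f F V (t i))) = ⊤ := by
  classical
  obtain ⟨U, hxU, m, s, hs⟩ := exists_local_generators ((Scheme.Modules.pullback f).obj F) h x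
  let D : X.Opens := U ⊓ f ⁻¹ᵁ V
  have hxD : x ∈ D := mem_inf' hxU hx
  have hDV : D ≤ f ⁻¹ᵁ V := inf_le_right
  have hDU : D ≤ U := inf_le_left
  have hex : ∀ j : Fin m, ∃ (W : X.Opens) (hW : W ≤ D) (_ : x ∈ W) (c : Fin n → Γ(X, W)),
      ((Scheme.Modules.pullback f).obj F).presheaf.map (homOfLE hW).op
        (((Scheme.Modules.pullback f).obj F).presheaf.map (homOfLE hDU).op (s j)) =
        ∑ i, c i • ((Scheme.Modules.pullback f).obj F).presheaf.map (homOfLE (hW.trans hDV)).op
          (pullSec f F V (t i)) := fun j =>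
    exists_nhd_eq_sum ((Scheme.Modules.pullback f).obj F) (fun i => pullSec f F V (t i)) hDV
      (((Scheme.Modules.pullback f).obj F).presheaf.map (homOfLE hDU).op (s j)) x hxD
      (by rw [hspan]; trivial)
  choose W hWD hxW c hc using hex
  obtain ⟨U', hxU', hU'D, hU'W⟩ := exists_common_nhd x W hxW D hxD
  refine ⟨U', hU'D.trans hDV, hxU', fun x' hx' => ?_⟩
  rw [eq_top_iff, ← hs x' (hDU (hU'D hx')), Submodule.span_le]
  rintro _ ⟨j, rfl⟩
  have hxW' : x' ∈ W j := hU'W j hx'
  have e1 : ((Scheme.Modules.pullback f).obj F).presheaf.germ U x' (hDU (hU'D hx')) (s j) =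
      ((Scheme.Modules.pullback f).obj F).presheaf.germ (W j) x' hxW'
        (((Scheme.Modules.pullback f).obj F).presheaf.map (homOfLE (hWD j)).op
          (((Scheme.Modules.pullback f).obj F).presheaf.map (homOfLE hDU).op (s j))) := by
    rw [germ_res, germ_res]
  change ((Scheme.Modules.pullback f).obj F).presheaf.germ U x' (hDU (hU'D hx')) (s j) ∈ _
  rw [e1, hc j, map_sum]
  refine Submodule.sum_mem _ fun i _ => ?_
  rw [germ_smul, germ_res]
  exact Submodule.smul_mem _ _ (Submodule.subset_span ⟨i, rfl⟩)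

open Groth.Agent.Lib.Lead.FinTypeTop in
open Groth.Agent.Lib.Helper58.SubQCoh (exists_nhd_eq_sum) in
/-- sections whose germs span all stalks over `V` locally span over `V` -/
theorem locSpan_of_span_germ (V : Y.Opens) {n : ℕ} (t : Fin n → Γ(F, V))
    (hspan : ∀ (y : Y) (hy : y ∈ V), Submodule.span (Y.presheaf.stalk y)
      (Set.range fun i => F.presheaf.germ V y hy (t i)) = ⊤) :
    LocSpan (R := Y.ringCatSheaf) F V (fun i : ULift.{u} (Fin n) => t i.down) := by
  intro W hW m y hy
  obtain ⟨W', hW', hyW', c, hc⟩ := exists_nhd_eq_sum F t hW m y hy (by rw [hspan]; trivial)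
  refine ⟨W', hW', hyW', ?_⟩
  have hc' : rs (R := Y.ringCatSheaf) F hW' m =
      ∑ i : Fin n, (show (Y.ringCatSheaf.obj.obj (op W') : Type u) from c i) •
        rs (R := Y.ringCatSheaf) F (hW'.trans hW) (t i) := hc
  rw [hc']
  refine Submodule.sum_mem _ fun i _ => ?_
  exact Submodule.smul_mem _ _ (Submodule.subset_span ⟨⟨i⟩, rfl⟩)

open Groth.Agent.Lib.Lead.FinTypeTop in
/-- **Finite type descends along flat, surjective, open morphisms** (arbitrary `O_Y`-modules). -/
theorem isFiniteType_of_pullback [Flat f] [Surjective f] (hf : IsOpenMap f.base)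
    (h : SheafOfModules.IsFiniteType (R := X.ringCatSheaf) ((Scheme.Modules.pullback f).obj F)) :
    SheafOfModules.IsFiniteType (R := Y.ringCatSheaf) F := by
  refine isFiniteType_of_locSpan (T := Y.carrier) (R := Y.ringCatSheaf) F ?_
  intro y
  obtain ⟨x, rfl⟩ := f.surjective y
  obtain ⟨V, hx, n, t, hspan⟩ := exists_sections_span_pullSec f F x (finite_stalk _ h x)
  obtain ⟨U', hU', hxU', hU'span⟩ := exists_open_span_pullSec f F h x V hx t hspan
  let V' : Y.Opens := V ⊓ ⟨f.base '' (U' : Set X), hf _ U'.isOpen⟩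
  have hV'V : V' ≤ V := inf_le_left
  have hxV' : f.base x ∈ V' := ⟨hx, ⟨x, hxU', rfl⟩⟩
  refine ⟨V', hxV', n, fun i => F.presheaf.map (homOfLE hV'V).op (t i), ?_⟩
  refine locSpan_of_span_germ F V' (fun i => F.presheaf.map (homOfLE hV'V).op (t i)) ?_
  rintro y ⟨hyV, x', hx', rfl⟩
  have := span_germ_eq_top_of_pullSec f F x' V (hU' hx') t (hU'span x' hx')
  rw [eq_top_iff, ← this, Submodule.span_le]
  rintro _ ⟨i, rfl⟩
  refine Submodule.subset_span ⟨i, ?_⟩
  exact germ_res F hV'V (f.base x') _ (t i)

end Geom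

end Groth.Agent.Lib.Helper58.PullStalkGerm
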