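import Mathlib
import Groth.Agent.Lib.Helper58.PullStalkGerm

/-!
# Bounding the number of local generators along flat pullbacks (helper58)

* `exists_fin_span_le`: for a local homomorphism of local rings `A → B` and a finite `A`-module `M`,
  if `B ⊗ M` is spanned by `n` elements then `M` is spanned by `≤ n` elements (Nakayama + residue
  fields).
* `span_oneT_eq_top`: spanning sets go up along extension of scalars.
* geometric consequences for `f^* F`.
-/

set_option autoImplicit false
set_option linter.style.haveILetI false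
universe u
open CategoryTheory CategoryTheory.Limits AlgebraicGeometry TopologicalSpace Opposite

namespace Groth.Agent.Lib.Helper58.GenBound

open Groth.Agent.Lib.Helper12.Sky ChangeOfRings
open Groth.Agent.Lib.Helper58.PullStalkGerm

set_option backward.isDefEq.respectTransparency.types false

section Alg

open TensorProduct

/-- rank bound: if `B ⊗ M` is spanned by `n` elements over the local ring `B` (`A → B` local), then
the finite `A`-module `M` is spanned by `≤ n` elements. -/
theorem exists_fin_span_le {A B : Type u} [CommRing A] [CommRing B] [IsLocalRing A] [IsLocalRing B]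
    [Algebra A B] [IsLocalHom (algebraMap A B)] (M : Type u) [AddCommGroup M] [Module A M]
    [Module.Finite A M] {n : ℕ} (w : Fin n → B ⊗[A] M)
    (hw : Submodule.span B (Set.range w) = ⊤) :
    ∃ (d : ℕ) (_ : d ≤ n) (g : Fin d → M), Submodule.span A (Set.range g) = ⊤ := by
  classical
  let k := IsLocalRing.ResidueField A
  let k' := IsLocalRing.ResidueField B
  let b := Module.finBasis k (k ⊗[A] M)
  have hsurj : Function.Surjective (TensorProduct.mk A k M 1) :=
    TensorProduct.mk_surjective A M k IsLocalRing.residue_surjective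
  choose f hf using fun i => hsurj (b i)
  refine ⟨Module.finrank k (k ⊗[A] M), ?_, f, IsLocalRing.span_eq_top_of_tmul_eq_basis f b hf⟩
  have h1 : Module.finrank k' (k' ⊗[k] (k ⊗[A] M)) = Module.finrank k (k ⊗[A] M) :=
    Module.finrank_baseChange
  let e1 : k' ⊗[k] (k ⊗[A] M) ≃ₗ[k'] k' ⊗[A] M :=
    TensorProduct.AlgebraTensorModule.cancelBaseChange A k k' k' M
  let e2 : k' ⊗[B] (B ⊗[A] M) ≃ₗ[k'] k' ⊗[A] M :=
    TensorProduct.AlgebraTensorModule.cancelBaseChange A B k' k' M
  have h2 : Module.finrank k' (k' ⊗[B] (B ⊗[A] M)) ≤ n := by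
    have hsurj' : Function.Surjective (TensorProduct.mk B k' (B ⊗[A] M) 1) :=
      TensorProduct.mk_surjective B (B ⊗[A] M) k' IsLocalRing.residue_surjective
    have htop : Submodule.span k' (Set.range fun i => (1 : k') ⊗ₜ[B] w i) = ⊤ := by
      rw [eq_top_iff]
      intro z _
      obtain ⟨y, rfl⟩ := hsurj' z
      have hy : y ∈ Submodule.span B (Set.range w) := by rw [hw]; trivial
      clear * - hy
      induction hy using Submodule.span_induction with
      | mem y hy =>
        obtain ⟨i, rfl⟩ := hy
        exact Submodule.subset_span ⟨i, rfl⟩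
      | zero => rw [map_zero]; exact Submodule.zero_mem _
      | add a c _ _ ha hc => rw [map_add]; exact Submodule.add_mem _ ha hc
      | smul r a _ ha =>
        rw [map_smul]
        rw [← IsScalarTower.algebraMap_smul k' r]
        exact Submodule.smul_mem _ _ ha
    have := finrank_range_le_card (R := k') (fun i : Fin n => (1 : k') ⊗ₜ[B] w i)
    rw [Set.finrank, htop, finrank_top, Fintype.card_fin] at this
    exact this
  rw [← h1, e1.finrank_eq, ← e2.finrank_eq]
  exact h2

variable {A B : Type u} [CommRing A] [CommRing B] (φ : A →+* B) (M : ModuleCat.{u} A)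

theorem oneT_add (m m' : M) : oneT φ M (m + m') = oneT φ M m + oneT φ M m' := by
  unfold oneT
  letI : Module A B := Module.compHom B φ
  exact TensorProduct.tmul_add _ _ _

theorem oneT_zero : oneT φ M 0 = 0 := by
  unfold oneT
  letI : Module A B := Module.compHom B φ
  exact TensorProduct.tmul_zero _ _

theorem oneT_smul (a : A) (m : M) : oneT φ M (a • m) = (φ a) • oneT φ M m := by
  have e3 : ((φ a) • oneT φ M m : (ModuleCat.extendScalars φ).obj M) =
      ((φ a * 1 : B) ⊗ₜ[A, φ] m) := by
    unfold oneT
    erw [ModuleCat.ExtendScalars.smul_tmul]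
  rw [e3]
  unfold oneT
  letI : Module A B := Module.compHom B φ
  have e1 : ((1 : B) ⊗ₜ[A] (a • m) : B ⊗[A] M) = (a • (1 : B)) ⊗ₜ[A] m :=
    (TensorProduct.smul_tmul a (1 : B) m).symm
  have e2 : (a • (1 : B)) = φ a * 1 := rfl
  change ((1 : B) ⊗ₜ[A] (a • m) : B ⊗[A] M) = _
  rw [e1, e2]

/-- spanning sets go up along extension of scalars -/
theorem span_oneT_eq_top (S : Set M) (h : Submodule.span A S = ⊤) :
    Submodule.span B ((oneT φ M) '' S) = ⊤ := by
  classical
  have key : ∀ m : M, oneT φ M m ∈ Submodule.span B ((oneT φ M) '' S) := by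
    intro m
    have hm : m ∈ Submodule.span A S := by rw [h]; trivial
    induction hm using Submodule.span_induction with
    | mem m hm => exact Submodule.subset_span ⟨m, hm, rfl⟩
    | zero => rw [oneT_zero]; exact Submodule.zero_mem _
    | add a b _ _ ha hb => rw [oneT_add]; exact Submodule.add_mem _ ha hb
    | smul r a _ ha => rw [oneT_smul]; exact Submodule.smul_mem _ _ ha
  rw [eq_top_iff]
  intro w _
  obtain ⟨G, hG⟩ := exists_finset_mem_span φ M w
  refine (Submodule.span_le.2 ?_) hG
  rintro _ ⟨g, -, rfl⟩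
  exact key g

end Alg

section Geom

open Groth.Agent.Lib.Lead.QCohAff
open Groth.Agent.Lib.Helper64.FinTypeStalk

/-- local generators data with finite generating families is of finite type -/
theorem isFiniteType_of_data {X : Scheme.{u}} (M : X.Modules)
    (σ : SheafOfModules.LocalGeneratorsData.{u} (R := X.ringCatSheaf) M)
    (hσ : ∀ k, Finite (σ.generators k).I) :
    SheafOfModules.IsFiniteType (R := X.ringCatSheaf) M := by
  have h : σ.IsFiniteType := by
    refine SheafOfModules.LocalGeneratorsData.IsFiniteType.mk (p := σ) (fun x => ?_)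
    exact SheafOfModules.GeneratingSections.IsFiniteType.mk (σ := σ.generators x) (hσ x)
  constructor
  exact ⟨σ, h⟩

/-- local generators with the cardinality bound -/
theorem exists_local_generators_le {X : Scheme.{u}} (M : X.Modules) (r : ℕ)
    (σ : SheafOfModules.LocalGeneratorsData.{u} (R := X.ringCatSheaf) M)
    (hσ : ∀ k, Finite (σ.generators k).I ∧ Nat.card (σ.generators k).I ≤ r) (x : X) :
    ∃ (U : X.Opens) (_ : x ∈ U) (n : ℕ) (_ : n ≤ r) (s : Fin n → Γ(M, U)), ∀ (y : X) (hy : y ∈ U),
      Submodule.span (X.presheaf.stalk y) (Set.range fun i => M.presheaf.germ U y hy (s i)) = ⊤ := by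
  obtain ⟨V, f, ⟨i, ⟨hVi⟩⟩, hxV⟩ := σ.coversTop ⊤ x (show x ∈ (⊤ : X.Opens) from trivial)
  have hxi : x ∈ σ.X i := leOfHom hVi hxV
  have hfin : Finite (σ.generators i).I := (hσ i).1
  obtain ⟨n, ⟨e⟩⟩ := Finite.exists_equiv_fin (σ.generators i).I
  have hn : n ≤ r := by
    have := (hσ i).2
    rwa [Nat.card_congr e, Nat.card_fin] at this
  refine ⟨σ.X i, hxi, n, hn, fun k => secU M (σ.X i) ((σ.generators i).s (e.symm k)), ?_⟩
  intro y hy
  rw [eq_top_iff]
  intro z _
  have := germ_mem_span M (σ.X i) (σ.generators i) y hy z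
  refine Submodule.span_mono ?_ this
  rintro _ ⟨k, rfl⟩
  exact ⟨e k, by simp⟩

variable {X Y : Scheme.{u}} (f : X ⟶ Y) (F : Y.Modules)

/-- going up: if sections span the stalk of `F` at `f x`, their pullbacks span the stalk of
`f^* F` at `x`. -/
theorem span_germ_pullSec_eq_top (x : X) (V : Y.Opens) (hx : f.base x ∈ V)
    {ι : Type*} (t : ι → Γ(F, V))
    (h : Submodule.span (Y.presheaf.stalk (f.base x))
      (Set.range fun i => F.presheaf.germ V (f.base x) hx (t i)) = ⊤) :
    Submodule.span (X.presheaf.stalk x)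
      (Set.range fun i => ((Scheme.Modules.pullback f).obj F).presheaf.germ (f ⁻¹ᵁ V) x hx
        (pullSec f F V (t i))) = ⊤ := by
  let L : (((Scheme.Modules.pullback f).obj F).presheaf.stalk x) ≃ₗ[X.presheaf.stalk x]
      ((ModuleCat.extendScalars (f.stalkMap x).hom).obj
        ((DerSch.stalkFunctor Y (f.base x)).obj F)) :=
    ((stalkPullbackIso f x).app F).toLinearEquiv
  have htop := span_oneT_eq_top (f.stalkMap x).hom ((DerSch.stalkFunctor Y (f.base x)).obj F)
    (Set.range fun i => F.presheaf.germ V (f.base x) hx (t i)) h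
  rw [eq_top_iff]
  intro z _
  have hz : L z ∈ Submodule.span (X.presheaf.stalk x)
      ((oneT (f.stalkMap x).hom ((DerSch.stalkFunctor Y (f.base x)).obj F)) ''
        (Set.range fun i => F.presheaf.germ V (f.base x) hx (t i))) := by
    rw [htop]; trivial
  have hle : Submodule.span (X.presheaf.stalk x)
      ((oneT (f.stalkMap x).hom ((DerSch.stalkFunctor Y (f.base x)).obj F)) ''
        (Set.range fun i => F.presheaf.germ V (f.base x) hx (t i))) ≤
      Submodule.map L.toLinearMap (Submodule.span (X.presheaf.stalk x)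
        (Set.range fun i => ((Scheme.Modules.pullback f).obj F).presheaf.germ (f ⁻¹ᵁ V) x hx
          (pullSec f F V (t i)))) := by
    rw [Submodule.span_le]
    rintro _ ⟨_, ⟨i, rfl⟩, rfl⟩
    refine ⟨_, Submodule.subset_span ⟨i, rfl⟩, ?_⟩
    exact germ_pullSec f F x V hx (t i)
  obtain ⟨z', hz', hzz'⟩ := hle hz
  have : z' = z := L.injective hzz'
  rw [← this]
  exact hz'

/-- the stalk bound: if the stalk of `f^* F` at `x` is spanned by `n` elements (`f` flat), the
stalk of `F` at `f x` is spanned by `≤ n` elements. -/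
theorem exists_fin_span_stalk_le [Flat f] (x : X) {n : ℕ}
    (w : Fin n → ((Scheme.Modules.pullback f).obj F).presheaf.stalk x)
    (hw : Submodule.span (X.presheaf.stalk x) (Set.range w) = ⊤) :
    ∃ (d : ℕ) (_ : d ≤ n) (g : Fin d → F.presheaf.stalk (f.base x)),
      Submodule.span (Y.presheaf.stalk (f.base x)) (Set.range g) = ⊤ := by
  classical
  let φ : Y.presheaf.stalk (f.base x) →+* X.presheaf.stalk x := (f.stalkMap x).hom
  let M : ModuleCat.{u} (Y.presheaf.stalk (f.base x)) := (DerSch.stalkFunctor Y (f.base x)).obj F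
  let L : (((Scheme.Modules.pullback f).obj F).presheaf.stalk x) ≃ₗ[X.presheaf.stalk x]
      ((ModuleCat.extendScalars φ).obj M) :=
    ((stalkPullbackIso f x).app F).toLinearEquiv
  have hfinB : Module.Finite (X.presheaf.stalk x)
      (((Scheme.Modules.pullback f).obj F).presheaf.stalk x) := by
    rw [Module.finite_def, ← hw]
    exact Submodule.fg_span (Set.finite_range _)
  have hfin' : Module.Finite (X.presheaf.stalk x) ((ModuleCat.extendScalars φ).obj M) :=
    Module.Finite.equiv L
  obtain ⟨G, hG⟩ := exists_finset_span_eq_top φ M hfin'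
  have hM : Submodule.span (Y.presheaf.stalk (f.base x)) (G : Set M) = ⊤ :=
    span_eq_top_of_extendScalars φ M (faithfullyFlat_stalkMap f x) G hG
  haveI : Module.Finite (Y.presheaf.stalk (f.base x)) M := Module.finite_def.2 ⟨G, hM⟩
  letI : Algebra (Y.presheaf.stalk (f.base x)) (X.presheaf.stalk x) := φ.toAlgebra
  haveI : IsLocalHom (algebraMap (Y.presheaf.stalk (f.base x)) (X.presheaf.stalk x)) :=
    (inferInstance : IsLocalHom (f.stalkMap x).hom)
  have hLw : Submodule.span (X.presheaf.stalk x) (Set.range fun i => L (w i)) = ⊤ := by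
    rw [eq_top_iff]
    intro z _
    have hz : L.symm z ∈ Submodule.span (X.presheaf.stalk x) (Set.range w) := by rw [hw]; trivial
    have h3 : L (L.symm z) ∈ Submodule.map L.toLinearMap
        (Submodule.span (X.presheaf.stalk x) (Set.range w)) := Submodule.mem_map_of_mem hz
    rw [Submodule.map_span, ← Set.range_comp, LinearEquiv.apply_symm_apply] at h3
    exact h3
  exact exists_fin_span_le (A := Y.presheaf.stalk (f.base x)) (B := X.presheaf.stalk x) M
    (fun i => L (w i)) hLw

open Groth.Agent.Lib.Helper64.HomSh (exists_common_nhd) in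
/-- lift finitely many spanning germs to sections on a common neighbourhood -/
theorem exists_sections_of_span_stalk (y : Y) {d : ℕ} (g : Fin d → F.presheaf.stalk y)
    (hg : Submodule.span (Y.presheaf.stalk y) (Set.range g) = ⊤) :
    ∃ (V : Y.Opens) (hy : y ∈ V) (t : Fin d → Γ(F, V)),
      Submodule.span (Y.presheaf.stalk y)
        (Set.range fun i => F.presheaf.germ V y hy (t i)) = ⊤ := by
  have hex : ∀ i : Fin d, ∃ (W : Y.Opens) (hW : y ∈ W) (r : Γ(F, W)),
      F.presheaf.germ W y hW r = g i := fun i => F.presheaf.exists_germ_eq (x := y) (g i)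
  choose W hW r hr using hex
  obtain ⟨V, hyV, -, hVW⟩ := exists_common_nhd y W hW ⊤ trivial
  refine ⟨V, hyV, fun i => F.presheaf.map (homOfLE (hVW i)).op (r i), ?_⟩
  have : (fun i => F.presheaf.germ V y hyV (F.presheaf.map (homOfLE (hVW i)).op (r i))) = g := by
    funext i
    rw [← hr i]
    exact germ_res F (hVW i) y hyV (r i)
  rw [this]
  exact hg

/-- the locus where given sections span the stalks -/
def spanLocus (V : Y.Opens) {d : ℕ} (t : Fin d → Γ(F, V)) : Set Y :=
  {y | ∃ hy : y ∈ V, Submodule.span (Y.presheaf.stalk y)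
    (Set.range fun i => F.presheaf.germ V y hy (t i)) = ⊤}

theorem spanLocus_subset (V : Y.Opens) {d : ℕ} (t : Fin d → Γ(F, V)) :
    spanLocus F V t ⊆ (V : Set Y) := fun _ h => h.1

/-- the preimage of the span locus under a flat morphism with `f^* F` of finite type is open -/
theorem isOpen_preimage_spanLocus [Flat f]
    (h : SheafOfModules.IsFiniteType (R := X.ringCatSheaf) ((Scheme.Modules.pullback f).obj F))
    (V : Y.Opens) {d : ℕ} (t : Fin d → Γ(F, V)) :
    IsOpen (f.base ⁻¹' spanLocus F V t) := by
  rw [isOpen_iff_forall_mem_open]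
  rintro x ⟨hx, hspan⟩
  have h1 := span_germ_pullSec_eq_top f F x V hx t hspan
  obtain ⟨U', hU', hxU', hU'span⟩ := exists_open_span_pullSec f F h x V hx t h1
  refine ⟨U', ?_, U'.isOpen, hxU'⟩
  intro x' hx'
  exact ⟨hU' hx', span_germ_eq_top_of_pullSec f F x' V (hU' hx') t (hU'span x' hx')⟩

theorem span_germ_res (V W : Y.Opens) (hWV : W ≤ V) {d : ℕ} (t : Fin d → Γ(F, V)) (z : Y)
    (hz : z ∈ W)
    (h : Submodule.span (Y.presheaf.stalk z)
      (Set.range fun i => F.presheaf.germ V z (hWV hz) (t i)) = ⊤) :
    Submodule.span (Y.presheaf.stalk z)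
      (Set.range fun i => F.presheaf.germ W z hz (F.presheaf.map (homOfLE hWV).op (t i))) = ⊤ := by
  have : (fun i => F.presheaf.germ W z hz (F.presheaf.map (homOfLE hWV).op (t i))) =
      fun i => F.presheaf.germ V z (hWV hz) (t i) := by
    funext i
    exact germ_res F hWV z hz (t i)
  rw [this]
  exact h

open Groth.Agent.Lib.Lead.FinTypeTop in
/-- local generators data with a cardinality bound from locally spanning sections -/
theorem exists_data_of_locSpan {T : TopCat.{u}}
    {R : Sheaf (Opens.grothendieckTopology T) RingCat.{u}} (N : SheafOfModules.{u} R) (r : ℕ)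
    (h : ∀ x : T, ∃ (V : Opens T) (_ : x ∈ V) (n : ℕ) (_ : n ≤ r) (s : Fin n → N.val.obj (op V)),
      LocSpan N V (fun i : ULift.{u} (Fin n) => s i.down)) :
    ∃ σ : SheafOfModules.LocalGeneratorsData.{u} N,
      ∀ k, Finite (σ.generators k).I ∧ Nat.card (σ.generators k).I ≤ r := by
  choose V hxV n hn s hs using h
  refine ⟨{ I := (T : Type u)
            X := V
            coversTop := by
              intro W y hy
              exact ⟨W ⊓ V y, homOfLE inf_le_left, ⟨y, ⟨homOfLE inf_le_right⟩⟩, ⟨hy, hxV y⟩⟩
            generators := fun x =>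
              generatingSections N (V x) (fun i : ULift.{u} (Fin (n x)) => s x i.down) (hs x) },
    fun k => ⟨?_, ?_⟩⟩
  · change Finite (ULift.{u} (Fin (n k)))
    infer_instance
  · change Nat.card (ULift.{u} (Fin (n k))) ≤ r
    rw [Nat.card_congr Equiv.ulift, Nat.card_fin]
    exact hn k

/-- local generators data with a cardinality bound from sections spanning all stalks locally -/
theorem exists_data_of_span_germ (r : ℕ)
    (hloc : ∀ y : Y, ∃ (W : Y.Opens) (_ : y ∈ W) (d : ℕ) (_ : d ≤ r) (t : Fin d → Γ(F, W)),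
      ∀ (z : Y) (hz : z ∈ W), Submodule.span (Y.presheaf.stalk z)
        (Set.range fun i => F.presheaf.germ W z hz (t i)) = ⊤) :
    ∃ σ : SheafOfModules.LocalGeneratorsData.{u} (R := Y.ringCatSheaf) F,
      ∀ k, Finite (σ.generators k).I ∧ Nat.card (σ.generators k).I ≤ r := by
  refine exists_data_of_locSpan (T := Y.carrier) (R := Y.ringCatSheaf) F r ?_
  intro y
  obtain ⟨W, hyW, d, hd, t, ht⟩ := hloc y
  exact ⟨W, hyW, d, hd, t, locSpan_of_span_germ F W t ht⟩

end Geom

end Groth.Agent.Lib.Helper58.GenBound
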