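import Mathlib
import Groth.Prelude.Def_CInt

/-! Morphisms that are isomorphisms over a dense open with schematically dense preimage
(helper58). -/

set_option autoImplicit false
set_option linter.style.haveILetI false
set_option linter.unusedVariables false
universe u

open CategoryTheory CategoryTheory.Limits AlgebraicGeometry TopologicalSpace

namespace Groth.Agent.Lib.Helper58.GenIso

/-- the prelude's schematic density gives Mathlib's scheme-theoretic dominance of the inclusion -/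
theorem isSchemeTheoreticallyDominant_ι {X : Scheme.{u}} (O : X.Opens) [QuasiCompact O.ι]
    (h : CInt.IsSchematicallyDense O) : IsSchemeTheoreticallyDominant O.ι := by
  rw [isSchemeTheoreticallyDominant_iff]
  apply Scheme.IdealSheafData.ext
  funext V
  rw [Scheme.Hom.ker_apply, Scheme.IdealSheafData.ideal_bot, Pi.bot_apply,
    ← RingHom.injective_iff_ker_eq_bot, Scheme.Opens.ι_app]
  have h1 := h V.1
  have heq : O.ι ''ᵁ O.ι ⁻¹ᵁ V.1 = V.1 ⊓ O := by
    ext y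
    constructor
    · rintro ⟨z, hz, rfl⟩
      exact ⟨hz, z.2⟩
    · rintro ⟨hy1, hy2⟩
      exact ⟨⟨y, hy2⟩, hy1, rfl⟩
  intro a b hab
  apply h1
  have key : ∀ (O' : X.Opens) (e : O' = V.1 ⊓ O) (le1 : O' ≤ V.1) (c : Γ(X, V.1)),
      X.presheaf.map (homOfLE le1).op c =
        X.presheaf.map (eqToHom e).op (X.presheaf.map (homOfLE (inf_le_left : V.1 ⊓ O ≤ V.1)).op c) := by
    intro O' e le1 c
    subst e
    simp
  have ha := key _ heq (Set.image_preimage_subset _ _) a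
  have hb := key _ heq (Set.image_preimage_subset _ _) b
  have hinj : Function.Injective (X.presheaf.map (eqToHom heq).op) := by
    have : IsIso (X.presheaf.map (eqToHom heq).op) := inferInstance
    exact (ConcreteCategory.bijective_of_isIso _).1
  apply hinj
  rw [← ha, ← hb]
  exact hab

/-- two morphisms into `X` that agree after `f` and land over an open `U` over which `f` is an
isomorphism are equal -/
theorem eq_of_comp_eq_of_isIso_restrict {X S T : Scheme.{u}} (f : X ⟶ S) (U : S.Opens)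
    [IsIso (f ∣_ U)] (k k' : T ⟶ X) (h : k ≫ f = k' ≫ f) (hk : ∀ t : T, f (k t) ∈ U) :
    k = k' := by
  have hr : Set.range k ⊆ Set.range (f ⁻¹ᵁ U).ι := by
    rintro _ ⟨t, rfl⟩
    rw [Scheme.Opens.range_ι]
    exact hk t
  have hr' : Set.range k' ⊆ Set.range (f ⁻¹ᵁ U).ι := by
    rintro _ ⟨t, rfl⟩
    rw [Scheme.Opens.range_ι]
    show f (k' t) ∈ U
    rw [← Scheme.Hom.comp_apply, ← h, Scheme.Hom.comp_apply]
    exact hk t
  have e1 : IsOpenImmersion.lift (f ⁻¹ᵁ U).ι k hr ≫ (f ⁻¹ᵁ U).ι = k :=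
    IsOpenImmersion.lift_fac _ _ _
  have e2 : IsOpenImmersion.lift (f ⁻¹ᵁ U).ι k' hr' ≫ (f ⁻¹ᵁ U).ι = k' :=
    IsOpenImmersion.lift_fac _ _ _
  have e3 : IsOpenImmersion.lift (f ⁻¹ᵁ U).ι k hr = IsOpenImmersion.lift (f ⁻¹ᵁ U).ι k' hr' := by
    rw [← cancel_mono (f ∣_ U), ← cancel_mono U.ι, Category.assoc, Category.assoc,
      morphismRestrict_ι, ← Category.assoc, ← Category.assoc, e1, e2]
    exact h
  rw [← e1, ← e2, e3]

/-- two morphisms to an affine scheme agreeing on a scheme-theoretically dominant quasi-compact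
morphism are equal -/
theorem eq_of_comp_eq_of_isAffine {T D Y : Scheme.{u}} [IsAffine Y] (d : D ⟶ T)
    [IsSchemeTheoreticallyDominant d] [QuasiCompact d] (a b : T ⟶ Y) (h : d ≫ a = d ≫ b) :
    a = b := by
  apply ext_of_isAffine
  have h1 : a.appTop ≫ d.appTop = b.appTop ≫ d.appTop := by
    rw [← Scheme.Hom.comp_appTop, ← Scheme.Hom.comp_appTop, h]
  ext c
  apply d.app_injective ⊤
  exact congrArg (fun g => g.hom c) h1

/-- `Spec 𝒪_{X,x} ⟶ X` is flat (as in helper51's `StalkBC`). -/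
theorem flat_fromSpecStalk {X : Scheme.{u}} (x : X) : Flat (X.fromSpecStalk x) := by
  have hU := isAffineOpen_opensRange (X.affineCover.f (X.affineCover.idx x))
  have hx : x ∈ (X.affineCover.f (X.affineCover.idx x)).opensRange := X.affineCover.covers x
  rw [← hU.fromSpecStalk_eq_fromSpecStalk hx]
  dsimp [IsAffineOpen.fromSpecStalk]
  have : Flat (Spec.map (X.presheaf.germ _ x hx)) := by
    rw [Flat.SpecMap_iff]
    letI : Algebra Γ(X, (X.affineCover.f (X.affineCover.idx x)).opensRange) (X.presheaf.stalk x) :=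
      (X.presheaf.germ _ x hx).hom.toAlgebra
    haveI := hU.isLocalization_stalk ⟨x, hx⟩
    have h1 : Module.Flat Γ(X, (X.affineCover.f (X.affineCover.idx x)).opensRange)
        (X.presheaf.stalk x) :=
      IsLocalization.flat _ (hU.primeIdealOf ⟨x, hx⟩).asIdeal.primeCompl
    exact h1
  infer_instance

/-- flatness at `x` forces the map of local schemes at `x` to be an isomorphism -/
theorem isIso_SpecMap_stalkMap_of_flat {X S : Scheme.{u}} (f : X ⟶ S) (U : S.Opens)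
    [IsIso (f ∣_ U)] [QuasiCompact (f ⁻¹ᵁ U).ι]
    [IsSchemeTheoreticallyDominant (f ⁻¹ᵁ U).ι]
    (x : X) (hflat : (f.stalkMap x).hom.Flat) : IsIso (Spec.map (f.stalkMap x)) := by
  set φ := Spec.map (f.stalkMap x) with hφ
  set ℓ := X.fromSpecStalk x with hℓ
  set j := (f ⁻¹ᵁ U).ι with hj
  have hcomm : φ ≫ S.fromSpecStalk (f x) = ℓ ≫ f := Scheme.SpecMap_stalkMap_fromSpecStalk f
  haveI hfl : Flat φ := (Flat.SpecMap_iff).mpr hflat
  have hff : (f.stalkMap x).hom.FaithfullyFlat := by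
    algebraize [(f.stalkMap x).hom]
    have : Module.FaithfullyFlat (S.presheaf.stalk (f x)) (X.presheaf.stalk x) :=
      @Module.FaithfullyFlat.of_flat_of_isLocalHom _ _ _ _ _ _ _ hflat (f.toLRSHom.prop x)
    exact ‹RingHom.FaithfullyFlat _›
  haveI hsurj : Surjective φ := ((flat_and_surjective_SpecMap_iff (f.stalkMap x)).mpr hff).2
  -- the two projections of the self fibre product agree
  set p₁ := pullback.fst φ φ with hp₁
  set p₂ := pullback.snd φ φ with hp₂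
  haveI : Flat ℓ := flat_fromSpecStalk x
  set jB := pullback.fst ℓ j with hjB
  haveI : IsSchemeTheoreticallyDominant jB := inferInstance
  haveI : QuasiCompact jB := inferInstance
  haveI : Flat p₁ := inferInstance
  set jZ := pullback.fst p₁ jB with hjZ
  haveI : IsSchemeTheoreticallyDominant jZ := inferInstance
  haveI : QuasiCompact jZ := inferInstance
  have hagree : jZ ≫ p₁ = jZ ≫ p₂ := by
    rw [← cancel_mono ℓ, Category.assoc, Category.assoc]
    apply eq_of_comp_eq_of_isIso_restrict f U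
    · have hc : p₁ ≫ φ = p₂ ≫ φ := pullback.condition
      rw [Category.assoc, Category.assoc, Category.assoc, Category.assoc, ← hcomm,
        ← Category.assoc p₁, hc, Category.assoc]
    · intro t
      have h1 : jZ ≫ p₁ ≫ ℓ = (pullback.snd p₁ jB ≫ pullback.snd ℓ j) ≫ j := by
        rw [Category.assoc, ← pullback.condition, ← Category.assoc, pullback.condition,
          Category.assoc]
      rw [h1, Scheme.Hom.comp_apply]
      exact ((pullback.snd p₁ jB ≫ pullback.snd ℓ j) t).2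
  have hp : p₁ = p₂ := eq_of_comp_eq_of_isAffine jZ p₁ p₂ hagree
  haveI : Mono φ := by
    refine ⟨fun k₁ k₂ h => ?_⟩
    rw [← pullback.lift_fst k₁ k₂ h, ← hp₁, hp, hp₂, pullback.lift_snd]
  haveI : QuasiCompact φ := inferInstance
  exact Flat.isIso_of_surjective_of_mono φ

/-- flat at `x` ⟹ a local section through `x` -/
theorem exists_section_of_flat {X S : Scheme.{u}} [IsLocallyNoetherian S] (f : X ⟶ S)
    [LocallyOfFiniteType f] (U : S.Opens)
    [IsIso (f ∣_ U)] [QuasiCompact (f ⁻¹ᵁ U).ι] [IsSchemeTheoreticallyDominant (f ⁻¹ᵁ U).ι]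
    (x : X) (hflat : (f.stalkMap x).hom.Flat) :
    ∃ (V : S.Opens) (hV : f x ∈ V) (σ : (V : Scheme.{u}) ⟶ X),
      σ ≫ f = V.ι ∧ σ ⟨f x, hV⟩ = x := by
  haveI := isIso_SpecMap_stalkMap_of_flat f U x hflat
  set φ := Spec.map (f.stalkMap x) with hφ
  let ψ : Spec (S.presheaf.stalk (f x)) ⟶ X := inv φ ≫ X.fromSpecStalk x
  have hψ : ψ ≫ f = S.fromSpecStalk (f x) ≫ 𝟙 S := by
    rw [Category.comp_id, Category.assoc, ← Scheme.SpecMap_stalkMap_fromSpecStalk,
      IsIso.inv_hom_id_assoc]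
  obtain ⟨V, hV, σ, hσ1, hσ2⟩ := spread_out_of_isGermInjective' (𝟙 S) f ψ hψ
  refine ⟨V, hV, σ, by rw [hσ2, Category.comp_id], ?_⟩
  have h0 : φ (IsLocalRing.closedPoint (X.presheaf.stalk x)) =
      IsLocalRing.closedPoint (S.presheaf.stalk (f x)) :=
    IsLocalRing.comap_closedPoint (f.stalkMap x).hom
  have h1 : ψ (IsLocalRing.closedPoint (S.presheaf.stalk (f x))) = x := by
    rw [← h0, ← Scheme.Hom.comp_apply, ← Category.assoc, IsIso.hom_inv_id, Category.id_comp,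
      Scheme.fromSpecStalk_closedPoint]
  have h2 : (V.fromSpecStalkOfMem (f x) hV) (IsLocalRing.closedPoint (S.presheaf.stalk (f x))) =
      ⟨f x, hV⟩ := by
    apply V.ι.isOpenEmbedding.injective
    rw [← Scheme.Hom.comp_apply, Scheme.Opens.fromSpecStalkOfMem_ι,
      Scheme.fromSpecStalk_closedPoint]
    rfl
  rw [← h2, ← Scheme.Hom.comp_apply, ← hσ1, h1]

/-- a local section through `x` ⟹ `f` is an open immersion near `x` -/
theorem exists_isOpenImmersion_of_section {X S : Scheme.{u}} (f : X ⟶ S) (U : S.Opens)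
    [IsIso (f ∣_ U)] [QuasiCompact (f ⁻¹ᵁ U).ι] [IsSchemeTheoreticallyDominant (f ⁻¹ᵁ U).ι]
    (x : X) (V : S.Opens) (hV : f x ∈ V) (σ : (V : Scheme.{u}) ⟶ X) (hσ : σ ≫ f = V.ι)
    (hσx : σ ⟨f x, hV⟩ = x) :
    ∃ W : X.Opens, x ∈ W ∧ IsOpenImmersion (W.ι ≫ f) := by
  obtain ⟨W₀, hW₀, hxW₀⟩ : ∃ W₀ : X.Opens, IsAffineOpen W₀ ∧ x ∈ W₀ := by
    obtain ⟨_, ⟨W₀, hW₀, rfl⟩, hxW₀, -⟩ :=
      X.isBasis_affineOpens.exists_subset_of_mem_open (Set.mem_univ x) isOpen_univ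
    exact ⟨W₀, hW₀, hxW₀⟩
  haveI : IsAffine (W₀ : Scheme.{u}) := hW₀
  set j := (f ⁻¹ᵁ U).ι with hj
  set P : X.Opens := f ⁻¹ᵁ V with hP
  set e : (P : Scheme.{u}) ⟶ X := (f ∣_ V) ≫ σ with he
  have hef : e ≫ f = P.ι ≫ f := by
    rw [he, Category.assoc, hσ, morphismRestrict_ι]
  set Q : (P : Scheme.{u}).Opens := P.ι ⁻¹ᵁ W₀ ⊓ e ⁻¹ᵁ W₀ with hQ
  let xP : (P : Scheme.{u}) := ⟨x, hV⟩
  let sV : (V : Scheme.{u}) := ⟨f x, hV⟩
  have hfxP : (f ∣_ V) xP = sV := by
    apply V.ι.isOpenEmbedding.injective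
    rw [← Scheme.Hom.comp_apply, morphismRestrict_ι, Scheme.Hom.comp_apply]
    rfl
  have hexP : e xP = x := by
    rw [he, Scheme.Hom.comp_apply, hfxP]
    exact hσx
  have hxQ : xP ∈ Q := by
    refine ⟨hxW₀, ?_⟩
    show e xP ∈ W₀
    rw [hexP]; exact hxW₀
  -- the two maps `Q → W₀`
  have hra : Set.range (Q.ι ≫ e) ⊆ Set.range W₀.ι := by
    rintro _ ⟨q, rfl⟩
    rw [Scheme.Opens.range_ι, Scheme.Hom.comp_apply]
    exact q.2.2
  have hrb : Set.range (Q.ι ≫ P.ι) ⊆ Set.range W₀.ι := by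
    rintro _ ⟨q, rfl⟩
    rw [Scheme.Opens.range_ι, Scheme.Hom.comp_apply]
    exact q.2.1
  set a' := IsOpenImmersion.lift W₀.ι (Q.ι ≫ e) hra with ha'
  set b' := IsOpenImmersion.lift W₀.ι (Q.ι ≫ P.ι) hrb with hb'
  have ha'ι : a' ≫ W₀.ι = Q.ι ≫ e := IsOpenImmersion.lift_fac _ _ _
  have hb'ι : b' ≫ W₀.ι = Q.ι ≫ P.ι := IsOpenImmersion.lift_fac _ _ _
  haveI : Flat (Q.ι ≫ P.ι) := inferInstance
  set d := pullback.fst (Q.ι ≫ P.ι) j with hd
  haveI : IsSchemeTheoreticallyDominant d := inferInstance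
  haveI : QuasiCompact d := inferInstance
  have hdab : d ≫ (Q.ι ≫ P.ι) = d ≫ (Q.ι ≫ e) := by
    apply eq_of_comp_eq_of_isIso_restrict f U
    · rw [Category.assoc, Category.assoc, Category.assoc, Category.assoc, hef]
    · intro t
      have h1 : d ≫ (Q.ι ≫ P.ι) = pullback.snd (Q.ι ≫ P.ι) j ≫ j := pullback.condition
      rw [h1, Scheme.Hom.comp_apply]
      exact ((pullback.snd (Q.ι ≫ P.ι) j) t).2
  have hab' : a' = b' := by
    apply eq_of_comp_eq_of_isAffine d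
    rw [← cancel_mono W₀.ι, Category.assoc, Category.assoc, ha'ι, hb'ι, hdab]
  have hstar : Q.ι ≫ (f ∣_ V) ≫ σ = Q.ι ≫ P.ι := by
    rw [← hb'ι, ← hab', ha'ι]
  -- the opens
  set QX : X.Opens := P.ι ''ᵁ Q with hQX
  have hxQX : x ∈ QX := ⟨xP, hxQ, rfl⟩
  set V' : (V : Scheme.{u}).Opens := σ ⁻¹ᵁ QX with hV'
  have hsV' : sV ∈ V' := by
    show σ sV ∈ QX
    rw [hσx]; exact hxQX
  set W : X.Opens := QX ⊓ f ⁻¹ᵁ (V.ι ''ᵁ V') with hW
  have hxW : x ∈ W := ⟨hxQX, ⟨sV, hsV', rfl⟩⟩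
  refine ⟨W, hxW, ?_⟩
  set tS : (V' : Scheme.{u}) ⟶ S := V'.ι ≫ V.ι with htS
  have hrα : Set.range (W.ι ≫ f) ⊆ Set.range tS := by
    rintro _ ⟨w, rfl⟩
    obtain ⟨v, hv, hvw⟩ := w.2.2
    refine ⟨⟨v, hv⟩, ?_⟩
    rw [htS, Scheme.Hom.comp_apply, Scheme.Hom.comp_apply]
    exact hvw
  set α := IsOpenImmersion.lift tS (W.ι ≫ f) hrα with hα
  have hαt : α ≫ tS = W.ι ≫ f := IsOpenImmersion.lift_fac _ _ _
  have hrβ : Set.range (V'.ι ≫ σ) ⊆ Set.range W.ι := by
    rintro _ ⟨v, rfl⟩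
    rw [Scheme.Opens.range_ι]
    refine ⟨v.2, ?_⟩
    show f ((V'.ι ≫ σ) v) ∈ V.ι ''ᵁ V'
    rw [← Scheme.Hom.comp_apply, Category.assoc, hσ]
    exact ⟨V'.ι v, v.2, rfl⟩
  set β := IsOpenImmersion.lift W.ι (V'.ι ≫ σ) hrβ with hβ
  have hβι : β ≫ W.ι = V'.ι ≫ σ := IsOpenImmersion.lift_fac _ _ _
  have hrγ : Set.range W.ι ⊆ Set.range (Q.ι ≫ P.ι) := by
    rintro _ ⟨w, rfl⟩
    obtain ⟨q, hq, hqw⟩ := w.2.1
    exact ⟨⟨q, hq⟩, hqw⟩
  set γ := IsOpenImmersion.lift (Q.ι ≫ P.ι) W.ι hrγ with hγ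
  have hγι : γ ≫ Q.ι ≫ P.ι = W.ι := IsOpenImmersion.lift_fac _ _ _
  have h1 : β ≫ α = 𝟙 _ := by
    rw [← cancel_mono tS, Category.assoc, hαt, ← Category.assoc, hβι, Category.assoc, hσ,
      Category.id_comp]
  have h2 : α ≫ V'.ι = γ ≫ Q.ι ≫ (f ∣_ V) := by
    rw [← cancel_mono V.ι, Category.assoc, Category.assoc, Category.assoc, morphismRestrict_ι,
      ← Category.assoc Q.ι, ← Category.assoc γ, hγι]
    exact hαt
  have h3 : α ≫ β = 𝟙 _ := by
    rw [← cancel_mono W.ι, Category.assoc, hβι, ← Category.assoc, h2, Category.assoc,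
      Category.assoc, hstar, hγι, Category.id_comp]
  haveI : IsIso α := ⟨⟨β, h3, h1⟩⟩
  rw [← hαt]
  infer_instance

end Groth.Agent.Lib.Helper58.GenIso
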