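import Mathlib

/-!
# Smoothness at a prime from flatness of the local ring and smoothness of the fibre
-/

set_option autoImplicit false

namespace Groth.Agent.Lib.Helper58.SmoothAtFlat

open TensorProduct IsLocalRing Algebra

/-- Variant of `Algebra.IsSmoothAt.of_formallySmooth_fiber` where only the local ring at `q` is
assumed flat over the base. -/
lemma isSmoothAt_of_flat_of_formallySmooth_fiber {R S : Type*} [CommRing R] [CommRing S]
    [Algebra R S] [Algebra.FinitePresentation R S] (p : Ideal R) (q : Ideal S)
    [p.IsPrime] [q.IsPrime] [q.LiesOver p] [FormallySmooth p.ResidueField (p.Fiber S)]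
    [Module.Flat R (Localization.AtPrime q)] :
    Algebra.IsSmoothAt R q := by
  let Rp := Localization.AtPrime p
  let Sp := Localization (algebraMapSubmonoid S p.primeCompl)
  let Sq := Localization.AtPrime q
  let := Localization.AtPrime.algebraOfLiesOver p q
  let f : Sp →ₐ[S] Sq := IsLocalization.liftAlgHom (M := algebraMapSubmonoid S p.primeCompl)
        (f := Algebra.ofId _ _) (by
      rintro ⟨_, x, hx, rfl⟩
      simpa using! IsLocalization.map_units (M := q.primeCompl) Sq ⟨algebraMap _ _ x,
        by simp_all [q.over_def p]⟩)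
  algebraize [f.toRingHom]
  have : IsScalarTower R Sp Sq := .to₁₃₄ _ S _ _
  have : IsScalarTower Rp Sp Sq := .of_algebraMap_eq' <| by
    apply IsLocalization.ringHom_ext p.primeCompl
    simp only [RingHom.comp_assoc, ← IsScalarTower.algebraMap_eq]
  have : IsLocalization (algebraMapSubmonoid Sp q.primeCompl) Sq :=
    .isLocalization_of_submonoid_le _ _ (algebraMapSubmonoid S p.primeCompl) _
    (by rintro _ ⟨x, hx, rfl⟩; simp_all [q.over_def p])
  have : FinitePresentation Rp Sp := by
    have : Algebra.IsPushout R Rp S Sp :=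
      .symm <| Algebra.isPushout_of_isLocalization p.primeCompl _ _ _
    exact .equiv (Algebra.IsPushout.equiv R Rp S Sp)
  have : FormallySmooth (ResidueField Rp) ((ResidueField Rp) ⊗[Rp] Sq) := by
    let : Algebra S ((ResidueField Rp) ⊗[R] S) := Algebra.TensorProduct.rightAlgebra
    have : FormallySmooth (ResidueField Rp) (((ResidueField Rp) ⊗[R] S) ⊗[S] Sq) :=
      .comp _ ((ResidueField Rp) ⊗[R] S) _
    let e : (ResidueField Rp) ⊗[R] S ≃ₐ[S] S ⊗[R] (ResidueField Rp) :=
      { __ := Algebra.TensorProduct.comm _ _ _, commutes' _ := rfl }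
    let e' : ((ResidueField Rp) ⊗[R] S) ⊗[S] Sq ≃ₐ[R] (ResidueField Rp) ⊗[Rp] Sq :=
      ((Algebra.TensorProduct.comm _ _ _).restrictScalars R).trans <|
      ((Algebra.TensorProduct.congr (.refl (R := S)) e).restrictScalars R).trans <|
      ((Algebra.TensorProduct.cancelBaseChange _ _ S _ _).restrictScalars R).trans <|
      (Algebra.TensorProduct.comm _ _ _).trans (Algebra.TensorProduct.equivOfCompatibleSMul ..)
    have : e'.toAlgHom.comp (IsScalarTower.toAlgHom R p.ResidueField _) =
        IsScalarTower.toAlgHom _ _ _ := by ext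
    let e'' : ((ResidueField Rp) ⊗[R] S) ⊗[S] Sq ≃ₐ[(ResidueField Rp)] (ResidueField Rp) ⊗[Rp] Sq :=
      { __ := e', commutes' r := congr($this r) }
    exact .of_equiv e''
  have hflat : Module.Flat Rp Sq :=
    (Module.flat_iff_of_isLocalization Rp p.primeCompl Sq).2 inferInstance
  have := FormallySmooth.of_formallySmooth_residueField_tensor
    (R := Rp) (S := Sq) (P := Sp) (algebraMapSubmonoid _ q.primeCompl)
  exact .comp R Rp Sq

end Groth.Agent.Lib.Helper58.SmoothAtFlat
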