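import Mathlib
import Groth.Prelude.Def_Hens2
import Groth.Agent.Lib.Helper58.PairHensProps
import Groth.Agent.Lib.Helper58.PairHensNbhd
import Groth.Agent.Lib.Helper58.PairHensFinite
import Groth.Agent.Lib.Helper58.SmoothAtFlat
import Groth.Agent.Lib.Helper23.AwayNbhd

/-!
# Flat henselian finitely presented algebras with smooth closed fibre are h-smooth
-/

set_option autoImplicit false
universe u

namespace Groth.Agent.Lib.Helper58.PairHens

open TensorProduct

/-- descent of flatness along a faithfully flat map. -/
theorem flat_of_faithfullyFlat_of_flat (A : Type u) (S : Type u) (T : Type u) [CommRing A]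
    [CommRing S] [CommRing T] [Algebra A S] [Algebra S T] [Algebra A T] [IsScalarTower A S T]
    [Module.FaithfullyFlat S T] [Module.Flat A T] : Module.Flat A S := by
  rw [Module.Flat.iff_lTensor_preserves_injective_linearMap]
  intro N N' _ _ _ _ f hf
  let g : S ⊗[A] N →ₗ[S] S ⊗[A] N' := AlgebraTensorModule.lTensor S S f
  have hg : ∀ x, g x = f.lTensor S x := fun x => rfl
  suffices h : Function.Injective g by
    intro x y hxy
    exact h (by rw [hg, hg, hxy])
  rw [← Module.FaithfullyFlat.lTensor_injective_iff_injective S T g]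
  let e1 := AlgebraTensorModule.cancelBaseChange A S T T N
  let e2 := AlgebraTensorModule.cancelBaseChange A S T T N'
  have hcomm : ∀ z, e2 (g.lTensor T z) = f.lTensor T (e1 z) := by
    intro z
    induction z using TensorProduct.induction_on with
    | zero => simp
    | tmul t y =>
      induction y using TensorProduct.induction_on with
      | zero => simp
      | tmul s n => simp [e1, e2, g]
      | add a b ha hb => simp only [tmul_add, map_add, ha, hb]
    | add a b ha hb => simp only [map_add, ha, hb]
  have hT : Function.Injective (f.lTensor T) :=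
    Module.Flat.lTensor_preserves_injective_linearMap f hf
  intro x y hxy
  apply e1.injective
  apply hT
  rw [← hcomm, ← hcomm, hxy]

section Fiber

variable {A : Type u} [CommRing A] (J : Ideal A) (R : Type u) [CommRing R] [Algebra A R]

/-- the fibre of `R` over a prime containing `J` is formally smooth when `R / J R` is formally
smooth over `A / J`. -/
theorem formallySmooth_fiber_of_quotient
    [Algebra.FormallySmooth (A ⧸ J) (R ⧸ J.map (algebraMap A R))] (p : Ideal A) [p.IsPrime]
    (hJp : J ≤ p) : Algebra.FormallySmooth p.ResidueField (p.Fiber R) := by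
  let _ : Algebra (A ⧸ J) p.ResidueField :=
    (Ideal.Quotient.lift J (algebraMap A p.ResidueField) (fun a ha =>
      (Ideal.algebraMap_residueField_eq_zero).mpr (hJp ha))).toAlgebra
  have _ : IsScalarTower A (A ⧸ J) p.ResidueField := IsScalarTower.of_algebraMap_eq (fun x => rfl)
  have h2 : Algebra.FormallySmooth (A ⧸ J) ((A ⧸ J) ⊗[A] R) :=
    Algebra.FormallySmooth.of_equiv (Algebra.TensorProduct.quotIdealMapEquivQuotTensor R J)
  have h3 : Algebra.FormallySmooth p.ResidueField (p.ResidueField ⊗[A ⧸ J] ((A ⧸ J) ⊗[A] R)) :=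
    inferInstance
  exact Algebra.FormallySmooth.of_equiv
    (Algebra.TensorProduct.cancelBaseChange A (A ⧸ J) p.ResidueField p.ResidueField R)

end Fiber

section Flat

variable {A : Type u} [CommRing A] (K : Ideal A)
variable {R₀ : Type u} [CommRing R₀] [Algebra A R₀]
variable {B : Type u} [CommRing B] [Algebra R₀ B] [Algebra A B] [IsScalarTower A R₀ B]

/-- a prime of a henselization of `(R₀, K₀)` over a given prime containing `K₀`. -/
theorem exists_prime_liesOver {K₀ : Ideal R₀} (hB : Hens2.IsPairHenselization R₀ K₀ B)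
    (q : Ideal R₀) [q.IsPrime] (hq : K₀ ≤ q) :
    ∃ q' : Ideal B, q'.IsPrime ∧ q'.LiesOver q := by
  have hbij := quotientMap_bijective_one K₀ hB
  let e : R₀ ⧸ K₀ ≃+* B ⧸ K₀.map (algebraMap R₀ B) := RingEquiv.ofBijective _ hbij
  let θ : B →+* R₀ ⧸ K₀ := e.symm.toRingHom.comp (Ideal.Quotient.mk _)
  have hθ : ∀ x : R₀, θ (algebraMap R₀ B x) = Ideal.Quotient.mk K₀ x := by
    intro x
    change e.symm (Ideal.Quotient.mk _ (algebraMap R₀ B x)) = _
    rw [RingEquiv.symm_apply_eq]
    rfl
  have hprime : (q.map (Ideal.Quotient.mk K₀)).IsPrime :=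
    Ideal.map_isPrime_of_surjective Ideal.Quotient.mk_surjective (by rw [Ideal.mk_ker]; exact hq)
  refine ⟨(q.map (Ideal.Quotient.mk K₀)).comap θ, Ideal.IsPrime.comap θ, ⟨?_⟩⟩
  ext x
  rw [Ideal.under_def, Ideal.mem_comap, Ideal.mem_comap, hθ]
  constructor
  · intro hx
    exact Ideal.mem_map_of_mem _ hx
  · intro hx
    have h1 := Ideal.mem_comap.2 hx
    rw [Ideal.comap_map_of_surjective _ Ideal.Quotient.mk_surjective, ← RingHom.ker_eq_comap_bot,
      Ideal.mk_ker, sup_eq_left.2 hq] at h1
    exact h1

/-- the local rings of `R₀` at primes containing `K R₀` are flat over `A` if a henselization of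
`(R₀, K R₀)` is. -/
theorem flat_localization_atPrime
    (hB : Hens2.IsPairHenselization R₀ (K.map (algebraMap A R₀)) B) [Module.Flat A B]
    (q : Ideal R₀) [q.IsPrime] (hq : K.map (algebraMap A R₀) ≤ q) :
    Module.Flat A (Localization.AtPrime q) := by
  have hflat : Module.Flat R₀ B := flat_of_isPairHenselization hB
  obtain ⟨q', hq'p, hq'o⟩ := exists_prime_liesOver hB q hq
  let _ := Localization.AtPrime.algebraOfLiesOver q q'
  have : IsLocalHom (algebraMap (Localization.AtPrime q) (Localization.AtPrime q')) := by
    rw [RingHom.algebraMap_toAlgebra]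
    exact Localization.isLocalHom_localRingHom q q' (algebraMap R₀ B) Ideal.LiesOver.over
  have : Module.FaithfullyFlat (Localization.AtPrime q) (Localization.AtPrime q') :=
    Module.FaithfullyFlat.of_flat_of_isLocalHom
  exact flat_of_faithfullyFlat_of_flat A (Localization.AtPrime q) (Localization.AtPrime q')

end Flat

section Main

/-- **h-smoothness from flatness and smoothness of the closed fibre.** -/
theorem exists_smooth_of_flat (A : Type u) [CommRing A] (I : Ideal A)
    (R₀ : Type u) [CommRing R₀] [Algebra A R₀] [Algebra.FinitePresentation A R₀]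
    (B : Type u) [CommRing B] [Algebra R₀ B] [Algebra A B] [IsScalarTower A R₀ B]
    (hB : Hens2.IsPairHenselization R₀ (I.map (algebraMap A R₀)) B) [Module.Flat A B]
    (hsm : Algebra.FormallySmooth (A ⧸ I ^ 1) (B ⧸ (I ^ 1).map (algebraMap A B))) :
    ∃ (R : Type u) (_ : CommRing R) (_ : Algebra A R) (_ : Algebra R B) (_ : IsScalarTower A R B),
      Algebra.Smooth A R ∧ Hens2.IsPairHenselization R (I.map (algebraMap A R)) B := by
  classical
  obtain ⟨e⟩ := nonempty_quotient_algEquiv A I R₀ B hB 1
  have hsm₀ : Algebra.FormallySmooth (A ⧸ I ^ 1) (R₀ ⧸ (I ^ 1).map (algebraMap A R₀)) :=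
    Algebra.FormallySmooth.of_equiv e.symm
  have hloc : PrimeSpectrum.zeroLocus ((I.map (algebraMap A R₀) : Ideal R₀) : Set R₀) ⊆
      Algebra.smoothLocus A R₀ := by
    intro q hq
    have hq' : I.map (algebraMap A R₀) ≤ q.asIdeal := hq
    have hIp : I ^ 1 ≤ q.asIdeal.under A := by
      rw [pow_one]
      exact Ideal.map_le_iff_le_comap.1 hq'
    have h1 := formallySmooth_fiber_of_quotient (I ^ 1) R₀ (q.asIdeal.under A) hIp
    have h2 := flat_localization_atPrime I hB q.asIdeal hq'
    exact Groth.Agent.Lib.Helper58.SmoothAtFlat.isSmoothAt_of_flat_of_formallySmooth_fiber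
      (q.asIdeal.under A) q.asIdeal
  obtain ⟨f, hf1, hfU⟩ := Groth.Agent.Lib.Helper23.exists_sub_one_mem_basicOpen_subset
    (I.map (algebraMap A R₀)) (Algebra.smoothLocus A R₀) Algebra.isOpen_smoothLocus hloc
  have hsmooth : Algebra.Smooth A (Localization.Away f) :=
    Algebra.basicOpen_subset_smoothLocus_iff_smooth.1 hfU
  have hhens : HenselianRing B ((I.map (algebraMap A R₀)).map (algebraMap R₀ B)) := hB.1
  have hu : IsUnit (algebraMap R₀ B f) := by
    have hmem : algebraMap R₀ B f - 1 ∈ (I.map (algebraMap A R₀)).map (algebraMap R₀ B) := by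
      rw [← map_one (algebraMap R₀ B), ← map_sub]
      exact Ideal.mem_map_of_mem _ hf1
    have hjac := (Ideal.mem_jacobson_bot.1 (HenselianRing.jac hmem)) 1
    rw [mul_one, sub_add_cancel] at hjac
    exact hjac
  let _ : Algebra (Localization.Away f) B := (IsLocalization.Away.lift f hu).toAlgebra
  have hlift : ∀ x : R₀, algebraMap (Localization.Away f) B (algebraMap R₀ (Localization.Away f) x) =
      algebraMap R₀ B x := fun x => IsLocalization.Away.lift_eq f hu x
  have _ : IsScalarTower R₀ (Localization.Away f) B :=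
    IsScalarTower.of_algebraMap_eq (fun x => (hlift x).symm)
  have hAB : IsScalarTower A (Localization.Away f) B := IsScalarTower.of_algebraMap_eq (fun a => by
    rw [IsScalarTower.algebraMap_apply A R₀ (Localization.Away f), hlift,
      ← IsScalarTower.algebraMap_apply])
  have hEt : Algebra.Etale R₀ (Localization.Away f) := Algebra.Etale.of_isLocalizationAway f
  have hb := Groth.Agent.Lib.Helper23.quotientMap_away_bijective (I.map (algebraMap A R₀)) f hf1
    (Localization.Away f)
  have key := isPairHenselization_nbhd hb hB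
  rw [Ideal.map_map, ← IsScalarTower.algebraMap_eq] at key
  exact ⟨Localization.Away f, inferInstance, inferInstance, inferInstance, hAB, hsmooth, key⟩

end Main

end Groth.Agent.Lib.Helper58.PairHens
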