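import Mathlib
import Groth.Agent.Lib.Helper64.HartogsRel
import Groth.Agent.Lib.Helper58.HartogsQCCore

/-!
# Schematic density without any finiteness hypothesis (helper58)

If every local ring at the points outside the open `U` has a regular pair (a nonzerodivisor in the
maximal ideal would do), then restriction `Γ(V) → Γ(V ∩ U)` is injective for every open `V`.
No Noetherian and no quasi-compactness hypothesis.
-/

set_option autoImplicit false
set_option linter.style.haveILetI false
universe u

open CategoryTheory CategoryTheory.Limits Opposite TopologicalSpace AlgebraicGeometry IsLocalRing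

namespace Groth.Agent.Lib.Helper58.HartogsInjQC

open Groth.Agent.Lib.Helper64.StalkFrac Groth.Agent.Lib.Helper64.HartogsRing
open Groth.Agent.Lib.Helper64

variable {X : Scheme.{u}}

theorem injective_res_of_isAffineOpen {V : X.Opens} (hV : IsAffineOpen V)
    (W : X.Opens) (hWV : W ≤ V)
    (hreg : ∀ x ∈ V, x ∉ W → HasRegPair (X.presheaf.stalk x)) :
    Function.Injective (X.presheaf.map (homOfLE hWV).op) := by
  classical
  set ρ : Γ(X, V) →+* Γ(X, W) := (X.presheaf.map (homOfLE hWV).op).hom with hρ
  letI : Algebra Γ(X, V) Γ(X, W) := ρ.toAlgebra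
  let φ : Γ(X, V) →ₗ[Γ(X, V)] Γ(X, W) := Algebra.linearMap _ _
  have hφ : ∀ c, φ c = ρ c := fun c => rfl
  have hinj : Function.Injective φ := by
    apply HartogsQCCore.injective_of_forall_prime
    intro p hp
    set y : PrimeSpectrum Γ(X, V) := ⟨p, hp⟩ with hy
    set x : X := hV.fromSpec y with hx
    have hxV : x ∈ V := by
      rw [← SetLike.mem_coe, ← hV.range_fromSpec]; exact Set.mem_range_self y
    letI : Algebra Γ(X, V) (X.presheaf.stalk x) :=
      TopCat.Presheaf.algebra_section_stalk X.presheaf ⟨x, hxV⟩
    haveI hloc : IsLocalization.AtPrime (X.presheaf.stalk x) p := hV.isLocalization_stalk' y hxV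
    have halg : ∀ c : Γ(X, V), algebraMap Γ(X, V) (X.presheaf.stalk x) c =
        X.presheaf.germ V x hxV c := fun c => rfl
    by_cases hxW : x ∈ W
    · left
      intro m hm
      have h0 : algebraMap Γ(X, V) (X.presheaf.stalk x) m = 0 := by
        rw [halg, ← germ_res_apply' hWV x hxW m]
        have : X.presheaf.map (homOfLE hWV).op m = 0 := hm
        rw [this, map_zero]
      obtain ⟨c, hc⟩ := (IsLocalization.map_eq_zero_iff p.primeCompl _ m).1 h0
      exact ⟨c.1, c.2, hc⟩
    · right
      obtain ⟨a, haP, -, -, h1, -⟩ :=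
        HartogsDepth.exists_pair_of_isLocalizedModule p (Rp := X.presheaf.stalk x)
          (Algebra.linearMap Γ(X, V) (X.presheaf.stalk x)) (hreg x hxV hxW)
      exact ⟨a, haP, h1⟩
  intro s t hst
  exact hinj hst

/-- Schematic density: no finiteness hypotheses. -/
theorem injective_res_inf (U : X.Opens)
    (hreg : ∀ x : X, x ∉ U → HasRegPair (X.presheaf.stalk x)) (V : X.Opens) :
    Function.Injective (X.presheaf.map (homOfLE (inf_le_left : V ⊓ U ≤ V)).op) := by
  rw [injective_iff_map_eq_zero]
  intro s hs
  refine TopCat.Presheaf.section_ext X.sheaf V s 0 ?_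
  intro z hzV
  show X.presheaf.germ V z hzV s = X.presheaf.germ V z hzV 0
  rw [map_zero]
  obtain ⟨V', hV', hzV', hV'V⟩ := exists_isAffineOpen_mem_and_subset (x := z) (U := V) hzV
  have hle : V' ≤ V := hV'V
  have hle2 : V' ⊓ U ≤ V ⊓ U := inf_le_inf_right U hle
  have h1 : X.presheaf.map (homOfLE (inf_le_left : V' ⊓ U ≤ V')).op
      (X.presheaf.map (homOfLE hle).op s) = 0 := by
    have : X.presheaf.map (homOfLE (inf_le_left : V' ⊓ U ≤ V')).op
        (X.presheaf.map (homOfLE hle).op s) =
        X.presheaf.map (homOfLE hle2).op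
          (X.presheaf.map (homOfLE (inf_le_left : V ⊓ U ≤ V)).op s) := by
      rw [← ConcreteCategory.comp_apply, ← X.presheaf.map_comp,
        ← ConcreteCategory.comp_apply, ← X.presheaf.map_comp]
      rfl
    rw [this, hs, map_zero]
  have h2 : X.presheaf.map (homOfLE hle).op s = 0 := by
    apply injective_res_of_isAffineOpen hV' (V' ⊓ U) inf_le_left
      (fun x _ hx => hreg x (fun hxU => hx ⟨‹x ∈ V'›, hxU⟩))
    rw [h1, map_zero]
  rw [← germ_res_apply' hle z hzV' s, h2, map_zero]

end Groth.Agent.Lib.Helper58.HartogsInjQC
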