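import Mathlib
import Groth.Agent.Lib.Helper58.HartogsQC
import Groth.Agent.Lib.Helper58.HartogsInjQC

/-!
# Hartogs extension for opens which are only *locally* quasi-compact-big (helper58)

`HartogsBij U` : restriction `Γ(V) → Γ(V ∩ U)` is bijective for every open `V`.
* `hartogsBij_of_local`: it suffices that every point off `U` has an affine neighbourhood `V` and a
  compact open `W ⊆ V ∩ U` such that all points of `V ∖ W` have a regular pair.
* `existsUnique_extension_of_hartogsBij`: sections of affine morphisms over `U` extend uniquely.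
-/

set_option autoImplicit false
set_option linter.style.haveILetI false
universe u

open CategoryTheory CategoryTheory.Limits Opposite TopologicalSpace AlgebraicGeometry IsLocalRing

namespace Groth.Agent.Lib.Helper58.HartogsLoc

open Groth.Agent.Lib.Helper64.StalkFrac Groth.Agent.Lib.Helper64.HartogsRing
open Groth.Agent.Lib.Helper64

variable {X : Scheme.{u}}

/-- Injectivity of restriction to a smaller open, no finiteness hypotheses. -/
theorem injective_res_of_le {V W : X.Opens} (hWV : W ≤ V)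
    (hreg : ∀ x ∈ V, x ∉ W → HasRegPair (X.presheaf.stalk x)) :
    Function.Injective (X.presheaf.map (homOfLE hWV).op) := by
  rw [injective_iff_map_eq_zero]
  intro s hs
  refine TopCat.Presheaf.section_ext X.sheaf V s 0 ?_
  intro z hzV
  show X.presheaf.germ V z hzV s = X.presheaf.germ V z hzV 0
  rw [map_zero]
  obtain ⟨V', hV', hzV', hV'V⟩ := exists_isAffineOpen_mem_and_subset (x := z) (U := V) hzV
  have hle : V' ≤ V := hV'V
  have hle2 : V' ⊓ W ≤ W := inf_le_right
  have h1 : X.presheaf.map (homOfLE (inf_le_left : V' ⊓ W ≤ V')).op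
      (X.presheaf.map (homOfLE hle).op s) = 0 := by
    have : X.presheaf.map (homOfLE (inf_le_left : V' ⊓ W ≤ V')).op
        (X.presheaf.map (homOfLE hle).op s) =
        X.presheaf.map (homOfLE hle2).op
          (X.presheaf.map (homOfLE hWV).op s) := by
      rw [← ConcreteCategory.comp_apply, ← X.presheaf.map_comp,
        ← ConcreteCategory.comp_apply, ← X.presheaf.map_comp]
      rfl
    rw [this, hs, map_zero]
  have h2 : X.presheaf.map (homOfLE hle).op s = 0 := by
    apply HartogsInjQC.injective_res_of_isAffineOpen hV' (V' ⊓ W) inf_le_left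
      (fun x hxV' hx => hreg x (hle hxV') (fun hxW => hx ⟨hxV', hxW⟩))
    rw [h1, map_zero]
  rw [← germ_res_apply' hle z hzV' s, h2, map_zero]

/-- The Hartogs property of an open `U`. -/
def HartogsBij (U : X.Opens) : Prop :=
  ∀ V : X.Opens, Function.Bijective (X.presheaf.map (homOfLE (inf_le_left : V ⊓ U ≤ V)).op)

theorem hartogsBij_of_local (U : X.Opens)
    (hQ : ∀ x : X, x ∉ U → ∃ V : X.Opens, IsAffineOpen V ∧ x ∈ V ∧ ∃ W : X.Opens, W ≤ V ⊓ U ∧
      IsCompact (W : Set X) ∧ ∀ y ∈ V, y ∉ W → HasRegPair (X.presheaf.stalk y)) :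
    HartogsBij U := by
  let B : Set X.Opens := {V | IsAffineOpen V ∧ ∃ W : X.Opens, W ≤ V ⊓ U ∧
      IsCompact (W : Set X) ∧ ∀ y ∈ V, y ∉ W → HasRegPair (X.presheaf.stalk y)}
  have hB : Opens.IsBasis B := by
    rw [Opens.isBasis_iff_nbhd]
    intro O x hxO
    by_cases hxU : x ∈ U
    · obtain ⟨V', hV', hxV', hV'O⟩ :=
        exists_isAffineOpen_mem_and_subset (x := x) (U := O ⊓ U) ⟨hxO, hxU⟩
      have hle : V' ≤ O ⊓ U := hV'O
      exact ⟨V', ⟨hV', V', le_inf le_rfl (hle.trans inf_le_right), hV'.isCompact,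
        fun y hy hy' => absurd hy hy'⟩, hxV', hle.trans inf_le_left⟩
    · obtain ⟨V, hV, hxV, W, hWle, hWc, hreg⟩ := hQ x hxU
      obtain ⟨f, hfle, hxf⟩ := hV.exists_basicOpen_le (V := O ⊓ V) ⟨x, hxO, hxV⟩ hxV
      have hfV : X.basicOpen f ≤ V := X.basicOpen_le f
      have hfaff : IsAffineOpen (X.basicOpen f) := hV.basicOpen f
      refine ⟨X.basicOpen f, ⟨hfaff, W ⊓ X.basicOpen f, ?_, ?_, ?_⟩, hxf, hfle.trans inf_le_left⟩
      · exact le_inf inf_le_right (inf_le_left.trans (hWle.trans inf_le_right))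
      · have hqs := hV.isQuasiSeparated
        exact hqs (W : Set X) (X.basicOpen f : Set X) (hWle.trans inf_le_left) W.isOpen hWc
          hfV (X.basicOpen f).isOpen hfaff.isCompact
      · intro y hy hyW
        exact hreg y (hfV hy) (fun h => hyW ⟨h, hy⟩)
  refine HartogsGlue.bijective_res_inf_of_basis X.sheaf U B hB ?_
  rintro V' ⟨hV', W, hWle, hWc, hreg⟩
  change Function.Bijective (X.presheaf.map (homOfLE (inf_le_left : V' ⊓ U ≤ V')).op)
  have hWV' : W ≤ V' := hWle.trans inf_le_left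
  have h1 : Function.Bijective (X.presheaf.map (homOfLE hWV').op) :=
    HartogsQC.bijective_res_of_isAffineOpen hV' W hWV' hWc hreg
  have h2 : Function.Injective (X.presheaf.map (homOfLE hWle).op) :=
    injective_res_of_le hWle (fun x hx hxW => hreg x hx.1 hxW)
  have hcomp : ∀ s, X.presheaf.map (homOfLE hWV').op s =
      X.presheaf.map (homOfLE hWle).op
        (X.presheaf.map (homOfLE (inf_le_left : V' ⊓ U ≤ V')).op s) := by
    intro s
    rw [← ConcreteCategory.comp_apply, ← X.presheaf.map_comp]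
    rfl
  constructor
  · intro s t hst
    apply h1.1
    rw [hcomp, hcomp, hst]
  · intro t
    obtain ⟨s, hs⟩ := h1.2 (X.presheaf.map (homOfLE hWle).op t)
    exact ⟨s, h2 (by rw [← hcomp, hs])⟩


theorem hartogsBij_res {U : X.Opens} (hU : HartogsBij U) {V W : X.Opens} (hWV : W ≤ V)
    (hW : W = V ⊓ U) : Function.Bijective (X.presheaf.map (homOfLE hWV).op) := by
  subst hW
  exact hU V

theorem hartogsBij_of_isOpenImmersion {U : X.Opens} (hU : HartogsBij U) {V' : Scheme.{u}}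
    (i : V' ⟶ X) [IsOpenImmersion i] (U' : V'.Opens) (hU' : (U' : Set V') = i ⁻¹' (U : Set X)) :
    HartogsBij U' := by
  intro V
  have nat := Scheme.Hom.appIso_inv_naturality i (homOfLE (inf_le_left : V ⊓ U' ≤ V)).op
  have hle : i ''ᵁ (V ⊓ U') ≤ i ''ᵁ V := i.image_mono inf_le_left
  have hmap : i.opensFunctor.op.map (homOfLE (inf_le_left : V ⊓ U' ≤ V)).op = (homOfLE hle).op :=
    Subsingleton.elim _ _
  have hX : Function.Bijective (X.presheaf.map (homOfLE hle).op) := by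
    apply hartogsBij_res hU
    ext w
    constructor
    · rintro ⟨v, ⟨hvV, hvU'⟩, rfl⟩
      refine ⟨⟨v, hvV, rfl⟩, ?_⟩
      have : v ∈ (U' : Set V') := hvU'
      rw [hU'] at this
      exact this
    · rintro ⟨⟨v, hvV, rfl⟩, hwU⟩
      refine ⟨v, ⟨hvV, ?_⟩, rfl⟩
      show v ∈ (U' : Set V')
      rw [hU']
      exact hwU
  rw [hmap] at nat
  have e : V'.presheaf.map (homOfLE (inf_le_left : V ⊓ U' ≤ V)).op =
      (i.appIso V).inv ≫ X.presheaf.map (homOfLE hle).op ≫ (i.appIso (V ⊓ U')).hom := by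
    rw [← Category.assoc, ← nat, Category.assoc, Iso.inv_hom_id, Category.comp_id]
  rw [e]
  have h1 : Function.Bijective (i.appIso V).inv :=
    (ConcreteCategory.isIso_iff_bijective _).1 inferInstance
  have h3 : Function.Bijective (i.appIso (V ⊓ U')).hom :=
    (ConcreteCategory.isIso_iff_bijective _).1 inferInstance
  simp only [CommRingCat.hom_comp, RingHom.coe_comp]
  exact h3.comp (hX.comp h1)

theorem bijective_ι_appTop (U : X.Opens) (hU : HartogsBij U) :
    Function.Bijective U.ι.appTop := by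
  have h : U.ι.appTop = X.presheaf.map (homOfLE (by simp : U.ι ''ᵁ (U.ι ⁻¹ᵁ ⊤) ≤ ⊤)).op :=
    Scheme.Opens.ι_app U ⊤
  rw [h]
  exact hartogsBij_res hU _ (by simp)

theorem bijective_appTop_of_range_eq (U : X.Opens) (hU : HartogsBij U)
    {V' W' : Scheme.{u}} (i : V' ⟶ X) [IsOpenImmersion i]
    (j : W' ⟶ V') [IsOpenImmersion j] (hj : Set.range j = i ⁻¹' (U : Set X)) :
    Function.Bijective j.appTop := by
  have hU' : HartogsBij j.opensRange :=
    hartogsBij_of_isOpenImmersion hU i j.opensRange (by rw [← hj]; rfl)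
  have h1 := bijective_ι_appTop j.opensRange hU'
  have h2 : j = j.isoOpensRange.hom ≫ j.opensRange.ι := (Scheme.Hom.isoOpensRange_hom_ι j).symm
  rw [h2, Scheme.Hom.comp_appTop]
  have h3 : Function.Bijective j.isoOpensRange.hom.appTop := by
    haveI : IsIso j.isoOpensRange.hom.appTop :=
      ⟨j.isoOpensRange.inv.appTop, by simp [← Scheme.Hom.comp_appTop],
        by simp [← Scheme.Hom.comp_appTop]⟩
    exact (ConcreteCategory.isIso_iff_bijective _).1 inferInstance
  exact h3.comp h1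

theorem existsUnique_of_isOpenImmersion (U : X.Opens) (hU : HartogsBij U)
    {V' W' Z : Scheme.{u}} [IsAffine Z] (i : V' ⟶ X) [IsOpenImmersion i]
    (j : W' ⟶ V') [IsOpenImmersion j] (hj : Set.range j = i ⁻¹' (U : Set X)) (ψ : W' ⟶ Z) :
    ∃! φ : V' ⟶ Z, j ≫ φ = ψ :=
  HartogsRel.existsUnique_of_bijective_appTop j (bijective_appTop_of_range_eq U hU i j hj) ψ

variable {S Y : Scheme.{u}}

/-- Local existence and uniqueness over an affine open `T` of the base. -/
theorem local_existsUnique (U : X.Opens) (hU : HartogsBij U)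
    (f : X ⟶ S) (g : Y ⟶ S) [IsAffineHom g] (ψ : (U : Scheme.{u}) ⟶ Y)
    (hψ : ψ ≫ g = U.ι ≫ f) (T : S.Opens) (hT : IsAffineOpen T) {P W : Scheme.{u}} (i : P ⟶ X)
    [IsOpenImmersion i] (p : P ⟶ (T : Scheme.{u})) (hp : i ≫ f = p ≫ T.ι) (j : W ⟶ P)
    [IsOpenImmersion j] (hj : Set.range j = i ⁻¹' (U : Set X)) (k : W ⟶ (U : Scheme.{u}))
    (hk : k ≫ U.ι = j ≫ i) :
    ∃! φ : P ⟶ Y, φ ≫ g = i ≫ f ∧ j ≫ φ = k ≫ ψ := by
  have hYT : IsAffineOpen (g ⁻¹ᵁ T) := hT.preimage g
  haveI : IsAffine ((g ⁻¹ᵁ T : Y.Opens) : Scheme.{u}) := hYT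
  haveI : IsAffine (T : Scheme.{u}) := hT
  have h0 : (k ≫ ψ) ≫ g = (j ≫ p) ≫ T.ι := by
    rw [Category.assoc, hψ, ← Category.assoc, hk, Category.assoc, hp, Category.assoc]
  obtain ⟨ψ', hψ'⟩ := HartogsRel.exists_lift_preimage g T (k ≫ ψ) (j ≫ p) h0
  obtain ⟨φ', hφ', huniq⟩ := existsUnique_of_isOpenImmersion U hU i j hj ψ'
  have hφg : φ' ≫ (g ∣_ T) = p := by
    obtain ⟨q, -, hq⟩ := existsUnique_of_isOpenImmersion U hU i j hj (j ≫ p)
    have e1 : φ' ≫ (g ∣_ T) = q := by
      apply hq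
      rw [← cancel_mono T.ι]
      calc (j ≫ φ' ≫ (g ∣_ T)) ≫ T.ι = (j ≫ φ') ≫ ((g ∣_ T) ≫ T.ι) := by
            simp only [Category.assoc]
        _ = ψ' ≫ ((g ⁻¹ᵁ T).ι ≫ g) := by rw [hφ', morphismRestrict_ι]
        _ = (ψ' ≫ (g ⁻¹ᵁ T).ι) ≫ g := by rw [Category.assoc]
        _ = (j ≫ p) ≫ T.ι := by rw [hψ', h0]
    have e2 : p = q := hq _ rfl
    rw [e1, e2]
  refine ⟨φ' ≫ (g ⁻¹ᵁ T).ι, ⟨?_, ?_⟩, ?_⟩
  · rw [Category.assoc, ← morphismRestrict_ι, ← Category.assoc, hφg, hp]
  · rw [← Category.assoc, hφ', hψ']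
  · rintro φ₂ ⟨h1, h2⟩
    obtain ⟨φ₂', hφ₂'⟩ := HartogsRel.exists_lift_preimage g T φ₂ p (h1.trans hp)
    have : φ₂' = φ' := by
      apply huniq
      rw [← cancel_mono (g ⁻¹ᵁ T).ι, Category.assoc, hφ₂', h2, hψ']
    rw [← hφ₂', this]

/-- **Relative Hartogs**: `X` locally Noetherian, `U ⊆ X` open with regular pairs off `U`,
`g : Y ⟶ S` affine.  Every `S`-morphism `U ⟶ Y` extends uniquely to an `S`-morphism `X ⟶ Y`. -/
theorem existsUnique_extension_of_hartogsBij (U : X.Opens) (hU : HartogsBij U)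
    (f : X ⟶ S) (g : Y ⟶ S) [IsAffineHom g] (ψ : (U : Scheme.{u}) ⟶ Y)
    (hψ : ψ ≫ g = U.ι ≫ f) :
    ∃! φ : X ⟶ Y, φ ≫ g = f ∧ U.ι ≫ φ = ψ := by
  let 𝒰 : X.OpenCover := S.directedAffineCover.pullback₁ f
  -- local data
  have hloc : ∀ T : S.affineOpens, ∃! φ : pullback f T.1.ι ⟶ Y,
      φ ≫ g = pullback.fst f T.1.ι ≫ f ∧
      pullback.snd U.ι (pullback.fst f T.1.ι) ≫ φ = pullback.fst U.ι (pullback.fst f T.1.ι) ≫ ψ :=
    fun T => local_existsUnique U hU f g ψ hψ T.1 T.2 (pullback.fst f T.1.ι)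
      (pullback.snd f T.1.ι) pullback.condition (pullback.snd U.ι (pullback.fst f T.1.ι))
      (by rw [Scheme.Pullback.range_snd, Scheme.Opens.range_ι]) (pullback.fst U.ι _)
      pullback.condition
  choose φT hφT huniq using hloc
  have hcompat' : ∀ (T T' : S.affineOpens) (t : pullback f T.1.ι ⟶ pullback f T'.1.ι),
      t ≫ pullback.fst f T'.1.ι = pullback.fst f T.1.ι → t ≫ φT T' = φT T := by
    intro T T' t htr
    apply huniq T
    constructor
    · rw [Category.assoc, (hφT T').1, ← Category.assoc, htr]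
    · let m : pullback U.ι (pullback.fst f T.1.ι) ⟶ pullback U.ι (pullback.fst f T'.1.ι) :=
        pullback.lift (pullback.fst U.ι _) (pullback.snd U.ι _ ≫ t)
          (by rw [Category.assoc, htr, pullback.condition])
      have hm1 : m ≫ pullback.fst U.ι _ = pullback.fst U.ι _ := pullback.lift_fst _ _ _
      have hm2 : m ≫ pullback.snd U.ι _ = pullback.snd U.ι _ ≫ t :=
        pullback.lift_snd _ _ _
      rw [← Category.assoc, ← hm2, Category.assoc, (hφT T').2, ← Category.assoc, hm1]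
  have hcompat : ∀ {T T' : 𝒰.I₀} (hij : T ⟶ T'), 𝒰.trans hij ≫ φT T' = φT T :=
    fun {T T'} hij => hcompat' T T' (𝒰.trans hij) (𝒰.trans_map hij)
  let φ : X ⟶ Y := 𝒰.glueMorphismsOfLocallyDirected φT hcompat
  have hφ : ∀ T : S.affineOpens, pullback.fst f T.1.ι ≫ φ = φT T :=
    fun T => 𝒰.map_glueMorphismsOfLocallyDirected φT hcompat T
  refine ⟨φ, ⟨?_, ?_⟩, ?_⟩
  · refine 𝒰.hom_ext _ _ (fun (T : S.affineOpens) => ?_)
    show pullback.fst f T.1.ι ≫ φ ≫ g = pullback.fst f T.1.ι ≫ f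
    rw [← Category.assoc, hφ, (hφT T).1]
  · refine Scheme.Cover.hom_ext (𝒰.pullback₁ U.ι) _ _ (fun (T : S.affineOpens) => ?_)
    show pullback.fst U.ι (pullback.fst f T.1.ι) ≫ U.ι ≫ φ =
      pullback.fst U.ι (pullback.fst f T.1.ι) ≫ ψ
    rw [← Category.assoc, pullback.condition, Category.assoc, hφ, (hφT T).2]
  · rintro φ₂ ⟨h1, h2⟩
    refine 𝒰.hom_ext _ _ (fun (T : S.affineOpens) => ?_)
    show pullback.fst f T.1.ι ≫ φ₂ = pullback.fst f T.1.ι ≫ φ
    rw [hφ]
    apply huniq T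
    constructor
    · rw [Category.assoc, h1]
    · rw [← Category.assoc, ← pullback.condition, Category.assoc, h2]



end Groth.Agent.Lib.Helper58.HartogsLoc
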