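import Mathlib
import Groth.Agent.Lib.Helper58.HensSplitRing
import Groth.Agent.Lib.Helper58.FEtHens
import Groth.Agent.Lib.Helper58.BddFib

set_option autoImplicit false

namespace Groth.Agent.Lib.Helper58.HensSplit

open AlgebraicGeometry CategoryTheory CategoryTheory.Limits
open Groth.Agent.Lib.Helper58.HenselPair PrimeSpectrum

universe u

section Scheme

variable {A : Type u} [CommRing A] (I : Ideal A)

/-- The range of `Spec (A ⧸ I) ⟶ Spec A`. -/
theorem range_ι :
    Set.range (Spec.map (CommRingCat.ofHom (Ideal.Quotient.mk I))) =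
      zeroLocus (I : Set A) := by
  have := range_comap_of_surjective (A ⧸ I) (Ideal.Quotient.mk I) Ideal.Quotient.mk_surjective
  rw [Ideal.mk_ker] at this
  exact this

variable [HenselianRing A I]

/-- Core of the splitting theorem, for an open immersion into `Spec A'` with `A'` integral. -/
theorem exists_split_of_isOpenImmersion (A' : Type u) [CommRing A'] [Algebra A A']
    [Algebra.IsIntegral A A'] {U : Scheme.{u}} (j : U ⟶ Spec (CommRingCat.of A'))
    [IsOpenImmersion j]
    (hcl : IsClosed (Set.range j ∩ zeroLocus (I.map (algebraMap A A') : Set A'))) :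
    ∃ W : U.Opens, IsClosed (W : Set U) ∧ IsClosedImmersion (W.ι ≫ j) ∧
      ∀ u : U, u ∉ W → j u ∉ zeroLocus (I.map (algebraMap A A') : Set A') := by
  obtain ⟨W', hW', hW'O, hOW'⟩ :=
    exists_isClopen_subset_of_isClosed_inter I A' (Set.range j) j.isOpenEmbedding.isOpen_range hcl
  let W : U.Opens := j ⁻¹ᵁ ⟨W', hW'.2⟩
  have hWmem : ∀ u : U, u ∈ W ↔ j u ∈ W' := fun u => Iff.rfl
  refine ⟨W, hW'.1.preimage j.continuous, ?_, ?_⟩
  · apply IsClosedImmersion.of_isPreimmersion
    have : Set.range (W.ι ≫ j) = W' := by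
      rw [Scheme.Hom.comp_base, TopCat.coe_comp, Set.range_comp, Scheme.Opens.range_ι]
      ext x
      constructor
      · rintro ⟨u, hu, rfl⟩; exact hu
      · intro hx
        obtain ⟨u, rfl⟩ := hW'O hx
        exact ⟨u, hx, rfl⟩
    rw [this]
    exact hW'.1
  · intro u hu hmem
    exact hu ((hWmem u).mpr (hOW' ⟨⟨u, rfl⟩, hmem⟩))

end Scheme


section Main

variable {A : Type u} [CommRing A] (I : Ideal A) [HenselianRing A I]

/-- **Splitting off the finite part over a henselian pair** (Stacks 09XI (2)). -/
theorem exists_split {U : Scheme.{u}} (g : U ⟶ Spec (CommRingCat.of A))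
    [QuasiCompact g] [IsSeparated g] [Etale g]
    (hfin : IsFinite (pullback.snd g (Spec.map (CommRingCat.ofHom (Ideal.Quotient.mk I))))) :
    ∃ W : U.Opens, IsClosed (W : Set U) ∧ IsFinite (W.ι ≫ g) ∧
      ∀ u : U, u ∉ W → ¬ I ≤ (g u : PrimeSpectrum A).asIdeal := by
  have hqf : LocallyQuasiFinite g := Groth.Agent.Lib.Helper58.BddFibLib.locallyQuasiFinite_of_etale g
  -- Zariski's main theorem
  have hj : IsOpenImmersion g.toNormalization := inferInstance
  have hν : IsIntegralHom g.fromNormalization := inferInstance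
  have hT : IsAffine g.normalization := isAffine_of_isAffineHom g.fromNormalization
  obtain ⟨A', _, _, e, he⟩ := Groth.Agent.Lib.Helper58.FEtHens.exists_iso_Spec_of_isAffine
    g.fromNormalization
  have he' : Spec.map (CommRingCat.ofHom (algebraMap A A')) = e.inv ≫ g.fromNormalization := by
    rw [he, Iso.inv_hom_id_assoc]
  have hint : IsIntegralHom (Spec.map (CommRingCat.ofHom (algebraMap A A'))) := by
    rw [he']; infer_instance
  have hint' : Algebra.IsIntegral A A' :=
    algebraMap_isIntegral_iff.mp (IsIntegralHom.SpecMap_iff.mp hint)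
  let j : U ⟶ Spec (CommRingCat.of A') := g.toNormalization ≫ e.hom
  have hjg : j ≫ Spec.map (CommRingCat.ofHom (algebraMap A A')) = g := by
    simp only [j, Category.assoc]
    rw [← he, g.toNormalization_fromNormalization]
  have hjo : IsOpenImmersion j := inferInstance
  let ι₀ := Spec.map (CommRingCat.ofHom (Ideal.Quotient.mk I))
  -- points of `Spec A'` over `V(I)`
  have hzl : ∀ x : PrimeSpectrum A',
      x ∈ zeroLocus (I.map (algebraMap A A') : Set A') ↔
        I ≤ (PrimeSpectrum.comap (algebraMap A A') x).asIdeal := by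
    intro x
    rw [comap_asIdeal, mem_zeroLocus, SetLike.coe_subset_coe, Ideal.map_le_iff_le_comap]
  have hι : IsClosedImmersion ι₀ :=
    IsClosedImmersion.spec_of_surjective _ Ideal.Quotient.mk_surjective
  have hfin' : IsFinite (pullback.snd g ι₀) := hfin
  have key : ∀ u : U, (I ≤ (g u : PrimeSpectrum A).asIdeal) ↔
      (j u : PrimeSpectrum A') ∈ zeroLocus (I.map (algebraMap A A') : Set A') := by
    intro u
    have h6 : (g u : PrimeSpectrum A) = PrimeSpectrum.comap (algebraMap A A') (j u) := by
      rw [← hjg]; rfl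
    rw [h6]
    exact (hzl (j u)).symm
  have key' : ∀ u : U, (g u : PrimeSpectrum A) ∈ zeroLocus (I : Set A) ↔
      (j u : PrimeSpectrum A') ∈ zeroLocus (I.map (algebraMap A A') : Set A') := by
    intro u
    exact Iff.trans (mem_zeroLocus (g u : PrimeSpectrum A) (I : Set A))
      (SetLike.coe_subset_coe.trans (key u))
  -- closedness
  have hcl : IsClosed (Set.range j ∩ zeroLocus (I.map (algebraMap A A') : Set A')) := by
    have h1 : IsFinite (pullback.fst g ι₀ ≫ g) := by
      rw [pullback.condition]; infer_instance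
    have h2 : UniversallyClosed ((pullback.fst g ι₀ ≫ j) ≫
        Spec.map (CommRingCat.ofHom (algebraMap A A'))) := by
      rw [Category.assoc, hjg]; infer_instance
    have h3 : UniversallyClosed (pullback.fst g ι₀ ≫ j) :=
      UniversallyClosed.of_comp_of_isSeparated _ (Spec.map (CommRingCat.ofHom (algebraMap A A')))
    have h4 : Set.range (pullback.fst g ι₀ ≫ j) =
        Set.range j ∩ zeroLocus (I.map (algebraMap A A') : Set A') := by
      rw [Scheme.Hom.comp_base, TopCat.coe_comp, Set.range_comp, Scheme.Pullback.range_fst,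
        range_ι]
      ext x
      constructor
      · rintro ⟨u, hu, rfl⟩
        exact ⟨⟨u, rfl⟩, (key' u).mp hu⟩
      · rintro ⟨⟨u, rfl⟩, hx⟩
        exact ⟨u, (key' u).mpr hx, rfl⟩
    rw [← h4]
    exact (pullback.fst g ι₀ ≫ j).isClosedMap.isClosed_range
  obtain ⟨W, hWcl, hWci, hW⟩ := exists_split_of_isOpenImmersion I A' j hcl
  refine ⟨W, hWcl, ?_, ?_⟩
  · have h5 : IsIntegralHom ((W.ι ≫ j) ≫ Spec.map (CommRingCat.ofHom (algebraMap A A'))) :=
      inferInstance
    rw [Category.assoc, hjg] at h5
    exact (IsFinite.iff_isIntegralHom_and_locallyOfFiniteType _).mpr ⟨h5, inferInstance⟩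
  · intro u hu hI
    exact hW u hu ((key u).mp hI)

end Main

end Groth.Agent.Lib.Helper58.HensSplit
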