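import Mathlib
import Groth.Agent.Lib.Helper58.HenselPairUniq
import Groth.Agent.S17972

/-!
# Multi-dimensional Hensel lemma for henselian pairs (implicit function form)

For a henselian pair `(A, I)` and a square system `G i = X i - a i - h i` with `h i ∈ I A[X]`,
there is a unique solution `a'` near `a`, and it is the only solution in any `A`-algebra `C`
with `I C ⊆ rad C`.
-/

set_option autoImplicit false

namespace Groth.Agent.Lib.Helper58.HenselPair

universe u w

section Multi

variable {A : Type u} [CommRing A] (I : Ideal A)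

/-- polynomials with coefficients in `I` evaluate into `I C`. -/
lemma aeval_mem_map {n : ℕ} {C : Type w} [CommRing C] [Algebra A C] (c : Fin n → C)
    {p : MvPolynomial (Fin n) A}
    (hp : p ∈ I.map (MvPolynomial.C : A →+* MvPolynomial (Fin n) A)) :
    MvPolynomial.aeval c p ∈ I.map (algebraMap A C) := by
  have : I.map (MvPolynomial.C : A →+* MvPolynomial (Fin n) A) ≤
      (I.map (algebraMap A C)).comap (MvPolynomial.aeval c : MvPolynomial (Fin n) A →ₐ[A] C) := by
    rw [Ideal.map_le_iff_le_comap]
    intro x hx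
    rw [Ideal.mem_comap, Ideal.mem_comap, MvPolynomial.aeval_C]
    exact Ideal.mem_map_of_mem _ hx
  exact this hp

/-- the Jacobian determinant of `X i - a i - h i` is `≡ 1` modulo `I A[X]`. -/
lemma jacobi_det_sub_one_mem (n : ℕ) (a : Fin n → A) (h : Fin n → MvPolynomial (Fin n) A)
    (hh : ∀ i, h i ∈ I.map (MvPolynomial.C : A →+* MvPolynomial (Fin n) A)) :
    (Algebra.PreSubmersivePresentation.naive
      (v := fun i => MvPolynomial.X i - MvPolynomial.C (a i) - h i) id
        Function.injective_id).jacobiMatrix.det - 1 ∈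
      I.map (MvPolynomial.C : A →+* MvPolynomial (Fin n) A) := by
  classical
  rw [← Ideal.mk_ker (I := I), ← MvPolynomial.ker_map, RingHom.mem_ker, map_sub, map_one,
    sub_eq_zero, RingHom.map_det]
  have hM : (MvPolynomial.map (Ideal.Quotient.mk I)).mapMatrix
      (Algebra.PreSubmersivePresentation.naive
        (v := fun i => MvPolynomial.X i - MvPolynomial.C (a i) - h i) id
          Function.injective_id).jacobiMatrix = 1 := by
    refine Matrix.ext fun i j => ?_
    rw [RingHom.mapMatrix_apply, Matrix.map_apply,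
      Algebra.PreSubmersivePresentation.jacobiMatrix_naive, ← MvPolynomial.pderiv_map]
    have h0 : MvPolynomial.map (Ideal.Quotient.mk I) (h j) = 0 := by
      have := hh j
      rwa [← Ideal.mk_ker (I := I), ← MvPolynomial.ker_map, RingHom.mem_ker] at this
    simp only [map_sub, h0, sub_zero, MvPolynomial.map_X, MvPolynomial.map_C,
      MvPolynomial.pderiv_C, MvPolynomial.pderiv_X, Matrix.one_apply, id_eq, Pi.single_apply]
    by_cases hij : i = j
    · simp [hij]
    · simp [hij, Ne.symm hij]
  rw [hM, Matrix.det_one]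

/-- maps out of the étale algebra `A[X]/(G)[1/Δ]` attached to the system `G i = X i - a i - h i`. -/
lemma exists_algHom_away_jacobian (n : ℕ) (a : Fin n → A)
    (h : Fin n → MvPolynomial (Fin n) A)
    (hh : ∀ i, h i ∈ I.map (MvPolynomial.C : A →+* MvPolynomial (Fin n) A))
    {C : Type w} [CommRing C] [Algebra A C] (hC : I.map (algebraMap A C) ≤ Ideal.jacobson ⊥)
    (c : Fin n → C)
    (hc : ∀ i, MvPolynomial.aeval c (MvPolynomial.X i - MvPolynomial.C (a i) - h i) = 0) :
    ∃ ψ : Localization.Away (Algebra.PreSubmersivePresentation.naive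
        (v := fun i => MvPolynomial.X i - MvPolynomial.C (a i) - h i) id
          Function.injective_id).jacobian →ₐ[A] C,
      ∀ i, ψ (algebraMap (MvPolynomial (Fin n) A ⧸ Ideal.span (Set.range
        (fun i => MvPolynomial.X i - MvPolynomial.C (a i) - h i))) _
          (Ideal.Quotient.mk _ (MvPolynomial.X i))) = c i := by
  classical
  set G : Fin n → MvPolynomial (Fin n) A :=
    fun i => MvPolynomial.X i - MvPolynomial.C (a i) - h i with hG
  let Bq := MvPolynomial (Fin n) A ⧸ Ideal.span (Set.range G)
  let Pres : Algebra.PreSubmersivePresentation A Bq (Fin n) (Fin n) :=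
    Algebra.PreSubmersivePresentation.naive (v := G) id Function.injective_id
  have hdet : Pres.jacobiMatrix.det - 1 ∈
      I.map (MvPolynomial.C : A →+* MvPolynomial (Fin n) A) :=
    jacobi_det_sub_one_mem I n a h hh
  have hjac : Pres.jacobian = Ideal.Quotient.mk _ Pres.jacobiMatrix.det := by
    rw [Algebra.PreSubmersivePresentation.jacobian_eq_jacobiMatrix_det]
    rfl
  have hker : ∀ x ∈ Ideal.span (Set.range G),
      (MvPolynomial.aeval c : MvPolynomial (Fin n) A →ₐ[A] C) x = 0 := by
    intro x hx
    have : Ideal.span (Set.range G) ≤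
        RingHom.ker (MvPolynomial.aeval c : MvPolynomial (Fin n) A →ₐ[A] C).toRingHom := by
      rw [Ideal.span_le]
      rintro _ ⟨i, rfl⟩
      exact hc i
    exact this hx
  let ψ₀ : Bq →ₐ[A] C := Ideal.Quotient.liftₐ _ (MvPolynomial.aeval c) hker
  have hψ₀ : ∀ x, ψ₀ (Ideal.Quotient.mk _ x) = MvPolynomial.aeval c x := fun x => rfl
  have hunit : IsUnit (ψ₀ Pres.jacobian) := by
    rw [hjac, hψ₀]
    apply isUnit_of_sub_one_mem hC
    have := aeval_mem_map I c hdet
    rwa [map_sub, map_one] at this
  refine ⟨IsLocalization.Away.liftAlgHom (A := A) (f := ψ₀) Pres.jacobian hunit, fun i => ?_⟩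
  rw [IsLocalization.Away.liftAlgHom_apply]
  change IsLocalization.Away.lift Pres.jacobian hunit (algebraMap Bq _ _) = _
  rw [IsLocalization.Away.lift_eq]
  change ψ₀ (Ideal.Quotient.mk _ (MvPolynomial.X i)) = c i
  rw [hψ₀, MvPolynomial.aeval_X]

/-- **Multi-dimensional Hensel lemma for pairs** (implicit function form): the square system
`X i - a i - h i = 0` with `h i ∈ I A[X]` has a solution `a' ≡ a mod I` in `A`, and for every
`A`-algebra `C` with `I C ⊆ rad C`, every solution of the system in `C` is the image of `a'`. -/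
theorem exists_solution_of_system [HenselianRing A I] (n : ℕ) (a : Fin n → A)
    (h : Fin n → MvPolynomial (Fin n) A)
    (hh : ∀ i, h i ∈ I.map (MvPolynomial.C : A →+* MvPolynomial (Fin n) A)) :
    ∃ a' : Fin n → A, (∀ i, a' i - a i ∈ I) ∧
      (∀ i, MvPolynomial.eval a' (MvPolynomial.X i - MvPolynomial.C (a i) - h i) = 0) ∧
      ∀ (C : Type w) [CommRing C] [Algebra A C], I.map (algebraMap A C) ≤ Ideal.jacobson ⊥ →
        ∀ c : Fin n → C,
          (∀ i, MvPolynomial.aeval c (MvPolynomial.X i - MvPolynomial.C (a i) - h i) = 0) →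
          ∀ i, c i = algebraMap A C (a' i) := by
  classical
  set G : Fin n → MvPolynomial (Fin n) A :=
    fun i => MvPolynomial.X i - MvPolynomial.C (a i) - h i with hG
  let Bq := MvPolynomial (Fin n) A ⧸ Ideal.span (Set.range G)
  let Pres : Algebra.PreSubmersivePresentation A Bq (Fin n) (Fin n) :=
    Algebra.PreSubmersivePresentation.naive (v := G) id Function.injective_id
  have hEt : Algebra.Etale A (Localization.Away Pres.jacobian) :=
    Groth.Agent.S17972.etale_away_jacobian n G
  have hdet : Pres.jacobiMatrix.det - 1 ∈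
      I.map (MvPolynomial.C : A →+* MvPolynomial (Fin n) A) :=
    jacobi_det_sub_one_mem I n a h hh
  have hjac : Pres.jacobian = Ideal.Quotient.mk _ Pres.jacobiMatrix.det := by
    rw [Algebra.PreSubmersivePresentation.jacobian_eq_jacobiMatrix_det]
    rfl
  have key : ∀ (C : Type w) [CommRing C] [Algebra A C],
      I.map (algebraMap A C) ≤ Ideal.jacobson ⊥ → ∀ c : Fin n → C,
      (∀ i, MvPolynomial.aeval c (G i) = 0) →
      ∃ ψ : Localization.Away Pres.jacobian →ₐ[A] C,
        ∀ i, ψ (algebraMap Bq _ (Ideal.Quotient.mk _ (MvPolynomial.X i))) = c i :=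
    fun C _ _ hC c hc => exists_algHom_away_jacobian I n a h hh hC c hc
  have key' : ∀ (C : Type u) [CommRing C] [Algebra A C],
      I.map (algebraMap A C) ≤ Ideal.jacobson ⊥ → ∀ c : Fin n → C,
      (∀ i, MvPolynomial.aeval c (G i) = 0) →
      ∃ ψ : Localization.Away Pres.jacobian →ₐ[A] C,
        ∀ i, ψ (algebraMap Bq _ (Ideal.Quotient.mk _ (MvPolynomial.X i))) = c i :=
    fun C _ _ hC c hc => exists_algHom_away_jacobian I n a h hh hC c hc
  -- the residual section
  have hIq : I.map (algebraMap A (A ⧸ I)) ≤ Ideal.jacobson ⊥ := by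
    have : I.map (algebraMap A (A ⧸ I)) = ⊥ := Ideal.map_quotient_self I
    rw [this]; exact bot_le
  have hbot : ∀ x ∈ I.map (algebraMap A (A ⧸ I)), x = 0 := by
    intro x hx
    have : I.map (algebraMap A (A ⧸ I)) = ⊥ := Ideal.map_quotient_self I
    rw [this] at hx
    exact hx
  have hc₀ : ∀ i, MvPolynomial.aeval (fun j => Ideal.Quotient.mk I (a j)) (G i) = 0 := by
    intro i
    rw [hG]
    simp only [map_sub, MvPolynomial.aeval_X, MvPolynomial.aeval_C]
    rw [hbot _ (aeval_mem_map I _ (hh i))]
    simp
  obtain ⟨σ, hσ⟩ := key' (A ⧸ I) hIq (fun j => Ideal.Quotient.mk I (a j)) hc₀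
  obtain ⟨τ, hτ⟩ := exists_etale_lift (A := A) (I := I) σ
  let x : Fin n → Localization.Away Pres.jacobian :=
    fun i => algebraMap Bq _ (Ideal.Quotient.mk _ (MvPolynomial.X i))
  have hτa : ∀ i, τ (x i) - a i ∈ I := by
    intro i
    rw [← Ideal.Quotient.eq]
    have := AlgHom.congr_fun hτ (x i)
    rw [AlgHom.comp_apply, Ideal.Quotient.mkₐ_eq_mk] at this
    rw [this]
    exact hσ i
  have hτeval : ∀ p : MvPolynomial (Fin n) A,
      τ (algebraMap Bq _ (Ideal.Quotient.mk _ p)) = MvPolynomial.eval (fun i => τ (x i)) p := by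
    intro p
    have : (τ.comp (IsScalarTower.toAlgHom A Bq (Localization.Away Pres.jacobian))).comp
        (Ideal.Quotient.mkₐ A (Ideal.span (Set.range G))) =
          MvPolynomial.aeval (fun i => τ (x i)) := by
      apply MvPolynomial.algHom_ext
      intro j
      rw [MvPolynomial.aeval_X]
      rfl
    have := AlgHom.congr_fun this p
    rw [MvPolynomial.aeval_eq_eval] at this
    exact this
  refine ⟨fun i => τ (x i), hτa, ?_, ?_⟩
  · intro i
    rw [← hτeval]
    have : (Ideal.Quotient.mk (Ideal.span (Set.range G))) (G i) = 0 :=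
      Ideal.Quotient.eq_zero_iff_mem.mpr (Ideal.subset_span ⟨i, rfl⟩)
    rw [this, map_zero, map_zero]
  · intro C _ _ hC c hc i
    obtain ⟨ψ, hψ⟩ := key C hC c hc
    let φ₂ : Localization.Away Pres.jacobian →ₐ[A] C := (Algebra.ofId A C).comp τ
    have hmod : ∀ j, c j - algebraMap A C (τ (x j)) ∈ I.map (algebraMap A C) := by
      intro j
      have h1 := hc j
      simp only [map_sub, MvPolynomial.aeval_X, MvPolynomial.aeval_C] at h1
      have h2 : c j - algebraMap A C (a j) ∈ I.map (algebraMap A C) := by
        have : c j - algebraMap A C (a j) = MvPolynomial.aeval c (h j) := by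
          linear_combination h1
        rw [this]
        exact aeval_mem_map I c (hh j)
      have h3 : algebraMap A C (τ (x j)) - algebraMap A C (a j) ∈ I.map (algebraMap A C) := by
        rw [← map_sub]
        exact Ideal.mem_map_of_mem _ (hτa j)
      have : c j - algebraMap A C (τ (x j)) =
          (c j - algebraMap A C (a j)) - (algebraMap A C (τ (x j)) - algebraMap A C (a j)) := by
        ring
      rw [this]
      exact Ideal.sub_mem _ h2 h3
    have heq : ψ = φ₂ := by
      apply etale_lift_unique (I.map (algebraMap A C)) hC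
      apply IsLocalization.algHom_ext (Submonoid.powers Pres.jacobian)
      apply Ideal.Quotient.algHom_ext
      apply MvPolynomial.algHom_ext
      intro j
      simp only [AlgHom.comp_apply, Ideal.Quotient.mkₐ_eq_mk]
      rw [Ideal.Quotient.eq]
      have e1 : ψ ((Algebra.algHom A Bq (Localization.Away Pres.jacobian))
          ((Ideal.Quotient.mk (Ideal.span (Set.range G))) (MvPolynomial.X j))) = c j := hψ j
      rw [e1]
      exact hmod j
    have := AlgHom.congr_fun heq (x i)
    rw [hψ i] at this
    exact this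

end Multi

end Groth.Agent.Lib.Helper58.HenselPair
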