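import Mathlib
import Groth.Prelude.Def_Hens2
import Groth.Agent.Lib.Helper58.PairHensQuot
import Groth.Agent.Lib.Helper58.PairHensNbhd

/-!
# Quotients of henselian finitely presented algebras by finitely generated ideals
-/

set_option autoImplicit false
universe u

namespace Groth.Agent.Lib.Helper58.PairHens

/-- A quotient of a henselization `P` of `(R₀, I R₀)`, `R₀` finitely presented over `A`, by a
finitely generated ideal is again the henselization of a finitely presented `A`-algebra. -/
theorem exists_hfp_of_surjective_of_fg (A : Type u) [CommRing A] (I : Ideal A)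
    (R₀ : Type u) [CommRing R₀] [Algebra A R₀] [Algebra.FinitePresentation A R₀]
    (P : Type u) [CommRing P] [Algebra R₀ P] [Algebra A P] [IsScalarTower A R₀ P]
    (hP : Hens2.IsPairHenselization R₀ (I.map (algebraMap A R₀)) P)
    (B : Type u) [CommRing B] [Algebra A B] (φ : P →ₐ[A] B) (hφ : Function.Surjective φ)
    (hfg : (RingHom.ker φ).FG) :
    ∃ (R : Type u) (_ : CommRing R) (_ : Algebra A R) (_ : Algebra R B) (_ : IsScalarTower A R B),
      Algebra.FinitePresentation A R ∧ Hens2.IsPairHenselization R (I.map (algebraMap A R)) B := by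
  classical
  obtain ⟨s, hs⟩ := hfg
  obtain ⟨E, _, _, _, hb, ψ, hψ⟩ := exists_nbhd_of_finset hP s
  choose! z hz using hψ
  let _ : Algebra A E := ((algebraMap R₀ E).comp (algebraMap A R₀)).toAlgebra
  have _ : IsScalarTower A R₀ E := IsScalarTower.of_algebraMap_eq (fun _ => rfl)
  have _ : Algebra.FinitePresentation A E := Algebra.FinitePresentation.trans A R₀ E
  let _ : Algebra E P := ψ.toRingHom.toAlgebra
  have _ : IsScalarTower R₀ E P := IsScalarTower.of_algebraMap_eq (fun q => (ψ.commutes q).symm)
  have hEP := isPairHenselization_nbhd hb hP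
  let K : Ideal E := Ideal.span ((s.image z : Finset E) : Set E)
  have hKfg : K.FG := ⟨s.image z, rfl⟩
  have hKmap : K.map (algebraMap E P) = RingHom.ker φ := by
    rw [← hs, Ideal.map_span]
    congr 1
    ext x
    simp only [Finset.coe_image, Set.mem_image, Finset.mem_coe, exists_exists_and_eq_and]
    constructor
    · rintro ⟨y, hy, rfl⟩
      have : algebraMap E P (z y) = y := hz y hy
      rw [this]; exact hy
    · intro hx
      exact ⟨x, hx, hz x hx⟩
  have hlift : ∀ a ∈ K, (φ.toRingHom.comp (algebraMap E P)) a = 0 := by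
    intro a ha
    have : algebraMap E P a ∈ RingHom.ker φ := by
      rw [← hKmap]; exact Ideal.mem_map_of_mem _ ha
    exact this
  let _ : Algebra (E ⧸ K) B :=
    (Ideal.Quotient.lift K (φ.toRingHom.comp (algebraMap E P)) hlift).toAlgebra
  have hA : ∀ a : A, algebraMap A B a = algebraMap (E ⧸ K) B (algebraMap A (E ⧸ K) a) := by
    intro a
    change _ = Ideal.Quotient.lift K (φ.toRingHom.comp (algebraMap E P)) hlift
      (Ideal.Quotient.mk K (algebraMap A E a))
    rw [Ideal.Quotient.lift_mk]
    change _ = φ (ψ (algebraMap R₀ E (algebraMap A R₀ a)))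
    rw [ψ.commutes, ← IsScalarTower.algebraMap_apply, φ.commutes]
  have _ : IsScalarTower A (E ⧸ K) B := IsScalarTower.of_algebraMap_eq hA
  refine ⟨E ⧸ K, inferInstance, inferInstance, inferInstance, inferInstance,
    Algebra.FinitePresentation.quotient hKfg, ?_⟩
  have key := isPairHenselization_of_surjective hEP
    (Ideal.Quotient.mk K) Ideal.Quotient.mk_surjective (φ : P →+* B) hφ
    (by rw [Ideal.mk_ker]; exact hKmap.symm)
    (by
      apply RingHom.ext
      intro x
      rfl)
  have hI : ((I.map (algebraMap A R₀)).map (algebraMap R₀ E)).map (Ideal.Quotient.mk K) =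
      I.map (algebraMap A (E ⧸ K)) := by
    rw [Ideal.map_map, Ideal.map_map]
    rfl
  rw [hI] at key
  exact key

end Groth.Agent.Lib.Helper58.PairHens
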