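import Mathlib
import Groth.Prelude.Def_Hens2
import Groth.Agent.Lib.Helper58.PairHensQuotFG
import Groth.Agent.Lib.Helper58.DirLimIso
import Groth.Agent.Lib.Helper58.HenselPairIdem
import Groth.Agent.S17613

/-!
# Compact objects among henselian pairs over `(A, I)` are henselian finitely presented
-/

set_option autoImplicit false
universe u

namespace Groth.Agent.Lib.Helper58.HfpCompact

open Groth.Agent.Lib.Helper58.PairHens Groth.Agent.Lib.Helper58.HenselPair

variable (A : Type u) [CommRing A] (I : Ideal A) (B : Type u) [CommRing B] [Algebra A B]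

section Step1

/-- the polynomial ring on a finite subset of `B`. -/
abbrev Q (F : Finset B) : Type u := MvPolynomial (↥F) A

/-- the henselization of the polynomial ring on a finite subset of `B`. -/
def PF (F : Finset B) : Type u := Hp (Q A B F) (I.map (algebraMap A (Q A B F)))

noncomputable instance (F : Finset B) : CommRing (PF A I B F) :=
  Hp.instCommRing (Q A B F) (I.map (algebraMap A (Q A B F)))

noncomputable instance (F : Finset B) : Algebra (Q A B F) (PF A I B F) :=
  Hp.instAlgebra (Q A B F) (I.map (algebraMap A (Q A B F)))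

noncomputable instance (F : Finset B) : Algebra A (PF A I B F) :=
  ((algebraMap (Q A B F) (PF A I B F)).comp (algebraMap A (Q A B F))).toAlgebra

instance (F : Finset B) : IsScalarTower A (Q A B F) (PF A I B F) :=
  IsScalarTower.of_algebraMap_eq (fun _ => rfl)

lemma PF.isPairHenselization (F : Finset B) :
    Hens2.IsPairHenselization (Q A B F) (I.map (algebraMap A (Q A B F))) (PF A I B F) :=
  Hp.isPairHenselization (Q A B F) (I.map (algebraMap A (Q A B F)))

lemma PF.henselian (F : Finset B) :
    HenselianRing (PF A I B F) (I.map (algebraMap A (PF A I B F))) := by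
  have h := (PF.isPairHenselization A I B F).1
  rw [Ideal.map_map] at h
  exact h

/-- evaluation of polynomials at the elements of the finite subset. -/
noncomputable def ev (F : Finset B) : Q A B F →ₐ[A] B :=
  MvPolynomial.aeval (fun x : ↥F => (x : B))

variable [HenselianRing B (I.map (algebraMap A B))]

lemma ev_le (F : Finset B) :
    (I.map (algebraMap A (Q A B F))).map (ev A B F).toRingHom ≤ I.map (algebraMap A B) := by
  rw [Ideal.map_map]
  have : (ev A B F).toRingHom.comp (algebraMap A (Q A B F)) = algebraMap A B := by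
    ext a
    exact (ev A B F).commutes a
  rw [this]

lemma exists_pR (F : Finset B) :
    ∃! g : PF A I B F →+* B, g.comp (algebraMap (Q A B F) (PF A I B F)) = (ev A B F).toRingHom :=
  (PF.isPairHenselization A I B F).2 B (I.map (algebraMap A B)) (ev A B F).toRingHom
    inferInstance (ev_le A I B F)

/-- the canonical map `PF F → B`. -/
noncomputable def pR (F : Finset B) : PF A I B F →+* B := (exists_pR A I B F).choose

lemma pR_comp (F : Finset B) :
    (pR A I B F).comp (algebraMap (Q A B F) (PF A I B F)) = (ev A B F).toRingHom :=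
  (exists_pR A I B F).choose_spec.1

lemma pR_unique (F : Finset B) (g : PF A I B F →+* B)
    (hg : g.comp (algebraMap (Q A B F) (PF A I B F)) = (ev A B F).toRingHom) : g = pR A I B F :=
  (exists_pR A I B F).choose_spec.2 g hg

lemma pR_algebraMap (F : Finset B) (q : Q A B F) :
    pR A I B F (algebraMap (Q A B F) (PF A I B F) q) = ev A B F q :=
  congrArg (fun ρ : Q A B F →+* B => ρ q) (pR_comp A I B F)

/-- the canonical map `PF F → B` as an `A`-algebra map. -/
noncomputable def pA (F : Finset B) : PF A I B F →ₐ[A] B :=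
  { pR A I B F with
    commutes' := fun a => by
      change pR A I B F (algebraMap (Q A B F) (PF A I B F) (algebraMap A (Q A B F) a)) = _
      rw [pR_algebraMap, AlgHom.commutes] }

lemma pA_apply (F : Finset B) (x : PF A I B F) : pA A I B F x = pR A I B F x := rfl

lemma mem_range_pA (F : Finset B) (x : B) (hx : x ∈ F) : x ∈ (pA A I B F).range := by
  refine ⟨algebraMap (Q A B F) (PF A I B F) (MvPolynomial.X ⟨x, hx⟩), ?_⟩
  change pR A I B F _ = x
  rw [pR_algebraMap]
  simp [ev]

lemma range_mono {F F' : Finset B} (h : F ⊆ F') : (pA A I B F).range ≤ (pA A I B F').range := by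
  let ι : Q A B F →ₐ[A] Q A B F' := MvPolynomial.rename (fun x : ↥F => (⟨x.1, h x.2⟩ : ↥F'))
  have hι : (ev A B F').comp ι = ev A B F := by
    apply MvPolynomial.algHom_ext
    intro x
    simp [ι, ev]
  let f : Q A B F →+* PF A I B F' := (algebraMap (Q A B F') (PF A I B F')).comp ι.toRingHom
  have hf : (I.map (algebraMap A (Q A B F))).map f ≤
      (I.map (algebraMap A (Q A B F'))).map (algebraMap (Q A B F') (PF A I B F')) := by
    rw [Ideal.map_map, Ideal.map_map]
    have : f.comp (algebraMap A (Q A B F)) =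
        (algebraMap (Q A B F') (PF A I B F')).comp (algebraMap A (Q A B F')) := by
      ext a
      change algebraMap (Q A B F') (PF A I B F') (ι (algebraMap A (Q A B F) a)) = _
      rw [AlgHom.commutes]
      rfl
    rw [this]
  obtain ⟨τ, hτ, -⟩ := (PF.isPairHenselization A I B F).2 (PF A I B F') _ f
    (PF.isPairHenselization A I B F').1 hf
  have key : (pR A I B F').comp τ = pR A I B F := by
    apply pR_unique
    rw [RingHom.comp_assoc, hτ]
    apply RingHom.ext
    intro q
    change pR A I B F' (algebraMap (Q A B F') (PF A I B F') (ι q)) = ev A B F q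
    rw [pR_algebraMap, ← hι]
    rfl
  rintro _ ⟨x, rfl⟩
  refine ⟨τ x, ?_⟩
  change pR A I B F' (τ x) = pR A I B F x
  rw [← key]
  rfl

lemma henselian_range (F : Finset B) :
    HenselianRing ↥(pA A I B F).range (I.map (algebraMap A ↥(pA A I B F).range)) := by
  have _ := PF.henselian A I B F
  let _ : Algebra (PF A I B F) ↥(pA A I B F).range := (pA A I B F).rangeRestrict.toRingHom.toAlgebra
  have : Algebra.IsIntegral (PF A I B F) ↥(pA A I B F).range :=
    Algebra.isIntegral_of_surjective (pA A I B F).rangeRestrict_surjective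
  have h := henselian_of_isIntegral (A := PF A I B F) (I := I.map (algebraMap A (PF A I B F)))
    ↥(pA A I B F).range
  rw [Ideal.map_map] at h
  have e : (algebraMap (PF A I B F) ↥(pA A I B F).range).comp (algebraMap A (PF A I B F)) =
      algebraMap A ↥(pA A I B F).range := by
    ext a
    exact congrArg Subtype.val ((pA A I B F).rangeRestrict.commutes a)
  rw [e] at h
  exact h

end Step1

section Main

open Groth.Agent.Lib.Helper58.DirLimIso

variable [HenselianRing A I] [HenselianRing B (I.map (algebraMap A B))]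

/-- Step 1: `B` is a quotient of the henselization of a polynomial ring in finitely many
variables. -/
theorem exists_surjective
    (h : ∀ (κ : Type u) [Preorder κ] [IsDirectedOrder κ] [Nonempty κ]
      (Ra : κ → Type u) [∀ a, CommRing (Ra a)] [∀ a, Algebra A (Ra a)]
      [∀ a, HenselianRing (Ra a) (I.map (algebraMap A (Ra a)))]
      (t : ∀ a b : κ, a ≤ b → (Ra a →+* Ra b)) [DirectedSystem Ra (fun a b hab => t a b hab)],
      (∀ (a b : κ) (hab : a ≤ b), (t a b hab).comp (algebraMap A (Ra a)) = algebraMap A (Ra b)) →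
      ∀ [Algebra A (DirectLimit Ra t)],
      (∀ (a : κ) (x : A), algebraMap A (DirectLimit Ra t) x =
        DirectLimit.Ring.of Ra t a (algebraMap A (Ra a) x)) →
      (∀ χ : B →ₐ[A] DirectLimit Ra t, ∃ (a : κ) (φ : B →ₐ[A] Ra a),
          ∀ x : B, DirectLimit.Ring.of Ra t a (φ x) = χ x) ∧
      ∀ (a : κ) (φ ψ : B →ₐ[A] Ra a),
        (∀ x : B, DirectLimit.Ring.of Ra t a (φ x) = DirectLimit.Ring.of Ra t a (ψ x)) →
        ∃ (b : κ) (hab : a ≤ b), ∀ x : B, t a b hab (φ x) = t a b hab (ψ x)) :
    ∃ F : Finset B, Function.Surjective (pA A I B F) := by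
  classical
  let Ra : Finset B → Type u := fun F => ↥(pA A I B F).range
  let t : ∀ a b : Finset B, a ≤ b → (Ra a →+* Ra b) := fun a b hab =>
    (Subalgebra.inclusion (range_mono A I B hab)).toRingHom
  have _ : ∀ a, HenselianRing (Ra a) (I.map (algebraMap A (Ra a))) :=
    fun a => henselian_range A I B a
  have _ : DirectedSystem Ra (fun a b hab => t a b hab) :=
    ⟨fun a x => rfl, fun a b c hab hbc x => rfl⟩
  have ht : ∀ (a b : Finset B) (hab : a ≤ b),
      (t a b hab).comp (algebraMap A (Ra a)) = algebraMap A (Ra b) := fun a b hab => by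
    ext x
    rfl
  let _ : Algebra A (DirectLimit Ra t) := dlAlgebra Ra t
  have halg := dlAlgebra_algebraMap Ra t ht
  obtain ⟨χ, hχ1, hχ2⟩ := exists_algHom_of_bijective Ra t (fun a => (pA A I B a).range.val)
    (fun _ _ _ _ => rfl)
    (fun y => ⟨{y}, ⟨y, mem_range_pA A I B {y} y (Finset.mem_singleton_self y)⟩, rfl⟩)
    (fun a x hx => ⟨a, le_rfl, by
      have : x = 0 := Subtype.ext hx
      rw [this, map_zero]⟩) halg
  obtain ⟨F, φ, hφ⟩ := (h (Finset B) Ra t ht halg).1 χ
  refine ⟨F, fun x => ?_⟩
  have h1 := hχ2 x F (φ x) (hφ x).symm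
  obtain ⟨y, hy⟩ := (φ x).2
  exact ⟨y, hy.trans h1⟩

/-- Step 2: a compact quotient of a henselian finitely presented algebra has finitely generated
kernel. -/
theorem ker_fg_of_compact
    (R₀ : Type u) [CommRing R₀] [Algebra A R₀] [Algebra.FinitePresentation A R₀]
    (P : Type u) [CommRing P] [Algebra R₀ P] [Algebra A P] [IsScalarTower A R₀ P]
    (hP : Hens2.IsPairHenselization R₀ (I.map (algebraMap A R₀)) P)
    (p : P →ₐ[A] B) (hp : Function.Surjective p)
    (h : ∀ (κ : Type u) [Preorder κ] [IsDirectedOrder κ] [Nonempty κ]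
      (Ra : κ → Type u) [∀ a, CommRing (Ra a)] [∀ a, Algebra A (Ra a)]
      [∀ a, HenselianRing (Ra a) (I.map (algebraMap A (Ra a)))]
      (t : ∀ a b : κ, a ≤ b → (Ra a →+* Ra b)) [DirectedSystem Ra (fun a b hab => t a b hab)],
      (∀ (a b : κ) (hab : a ≤ b), (t a b hab).comp (algebraMap A (Ra a)) = algebraMap A (Ra b)) →
      ∀ [Algebra A (DirectLimit Ra t)],
      (∀ (a : κ) (x : A), algebraMap A (DirectLimit Ra t) x =
        DirectLimit.Ring.of Ra t a (algebraMap A (Ra a) x)) →
      (∀ χ : B →ₐ[A] DirectLimit Ra t, ∃ (a : κ) (φ : B →ₐ[A] Ra a),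
          ∀ x : B, DirectLimit.Ring.of Ra t a (φ x) = χ x) ∧
      ∀ (a : κ) (φ ψ : B →ₐ[A] Ra a),
        (∀ x : B, DirectLimit.Ring.of Ra t a (φ x) = DirectLimit.Ring.of Ra t a (ψ x)) →
        ∃ (b : κ) (hab : a ≤ b), ∀ x : B, t a b hab (φ x) = t a b hab (ψ x)) :
    (RingHom.ker p).FG := by
  classical
  let K : Finset ↥(RingHom.ker p) → Ideal P := fun μ =>
    Ideal.span (Subtype.val '' (μ : Set ↥(RingHom.ker p)))
  have hKmono : ∀ μ μ' : Finset ↥(RingHom.ker p), μ ≤ μ' → K μ ≤ K μ' := fun μ μ' hμ =>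
    Ideal.span_mono (Set.image_mono (Finset.coe_subset.2 hμ))
  have hKle : ∀ μ, K μ ≤ RingHom.ker p := fun μ => Ideal.span_le.2 (by
    rintro _ ⟨y, -, rfl⟩
    exact y.2)
  let Ra : Finset ↥(RingHom.ker p) → Type u := fun μ => P ⧸ K μ
  let t : ∀ a b : Finset ↥(RingHom.ker p), a ≤ b → (Ra a →+* Ra b) := fun a b hab =>
    Ideal.Quotient.factor (hKmono a b hab)
  have htmk : ∀ (a b : Finset ↥(RingHom.ker p)) (hab : a ≤ b) (x : P),
      t a b hab (Ideal.Quotient.mk (K a) x) = Ideal.Quotient.mk (K b) x := fun a b hab x => rfl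
  have hPhens : HenselianRing P (I.map (algebraMap A P)) := by
    have h1 := hP.1
    rw [Ideal.map_map, ← IsScalarTower.algebraMap_eq] at h1
    exact h1
  have _ : ∀ a, HenselianRing (Ra a) (I.map (algebraMap A (Ra a))) := fun a => by
    have h1 := henselian_quotient (I.map (algebraMap A P)) (K a)
    rw [Ideal.map_map] at h1
    exact h1
  have _ : DirectedSystem Ra (fun a b hab => t a b hab) := by
    constructor
    · intro a x
      obtain ⟨y, rfl⟩ := Ideal.Quotient.mk_surjective x
      rfl
    · intro a b c hab hbc x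
      obtain ⟨y, rfl⟩ := Ideal.Quotient.mk_surjective x
      rfl
  have ht : ∀ (a b : Finset ↥(RingHom.ker p)) (hab : a ≤ b),
      (t a b hab).comp (algebraMap A (Ra a)) = algebraMap A (Ra b) := fun a b hab => by
    ext x
    rfl
  let _ : Algebra A (DirectLimit Ra t) := dlAlgebra Ra t
  have halg := dlAlgebra_algebraMap Ra t ht
  let g : ∀ a, Ra a →ₐ[A] B := fun a => Ideal.Quotient.liftₐ (K a) p (fun x hx => hKle a hx)
  have hgmk : ∀ a (x : P), g a (Ideal.Quotient.mk (K a) x) = p x := fun a x => rfl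
  obtain ⟨χ, hχ1, hχ2⟩ := exists_algHom_of_bijective Ra t g
    (fun a b hab x => by
      obtain ⟨y, rfl⟩ := Ideal.Quotient.mk_surjective x
      rfl)
    (fun y => by
      obtain ⟨x, rfl⟩ := hp y
      exact ⟨∅, Ideal.Quotient.mk _ x, rfl⟩)
    (fun a x hx => by
      obtain ⟨y, rfl⟩ := Ideal.Quotient.mk_surjective x
      have hy : y ∈ RingHom.ker p := hx
      refine ⟨insert ⟨y, hy⟩ a, Finset.subset_insert _ _, ?_⟩
      rw [htmk a _ (Finset.subset_insert _ _)]
      refine Ideal.Quotient.eq_zero_iff_mem.2 (Ideal.subset_span ⟨⟨y, hy⟩, ?_, rfl⟩)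
      simp) halg
  obtain ⟨μ, s, hs⟩ := (h (Finset ↥(RingHom.ker p)) Ra t ht halg).1 χ
  have key := (Groth.Agent.S17613.result A I R₀ P hP Ra t ht halg).2 μ
    (Ideal.Quotient.mkₐ A (K μ)) (s.comp p) (fun x => by
      change DirectLimit.Ring.of Ra t μ (Ideal.Quotient.mk (K μ) x) =
        DirectLimit.Ring.of Ra t μ (s (p x))
      rw [hs, ← hgmk μ x, hχ1])
  obtain ⟨μ', hμ, hμ'⟩ := key
  have hle : RingHom.ker p ≤ K μ' := by
    intro x hx
    have h1 := hμ' x
    have h2 : (s.comp p) x = 0 := by
      change s (p x) = 0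
      rw [show p x = 0 from hx, map_zero]
    rw [h2, map_zero] at h1
    exact Ideal.Quotient.eq_zero_iff_mem.1 h1
  have heq : RingHom.ker p = K μ' := le_antisymm hle (hKle μ')
  rw [heq]
  exact ⟨μ'.image Subtype.val, by rw [Finset.coe_image]⟩

/-- a compact object among henselian pairs over `(A, I)` is henselian finitely presented. -/
theorem main
    (h : ∀ (κ : Type u) [Preorder κ] [IsDirectedOrder κ] [Nonempty κ]
      (Ra : κ → Type u) [∀ a, CommRing (Ra a)] [∀ a, Algebra A (Ra a)]
      [∀ a, HenselianRing (Ra a) (I.map (algebraMap A (Ra a)))]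
      (t : ∀ a b : κ, a ≤ b → (Ra a →+* Ra b)) [DirectedSystem Ra (fun a b hab => t a b hab)],
      (∀ (a b : κ) (hab : a ≤ b), (t a b hab).comp (algebraMap A (Ra a)) = algebraMap A (Ra b)) →
      ∀ [Algebra A (DirectLimit Ra t)],
      (∀ (a : κ) (x : A), algebraMap A (DirectLimit Ra t) x =
        DirectLimit.Ring.of Ra t a (algebraMap A (Ra a) x)) →
      (∀ χ : B →ₐ[A] DirectLimit Ra t, ∃ (a : κ) (φ : B →ₐ[A] Ra a),
          ∀ x : B, DirectLimit.Ring.of Ra t a (φ x) = χ x) ∧
      ∀ (a : κ) (φ ψ : B →ₐ[A] Ra a),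
        (∀ x : B, DirectLimit.Ring.of Ra t a (φ x) = DirectLimit.Ring.of Ra t a (ψ x)) →
        ∃ (b : κ) (hab : a ≤ b), ∀ x : B, t a b hab (φ x) = t a b hab (ψ x)) :
    ∃ (R : Type u) (_ : CommRing R) (_ : Algebra A R) (_ : Algebra R B) (_ : IsScalarTower A R B),
      Algebra.FinitePresentation A R ∧ Hens2.IsPairHenselization R (I.map (algebraMap A R)) B := by
  obtain ⟨F, hF⟩ := exists_surjective A I B h
  have hfg := ker_fg_of_compact A I B (Q A B F) (PF A I B F) (PF.isPairHenselization A I B F)
    (pA A I B F) hF h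
  exact exists_hfp_of_surjective_of_fg A I (Q A B F) (PF A I B F)
    (PF.isPairHenselization A I B F) B (pA A I B F) hF hfg

end Main

end Groth.Agent.Lib.Helper58.HfpCompact
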