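import Mathlib
import Groth.Prelude.Def_Hens2
import Groth.Agent.Lib.Helper58.PairHensProps

/-!
# Truncations of henselian finitely presented maps
-/

set_option autoImplicit false
universe u

namespace Groth.Agent.Lib.Helper58.PairHens

section Desc

variable {A : Type*} [CommRing A] (K : Ideal A) {B : Type*} [CommRing B] [Algebra A B]
  {T : Type*} [CommRing T] [Algebra A T] [Algebra (A ⧸ K) T] [IsScalarTower A (A ⧸ K) T]

/-- an `A / K`-algebra is killed by `K`. -/
lemma algebraMap_eq_zero_of_mem {a : A} (ha : a ∈ K) : algebraMap A T a = 0 := by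
  rw [IsScalarTower.algebraMap_apply A (A ⧸ K) T, Ideal.Quotient.algebraMap_eq,
    Ideal.Quotient.eq_zero_iff_mem.mpr ha, map_zero]

lemma algHom_eq_zero_of_mem_map (v : B →ₐ[A] T) {b : B} (hb : b ∈ K.map (algebraMap A B)) :
    v b = 0 := by
  have : K.map (algebraMap A B) ≤ RingHom.ker v.toRingHom := by
    rw [Ideal.map_le_iff_le_comap]
    intro a ha
    rw [Ideal.mem_comap, RingHom.mem_ker]
    change v (algebraMap A B a) = 0
    rw [AlgHom.commutes, algebraMap_eq_zero_of_mem K ha]
  exact this hb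

/-- descend an `A`-algebra map `B → T` into an `A/K`-algebra to `B / K B`. -/
noncomputable def descAlgHom (v : B →ₐ[A] T) : (B ⧸ K.map (algebraMap A B)) →ₐ[A ⧸ K] T :=
  AlgHom.extendScalarsOfSurjective (Ideal.Quotient.mk_surjective (I := K))
    (Ideal.Quotient.liftₐ (K.map (algebraMap A B)) v (fun _ hb => algHom_eq_zero_of_mem_map K v hb))

@[simp]
lemma descAlgHom_mk (v : B →ₐ[A] T) (b : B) :
    descAlgHom K v (Ideal.Quotient.mk _ b) = v b := rfl

/-- restrict an `A/K`-algebra map `B / K B → T` to an `A`-algebra map `B → T`. -/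
noncomputable def ascAlgHom (φ : (B ⧸ K.map (algebraMap A B)) →ₐ[A ⧸ K] T) : B →ₐ[A] T :=
  (φ.restrictScalars A).comp (Ideal.Quotient.mkₐ A (K.map (algebraMap A B)))

@[simp]
lemma ascAlgHom_apply (φ : (B ⧸ K.map (algebraMap A B)) →ₐ[A ⧸ K] T) (b : B) :
    ascAlgHom K φ b = φ (Ideal.Quotient.mk _ b) := rfl

lemma descAlgHom_ascAlgHom (φ : (B ⧸ K.map (algebraMap A B)) →ₐ[A ⧸ K] T) :
    descAlgHom K (ascAlgHom K φ) = φ := by
  refine AlgHom.ext fun x => ?_
  obtain ⟨b, rfl⟩ := Ideal.Quotient.mk_surjective x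
  rfl

lemma ascAlgHom_descAlgHom (v : B →ₐ[A] T) : ascAlgHom K (descAlgHom K v) = v :=
  AlgHom.ext fun _ => rfl

lemma ascAlgHom_injective :
    Function.Injective (ascAlgHom K : ((B ⧸ K.map (algebraMap A B)) →ₐ[A ⧸ K] T) → _) := by
  intro φ ψ h
  rw [← descAlgHom_ascAlgHom K φ, ← descAlgHom_ascAlgHom K ψ, h]

end Desc

section FP

/-- the truncations of a henselian finitely presented map are finitely presented. -/
theorem finitePresentation_quotient_pow (A : Type u) [CommRing A] (I : Ideal A)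
    (R : Type u) [CommRing R] [Algebra A R] [Algebra.FinitePresentation A R]
    (B : Type u) [CommRing B] [Algebra R B] [Algebra A B] [IsScalarTower A R B]
    (hB : Hens2.IsPairHenselization R (I.map (algebraMap A R)) B) (r : ℕ) :
    Algebra.FinitePresentation (A ⧸ I ^ r) (B ⧸ (I ^ r).map (algebraMap A B)) := by
  obtain ⟨e⟩ := nonempty_quotient_algEquiv A I R B hB r
  have h1 : Algebra.FinitePresentation (A ⧸ I ^ r) (TensorProduct A (A ⧸ I ^ r) R) := inferInstance
  have h2 : Algebra.FinitePresentation (A ⧸ I ^ r) (R ⧸ (I ^ r).map (algebraMap A R)) :=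
    Algebra.FinitePresentation.equiv (Algebra.TensorProduct.quotIdealMapEquivQuotTensor R (I ^ r)).symm
  exact Algebra.FinitePresentation.equiv e

end FP

end Groth.Agent.Lib.Helper58.PairHens
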