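import Mathlib

set_option autoImplicit false

namespace Groth.Agent.Lib.Helper58.LimProj

open Function

universe v

/-- Projections from the inverse limit of a tower of sets with surjective transition maps are
surjective. -/
theorem exists_compatible_seq : ∀ (n : ℕ) (A : ℕ → Type v) (t : ∀ n, A (n + 1) → A n)
    (_ : ∀ n, Surjective (t n)) (a : A n),
    ∃ x : ∀ m, A m, (∀ m, t m (x (m + 1)) = x m) ∧ x n = a := by
  intro n
  induction n with
  | zero =>
    intro A t ht a
    refine ⟨fun m => Nat.rec (motive := A) a (fun m xm => surjInv (ht m) xm) m, ?_, rfl⟩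
    intro m
    exact surjInv_eq (ht m) _
  | succ n ih =>
    intro A t ht a
    obtain ⟨x', hx', hxa⟩ := ih (fun m => A (m + 1)) (fun m => t (m + 1)) (fun m => ht (m + 1)) a
    refine ⟨fun m => Nat.casesOn (motive := A) m (t 0 (x' 0)) (fun m => x' m), ?_, hxa⟩
    intro m
    cases m with
    | zero => rfl
    | succ m => exact hx' m

section Matrix

variable {R R₀ : Type*} [CommRing R] [CommRing R₀] (t : R →+* R₀)

theorem matrix_isNilpotent_of_map_eq_zero (hnil : ∀ x, t x = 0 → IsNilpotent x) {r : ℕ}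
    (N : Matrix (Fin r) (Fin r) R) (hN : t.mapMatrix N = 0) : IsNilpotent N := by
  classical
  set J : Ideal R := Ideal.span (Set.range (fun p : Fin r × Fin r => N p.1 p.2)) with hJ
  have hJfg : J.FG := ⟨(Finset.univ.image (fun p : Fin r × Fin r => N p.1 p.2)), by
    simp [hJ]⟩
  have hJnil : J ≤ nilradical R := by
    rw [hJ, Ideal.span_le]
    rintro _ ⟨p, rfl⟩
    rw [SetLike.mem_coe, mem_nilradical]
    apply hnil
    have := congr_fun (congr_fun hN p.1) p.2
    simpa using this
  obtain ⟨k, hk⟩ := hJfg.isNilpotent_iff_le_nilradical.mpr hJnil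
  have hmem : ∀ k : ℕ, ∀ i j, (N ^ k) i j ∈ J ^ k := by
    intro k
    induction k with
    | zero => intro i j; simp
    | succ k ih =>
      intro i j
      rw [pow_succ, pow_succ, Matrix.mul_apply]
      refine Ideal.sum_mem _ (fun l _ => Ideal.mul_mem_mul (ih i l) ?_)
      exact Ideal.subset_span ⟨(l, j), rfl⟩
  refine ⟨k, ?_⟩
  ext i j
  have := hmem k i j
  rw [hk] at this
  simpa using this

theorem exists_idempotent_matrix_lift (ht : Surjective t) (hnil : ∀ x, t x = 0 → IsNilpotent x)
    {r : ℕ} (e₀ : Matrix (Fin r) (Fin r) R₀) (he₀ : e₀ * e₀ = e₀) :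
    ∃ e : Matrix (Fin r) (Fin r) R, e * e = e ∧ e.map t = e₀ := by
  have hker : ∀ x ∈ RingHom.ker (t.mapMatrix (m := Fin r)), IsNilpotent x := by
    intro x hx
    exact matrix_isNilpotent_of_map_eq_zero t hnil x hx
  have hrange : e₀ ∈ (t.mapMatrix (m := Fin r)).range := by
    refine ⟨Matrix.of fun i j => surjInv ht (e₀ i j), ?_⟩
    ext i j
    simp [surjInv_eq ht]
  obtain ⟨e, he, hee⟩ := exists_isIdempotentElem_eq_of_ker_isNilpotent _ hker e₀ hrange he₀
  exact ⟨e, he, hee⟩

end Matrix

section Crux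

variable {R : Type*} [CommRing R] (K : Ideal R) {M : Type*} [AddCommGroup M] [Module R M]

theorem exists_section_of_flat_aux (hK : K ≤ Ideal.jacobson ⊥) [Module.Finite R M]
    [Module.Flat R M] {r : ℕ} (s : (Fin r → R) →ₗ[R] M)
    (E : (Fin r → R) →ₗ[R] (Fin r → R))
    (hE : E ∘ₗ E = E) (hsE : s ∘ₗ E = s)
    (ha : ∀ x, s x ∈ K • (⊤ : Submodule R M) → E x ∈ K • (⊤ : Submodule R (Fin r → R)))
    (hc : ∀ m, ∃ x, m - s x ∈ K • (⊤ : Submodule R M)) :
    ∃ i : M →ₗ[R] (Fin r → R), s ∘ₗ i = LinearMap.id ∧ ∀ x, i (s x) = E x := by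
  have hs : Function.Surjective s := by
    rw [← LinearMap.range_eq_top, ← top_le_iff]
    apply Submodule.le_of_le_smul_of_le_jacobson_bot Module.Finite.fg_top hK
    intro m _
    obtain ⟨x, hx⟩ := hc m
    have : m = s x + (m - s x) := by abel
    rw [this]
    exact Submodule.add_mem_sup ⟨x, rfl⟩ hx
  have hEE : ∀ f, E (E f) = E f := fun f => congr($hE f)
  have hsEE : ∀ f, s (E f) = s f := fun f => congr($hsE f)
  have hinj : ∀ x, E x = x → s x = 0 → x = 0 := by
    intro x hEx hsx
    obtain ⟨k, a, y, hya, hax⟩ := Module.Flat.exists_factorization_of_apply_eq_zero_of_free hsx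
    obtain ⟨y', hy'⟩ := Module.projective_lifting_property s y hs
    let Θ : (Fin r → R) →ₗ[R] (Fin r → R) := E ∘ₗ y' ∘ₗ a + (LinearMap.id - E)
    have hΘ : ∀ f, Θ f - f ∈ K • (⊤ : Submodule R (Fin r → R)) := by
      intro f
      have h1 : s (y' (a f) - E f) = 0 := by
        rw [map_sub]
        have e1 : s (y' (a f)) = y (a f) := congr($hy' (a f))
        have e2 : s f = y (a f) := congr($hya f)
        rw [e1, hsEE, e2, sub_self]
      have h2 := ha (y' (a f) - E f) (by rw [h1]; exact zero_mem _)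
      have h3 : Θ f - f = E (y' (a f) - E f) := by
        simp only [Θ, map_sub, LinearMap.add_apply, LinearMap.comp_apply, LinearMap.sub_apply,
          LinearMap.id_apply, hEE]
        abel
      rw [h3]; exact h2
    have hΘs : Function.Surjective Θ := by
      rw [← LinearMap.range_eq_top, ← top_le_iff]
      apply Submodule.le_of_le_smul_of_le_jacobson_bot Module.Finite.fg_top hK
      intro f _
      have : f = Θ f + (-(Θ f - f)) := by abel
      rw [this]
      exact Submodule.add_mem_sup ⟨f, rfl⟩ (neg_mem (hΘ f))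
    have hΘi := OrzechProperty.injective_of_surjective_endomorphism Θ hΘs
    apply hΘi
    simp only [Θ, LinearMap.add_apply, LinearMap.comp_apply, LinearMap.sub_apply,
      LinearMap.id_apply, hax, hEx, map_zero, sub_self, add_zero]
  have hker : LinearMap.ker s ≤ LinearMap.ker E := by
    intro x hx
    rw [LinearMap.mem_ker] at hx ⊢
    apply hinj (E x) (hEE x)
    rw [hsEE, hx]
  have hi : ∀ x, ((LinearMap.ker s).liftQ E hker ∘ₗ
      (s.quotKerEquivOfSurjective hs).symm.toLinearMap) (s x) = E x := by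
    intro x
    have : (s.quotKerEquivOfSurjective hs).symm (s x) = Submodule.Quotient.mk x := by
      rw [LinearEquiv.symm_apply_eq]
      rfl
    simp only [LinearMap.comp_apply, LinearEquiv.coe_coe, this, Submodule.liftQ_apply]
  refine ⟨_, ?_, hi⟩
  ext m
  obtain ⟨x, rfl⟩ := hs m
  rw [LinearMap.comp_apply, hi, hsEE, LinearMap.id_apply]

/-- A finite flat module `M` with a presentation `s : R^r → M` and an idempotent `E` of `R^r`
which, modulo an ideal `K` in the Jacobson radical, is a projector with the same kernel as `s`: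
then `s` has a section with image the image of `E`. -/
theorem exists_section_of_flat (hK : K ≤ Ideal.jacobson ⊥) [Module.Finite R M]
    [Module.Flat R M] {r : ℕ} (s : (Fin r → R) →ₗ[R] M)
    (E : (Fin r → R) →ₗ[R] (Fin r → R))
    (hE : E ∘ₗ E = E)
    (ha : ∀ x, s x ∈ K • (⊤ : Submodule R M) → E x ∈ K • (⊤ : Submodule R (Fin r → R)))
    (hb : ∀ x, s (E x) - s x ∈ K • (⊤ : Submodule R M))
    (hc : ∀ m, ∃ x, m - s x ∈ K • (⊤ : Submodule R M)) :
    ∃ i : M →ₗ[R] (Fin r → R), s ∘ₗ i = LinearMap.id ∧ ∀ m, E (i m) = i m := by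
  have hEE : ∀ f, E (E f) = E f := fun f => congr($hE f)
  obtain ⟨i, hi1, hi2⟩ := exists_section_of_flat_aux K hK (s ∘ₗ E) E hE
    (by rw [LinearMap.comp_assoc, hE])
    (fun x hx => by
      have := ha (E x) hx
      rwa [hEE] at this)
    (fun m => by
      obtain ⟨x, hx⟩ := hc m
      refine ⟨x, ?_⟩
      have : m - (s ∘ₗ E) x = (m - s x) - (s (E x) - s x) := by
        simp only [LinearMap.comp_apply]; abel
      rw [this]
      exact sub_mem hx (hb x))
  have hEi : ∀ m, E (i m) = i m := by
    intro m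
    have h1 : (s ∘ₗ E) (i m) = m := congr($hi1 m)
    have h2 := hi2 (i m)
    rw [h1] at h2
    rw [h2, hEE]
  refine ⟨i, ?_, hEi⟩
  ext m
  have h1 : (s ∘ₗ E) (i m) = m := congr($hi1 m)
  rw [LinearMap.comp_apply, hEi] at h1
  rw [LinearMap.comp_apply, h1, LinearMap.id_apply]

end Crux

section Step

variable {R R₀ : Type*} [CommRing R] [CommRing R₀] (t : R →+* R₀)
  {M M₀ : Type*} [AddCommGroup M] [Module R M] [AddCommGroup M₀] [Module R₀ M₀]

theorem mem_smul_top_of_forall_mem (K : Ideal R) {r : ℕ} (x : Fin r → R) (hx : ∀ j, x j ∈ K) :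
    x ∈ K • (⊤ : Submodule R (Fin r → R)) := by
  classical
  rw [pi_eq_sum_univ x]
  exact Submodule.sum_mem _ (fun j _ => Submodule.smul_mem_smul (hx j) Submodule.mem_top)

/-- One step of lifting a presentation with section of a finite projective module along a
surjection of rings with nil kernel to a finite flat lift of the module. -/
theorem exists_lift_section (ht : Surjective t) (hnil : ∀ x, t x = 0 → IsNilpotent x)
    [Module.Finite R M] [Module.Flat R M]
    (u : M →ₛₗ[t] M₀)
    (hku : LinearMap.ker u = RingHom.ker t • (⊤ : Submodule R M))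
    {r : ℕ} (s₀ : (Fin r → R₀) →ₗ[R₀] M₀) (i₀ : M₀ →ₗ[R₀] (Fin r → R₀))
    (h₀ : s₀ ∘ₗ i₀ = LinearMap.id)
    (hs₀ : ∀ j : Fin r, ∃ m : M, u m = s₀ (fun j' => if j = j' then 1 else 0)) :
    ∃ (s : (Fin r → R) →ₗ[R] M) (i : M →ₗ[R] (Fin r → R)), s ∘ₗ i = LinearMap.id ∧
      (∀ x, u (s x) = s₀ (fun j => t (x j))) ∧ (∀ m, (fun j => t (i m j)) = i₀ (u m)) := by
  classical
  choose m hm using hs₀
  let s : (Fin r → R) →ₗ[R] M := Fintype.linearCombination R m
  have hsu : ∀ x, u (s x) = s₀ (fun j => t (x j)) := by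
    intro x
    rw [LinearMap.pi_apply_eq_sum_univ s₀, Fintype.linearCombination_apply, map_sum]
    refine Finset.sum_congr rfl (fun j _ => ?_)
    rw [LinearMap.map_smulₛₗ, hm]
  have h₀' : ∀ y, s₀ (i₀ y) = y := fun y => congr($h₀ y)
  -- the idempotent matrix
  let e₀ : Matrix (Fin r) (Fin r) R₀ := LinearMap.toMatrix' (i₀ ∘ₗ s₀)
  have he₀ : e₀ * e₀ = e₀ := by
    have h1 : (i₀ ∘ₗ s₀) ∘ₗ (i₀ ∘ₗ s₀) = i₀ ∘ₗ s₀ :=
      LinearMap.ext fun x => by
        rw [LinearMap.comp_apply, LinearMap.comp_apply, LinearMap.comp_apply, h₀']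
    rw [← LinearMap.toMatrix'_comp, h1]
  obtain ⟨e, he, hee⟩ := exists_idempotent_matrix_lift t ht hnil e₀ he₀
  let E : (Fin r → R) →ₗ[R] (Fin r → R) := Matrix.toLin' e
  have hE : E ∘ₗ E = E := by
    rw [← Matrix.toLin'_mul, he]
  have hEt : ∀ x, (fun j => t (E x j)) = i₀ (s₀ (fun j => t (x j))) := by
    intro x
    have h1 : (fun j => t (E x j)) = (e.map t).mulVec (t ∘ x) := by
      funext j
      rw [Matrix.toLin'_apply, RingHom.map_mulVec]
    rw [h1, hee, ← Matrix.toLin'_apply, Matrix.toLin'_toMatrix']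
    rfl
  have hK : RingHom.ker t ≤ Ideal.jacobson ⊥ := by
    refine le_trans ?_ (Ideal.radical_le_jacobson (I := (⊥ : Ideal R)))
    intro x hx
    exact mem_nilradical.mpr (hnil x hx)
  have ha : ∀ x, s x ∈ RingHom.ker t • (⊤ : Submodule R M) →
      E x ∈ RingHom.ker t • (⊤ : Submodule R (Fin r → R)) := by
    intro x hx
    rw [← hku, LinearMap.mem_ker, hsu] at hx
    apply mem_smul_top_of_forall_mem
    intro j
    have := congr_fun (hEt x) j
    rw [hx, map_zero] at this
    exact this
  have hb : ∀ x, s (E x) - s x ∈ RingHom.ker t • (⊤ : Submodule R M) := by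
    intro x
    rw [← hku, LinearMap.mem_ker, map_sub, hsu, hsu, hEt, h₀', sub_self]
  have hc : ∀ m, ∃ x, m - s x ∈ RingHom.ker t • (⊤ : Submodule R M) := by
    intro m
    refine ⟨fun j => surjInv ht (i₀ (u m) j), ?_⟩
    rw [← hku, LinearMap.mem_ker, map_sub, hsu]
    have h1 : (fun j => t (surjInv ht (i₀ (u m) j))) = i₀ (u m) := by
      funext j
      exact surjInv_eq ht _
    rw [h1, h₀', sub_self]
  obtain ⟨i, hi1, hi2⟩ := exists_section_of_flat (RingHom.ker t) hK s E hE ha hb hc
  refine ⟨s, i, hi1, hsu, ?_⟩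
  intro m
  have h1 : s (i m) = m := congr($hi1 m)
  have := hEt (i m)
  rw [hi2, ← hsu, h1] at this
  exact this

end Step

section Limit

universe u

variable {A : Type u} [CommRing A] (An : ℕ → Type u) [∀ n, CommRing (An n)]
  (t : ∀ n, An (n + 1) →+* An n) (π : ∀ n, A →+* An n)
  (M : ℕ → Type u) [∀ n, AddCommGroup (M n)] [∀ n, Module (An n) (M n)]
  (u : ∀ n, M (n + 1) →ₛₗ[t n] M n)

/-- Compatible presentations-with-sections of a tower of finite flat modules lifting a finite
projective module along surjections with nil kernels. -/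
theorem exists_family (ht : ∀ n, Surjective (t n))
    (hnil : ∀ n (x : An (n + 1)), t n x = 0 → IsNilpotent x)
    [Module.Projective (An 0) (M 0)] (hfin : ∀ n, Module.Finite (An n) (M n))
    (hflat : ∀ n, Module.Flat (An n) (M n))
    (hu : ∀ n, Surjective (u n) ∧
      LinearMap.ker (u n) = RingHom.ker (t n) • (⊤ : Submodule (An (n + 1)) (M (n + 1)))) :
    ∃ (r : ℕ) (s : ∀ n, (Fin r → An n) →ₗ[An n] M n) (i : ∀ n, M n →ₗ[An n] (Fin r → An n)),
      (∀ n, s n ∘ₗ i n = LinearMap.id) ∧
      (∀ n x, u n (s (n + 1) x) = s n (fun j => t n (x j))) ∧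
      (∀ n m, (fun j => t n (i (n + 1) m j)) = i n (u n m)) := by
  obtain ⟨r, s0, hs0⟩ := Module.Finite.exists_fin' (An 0) (M 0)
  obtain ⟨i0, hi0⟩ := Module.projective_lifting_property s0 LinearMap.id hs0
  let D : ℕ → Type u := fun n =>
    {p : ((Fin r → An n) →ₗ[An n] M n) × (M n →ₗ[An n] (Fin r → An n)) //
      p.1 ∘ₗ p.2 = LinearMap.id}
  have hstep : ∀ n (d : D n), ∃ d' : D (n + 1),
      (∀ x, u n (d'.1.1 x) = d.1.1 (fun j => t n (x j))) ∧
      (∀ m, (fun j => t n (d'.1.2 m j)) = d.1.2 (u n m)) := by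
    intro n d
    have := hfin (n + 1)
    have := hflat (n + 1)
    obtain ⟨s, i, h1, h2, h3⟩ := exists_lift_section (t n) (ht n) (hnil n) (u n) (hu n).2
      d.1.1 d.1.2 d.2 (fun j => (hu n).1 _)
    exact ⟨⟨(s, i), h1⟩, h2, h3⟩
  choose step hstep1 hstep2 using hstep
  let d : ∀ n, D n := fun n => Nat.rec (motive := D) ⟨(s0, i0), hi0⟩ (fun n dn => step n dn) n
  refine ⟨r, fun n => (d n).1.1, fun n => (d n).1.2, fun n => (d n).2, ?_, ?_⟩
  · intro n x
    exact hstep1 n (d n) x
  · intro n m
    exact hstep2 n (d n) m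

/-- The inverse limit of a tower of modules with compatible presentations-with-sections over a
limit of rings is finite projective. -/
theorem exists_limit (ht : ∀ n, Surjective (t n))
    (hcomp : ∀ n, (t n).comp (π (n + 1)) = π n)
    (hinj : ∀ a b : A, (∀ n, π n a = π n b) → a = b)
    (hsurj : ∀ x : ∀ n, An n, (∀ n, t n (x (n + 1)) = x n) → ∃ a : A, ∀ n, π n a = x n)
    {r : ℕ} (s : ∀ n, (Fin r → An n) →ₗ[An n] M n) (i : ∀ n, M n →ₗ[An n] (Fin r → An n))
    (hsi : ∀ n, s n ∘ₗ i n = LinearMap.id)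
    (hsu : ∀ n x, u n (s (n + 1) x) = s n (fun j => t n (x j)))
    (hiu : ∀ n m, (fun j => t n (i (n + 1) m j)) = i n (u n m)) :
    ∃ (P : Type u) (_ : AddCommGroup P) (_ : Module A P) (p : ∀ n, P →ₛₗ[π n] M n),
      Module.Finite A P ∧ Module.Projective A P ∧ (∀ n (x : P), u n (p (n + 1) x) = p n x) ∧
      (∀ n, Surjective (p n) ∧
        LinearMap.ker (p n) = RingHom.ker (π n) • (⊤ : Submodule A P)) ∧
      (∀ x : (∀ n, M n), (∀ n, u n (x (n + 1)) = x n) → ∃! q : P, ∀ n, p n q = x n) := by
  classical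
  have hπt : ∀ n a, t n (π (n + 1) a) = π n a := fun n a => congr($(hcomp n) a)
  have hsi' : ∀ n m, s n (i n m) = m := fun n m => congr($(hsi n) m)
  have hπs : ∀ n, Surjective (π n) := by
    intro n a
    obtain ⟨x, hx, hxa⟩ := exists_compatible_seq n An (fun n => t n) ht a
    obtain ⟨b, hb⟩ := hsurj x hx
    exact ⟨b, (hb n).trans hxa⟩
  -- the semilinear projections on vectors
  let Pl : ∀ n, (Fin r → A) →ₛₗ[π n] (Fin r → An n) := fun n =>
    { toFun := fun x j => π n (x j)
      map_add' := fun x y => by funext j; simp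
      map_smul' := fun a x => by funext j; simp }
  have hPl : ∀ n x j, Pl n x j = π n (x j) := fun n x j => rfl
  have hPlt : ∀ n x, (fun j => t n (Pl (n + 1) x j)) = Pl n x := by
    intro n x
    funext j
    rw [hPl, hPl, hπt]
  have hF2 : ∀ y : ∀ n, Fin r → An n, (∀ n, (fun j => t n (y (n + 1) j)) = y n) →
      ∃ x : Fin r → A, ∀ n, Pl n x = y n := by
    intro y hy
    have : ∀ j, ∃ a : A, ∀ n, π n a = y n j :=
      fun j => hsurj (fun n => y n j) (fun n => congr_fun (hy n) j)
    choose x hx using this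
    exact ⟨x, fun n => funext fun j => hx j n⟩
  have hF3 : ∀ x x' : Fin r → A, (∀ n, Pl n x = Pl n x') → x = x' := by
    intro x x' h
    funext j
    exact hinj _ _ (fun n => congr_fun (h n) j)
  -- the idempotents
  let e : ∀ n, (Fin r → An n) →ₗ[An n] (Fin r → An n) := fun n => i n ∘ₗ s n
  have he : ∀ n y, e n y = i n (s n y) := fun n y => rfl
  have het : ∀ n y, (fun j => t n (e (n + 1) y j)) = e n (fun j => t n (y j)) := by
    intro n y
    rw [he, hiu, hsu, he]
  have hE0 : ∀ x : Fin r → A, ∃ z : Fin r → A, ∀ n, Pl n z = e n (Pl n x) := by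
    intro x
    apply hF2 (fun n => e n (Pl n x))
    intro n
    rw [het, hPlt]
  choose Efun hEfun using hE0
  let E : (Fin r → A) →ₗ[A] (Fin r → A) :=
    { toFun := Efun
      map_add' := fun x y => by
        apply hF3
        intro n
        rw [map_add, hEfun, hEfun, hEfun, map_add, map_add]
      map_smul' := fun a x => by
        apply hF3
        intro n
        have h1 : Pl n (Efun (a • x)) = π n a • e n (Pl n x) := by
          rw [hEfun, LinearMap.map_smulₛₗ, LinearMap.map_smul]
        have h2 : Pl n ((RingHom.id A) a • Efun x) = π n a • e n (Pl n x) := by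
          rw [RingHom.id_apply, LinearMap.map_smulₛₗ, hEfun]
        rw [h1, h2] }
  have hE : ∀ n x, Pl n (E x) = e n (Pl n x) := fun n x => hEfun x n
  have hEE : ∀ x, E (E x) = E x := by
    intro x
    apply hF3
    intro n
    rw [hE, hE, he, he, hsi']
  let P : Submodule A (Fin r → A) := LinearMap.range E
  have hP : ∀ q : P, E q.1 = q.1 := by
    rintro ⟨_, x, rfl⟩
    exact hEE x
  let p : ∀ n, P →ₛₗ[π n] M n := fun n =>
    { toFun := fun q => s n (Pl n q.1)
      map_add' := fun q q' => by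
        rw [Submodule.coe_add, map_add, map_add]
      map_smul' := fun a q => by
        rw [Submodule.coe_smul, LinearMap.map_smulₛₗ, LinearMap.map_smul] }
  have hp : ∀ n (q : P), p n q = s n (Pl n q.1) := fun n q => rfl
  -- key identity: Pl n q = i n (p n q)
  have hkey : ∀ n (q : P), Pl n q.1 = i n (p n q) := by
    intro n q
    rw [hp, ← he, ← hE, hP]
  refine ⟨P, inferInstance, inferInstance, p, Module.Finite.range E, ?_, ?_, ?_, ?_⟩
  · refine Module.Projective.of_split P.subtype E.rangeRestrict ?_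
    ext q : 2
    exact hP q
  · intro n q
    rw [hp, hp, hsu, hPlt]
  · intro n
    constructor
    · intro m
      have : ∃ x : Fin r → A, Pl n x = i n m := by
        have : ∀ j, ∃ a : A, π n a = i n m j := fun j => hπs n _
        choose x hx using this
        exact ⟨x, funext hx⟩
      obtain ⟨x, hx⟩ := this
      refine ⟨⟨E x, x, rfl⟩, ?_⟩
      rw [hp]
      change s n (Pl n (E x)) = m
      rw [hE, hx, he, hsi', hsi']
    · apply le_antisymm
      · intro q hq
        rw [LinearMap.mem_ker] at hq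
        have h0 : ∀ j, q.1 j ∈ RingHom.ker (π n) := by
          intro j
          have := congr_fun (hkey n q) j
          rw [hq, map_zero] at this
          exact this
        have hq' : q = ∑ j, q.1 j • (⟨E (fun j' => if j = j' then 1 else 0), _, rfl⟩ : P) := by
          apply Subtype.ext
          rw [Submodule.coe_sum]
          simp only [Submodule.coe_smul]
          conv_lhs => rw [← hP q, LinearMap.pi_apply_eq_sum_univ E q.1]
        rw [hq']
        exact Submodule.sum_mem _ (fun j _ => Submodule.smul_mem_smul (h0 j) Submodule.mem_top)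
      · rw [Submodule.smul_le]
        intro a ha q _
        rw [LinearMap.mem_ker, LinearMap.map_smulₛₗ, (RingHom.mem_ker).mp ha, zero_smul]
  · intro m hm
    obtain ⟨x, hx⟩ := hF2 (fun n => i n (m n)) (fun n => by rw [hiu, hm])
    have hEx : E x = x := by
      apply hF3
      intro n
      rw [hE, hx, he, hsi']
    refine ⟨⟨x, x, hEx⟩, ?_, ?_⟩
    · intro n
      rw [hp]
      change s n (Pl n x) = m n
      rw [hx, hsi']
    · intro q' hq'
      apply Subtype.ext
      apply hF3
      intro n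
      rw [hkey, hq', hx]

end Limit

end Groth.Agent.Lib.Helper58.LimProj
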