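import Mathlib
import Groth.Agent.Lib.Helper58.EtaleLocalFinite
import Groth.Agent.S0543
import Groth.Agent.S9246

/-!
# The henselization of a Noetherian pair is Noetherian, with the same completion
-/

set_option autoImplicit false
universe u

namespace Groth.Agent.Lib.Helper58.PairHens

open TensorProduct

section FlatQuot

/-- A surjective ring map whose kernel elements are each fixed by multiplication with some
kernel element is flat. -/
theorem flat_of_surjective_of_ker {T S : Type*} [CommRing T] [CommRing S] [Algebra T S]
    (hs : Function.Surjective (algebraMap T S))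
    (h : ∀ x : T, algebraMap T S x = 0 → ∃ e : T, algebraMap T S e = 0 ∧ x * e = x) :
    Module.Flat T S := by
  apply Module.Flat.of_forall_isTrivialRelation
  intro l f x hfx
  choose t ht using fun i => hs (x i)
  have hker : algebraMap T S (∑ i, f i * t i) = 0 := by
    rw [map_sum, ← hfx]
    refine Finset.sum_congr rfl fun i _ => ?_
    rw [map_mul, ht, Algebra.smul_def]
  obtain ⟨e, he0, he⟩ := h _ hker
  refine ⟨1, fun i _ => t i * (1 - e), fun _ => 1, fun i => ?_, fun j => ?_⟩
  · rw [Fin.sum_univ_one, Algebra.smul_def, mul_one, map_mul, map_sub, map_one, he0, sub_zero,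
      mul_one, ht]
  · have : ∑ i, f i * (t i * (1 - e)) = (∑ i, f i * t i) * (1 - e) := by
      rw [Finset.sum_mul]
      refine Finset.sum_congr rfl fun i _ => ?_
      ring
    rw [this, mul_sub, mul_one, he, sub_self]

end FlatQuot

section Completion

variable {R : Type*} [CommRing R] (I : Ideal R)
variable {M N : Type*} [AddCommGroup M] [Module R M] [AddCommGroup N] [Module R N]

/-- if `f` induces bijections `M / I^n M → N / I^n N` then it induces a bijection of completions. -/
theorem adicCompletion_map_bijective (f : M →ₗ[R] N)
    (h : ∀ n : ℕ, Function.Bijective (f.reduceModIdeal (I ^ n))) :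
    Function.Bijective (AdicCompletion.map I f) := by
  constructor
  · intro x y hxy
    apply AdicCompletion.ext
    intro n
    apply (h n).1
    have := congrArg (fun z => z.val n) hxy
    simpa only [AdicCompletion.map_val_apply] using this
  · intro y
    choose g hg using fun n => (h n).2 (y.val n)
    refine ⟨⟨g, ?_⟩, ?_⟩
    · intro m n hmn
      apply (h m).1
      have h1 := LinearMap.congr_fun (AdicCompletion.transitionMap_comp_reduceModIdeal I f hmn) (g n)
      simp only [LinearMap.coe_comp, Function.comp_apply] at h1
      have h1' : (f.reduceModIdeal (I ^ m)) (AdicCompletion.transitionMap I M hmn (g n)) =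
          AdicCompletion.transitionMap I N hmn ((f.reduceModIdeal (I ^ n)) (g n)) := h1.symm
      rw [h1', hg, hg]
      exact y.2 hmn
    · apply AdicCompletion.ext
      intro n
      rw [AdicCompletion.map_val_apply]
      exact hg n

end Completion

section Main

variable {A : Type u} [CommRing A] {I : Ideal A}
variable {B : Type u} [CommRing B] [Algebra A B]

/-- the map of completions induced by a henselization is bijective. -/
theorem adicCompletion_map_bijective_of_isPairHenselization
    (hB : Hens2.IsPairHenselization A I B) :
    Function.Bijective (AdicCompletion.map I (Algebra.linearMap A B) :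
      AdicCompletion I A → AdicCompletion I B) := by
  apply adicCompletion_map_bijective
  intro n
  obtain ⟨hinj, hsurj⟩ := (quotMap_bijective_iff (I := I ^ n)).1 (quotientMap_pow_bijective hB n)
  have hmem : ∀ b : B, b ∈ (I ^ n • ⊤ : Submodule A B) ↔ b ∈ (I ^ n).map (algebraMap A B) := by
    intro b
    rw [Ideal.smul_top_eq_map]
    rfl
  constructor
  · rw [injective_iff_map_eq_zero]
    intro x hx
    obtain ⟨a, rfl⟩ := Submodule.Quotient.mk_surjective _ x
    rw [LinearMap.reduceModIdeal_apply, Submodule.Quotient.mk_eq_zero, hmem] at hx
    rw [Submodule.Quotient.mk_eq_zero]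
    have := hinj a hx
    rw [smul_eq_mul, Ideal.mul_top]
    exact this
  · intro y
    obtain ⟨b, rfl⟩ := Submodule.Quotient.mk_surjective _ y
    obtain ⟨a, ha⟩ := hsurj b
    refine ⟨Submodule.Quotient.mk a, ?_⟩
    rw [LinearMap.reduceModIdeal_apply, eq_comm, Submodule.Quotient.eq, hmem]
    exact ha

/-- the henselization of a Noetherian pair is Noetherian. -/
theorem isNoetherianRing_of_isPairHenselization [IsNoetherianRing A]
    (hB : Hens2.IsPairHenselization A I B) : IsNoetherianRing B := by
  have hN : IsNoetherianRing (AdicCompletion I A) := Groth.Agent.S0543.result A I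
  have hfg : I.FG := IsNoetherian.noetherian I
  have hcomp : IsAdicComplete (I.map (algebraMap A (AdicCompletion I A))) (AdicCompletion I A) :=
    AdicCompletion.isAdicComplete_self I hfg
  have hhens : HenselianRing (AdicCompletion I A) (I.map (algebraMap A (AdicCompletion I A))) :=
    inferInstance
  obtain ⟨φ, -⟩ := exists_algHom_of_isPairHenselization hB (AdicCompletion I A) _ hhens le_rfl
  let _ : Algebra B (AdicCompletion I A) := φ.toRingHom.toAlgebra
  have _ : IsScalarTower A B (AdicCompletion I A) :=
    IsScalarTower.of_algebraMap_eq (fun a => (φ.commutes a).symm)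
  have hφ : ∀ b : B, algebraMap B (AdicCompletion I A) b = φ b := fun b => rfl
  -- flatness
  have hflat : Module.Flat B (AdicCompletion I A) := by
    let μ : B ⊗[A] AdicCompletion I A →ₐ[B] AdicCompletion I A :=
      Algebra.TensorProduct.lift (Algebra.ofId B (AdicCompletion I A))
        (AlgHom.id A (AdicCompletion I A)) (fun _ _ => Commute.all _ _)
    have hμ : ∀ (b : B) (c : AdicCompletion I A), μ (b ⊗ₜ c) = φ b * c := fun b c => by
      simp [μ, Algebra.ofId_apply, hφ]
    let _ : Algebra (B ⊗[A] AdicCompletion I A) (AdicCompletion I A) := μ.toRingHom.toAlgebra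
    have _ : IsScalarTower B (B ⊗[A] AdicCompletion I A) (AdicCompletion I A) :=
      IsScalarTower.of_algebraMap_eq (fun b => (μ.commutes b).symm)
    have hμalg : ∀ z, algebraMap (B ⊗[A] AdicCompletion I A) (AdicCompletion I A) z = μ z :=
      fun z => rfl
    have hflat1 : Module.Flat (B ⊗[A] AdicCompletion I A) (AdicCompletion I A) := by
      apply flat_of_surjective_of_ker
      · intro c
        exact ⟨1 ⊗ₜ c, by rw [hμalg, hμ, map_one, one_mul]⟩
      · intro x hx
        rw [hμalg] at hx
        classical
        obtain ⟨A', _, _, _, hb, ψ, -, hψ⟩ := exists_nbhd_range (B := AdicCompletion I A) hB ∅ {x}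
        obtain ⟨x', hx'⟩ := hψ x (Finset.mem_singleton_self x)
        let τ : AdicCompletion I A ⊗[A] A' →ₐ[AdicCompletion I A] AdicCompletion I A :=
          Algebra.TensorProduct.lift (AlgHom.id _ _) (φ.comp ψ) (fun _ _ => Commute.all _ _)
        have hτ : ∀ (c : AdicCompletion I A) (a : A'), τ (c ⊗ₜ a) = c * φ (ψ a) := fun c a => by
          simp [τ]
        let Θ : AdicCompletion I A ⊗[A] A' →ₐ[A] B ⊗[A] AdicCompletion I A :=
          (Algebra.TensorProduct.map ψ (AlgHom.id A (AdicCompletion I A))).comp
            (Algebra.TensorProduct.comm A (AdicCompletion I A) A').toAlgHom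
        have hΘ : ∀ (c : AdicCompletion I A) (a : A'), Θ (c ⊗ₜ a) = ψ a ⊗ₜ c := fun c a => by
          simp [Θ]
        have hμΘ : (μ.restrictScalars A).comp Θ = τ.restrictScalars A := by
          apply Algebra.TensorProduct.ext'
          intro c a
          simp only [AlgHom.comp_apply, AlgHom.restrictScalars_apply, hΘ, hμ, hτ]
          ring
        have hμΘ' : ∀ z, μ (Θ z) = τ z := fun z => congrArg (fun ρ => ρ z) hμΘ
        obtain ⟨e', he', hker⟩ := exists_idem_ker_eq τ
        let z := (Algebra.TensorProduct.comm A (AdicCompletion I A) A').symm x'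
        have hz : Θ z = x := by
          change (Algebra.TensorProduct.map ψ (AlgHom.id A (AdicCompletion I A)))
            ((Algebra.TensorProduct.comm A (AdicCompletion I A) A')
              ((Algebra.TensorProduct.comm A (AdicCompletion I A) A').symm x')) = x
          rw [AlgEquiv.apply_symm_apply]
          exact hx'
        have hzker : z ∈ RingHom.ker τ := by
          change τ z = 0
          rw [← hμΘ', hz, hx]
        rw [hker] at hzker
        obtain ⟨t, ht⟩ := Ideal.mem_span_singleton'.mp hzker
        have hze : z * e' = z := by
          rw [← ht, mul_assoc, he'.eq]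
        have he'ker : τ e' = 0 := by
          have : e' ∈ RingHom.ker τ := by rw [hker]; exact Ideal.mem_span_singleton_self e'
          exact this
        refine ⟨Θ e', ?_, ?_⟩
        · rw [hμalg, hμΘ', he'ker]
        · rw [← hz, ← map_mul, hze]
    exact Module.Flat.trans B (B ⊗[A] AdicCompletion I A) (AdicCompletion I A)
  -- faithful flatness
  have hff : Module.FaithfullyFlat B (AdicCompletion I A) := by
    refine ⟨?_⟩
    intro m hm htop
    have hjac : I.map (algebraMap A B) ≤ m := by
      have h1 : I.map (algebraMap A B) ≤ Ideal.jacobson ⊥ := hB.1.jac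
      exact le_trans h1 ((Ideal.jacobson_mono bot_le).trans
        (le_of_eq Ideal.jacobson_eq_self_of_isMaximal))
    let εB : B →ₐ[A] A ⧸ I := (AdicCompletion.evalOneₐ I).comp φ
    have hεB : ∀ b, εB b = AdicCompletion.evalOneₐ I (φ b) := fun b => rfl
    have hεsurj : Function.Surjective εB := by
      intro y
      obtain ⟨a, rfl⟩ := Ideal.Quotient.mk_surjective y
      exact ⟨algebraMap A B a, by rw [εB.commutes]; rfl⟩
    have hkill : ∀ y ∈ I.map (algebraMap A B), εB y = 0 := by
      intro y hy
      have h1 := Ideal.mem_map_of_mem εB.toRingHom hy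
      rw [Ideal.map_map] at h1
      have h2 : εB.toRingHom.comp (algebraMap A B) = Ideal.Quotient.mk I := by
        ext a
        exact εB.commutes a
      rw [h2, Ideal.map_quotient_self] at h1
      exact h1
    obtain ⟨hinj, hsurj⟩ := (quotMap_bijective_iff (I := I)).1 (quotientMap_bijective_one I hB)
    have hker : ∀ b : B, εB b = 0 → b ∈ I.map (algebraMap A B) := by
      intro b hb
      obtain ⟨a, ha⟩ := hsurj b
      have h1 : εB (algebraMap A B a) = 0 := by
        have h2 := hkill _ ha
        rw [map_sub, hb, zero_sub, neg_eq_zero] at h2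
        exact h2
      rw [εB.commutes] at h1
      have haI : a ∈ I := Ideal.Quotient.eq_zero_iff_mem.1 h1
      have : b = (b - algebraMap A B a) + algebraMap A B a := by ring
      rw [this]
      exact Ideal.add_mem _ ha (Ideal.mem_map_of_mem _ haI)
    have hmem : ∀ y ∈ (m • ⊤ : Submodule B (AdicCompletion I A)),
        AdicCompletion.evalOneₐ I y ∈ m.map εB.toRingHom := by
      intro y hy
      refine Submodule.smul_induction_on hy ?_ ?_
      · intro r hr c _
        rw [Algebra.smul_def, hφ, map_mul]
        exact Ideal.mul_mem_right _ _ (Ideal.mem_map_of_mem εB.toRingHom hr)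
      · intro y z hy hz
        rw [map_add]
        exact Ideal.add_mem _ hy hz
    have h1 : (1 : A ⧸ I) ∈ m.map εB.toRingHom := by
      have := hmem 1 (by rw [htop]; trivial)
      rw [map_one] at this
      exact this
    obtain ⟨x, hxm, hx1⟩ := (Ideal.mem_map_iff_of_surjective εB.toRingHom hεsurj).1 h1
    have h2 : 1 - x ∈ I.map (algebraMap A B) := by
      apply hker
      rw [map_sub, map_one]
      have : εB x = 1 := hx1
      rw [this, sub_self]
    have h3 : (1 : B) ∈ m := by
      have := m.add_mem (hjac h2) hxm
      simpa using this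
    exact hm.ne_top ((Ideal.eq_top_iff_one m).2 h3)
  exact Groth.Agent.S9246.isNoetherianRing_of_faithfullyFlat B (AdicCompletion I A)

end Main

end Groth.Agent.Lib.Helper58.PairHens
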