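import Mathlib
import Groth.Agent.Lib.Helper58.PairHensNoeth
import Groth.Agent.Lib.Helper58.AdicFunct

/-!
# Completions of quotients of henselizations are completions of finite type algebras
-/

set_option autoImplicit false
universe u

namespace Groth.Agent.Lib.Helper58.PairHens

open Groth.Agent.Lib.Helper58.AdicFunct

/-- the completion of a quotient of a henselization by an extended ideal. -/
theorem nonempty_completion_algEquiv_quotient
    {A : Type u} [CommRing A] (I : Ideal A)
    (C' : Type u) [CommRing C'] [Algebra A C']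
    (Ch : Type u) [CommRing Ch] [Algebra C' Ch] [Algebra A Ch] [IsScalarTower A C' Ch]
    (hCh : Hens2.IsPairHenselization C' (I.map (algebraMap A C')) Ch)
    (K : Ideal C') (J : Ideal Ch) (hK : K.map (algebraMap C' Ch) = J) :
    Nonempty (AdicCompletion (I.map (algebraMap A (C' ⧸ K))) (C' ⧸ K) ≃ₐ[A]
      AdicCompletion (I.map (algebraMap A (Ch ⧸ J))) (Ch ⧸ J)) := by
  subst hK
  have hq := isPairHenselization_quotient hCh K
  have heq : (I.map (algebraMap A C')).map (Ideal.Quotient.mk K) =
      I.map (algebraMap A (C' ⧸ K)) := by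
    rw [Ideal.map_map]
    rfl
  rw [heq] at hq
  have htower : IsScalarTower A (C' ⧸ K) (Ch ⧸ K.map (algebraMap C' Ch)) :=
    IsScalarTower.of_algebraMap_eq (fun a => by
      change Ideal.Quotient.mk _ (algebraMap A Ch a) = _
      rw [IsScalarTower.algebraMap_apply A C' Ch]
      rfl)
  have hmap : (I.map (algebraMap A (C' ⧸ K))).map
      (algebraMap (C' ⧸ K) (Ch ⧸ K.map (algebraMap C' Ch))) =
      I.map (algebraMap A (Ch ⧸ K.map (algebraMap C' Ch))) := by
    rw [Ideal.map_map, ← IsScalarTower.algebraMap_eq]
  have hle : I.map (algebraMap A (C' ⧸ K)) ≤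
      (I.map (algebraMap A (Ch ⧸ K.map (algebraMap C' Ch)))).comap
        (algebraMap (C' ⧸ K) (Ch ⧸ K.map (algebraMap C' Ch))) := by
    rw [← Ideal.map_le_iff_le_comap, hmap]
  have hb : ∀ n, Function.Bijective (Ideal.quotientMap
      ((I.map (algebraMap A (Ch ⧸ K.map (algebraMap C' Ch)))) ^ n)
      (algebraMap (C' ⧸ K) (Ch ⧸ K.map (algebraMap C' Ch)))
      (pow_le_comap_pow _ _ _ hle n)) := by
    intro n
    refine quotientMap_bijective_congr _ rfl ?_ Ideal.le_comap_map _
      (quotientMap_pow_bijective hq n)
    rw [Ideal.map_pow, hmap]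
  have hbij := adicMap_bijective _ _ _ hle hb
  let Φ : AdicCompletion (I.map (algebraMap A (C' ⧸ K))) (C' ⧸ K) →ₐ[A]
      AdicCompletion (I.map (algebraMap A (Ch ⧸ K.map (algebraMap C' Ch))))
        (Ch ⧸ K.map (algebraMap C' Ch)) :=
    { adicMap _ _ _ hle with
      commutes' := fun a => by
        change adicMap _ _ _ hle (AdicCompletion.of _ _ (algebraMap A (C' ⧸ K) a)) =
          AdicCompletion.of _ _ (algebraMap A (Ch ⧸ K.map (algebraMap C' Ch)) a)
        rw [adicMap_of, ← IsScalarTower.algebraMap_apply] }
  exact ⟨AlgEquiv.ofBijective Φ hbij⟩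

/-- **Completions of quotients of henselizations of finite type algebras are completions of
finite type algebras.** -/
theorem exists_finiteType_completion (A : Type u) [CommRing A] [IsNoetherianRing A] (I : Ideal A)
    (C : Type u) [CommRing C] [Algebra A C] [Algebra.FiniteType A C]
    (Ch : Type u) [CommRing Ch] [Algebra C Ch] [Algebra A Ch] [IsScalarTower A C Ch]
    (hCh : Hens2.IsPairHenselization C (I.map (algebraMap A C)) Ch) (J : Ideal Ch) :
    ∃ (B : Type u) (_ : CommRing B) (_ : Algebra A B), Algebra.FiniteType A B ∧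
      Nonempty (AdicCompletion (I.map (algebraMap A B)) B ≃ₐ[A]
        AdicCompletion (I.map (algebraMap A (Ch ⧸ J))) (Ch ⧸ J)) := by
  classical
  have hCN : IsNoetherianRing C := Algebra.FiniteType.isNoetherianRing A C
  have hChN : IsNoetherianRing Ch := isNoetherianRing_of_isPairHenselization hCh
  obtain ⟨s, hs⟩ : J.FG := IsNoetherian.noetherian J
  obtain ⟨C', _, _, _, hb, φ, hφ⟩ := exists_nbhd_of_finset hCh s
  let _ : Algebra C' Ch := φ.toRingHom.toAlgebra
  have _ : IsScalarTower C C' Ch := IsScalarTower.of_algebraMap_eq (fun a => (φ.commutes a).symm)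
  let _ : Algebra A C' := ((algebraMap C C').comp (algebraMap A C)).toAlgebra
  have _ : IsScalarTower A C C' := IsScalarTower.of_algebraMap_eq (fun a => rfl)
  have _ : IsScalarTower A C' Ch := IsScalarTower.of_algebraMap_eq (fun a => by
    rw [IsScalarTower.algebraMap_apply A C Ch, IsScalarTower.algebraMap_apply C C' Ch]
    rfl)
  have hCh' : Hens2.IsPairHenselization C' (I.map (algebraMap A C')) Ch := by
    have := isPairHenselization_nbhd hb hCh
    rw [Ideal.map_map] at this
    exact this
  let K : Ideal C' := J.comap (algebraMap C' Ch)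
  have hK : K.map (algebraMap C' Ch) = J := by
    apply le_antisymm Ideal.map_comap_le
    rw [← hs, Ideal.span_le]
    intro x hx
    obtain ⟨x', rfl⟩ := hφ x hx
    refine Ideal.mem_map_of_mem _ ?_
    change φ x' ∈ Ideal.span (s : Set Ch)
    exact Ideal.subset_span hx
  have hft : Algebra.FiniteType A C' :=
    Algebra.FiniteType.trans (S := C) inferInstance inferInstance
  have hft' : Algebra.FiniteType A (C' ⧸ K) :=
    Algebra.FiniteType.trans (S := C') hft inferInstance
  exact ⟨C' ⧸ K, inferInstance, inferInstance, hft',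
    nonempty_completion_algEquiv_quotient I C' Ch hCh' K J hK⟩

end Groth.Agent.Lib.Helper58.PairHens
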