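import Mathlib
import Groth.Prelude.Def_Hens2
import Groth.Agent.Lib.Helper58.PairHensQuot

/-!
# Descending a finite presentation over a henselization to an étale neighbourhood
-/

set_option autoImplicit false
universe u

namespace Groth.Agent.Lib.Helper58.PairHens

section Descent

variable {A : Type u} [CommRing A] {I : Ideal A}
variable {B : Type u} [CommRing B] [Algebra A B]

/-- A finitely presented algebra `S` over a henselization `B` of `(A, I)` has a presentation
whose relations are defined over an étale neighbourhood `A'` of `(A, I)`. -/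
theorem exists_presentation_over_nbhd (hB : Hens2.IsPairHenselization A I B)
    (S : Type u) [CommRing S] [Algebra B S] [Algebra.FinitePresentation B S] :
    ∃ (A' : Type u) (_ : CommRing A') (_ : Algebra A A') (_ : Algebra.Etale A A'),
      Function.Bijective
        (Ideal.quotientMap (I.map (algebraMap A A')) (algebraMap A A') Ideal.le_comap_map) ∧
      ∃ (φ : A' →ₐ[A] B) (n : ℕ) (f : MvPolynomial (Fin n) B →ₐ[B] S)
        (rels : Finset (MvPolynomial (Fin n) A')),
        Function.Surjective f ∧
        RingHom.ker f.toRingHom =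
          Ideal.span ((fun g => MvPolynomial.map (φ : A' →+* B) g) '' (rels : Set _)) := by
  classical
  obtain ⟨n, f, hf, s, hs⟩ := Algebra.FinitePresentation.out (R := B) (A := S)
  obtain ⟨A', _, _, _, hb, φ, hφ⟩ := exists_nbhd_of_finset hB (s.biUnion MvPolynomial.coeffs)
  have hlift : ∀ g ∈ s, ∃ g₀ : MvPolynomial (Fin n) A', MvPolynomial.map (φ : A' →+* B) g₀ = g := by
    intro g hg
    have : g ∈ Set.range (MvPolynomial.map (φ : A' →+* B)) := by
      rw [MvPolynomial.mem_range_map_iff_coeffs_subset]
      intro c hc
      obtain ⟨z, hz⟩ := hφ c (Finset.mem_biUnion.mpr ⟨g, hg, hc⟩)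
      exact ⟨z, hz⟩
    exact this
  choose! lift hlift using hlift
  refine ⟨A', inferInstance, inferInstance, inferInstance, hb, φ, n, f, s.image lift, hf, ?_⟩
  rw [← hs]
  congr 1
  ext g
  simp only [Finset.coe_image, Set.mem_image, Finset.mem_coe]
  constructor
  · intro hg
    exact ⟨lift g, ⟨g, hg, rfl⟩, hlift g hg⟩
  · rintro ⟨_, ⟨g', hg', rfl⟩, rfl⟩
    rw [hlift g' hg']
    exact hg'

end Descent

end Groth.Agent.Lib.Helper58.PairHens
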