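import Mathlib

/-!
# Coordinates in a pushout of a finite projective algebra (helper58)

For a pushout square of commutative rings `A → C`, `A → B`, `C → R`, `B → R` and a "dual basis"
`(c_k, λ_k)` of `C` over `A`, the ring `R` has `B`-valued coordinate maps `Λ_k` with
`r = ∑ inl (c_k) * inr (Λ_k r)`.
-/

set_option autoImplicit false
set_option linter.style.haveILetI false

namespace Groth.Agent.Lib.Helper58.ProjBC

open CategoryTheory CategoryTheory.Limits TensorProduct

universe u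

theorem exists_coord {A C B R : CommRingCat.{u}} (α : A ⟶ C) (β : A ⟶ B) (inl : C ⟶ R)
    (inr : B ⟶ R) (h : IsPushout α β inl inr) {n : ℕ} (c : Fin n → C) (lam : Fin n → C → A)
    (hadd : ∀ k x y, lam k (x + y) = lam k x + lam k y)
    (hlin : ∀ k a x, lam k (α a * x) = a * lam k x)
    (hdual : ∀ x, x = ∑ k, α (lam k x) * c k) :
    ∃ Lam : Fin n → R →+ B,
      (∀ k x b, Lam k (inl x * inr b) = β (lam k x) * b) ∧
      (∀ r, r = ∑ k, inl (c k) * inr (Lam k r)) ∧
      (∀ (P : R → Prop), (∀ x b, P (inl x * inr b)) → (∀ r s, P r → P s → P (r + s)) →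
        ∀ r, P r) := by
  algebraize [α.hom, β.hom]
  have hT := CommRingCat.isPushout_tensorProduct A C B
  have hα : CommRingCat.ofHom (algebraMap A C) = α := rfl
  have hβ : CommRingCat.ofHom (algebraMap A B) = β := rfl
  rw [hα, hβ] at hT
  let e := hT.isoIsPushout _ _ h
  have he1 : ∀ x : C, e.hom (x ⊗ₜ[A] (1 : B)) = inl x := fun x =>
    congrArg (fun φ => φ.hom x) (hT.inl_isoIsPushout_hom _ _ h)
  have he2 : ∀ b : B, e.hom ((1 : C) ⊗ₜ[A] b) = inr b := fun b =>
    congrArg (fun φ => φ.hom b) (hT.inr_isoIsPushout_hom _ _ h)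
  have he : ∀ (x : C) (b : B), e.hom (x ⊗ₜ[A] b) = inl x * inr b := by
    intro x b
    have : (x ⊗ₜ[A] b : C ⊗[A] B) = (x ⊗ₜ[A] (1 : B)) * ((1 : C) ⊗ₜ[A] b) := by
      rw [Algebra.TensorProduct.tmul_mul_tmul, mul_one, one_mul]
    rw [this, map_mul, he1, he2]
  have hee : ∀ r : R, e.hom (e.inv r) = r := fun r =>
    congrArg (fun φ => φ.hom r) e.inv_hom_id
  have hee' : ∀ τ : C ⊗[A] B, e.inv (e.hom τ) = τ := fun τ =>
    congrArg (fun φ => φ.hom τ) e.hom_inv_id
  let lamL : Fin n → (C →ₗ[A] A) := fun k =>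
    { toFun := lam k
      map_add' := hadd k
      map_smul' := fun a x => by
        rw [Algebra.smul_def]
        exact hlin k a x }
  let mu : Fin n → (C ⊗[A] B →ₗ[A] B) := fun k =>
    TensorProduct.lift ((LinearMap.lsmul A B).comp (lamL k))
  have hmu : ∀ k (x : C) (b : B), mu k (x ⊗ₜ[A] b) = β (lam k x) * b := by
    intro k x b
    simp only [mu, TensorProduct.lift.tmul, LinearMap.comp_apply, LinearMap.lsmul_apply]
    rw [Algebra.smul_def]
    rfl
  have hw : ∀ a : A, inl (α a) = inr (β a) := fun a =>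
    congrArg (fun φ => φ.hom a) h.w
  have key : ∀ τ : C ⊗[A] B, e.hom τ = ∑ k, inl (c k) * inr (mu k τ) := by
    intro τ
    induction τ using TensorProduct.induction_on with
    | zero => simp
    | tmul x b =>
      rw [he]
      conv_lhs => rw [hdual x]
      rw [map_sum, Finset.sum_mul]
      apply Finset.sum_congr rfl
      intro k _
      rw [hmu, map_mul, map_mul, hw]
      ring
    | add x y hx hy =>
      rw [map_add, hx, hy, ← Finset.sum_add_distrib]
      apply Finset.sum_congr rfl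
      intro k _
      rw [map_add, map_add, mul_add]
  refine ⟨fun k => ((mu k).toAddMonoidHom).comp (e.inv.hom : R →+* (C ⊗[A] B)).toAddMonoidHom,
    ?_, ?_, ?_⟩
  · intro k x b
    change mu k (e.inv (inl x * inr b)) = _
    rw [← he, hee', hmu]
  · intro r
    conv_lhs => rw [← hee r]
    exact key (e.inv r)
  · intro P h1 h2 r
    rw [← hee r]
    generalize e.inv r = τ
    induction τ using TensorProduct.induction_on with
    | zero =>
      have := h1 0 0
      simpa using this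
    | tmul x b => rw [he]; exact h1 x b
    | add x y hx hy => rw [map_add]; exact h2 _ _ hx hy


theorem coord_natural {A C B R B' R' : CommRingCat.{u}} (β : A ⟶ B) (inl : C ⟶ R)
    (inr : B ⟶ R) (β' : A ⟶ B') (inl' : C ⟶ R') (inr' : B' ⟶ R') (ρ : B ⟶ B') (σ : R ⟶ R')
    (h1 : β ≫ ρ = β') (h2 : inl ≫ σ = inl') (h3 : inr ≫ σ = ρ ≫ inr')
    {n : ℕ} (lam : Fin n → C → A) (Lam : Fin n → R →+ B) (Lam' : Fin n → R' →+ B')
    (hL : ∀ k x b, Lam k (inl x * inr b) = β (lam k x) * b)
    (hL' : ∀ k x b, Lam' k (inl' x * inr' b) = β' (lam k x) * b)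
    (hind : ∀ (P : R → Prop), (∀ x b, P (inl x * inr b)) → (∀ r s, P r → P s → P (r + s)) →
      ∀ r, P r) (k : Fin n) (r : R) : ρ (Lam k r) = Lam' k (σ r) := by
  refine hind (fun r => ρ (Lam k r) = Lam' k (σ r)) ?_ ?_ r
  · intro x b
    have e2 : σ (inl x) = inl' x := congrArg (fun φ => φ.hom x) h2
    have e3 : σ (inr b) = inr' (ρ b) := congrArg (fun φ => φ.hom b) h3
    have e1 : ρ (β (lam k x)) = β' (lam k x) := congrArg (fun φ => φ.hom (lam k x)) h1
    rw [hL, map_mul, map_mul, e2, e3, hL', e1]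
  · intro r s hr hs
    simp only [map_add, hr, hs]

theorem exists_dualBasis {A C : Type u} [CommRing A] [CommRing C] (φ : A →+* C)
    (hfin : φ.Finite) (het : φ.Etale) :
    ∃ (n : ℕ) (c : Fin n → C) (lam : Fin n → C → A),
      (∀ k x y, lam k (x + y) = lam k x + lam k y) ∧
      (∀ k a x, lam k (φ a * x) = a * lam k x) ∧
      ∀ x, x = ∑ k, φ (lam k x) * c k := by
  algebraize [φ]
  have : Module.FinitePresentation A C := Module.FinitePresentation.of_finite_of_finitePresentation A C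
  have : Module.Projective A C := Module.Flat.projective_of_finitePresentation
  obtain ⟨n, π, hπ⟩ := Module.Finite.exists_fin' A C
  obtain ⟨s, hs⟩ := Module.projective_lifting_property π LinearMap.id hπ
  refine ⟨n, fun k => π (fun j => if k = j then 1 else 0), fun k x => s x k, ?_, ?_, ?_⟩
  · intro k x y
    change s (x + y) k = s x k + s y k
    rw [map_add, Pi.add_apply]
  · intro k a x
    have : φ a * x = a • x := (Algebra.smul_def a x).symm
    change s (φ a * x) k = a * s x k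
    rw [this, map_smul, Pi.smul_apply, smul_eq_mul]
  · intro x
    have h1 : π (s x) = x := LinearMap.congr_fun hs x
    conv_lhs => rw [← h1, LinearMap.pi_apply_eq_sum_univ π (s x)]
    apply Finset.sum_congr rfl
    intro k _
    rw [Algebra.smul_def]
    rfl


section Geometric

open AlgebraicGeometry TopologicalSpace Opposite

variable {X S P : Scheme.{u}} (f : X ⟶ S) (t : P ⟶ S)

/-- the affine opens of `X` inside a given open, as an index type -/
abbrev AffIn (X : Scheme.{u}) (W : X.Opens) : Type u := {O : X.Opens // IsAffineOpen O ∧ O ≤ W}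

theorem le_iSup_affIn (X : Scheme.{u}) (W : X.Opens) :
    W ≤ ⨆ O : AffIn X W, (O.1 : X.Opens) := by
  intro x hx
  obtain ⟨O, hO, hxO, hOW⟩ := exists_isAffineOpen_mem_and_subset (x := x) (U := W) hx
  rw [Opens.mem_iSup]
  exact ⟨⟨O, hO, hOW⟩, hxO⟩

/-- sections vanish if they vanish on all affine opens inside -/
theorem eq_of_forall_affIn (X : Scheme.{u}) (W : X.Opens) (a b : Γ(X, W))
    (h : ∀ O : AffIn X W, X.presheaf.map (homOfLE O.2.2).op a =
      X.presheaf.map (homOfLE O.2.2).op b) : a = b :=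
  X.sheaf.eq_of_locally_eq' (fun O : AffIn X W => O.1) W (fun O => homOfLE O.2.2)
    (le_iSup_affIn X W) a b h


/-- gluing sections along the affine opens inside `W` -/
theorem exists_glue_affIn (X : Scheme.{u}) (W : X.Opens) (sf : ∀ O : AffIn X W, Γ(X, O.1))
    (hsf : ∀ (O O' : AffIn X W) (hle : O'.1 ≤ O.1),
      X.presheaf.map (homOfLE hle).op (sf O) = sf O') :
    ∃ b : Γ(X, W), ∀ O : AffIn X W, X.presheaf.map (homOfLE O.2.2).op b = sf O := by
  have hcompat : TopCat.Presheaf.IsCompatible X.sheaf.1 (fun O : AffIn X W => O.1) sf := by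
    intro O O'
    apply eq_of_forall_affIn X (O.1 ⊓ O'.1)
    intro O''
    have hO''W : O''.1 ≤ W := O''.2.2.trans (inf_le_left.trans O.2.2)
    have e1 := hsf O ⟨O''.1, O''.2.1, hO''W⟩ (O''.2.2.trans inf_le_left)
    have e2 := hsf O' ⟨O''.1, O''.2.1, hO''W⟩ (O''.2.2.trans inf_le_right)
    change X.presheaf.map _ (X.presheaf.map _ (sf O)) = X.presheaf.map _ (X.presheaf.map _ (sf O'))
    rw [← ConcreteCategory.comp_apply, ← ConcreteCategory.comp_apply, ← Functor.map_comp,
      ← Functor.map_comp]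
    exact e1.trans e2.symm
  obtain ⟨b, hb, -⟩ := X.sheaf.existsUnique_gluing' (fun O : AffIn X W => O.1) W
    (fun O => homOfLE O.2.2) (le_iSup_affIn X W) sf hcompat
  exact ⟨b, hb⟩


set_option maxHeartbeats 1000000 in
/-- **Base change of global sections along a finite étale morphism**, without any finiteness
assumption on `f`: if `O_S → f_* O_X` is bijective then `O_P → fst_* O_{P ×_S X}` is bijective over
the preimage of every affine open of `S`. -/
theorem app_fst_bijective [IsFinite t] [Etale t]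
    (hf : ∀ U : S.Opens, Function.Bijective (f.app U)) (U : S.Opens) (hU : IsAffineOpen U) :
    Function.Bijective ((pullback.fst t f).app (t ⁻¹ᵁ U)) := by
  have H : IsPullback (pullback.fst t f) (pullback.snd t f) t f := IsPullback.of_hasPullback t f
  have hV : IsAffineOpen (t ⁻¹ᵁ U) := hU.preimage t
  have hfin : (t.appLE U (t ⁻¹ᵁ U) le_rfl).hom.Finite := by
    rw [Scheme.Hom.appLE_eq_app]; exact t.finite_app U hU
  have het : (t.appLE U (t ⁻¹ᵁ U) le_rfl).hom.Etale :=
    HasRingHomProperty.appLE (P := @Etale) (f := t) ‹Etale t› ⟨U, hU⟩ ⟨_, hV⟩ le_rfl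
  obtain ⟨n, c, lam, hadd, hlin, hdual⟩ := exists_dualBasis _ hfin het
  -- the pushout squares
  have hPO : ∀ (O : X.Opens) (_ : IsAffineOpen O) (hle : O ≤ f ⁻¹ᵁ U),
      IsPushout (t.appLE U (t ⁻¹ᵁ U) le_rfl) (f.appLE U O hle)
        ((pullback.fst t f).appLE (t ⁻¹ᵁ U)
          ((pullback.fst t f) ⁻¹ᵁ (t ⁻¹ᵁ U) ⊓ (pullback.snd t f) ⁻¹ᵁ O) inf_le_left)
        ((pullback.snd t f).appLE O
          ((pullback.fst t f) ⁻¹ᵁ (t ⁻¹ᵁ U) ⊓ (pullback.snd t f) ⁻¹ᵁ O) inf_le_right) := by
    intro O hO hle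
    have := isIso_pushoutSection_of_isAffineOpen H (US := U) (UT := O) (UX := t ⁻¹ᵁ U)
      hle le_rfl rfl hU hO hV
    exact (isIso_pushoutSection_iff H hle le_rfl rfl).mp this
  choose Lam hL1 hL2 hL3 using fun (O : AffIn X (f ⁻¹ᵁ U)) =>
    exists_coord _ _ _ _ (hPO O.1 O.2.1 O.2.2) c lam hadd hlin hdual
  -- naturality of the coordinates
  have hnat : ∀ (O O' : AffIn X (f ⁻¹ᵁ U)) (hle : O'.1 ≤ O.1) (k : Fin n)
      (r : Γ(pullback t f, (pullback.fst t f) ⁻¹ᵁ (t ⁻¹ᵁ U) ⊓ (pullback.snd t f) ⁻¹ᵁ O.1)),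
      X.presheaf.map (homOfLE hle).op (Lam O k r) =
        Lam O' k ((pullback t f).presheaf.map (homOfLE (inf_le_inf_left _
          ((pullback.snd t f).preimage_mono hle))).op r) := by
    intro O O' hle k r
    exact coord_natural (f.appLE U O.1 O.2.2) _ _ (f.appLE U O'.1 O'.2.2) _ _
      (X.presheaf.map (homOfLE hle).op)
      ((pullback t f).presheaf.map (homOfLE (inf_le_inf_left _
          ((pullback.snd t f).preimage_mono hle))).op)
      (Scheme.Hom.appLE_map _ _ _) (Scheme.Hom.appLE_map _ _ _)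
      ((Scheme.Hom.appLE_map _ _ _).trans (Scheme.Hom.map_appLE _ _ _).symm)
      lam (Lam O) (Lam O') (hL1 O) (hL1 O') (hL3 O) k r
  -- `E = fst⁻¹ V` is covered by the `E_O`
  have hcover : (pullback.fst t f) ⁻¹ᵁ (t ⁻¹ᵁ U) ≤ ⨆ O : AffIn X (f ⁻¹ᵁ U),
      ((pullback.fst t f) ⁻¹ᵁ (t ⁻¹ᵁ U) ⊓ (pullback.snd t f) ⁻¹ᵁ O.1) := by
    intro y hy
    have hy' : (pullback.snd t f) y ∈ f ⁻¹ᵁ U := by
      change (pullback.snd t f ≫ f) y ∈ U
      rw [← pullback.condition]
      exact hy
    obtain ⟨O, hO, hyO, hOW⟩ := exists_isAffineOpen_mem_and_subset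
      (x := (pullback.snd t f) y) (U := f ⁻¹ᵁ U) hy'
    rw [Opens.mem_iSup]
    exact ⟨⟨O, hO, hOW⟩, hy, hyO⟩
  constructor
  · -- injectivity
    rw [injective_iff_map_eq_zero]
    intro x hx
    have hlamx : ∀ k, lam k x = 0 := by
      intro k
      apply (hf U).1
      rw [map_zero]
      apply eq_of_forall_affIn X (f ⁻¹ᵁ U)
      intro O
      rw [map_zero]
      change (f.appLE U O.1 O.2.2) (lam k x) = 0
      have h1 := hL1 O k x 1
      rw [map_one, mul_one, mul_one] at h1
      rw [← h1]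
      have h2 : ((pullback.fst t f).appLE (t ⁻¹ᵁ U)
          ((pullback.fst t f) ⁻¹ᵁ (t ⁻¹ᵁ U) ⊓ (pullback.snd t f) ⁻¹ᵁ O.1) inf_le_left) x = 0 := by
        change (pullback t f).presheaf.map _ ((pullback.fst t f).app (t ⁻¹ᵁ U) x) = 0
        rw [hx, map_zero]
      rw [h2, map_zero]
    rw [hdual x]
    apply Finset.sum_eq_zero
    intro k _
    rw [hlamx k, map_zero, zero_mul]
  · -- surjectivity
    intro s
    -- coordinates of `s`
    have hb : ∀ k : Fin n, ∃ b : Γ(X, f ⁻¹ᵁ U), ∀ O : AffIn X (f ⁻¹ᵁ U),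
        X.presheaf.map (homOfLE O.2.2).op b =
          Lam O k ((pullback t f).presheaf.map (homOfLE inf_le_left).op s) := by
      intro k
      apply exists_glue_affIn X (f ⁻¹ᵁ U)
      intro O O' hle
      rw [hnat O O' hle k, ← ConcreteCategory.comp_apply, ← Functor.map_comp]
      rfl
    choose b hb using hb
    choose a ha using fun k => (hf U).2 (b k)
    refine ⟨∑ k, (t.appLE U (t ⁻¹ᵁ U) le_rfl) (a k) * c k, ?_⟩
    apply (pullback t f).sheaf.eq_of_locally_eq' (fun O : AffIn X (f ⁻¹ᵁ U) =>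
      ((pullback.fst t f) ⁻¹ᵁ (t ⁻¹ᵁ U) ⊓ (pullback.snd t f) ⁻¹ᵁ O.1))
      ((pullback.fst t f) ⁻¹ᵁ (t ⁻¹ᵁ U)) (fun O => homOfLE inf_le_left) hcover
    intro O
    change ((pullback.fst t f).appLE (t ⁻¹ᵁ U)
          ((pullback.fst t f) ⁻¹ᵁ (t ⁻¹ᵁ U) ⊓ (pullback.snd t f) ⁻¹ᵁ O.1) inf_le_left)
        (∑ k, (t.appLE U (t ⁻¹ᵁ U) le_rfl) (a k) * c k) =
      (pullback t f).presheaf.map (homOfLE inf_le_left).op s
    conv_rhs => rw [hL2 O ((pullback t f).presheaf.map (homOfLE inf_le_left).op s)]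
    rw [map_sum]
    apply Finset.sum_congr rfl
    intro k _
    rw [map_mul, ← hb k O, ← ha k]
    have hw := congrArg (fun φ => φ.hom (a k)) (hPO O.1 O.2.1 O.2.2).w
    simp only [CommRingCat.hom_comp, RingHom.comp_apply] at hw
    rw [hw, mul_comm]
    rfl

end Geometric

end Groth.Agent.Lib.Helper58.ProjBC
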