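import Mathlib
import Groth.Agent.Lib.Helper41.ValCritSection
import Groth.Agent.Lib.Helper41.IntegralNhd

/-! Extension of rational maps to a target satisfying the valuative criterion, at points whose
local ring is a valuation ring (helper58). -/

set_option autoImplicit false
set_option linter.style.haveILetI false
set_option linter.unusedVariables false
universe u

open CategoryTheory CategoryTheory.Limits AlgebraicGeometry TopologicalSpace

namespace Groth.Agent.Lib.Helper58.RatMap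

/-- `σ : T ⟶ Y` agrees with `f : U ⟶ Y` on the overlap of `t : T ⟶ X` and `U ⊆ X`
(universal form). -/
def Agree {X Y T : Scheme.{u}} (t : T ⟶ X) (σ : T ⟶ Y) (U : X.Opens)
    (f : (U : Scheme.{u}) ⟶ Y) : Prop :=
  ∀ (P : Scheme.{u}) (a : P ⟶ T) (b : P ⟶ (U : Scheme.{u})), a ≫ t = b ≫ U.ι → a ≫ σ = b ≫ f

theorem agree_of_restrict {X Y T : Scheme.{u}} (t : T ⟶ X) (σ : T ⟶ Y) (U : X.Opens)
    (f : (U : Scheme.{u}) ⟶ Y) (h : (t ⁻¹ᵁ U).ι ≫ σ = (t ∣_ U) ≫ f) : Agree t σ U f := by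
  intro P a b hab
  have hr : Set.range a ⊆ Set.range (t ⁻¹ᵁ U).ι := by
    rintro _ ⟨p, rfl⟩
    rw [Scheme.Opens.range_ι]
    show t (a p) ∈ U
    rw [← Scheme.Hom.comp_apply, hab, Scheme.Hom.comp_apply]
    exact (b p).2
  set a' : P ⟶ ((t ⁻¹ᵁ U : T.Opens) : Scheme.{u}) := IsOpenImmersion.lift (t ⁻¹ᵁ U).ι a hr
    with ha'
  have h1 : a' ≫ (t ⁻¹ᵁ U).ι = a := IsOpenImmersion.lift_fac _ _ _
  have h2 : a' ≫ (t ∣_ U) = b := by
    rw [← cancel_mono U.ι, Category.assoc, morphismRestrict_ι, ← Category.assoc, h1, hab]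
  rw [← h1, Category.assoc, h, ← Category.assoc, h2]

/-- Gluing local extensions of a rational map. -/
theorem glue_morphisms {X Y B : Scheme.{u}} (q : X ⟶ B) (pY : Y ⟶ B) [IsSeparated pY]
    [IsReduced X] (U : X.Opens) (hU : Dense (U : Set X)) (f : (U : Scheme.{u}) ⟶ Y)
    (hf : f ≫ pY = U.ι ≫ q)
    (T : X → Scheme.{u}) (t : ∀ s, T s ⟶ X) [∀ s, IsOpenImmersion (t s)]
    (ht : ∀ s, s ∈ Set.range (t s))
    (σ : ∀ s, T s ⟶ Y) (hσ : ∀ s, σ s ≫ pY = t s ≫ q)
    (hag' : ∀ s, Agree (t s) (σ s) U f) :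
    ∃ w : X ⟶ Y, w ≫ pY = q ∧ U.ι ≫ w = f := by
  have hag : ∀ s, pullback.fst (t s) U.ι ≫ σ s = pullback.snd (t s) U.ι ≫ f := by
    intro s
    exact hag' s _ _ _ pullback.condition
  let 𝒰 : X.OpenCover := Scheme.Cover.mkOfCovers X T t (fun x => ⟨x, ht x⟩)
  have hUd : ∀ {P : Scheme.{u}} (p : P ⟶ X) [IsOpenImmersion p],
      IsDominant (pullback.fst p U.ι) := by
    intro P p _
    refine ⟨?_⟩
    rw [DenseRange, Scheme.Pullback.range_fst, Scheme.Opens.range_ι]
    exact hU.preimage p.isOpenEmbedding.isOpenMap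
  have overlap : ∀ i j, pullback.fst (t i) (t j) ≫ σ i = pullback.snd (t i) (t j) ≫ σ j := by
    intro i j
    haveI : IsReduced (pullback (t i) (t j)) :=
      isReduced_of_isOpenImmersion (pullback.fst (t i) (t j) ≫ t i)
    haveI := hUd (pullback.fst (t i) (t j) ≫ t i)
    apply ext_of_isDominant_of_isSeparated pY ?_
      (pullback.fst (pullback.fst (t i) (t j) ≫ t i) U.ι) ?_
    · rw [Category.assoc, Category.assoc, hσ, hσ, pullback.condition_assoc]
    · set p1 := pullback.fst (pullback.fst (t i) (t j) ≫ t i) U.ι with hp1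
      set p2 := pullback.snd (pullback.fst (t i) (t j) ≫ t i) U.ι with hp2
      have hc : p1 ≫ pullback.fst (t i) (t j) ≫ t i = p2 ≫ U.ι := pullback.condition
      have hc' : p1 ≫ pullback.snd (t i) (t j) ≫ t j = p2 ≫ U.ι := by
        rw [← pullback.condition]; exact hc
      have e1 : p1 ≫ pullback.fst (t i) (t j) ≫ σ i = p2 ≫ f := by
        rw [← Category.assoc]
        exact hag' i _ _ _ (by rw [Category.assoc]; exact hc)
      have e2 : p1 ≫ pullback.snd (t i) (t j) ≫ σ j = p2 ≫ f := by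
        rw [← Category.assoc]
        exact hag' j _ _ _ (by rw [Category.assoc]; exact hc')
      rw [e1, e2]
  refine ⟨𝒰.glueMorphisms σ overlap, ?_, ?_⟩
  · apply 𝒰.hom_ext
    intro i
    rw [Scheme.Cover.ι_glueMorphisms_assoc]
    exact hσ i
  · apply (𝒰.pullback₁ U.ι).hom_ext
    intro i
    show pullback.fst U.ι (t i) ≫ U.ι ≫ _ = pullback.fst U.ι (t i) ≫ f
    rw [pullback.condition_assoc]
    have h1 : t i ≫ 𝒰.glueMorphisms σ overlap = σ i := 𝒰.ι_glueMorphisms σ overlap i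
    rw [h1]
    exact hag' i _ _ _ pullback.condition.symm

/-- Local extension of a rational map at a point whose local ring is a valuation ring. -/
theorem exists_local_extension {X Y B : Scheme.{u}} (pX : X ⟶ B) (pY : Y ⟶ B)
    [IsSeparated pY] [LocallyOfFiniteType pY] (hex : ValuativeCriterion.Existence pY)
    (U : X.Opens) (hU : Dense (U : Set X)) (f : (U : Scheme.{u}) ⟶ Y)
    (hf : f ≫ pY = U.ι ≫ pX) (x : X) [X.IsGermInjectiveAt x]
    [IsDomain (X.presheaf.stalk x)] [ValuationRing (X.presheaf.stalk x)] :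
    ∃ (T : Scheme.{u}) (t : T ⟶ X) (_ : IsOpenImmersion t) (σ : T ⟶ Y),
      x ∈ Set.range t ∧ σ ≫ pY = t ≫ pX ∧ Agree t σ U f := by
  let A : Type u := X.presheaf.stalk x
  let K : Type u := FractionRing A
  set ιK : Spec (.of K) ⟶ Spec (X.presheaf.stalk x) :=
    Spec.map (CommRingCat.ofHom (algebraMap A K)) with hιK
  set ξ : X := X.fromSpecStalk x ⟨⊥, Ideal.isPrime_bot⟩ with hξ
  have hιKpt : ∀ p : Spec (.of K), ιK p = ⟨⊥, Ideal.isPrime_bot⟩ := by
    intro p
    apply PrimeSpectrum.ext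
    change Ideal.comap (algebraMap A K) p.asIdeal = ⊥
    have hp : p.asIdeal = ⊥ := by
      rcases Ideal.eq_bot_or_top p.asIdeal with h | h
      · exact h
      · exact absurd h p.2.ne_top
    rw [hp, ← RingHom.ker_eq_comap_bot]
    exact (RingHom.injective_iff_ker_eq_bot _).1 (IsFractionRing.injective A K)
  have hpt : ∀ p : Spec (.of K), (ιK ≫ X.fromSpecStalk x) p = ξ := by
    intro p
    rw [Scheme.Hom.comp_apply, hιKpt]
  have hξU : ξ ∈ U := Groth.Agent.Lib.Helper41.fromSpecStalk_bot_mem_of_dense x U hU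
  have hrange : Set.range (ιK ≫ X.fromSpecStalk x) ⊆ Set.range U.ι := by
    rintro _ ⟨p, rfl⟩
    rw [hpt, Scheme.Opens.range_ι]
    exact hξU
  set jK : Spec (.of K) ⟶ (U : Scheme.{u}) :=
    IsOpenImmersion.lift U.ι (ιK ≫ X.fromSpecStalk x) hrange with hjK
  have hjKι : jK ≫ U.ι = ιK ≫ X.fromSpecStalk x := IsOpenImmersion.lift_fac _ _ _
  have hsq : CommSq (jK ≫ f) (Spec.map (CommRingCat.ofHom (algebraMap A K))) pY
      (X.fromSpecStalk x ≫ pX) := by
    refine ⟨?_⟩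
    rw [Category.assoc, hf, ← Category.assoc, hjKι, Category.assoc]
    rfl
  obtain ⟨φ, hφ1, hφ2⟩ := (hex { R := A, K := K, commSq := hsq, .. }).exists_lift
  dsimp only at hφ1 hφ2
  have hφ1' : ιK ≫ φ = jK ≫ f := hφ1
  obtain ⟨W, hxW, g, hφg, hg⟩ := spread_out_of_isGermInjective' pX pY φ hφ2
  obtain ⟨W₀, hxW₀, hW₀aff, hW₀int, -, -⟩ :=
    Groth.Agent.Lib.Helper41.exists_isIntegral_nhd_of_isDomain_stalk x
  haveI : IsIntegral (W₀ : Scheme.{u}) := hW₀int
  set W₁ : X.Opens := W ⊓ W₀ with hW₁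
  have hxW₁ : x ∈ W₁ := ⟨hxW, hxW₀⟩
  haveI : Nonempty (W₁ : Scheme.{u}) := ⟨⟨x, hxW₁⟩⟩
  haveI : IsIntegral (W₁ : Scheme.{u}) :=
    isIntegral_of_isOpenImmersion (X.homOfLE (inf_le_right : W₁ ≤ W₀))
  have hξx : ξ ⤳ x := by
    have h1 : (⟨⊥, Ideal.isPrime_bot⟩ : PrimeSpectrum A) ⤳ IsLocalRing.closedPoint A :=
      IsLocalRing.specializes_closedPoint _
    have h2 := h1.map (X.fromSpecStalk x).continuous
    rwa [Scheme.fromSpecStalk_closedPoint] at h2
  have hξW₁ : ξ ∈ W₁ := hξx.mem_open W₁.isOpen hxW₁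
  refine ⟨(W₁ : Scheme.{u}), W₁.ι, inferInstance, X.homOfLE (inf_le_left : W₁ ≤ W) ≫ g,
    ⟨⟨x, hxW₁⟩, rfl⟩, ?_, ?_⟩
  · rw [Category.assoc, hg, ← Category.assoc, Scheme.homOfLE_ι]
  · apply agree_of_restrict
    set D : (W₁ : Scheme.{u}).Opens := W₁.ι ⁻¹ᵁ U with hD
    -- the generic point of `D`
    have hr2 : Set.range (ιK ≫ X.fromSpecStalk x) ⊆ Set.range (D.ι ≫ W₁.ι) := by
      rintro _ ⟨p, rfl⟩
      rw [hpt]
      exact ⟨(⟨(⟨ξ, hξW₁⟩ : (W₁ : Scheme.{u})), hξU⟩ : (D : Scheme.{u})), rfl⟩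
    set ι : Spec (.of K) ⟶ (D : Scheme.{u}) :=
      IsOpenImmersion.lift (D.ι ≫ W₁.ι) (ιK ≫ X.fromSpecStalk x) hr2 with hι
    have hιfac : ι ≫ D.ι ≫ W₁.ι = ιK ≫ X.fromSpecStalk x := IsOpenImmersion.lift_fac _ _ _
    haveI : IsDominant ι := by
      refine ⟨?_⟩
      intro d
      have hd : ξ ⤳ (D.ι ≫ W₁.ι) d :=
        Groth.Agent.Lib.Helper41.fromSpecStalk_bot_specializes_of_isIntegral x W₁ hxW₁ _
          (D.ι d).2
      obtain ⟨p⟩ : Nonempty (Spec (.of K)) := inferInstance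
      have hp : (D.ι ≫ W₁.ι) (ι p) = ξ := by
        rw [← Scheme.Hom.comp_apply, hιfac, hpt]
      rw [← hp] at hd
      have hd' : ι p ⤳ d := ((D.ι ≫ W₁.ι).isOpenEmbedding.isInducing.specializes_iff).mp hd
      have hsub : ({ι p} : Set (D : Scheme.{u})) ⊆ Set.range ι := by
        rintro _ rfl; exact ⟨p, rfl⟩
      exact closure_mono hsub hd'.mem_closure
    haveI : IsReduced (D : Scheme.{u}) := inferInstance
    apply ext_of_isDominant_of_isSeparated pY ?_ ι ?_
    · rw [Category.assoc, Category.assoc, hg, Category.assoc, hf, Scheme.homOfLE_ι_assoc,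
        morphismRestrict_ι_assoc]
    · have e1 : ι ≫ D.ι ≫ X.homOfLE (inf_le_left : W₁ ≤ W) = ιK ≫ W.fromSpecStalkOfMem x hxW := by
        rw [← cancel_mono W.ι, Category.assoc, Category.assoc, Category.assoc,
          Scheme.homOfLE_ι, hιfac, Scheme.Opens.fromSpecStalkOfMem_ι]
      have e2 : ι ≫ (W₁.ι ∣_ U) = jK := by
        rw [← cancel_mono U.ι, Category.assoc, morphismRestrict_ι, hιfac, hjKι]
      rw [← Category.assoc, ← Category.assoc, ← Category.assoc, Category.assoc ι, e1,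
        Category.assoc, ← hφg, hφ1', e2]

/-- A rational map from a reduced germ-injective scheme to a separated, locally finite type
target satisfying the existence part of the valuative criterion extends to an open containing all
points whose local ring is a valuation ring. -/
theorem exists_extension {X Y B : Scheme.{u}} (pX : X ⟶ B) (pY : Y ⟶ B)
    [IsSeparated pY] [LocallyOfFiniteType pY] (hex : ValuativeCriterion.Existence pY)
    [IsReduced X] [X.IsGermInjective]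
    (U : X.Opens) (hU : Dense (U : Set X)) (f : (U : Scheme.{u}) ⟶ Y)
    (hf : f ≫ pY = U.ι ≫ pX) :
    ∃ (V : X.Opens) (hUV : U ≤ V) (g : (V : Scheme.{u}) ⟶ Y),
      g ≫ pY = V.ι ≫ pX ∧ X.homOfLE hUV ≫ g = f ∧
      ∀ x : X, ∀ [IsDomain (X.presheaf.stalk x)], ValuationRing (X.presheaf.stalk x) → x ∈ V := by
  -- the set of good points
  let G : Set X := {x | ∃ (T : Scheme.{u}) (t : T ⟶ X) (_ : IsOpenImmersion t) (σ : T ⟶ Y),
      x ∈ Set.range t ∧ σ ≫ pY = t ≫ pX ∧ Agree t σ U f}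
  have hGopen : IsOpen G := by
    rw [isOpen_iff_forall_mem_open]
    rintro x ⟨T, t, ht, σ, hx, h1, h2⟩
    refine ⟨Set.range t, ?_, t.isOpenEmbedding.isOpen_range, hx⟩
    intro y hy
    exact ⟨T, t, ht, σ, hy, h1, h2⟩
  let V : X.Opens := ⟨G, hGopen⟩
  have hUV : U ≤ V := by
    intro x hx
    refine ⟨(U : Scheme.{u}), U.ι, inferInstance, f, ?_, hf, ?_⟩
    · rw [Scheme.Opens.range_ι]; exact hx
    · intro P a b hab
      rw [(cancel_mono U.ι).mp hab]
  have hmemV : ∀ s : (V : Scheme.{u}), ∃ (T : Scheme.{u}) (t : T ⟶ X) (_ : IsOpenImmersion t)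
      (σ : T ⟶ Y), s.1 ∈ Set.range t ∧ σ ≫ pY = t ≫ pX ∧ Agree t σ U f := fun s => s.2
  choose T t htoi σ hst hσ hag using hmemV
  have hrV : ∀ s, Set.range (t s) ⊆ Set.range V.ι := by
    intro s
    rintro _ ⟨y, rfl⟩
    rw [Scheme.Opens.range_ι]
    exact ⟨T s, t s, htoi s, σ s, ⟨y, rfl⟩, hσ s, hag s⟩
  let t' : ∀ s, T s ⟶ (V : Scheme.{u}) := fun s => IsOpenImmersion.lift V.ι (t s) (hrV s)
  have ht'ι : ∀ s, t' s ≫ V.ι = t s := fun s => IsOpenImmersion.lift_fac _ _ _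
  haveI : ∀ s, IsOpenImmersion (t' s) := by
    intro s
    haveI : IsOpenImmersion (t' s ≫ V.ι) := by rw [ht'ι]; exact htoi s
    exact IsOpenImmersion.of_comp (t' s) V.ι
  haveI : IsReduced (V : Scheme.{u}) := inferInstance
  set U' : (V : Scheme.{u}).Opens := V.ι ⁻¹ᵁ U with hU'
  have hU'd : Dense (U' : Set (V : Scheme.{u})) := hU.preimage V.ι.isOpenEmbedding.isOpenMap
  have hf' : ((V.ι ∣_ U) ≫ f) ≫ pY = U'.ι ≫ V.ι ≫ pX := by
    rw [Category.assoc, hf, morphismRestrict_ι_assoc]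
  obtain ⟨w, hw1, hw2⟩ := glue_morphisms (V.ι ≫ pX) pY U' hU'd ((V.ι ∣_ U) ≫ f) hf' T t'
    (fun s => by
      obtain ⟨y, hy⟩ := hst s
      refine ⟨y, ?_⟩
      apply V.ι.isOpenEmbedding.injective
      rw [← Scheme.Hom.comp_apply, ht'ι, hy]
      rfl)
    σ (fun s => by rw [← Category.assoc, ht'ι]; exact hσ s)
    (fun s => by
      intro P a b hab
      rw [← Category.assoc]
      apply hag s
      rw [← ht'ι, ← Category.assoc, hab, Category.assoc, Category.assoc, morphismRestrict_ι])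
  refine ⟨V, hUV, w, hw1, ?_, ?_⟩
  · -- restriction to `U`
    have hr : Set.range (X.homOfLE hUV) ⊆ Set.range U'.ι := by
      rintro _ ⟨y, rfl⟩
      rw [Scheme.Opens.range_ι]
      show V.ι (X.homOfLE hUV y) ∈ U
      rw [← Scheme.Hom.comp_apply, Scheme.homOfLE_ι]
      exact y.2
    set k : (U : Scheme.{u}) ⟶ (U' : Scheme.{u}) :=
      IsOpenImmersion.lift U'.ι (X.homOfLE hUV) hr with hk
    have hkι : k ≫ U'.ι = X.homOfLE hUV := IsOpenImmersion.lift_fac _ _ _
    have hk2 : k ≫ (V.ι ∣_ U) = 𝟙 _ := by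
      rw [← cancel_mono U.ι, Category.assoc, morphismRestrict_ι, ← Category.assoc, hkι,
        Scheme.homOfLE_ι, Category.id_comp]
    rw [← hkι, Category.assoc, hw2, ← Category.assoc, hk2, Category.id_comp]
  · intro x hdom hval
    exact exists_local_extension pX pY hex U hU f hf x

end Groth.Agent.Lib.Helper58.RatMap
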