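import Mathlib
import Groth.Prelude.Def_Pi1
import Groth.Agent.Lib.Helper41.BirGraph
import Groth.Agent.Lib.Helper41.ValCritSection

/-! Extension of rational sections of separated unramified "formally proper" morphisms over
normal locally Noetherian schemes (helper58). -/

set_option autoImplicit false
set_option linter.style.haveILetI false
set_option linter.unusedVariables false
universe u

open CategoryTheory CategoryTheory.Limits AlgebraicGeometry TopologicalSpace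

namespace Groth.Agent.Lib.Helper58.RatSection

/-- formally unramified + locally of finite type ⟹ locally quasi-finite -/
theorem locallyQuasiFinite_of_unramified {X Y : Scheme.{u}} (f : X ⟶ Y)
    [FormallyUnramified f] [LocallyOfFiniteType f] : LocallyQuasiFinite f := by
  rw [HasRingHomProperty.iff_appLE (P := @LocallyQuasiFinite)]
  intro U V e
  have h1 : (f.appLE U.1 V.1 e).hom.FormallyUnramified :=
    HasRingHomProperty.appLE (P := @FormallyUnramified) f inferInstance U V e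
  have h2 : (f.appLE U.1 V.1 e).hom.FiniteType :=
    HasRingHomProperty.appLE (P := @LocallyOfFiniteType) f inferInstance U V e
  algebraize [(f.appLE U.1 V.1 e).hom]
  show Algebra.QuasiFinite _ _
  infer_instance

/-- Gluing local extensions of a rational section. -/
theorem glue_sections {Z S : Scheme.{u}} (f : Z ⟶ S) [IsSeparated f] [IsReduced S]
    (U : S.Opens) (hU : Dense (U : Set S)) (v : (U : Scheme.{u}) ⟶ Z) (hv : v ≫ f = U.ι)
    (T : S → Scheme.{u}) (t : ∀ s, T s ⟶ S) [∀ s, IsOpenImmersion (t s)]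
    (ht : ∀ s, s ∈ Set.range (t s))
    (σ : ∀ s, T s ⟶ Z) (hσ : ∀ s, σ s ≫ f = t s)
    (hag' : ∀ s, (t s ⁻¹ᵁ U).ι ≫ σ s = (t s ∣_ U) ≫ v) :
    ∃ w : S ⟶ Z, w ≫ f = 𝟙 S ∧ U.ι ≫ w = v := by
  have hag : ∀ s, pullback.fst (t s) U.ι ≫ σ s = pullback.snd (t s) U.ι ≫ v := by
    intro s
    rw [← pullbackRestrictIsoRestrict_hom_ι, Category.assoc, hag',
      ← pullbackRestrictIsoRestrict_hom_morphismRestrict, Category.assoc]
  let 𝒰 : S.OpenCover := Scheme.Cover.mkOfCovers S T t (fun x => ⟨x, ht x⟩)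
  have hUd : ∀ {P : Scheme.{u}} (p : P ⟶ S) [IsOpenImmersion p],
      IsDominant (pullback.fst p U.ι) := by
    intro P p _
    refine ⟨?_⟩
    rw [DenseRange, Scheme.Pullback.range_fst, Scheme.Opens.range_ι]
    exact hU.preimage p.isOpenEmbedding.isOpenMap
  have overlap : ∀ i j, pullback.fst (t i) (t j) ≫ σ i = pullback.snd (t i) (t j) ≫ σ j := by
    intro i j
    haveI : IsReduced (pullback (t i) (t j)) :=
      isReduced_of_isOpenImmersion (pullback.fst (t i) (t j) ≫ t i)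
    haveI := hUd (pullback.fst (t i) (t j) ≫ t i)
    apply ext_of_isDominant_of_isSeparated f ?_
      (pullback.fst (pullback.fst (t i) (t j) ≫ t i) U.ι) ?_
    · rw [Category.assoc, Category.assoc, hσ, hσ, pullback.condition]
    · set p1 := pullback.fst (pullback.fst (t i) (t j) ≫ t i) U.ι with hp1
      set p2 := pullback.snd (pullback.fst (t i) (t j) ≫ t i) U.ι with hp2
      have hc : p1 ≫ pullback.fst (t i) (t j) ≫ t i = p2 ≫ U.ι := pullback.condition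
      have hc' : p1 ≫ pullback.snd (t i) (t j) ≫ t j = p2 ≫ U.ι := by
        rw [← pullback.condition]; exact hc
      let ℓi : pullback (pullback.fst (t i) (t j) ≫ t i) U.ι ⟶ pullback (t i) U.ι :=
        pullback.lift (p1 ≫ pullback.fst (t i) (t j)) p2 (by rw [Category.assoc]; exact hc)
      let ℓj : pullback (pullback.fst (t i) (t j) ≫ t i) U.ι ⟶ pullback (t j) U.ι :=
        pullback.lift (p1 ≫ pullback.snd (t i) (t j)) p2 (by rw [Category.assoc]; exact hc')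
      have e1 : p1 ≫ pullback.fst (t i) (t j) ≫ σ i = p2 ≫ v := by
        have := congrArg (ℓi ≫ ·) (hag i)
        simpa [ℓi, pullback.lift_fst_assoc, pullback.lift_snd_assoc] using this
      have e2 : p1 ≫ pullback.snd (t i) (t j) ≫ σ j = p2 ≫ v := by
        have := congrArg (ℓj ≫ ·) (hag j)
        simpa [ℓj, pullback.lift_fst_assoc, pullback.lift_snd_assoc] using this
      rw [e1, e2]
  refine ⟨𝒰.glueMorphisms σ overlap, ?_, ?_⟩
  · apply 𝒰.hom_ext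
    intro i
    rw [Scheme.Cover.ι_glueMorphisms_assoc, Category.comp_id]
    exact hσ i
  · apply (𝒰.pullback₁ U.ι).hom_ext
    intro i
    show pullback.fst U.ι (t i) ≫ U.ι ≫ _ = pullback.fst U.ι (t i) ≫ v
    rw [pullback.condition_assoc]
    have h1 : t i ≫ 𝒰.glueMorphisms σ overlap = σ i := 𝒰.ι_glueMorphisms σ overlap i
    rw [h1]
    let ℓ : pullback U.ι (t i) ⟶ pullback (t i) U.ι :=
      pullback.lift (pullback.snd U.ι (t i)) (pullback.fst U.ι (t i)) pullback.condition.symm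
    have := congrArg (ℓ ≫ ·) (hag i)
    simpa [ℓ, pullback.lift_fst_assoc, pullback.lift_snd_assoc] using this

/-- Local extension of a rational section at a point of a normal locally Noetherian scheme. -/
theorem exists_local_section {Z S : Scheme.{u}} (f : Z ⟶ S) [IsLocallyNoetherian S]
    (hS : Pi1.IsNormalScheme S) [IsSeparated f] [FormallyUnramified f] [LocallyOfFiniteType f]
    (hfp : ValuativeCriterion.Existence f) (U : S.Opens) (hU : Dense (U : Set S))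
    (v : (U : Scheme.{u}) ⟶ Z) (hv : v ≫ f = U.ι) (s : S) :
    ∃ (T : Scheme.{u}) (t : T ⟶ S) (_ : IsOpenImmersion t) (σ : T ⟶ Z),
      s ∈ Set.range t ∧ σ ≫ f = t ∧ (t ⁻¹ᵁ U).ι ≫ σ = (t ∣_ U) ≫ v := by
  haveI : IsDomain (S.presheaf.stalk s) := (hS s).1
  obtain ⟨W₀, hsW, hW₀aff, hW₀int, -, -⟩ :=
    Groth.Agent.Lib.Helper41.exists_isIntegral_nhd_of_isDomain_stalk s
  haveI : IsIntegral (W₀ : Scheme.{u}) := hW₀int
  -- the open `U₁ = W₀ ∩ U` of `W₀`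
  set U₁ : (W₀ : Scheme.{u}).Opens := W₀.ι ⁻¹ᵁ U with hU₁
  obtain ⟨w, hwW, hwU⟩ := hU.inter_open_nonempty W₀ W₀.isOpen ⟨s, hsW⟩
  haveI : Nonempty U₁ := ⟨⟨⟨w, hwW⟩, hwU⟩⟩
  haveI : IsIntegral (U₁ : Scheme.{u}) := inferInstance
  set q₀ : (f ⁻¹ᵁ W₀ : Scheme.{u}) ⟶ (W₀ : Scheme.{u}) := f ∣_ W₀ with hq₀
  have hrange : Set.range ((W₀.ι ∣_ U) ≫ v) ⊆ Set.range (f ⁻¹ᵁ W₀).ι := by
    rintro _ ⟨x, rfl⟩
    rw [Scheme.Opens.range_ι]
    show f (((W₀.ι ∣_ U) ≫ v) x) ∈ W₀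
    rw [← Scheme.Hom.comp_apply, Category.assoc, hv, morphismRestrict_ι, Scheme.Hom.comp_apply]
    exact (U₁.ι x).2
  set g₁ : (U₁ : Scheme.{u}) ⟶ (f ⁻¹ᵁ W₀ : Scheme.{u}) :=
    IsOpenImmersion.lift (f ⁻¹ᵁ W₀).ι ((W₀.ι ∣_ U) ≫ v) hrange with hg₁
  have hg₁ι : g₁ ≫ (f ⁻¹ᵁ W₀).ι = (W₀.ι ∣_ U) ≫ v := IsOpenImmersion.lift_fac _ _ _
  have hg : g₁ ≫ q₀ = U₁.ι := by
    rw [← cancel_mono W₀.ι, Category.assoc, hq₀, morphismRestrict_ι, ← Category.assoc, hg₁ι,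
      Category.assoc, hv, morphismRestrict_ι]
  -- quasi-compactness of `g₁`
  haveI : IsAffine (W₀ : Scheme.{u}) := hW₀aff
  haveI : IsNoetherian (W₀ : Scheme.{u}) := {}
  haveI : NoetherianSpace (U₁ : Scheme.{u}) :=
    U₁.ι.isOpenEmbedding.isInducing.noetherianSpace
  haveI : QuasiCompact g₁ := inferInstance
  -- the generic point and its specialization over `s`
  set η₁ : (U₁ : Scheme.{u}) := genericPoint (U₁ : Scheme.{u}) with hη₁
  have hηW : U₁.ι η₁ = genericPoint (W₀ : Scheme.{u}) := genericPoint_eq_of_isOpenImmersion U₁.ι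
  set s' : (W₀ : Scheme.{u}) := ⟨s, hsW⟩ with hs'
  have hsp : U₁.ι η₁ ⤳ s' := by rw [hηW]; exact genericPoint_specializes s'
  have hfz : f ((f ⁻¹ᵁ W₀).ι (g₁ η₁)) = W₀.ι (U₁.ι η₁) := by
    rw [← Scheme.Hom.comp_apply, ← Scheme.Hom.comp_apply, ← Scheme.Hom.comp_apply,
      ← morphismRestrict_ι, ← Category.assoc, ← hq₀, hg]
  have hsp' : f ((f ⁻¹ᵁ W₀).ι (g₁ η₁)) ⤳ s := by
    rw [hfz]
    exact hsp.map W₀.ι.continuous
  obtain ⟨z₀', hz₀sp, hz₀f⟩ := ValuativeCriterion.Existence.specializingMap f hfp hsp'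
  have hz₀mem : z₀' ∈ f ⁻¹ᵁ W₀ := by
    show f z₀' ∈ W₀
    rw [hz₀f]; exact hsW
  set z₀ : (f ⁻¹ᵁ W₀ : Scheme.{u}) := ⟨z₀', hz₀mem⟩ with hz₀
  have hz₀sp' : g₁ η₁ ⤳ z₀ :=
    ((f ⁻¹ᵁ W₀).ι.isOpenEmbedding.isInducing.specializes_iff).mp hz₀sp
  have hq₀z₀ : q₀ z₀ = s' := by
    apply W₀.ι.isOpenEmbedding.injective
    rw [← Scheme.Hom.comp_apply, hq₀, morphismRestrict_ι, Scheme.Hom.comp_apply]
    exact hz₀f
  have hz : z₀ ∈ closure (Set.range g₁) := by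
    have hsub : ({g₁ η₁} : Set (f ⁻¹ᵁ W₀ : Scheme.{u})) ⊆ Set.range g₁ := by
      rintro _ rfl; exact ⟨η₁, rfl⟩
    exact closure_mono hsub hz₀sp'.mem_closure
  -- normality of the stalk
  have hx : IsIntegrallyClosed ((W₀ : Scheme.{u}).presheaf.stalk (q₀ z₀)) := by
    rw [hq₀z₀]
    haveI : IsIntegrallyClosed (S.presheaf.stalk (W₀.ι s')) := (hS s).2
    exact IsIntegrallyClosed.of_equiv (asIso (W₀.ι.stalkMap s')).commRingCatIsoToRingEquiv
  -- isolation in the fibre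
  haveI : LocallyQuasiFinite f := locallyQuasiFinite_of_unramified f
  haveI : LocallyQuasiFinite q₀ := inferInstance
  obtain ⟨W', hW'o, hW'⟩ := isOpen_inter_eq_singleton_of_mem_discrete
    (q₀.isDiscrete_preimage_singleton (q₀ z₀)) (x := z₀) rfl
  have hWiso : ((⟨W', hW'o⟩ : (f ⁻¹ᵁ W₀ : Scheme.{u}).Opens) : Set (f ⁻¹ᵁ W₀ : Scheme.{u})) ∩
      closure (Set.range g₁) ∩ q₀ ⁻¹' {q₀ z₀} = {z₀} := by
    apply Set.Subset.antisymm
    · rintro y ⟨⟨hy1, -⟩, hy3⟩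
      rw [← hW']; exact ⟨hy1, hy3⟩
    · rintro y (rfl : y = z₀)
      have : z₀ ∈ W' ∩ q₀ ⁻¹' {q₀ z₀} := by rw [hW']; rfl
      exact ⟨⟨this.1, hz⟩, rfl⟩
  obtain ⟨V₀, σ, hV₀, hσ, hσag⟩ := Groth.Agent.Lib.Helper41.exists_section_of_isolated q₀ U₁.ι g₁ hg
    z₀ hx hz ⟨W', hW'o⟩ hWiso
  rw [hq₀z₀] at hV₀
  set t : (V₀ : Scheme.{u}) ⟶ S := V₀.ι ≫ W₀.ι with ht
  refine ⟨(V₀ : Scheme.{u}), t, inferInstance, σ ≫ (f ⁻¹ᵁ W₀).ι, ⟨⟨s', hV₀⟩, rfl⟩, ?_, ?_⟩
  · rw [Category.assoc, ← morphismRestrict_ι, ← hq₀, ← Category.assoc, hσ]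
  · -- agreement on the overlap, via a surjective comparison map
    haveI : IsReduced (V₀ : Scheme.{u}) := inferInstance
    haveI : IsReduced ((t ⁻¹ᵁ U : (V₀ : Scheme.{u}).Opens) : Scheme.{u}) := inferInstance
    have hκr : Set.range (U₁.ι ∣_ V₀) ⊆ Set.range (t ⁻¹ᵁ U).ι := by
      rintro _ ⟨y, rfl⟩
      rw [Scheme.Opens.range_ι]
      show t ((U₁.ι ∣_ V₀) y) ∈ U
      rw [ht, ← Scheme.Hom.comp_apply, ← Category.assoc, morphismRestrict_ι, Category.assoc,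
        Scheme.Hom.comp_apply]
      exact ((U₁.ι ⁻¹ᵁ V₀).ι y).2
    set κ : ((U₁.ι ⁻¹ᵁ V₀ : (U₁ : Scheme.{u}).Opens) : Scheme.{u}) ⟶
        ((t ⁻¹ᵁ U : (V₀ : Scheme.{u}).Opens) : Scheme.{u}) :=
      IsOpenImmersion.lift (t ⁻¹ᵁ U).ι (U₁.ι ∣_ V₀) hκr with hκ
    have hκι : κ ≫ (t ⁻¹ᵁ U).ι = U₁.ι ∣_ V₀ := IsOpenImmersion.lift_fac _ _ _
    have hκsurj : Function.Surjective κ := by
      intro q
      have hq1 : W₀.ι (V₀.ι ((t ⁻¹ᵁ U).ι q)) ∈ U := by
        have := ((t ⁻¹ᵁ U).ι q).2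
        exact q.2
      let y₀ : (U₁ : Scheme.{u}) := ⟨V₀.ι ((t ⁻¹ᵁ U).ι q), hq1⟩
      have hy₀ : y₀ ∈ U₁.ι ⁻¹ᵁ V₀ := ((t ⁻¹ᵁ U).ι q).2
      refine ⟨⟨y₀, hy₀⟩, ?_⟩
      apply (t ⁻¹ᵁ U).ι.isOpenEmbedding.injective
      apply V₀.ι.isOpenEmbedding.injective
      rw [← Scheme.Hom.comp_apply, ← Scheme.Hom.comp_apply, ← Category.assoc, hκι,
        morphismRestrict_ι]
      rfl
    haveI : IsDominant κ := ⟨hκsurj.denseRange⟩
    apply ext_of_isDominant_of_isSeparated f ?_ κ ?_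
    · rw [Category.assoc, Category.assoc, Category.assoc, hv, morphismRestrict_ι,
        ← morphismRestrict_ι f W₀, ← hq₀, ← Category.assoc σ, hσ, ht]
    · have e1 : κ ≫ (t ∣_ U) = (U₁.ι ⁻¹ᵁ V₀).ι ≫ (W₀.ι ∣_ U) := by
        rw [← cancel_mono U.ι, Category.assoc, Category.assoc, morphismRestrict_ι,
          morphismRestrict_ι, ← Category.assoc, hκι, ht, ← Category.assoc, morphismRestrict_ι,
          Category.assoc]
      rw [← Category.assoc, ← Category.assoc, hκι, hσag, Category.assoc, hg₁ι,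
        ← Category.assoc κ, e1, Category.assoc]

end Groth.Agent.Lib.Helper58.RatSection
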