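import Mathlib.Topology.Separation.Hausdorff
import Mathlib.Topology.Separation.Regular
import Mathlib.Topology.Compactness.LocallyCompact
import Mathlib.Topology.NhdsSet
import Mathlib.Data.Fintype.Pi

/-!
# Shrinking lemmas for coverings with prescribed multi-intersections

Helper library (helper58) for S7568, S7569, S7570.
-/

set_option autoImplicit false

namespace Groth.Agent.Lib.Helper58.Shrink

open Set Filter Topology

universe u v

variable {X : Type u} [TopologicalSpace X]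

/-- Any two distinct points of `Z` have disjoint open neighbourhoods in `X`. -/
def SepOn (Z : Set X) : Prop :=
  ∀ z ∈ Z, ∀ z' ∈ Z, z ≠ z' →
    ∃ A B : Set X, IsOpen A ∧ IsOpen B ∧ z ∈ A ∧ z' ∈ B ∧ Disjoint A B

theorem sepOn_of_t2 [T2Space X] (Z : Set X) : SepOn Z := by
  intro z _ z' _ hne
  obtain ⟨A, B, hA, hB, hzA, hzB, hAB⟩ := t2_separation hne
  exact ⟨A, B, hA, hB, hzA, hzB, hAB⟩

variable {Z : Set X}

theorem SepOn.disjoint_nhds (h : SepOn Z) {x y : X} (hx : x ∈ Z) (hy : y ∈ Z) (hxy : x ≠ y) :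
    Disjoint (𝓝 x) (𝓝 y) := by
  obtain ⟨A, B, hA, hB, hxA, hyB, hAB⟩ := h x hx y hy hxy
  exact Filter.disjoint_of_disjoint_of_mem hAB (hA.mem_nhds hxA) (hB.mem_nhds hyB)

theorem SepOn.disjoint_nhds_nhdsSet (h : SepOn Z) {x : X} {L : Set X} (hx : x ∈ Z)
    (hL : IsCompact L) (hLZ : L ⊆ Z) (hxL : x ∉ L) : Disjoint (𝓝 x) (𝓝ˢ L) := by
  rw [hL.disjoint_nhdsSet_right]
  intro y hy
  exact h.disjoint_nhds hx (hLZ hy) (fun e => hxL (e ▸ hy))

theorem SepOn.disjoint_nhdsSet (h : SepOn Z) {K L : Set X} (hK : IsCompact K) (hL : IsCompact L)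
    (hKZ : K ⊆ Z) (hLZ : L ⊆ Z) (hKL : Disjoint K L) : Disjoint (𝓝ˢ K) (𝓝ˢ L) := by
  rw [hK.disjoint_nhdsSet_left]
  intro x hx
  exact h.disjoint_nhds_nhdsSet (hKZ hx) hL hLZ (fun hxL => hKL.le_bot ⟨hx, hxL⟩)

/-- Disjoint compact subsets of `Z` have disjoint open neighbourhoods. -/
theorem SepOn.exists_open_disjoint (h : SepOn Z) {K L : Set X} (hK : IsCompact K)
    (hL : IsCompact L) (hKZ : K ⊆ Z) (hLZ : L ⊆ Z) (hKL : Disjoint K L) :
    ∃ A B : Set X, IsOpen A ∧ IsOpen B ∧ K ⊆ A ∧ L ⊆ B ∧ Disjoint A B := by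
  have := h.disjoint_nhdsSet hK hL hKZ hLZ hKL
  rw [Filter.disjoint_iff] at this
  obtain ⟨A, hA, B, hB, hAB⟩ := this
  obtain ⟨A', hA'o, hKA', hA'A⟩ := mem_nhdsSet_iff_exists.1 hA
  obtain ⟨B', hB'o, hLB', hB'B⟩ := mem_nhdsSet_iff_exists.1 hB
  exact ⟨A', B', hA'o, hB'o, hKA', hLB', hAB.mono hA'A hB'B⟩

/-- The intersection of two compact subsets of `Z` is compact. -/
theorem SepOn.isCompact_inter (h : SepOn Z) {K L : Set X} (hK : IsCompact K) (hL : IsCompact L)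
    (hKZ : K ⊆ Z) (hLZ : L ⊆ Z) : IsCompact (K ∩ L) := by
  rw [isCompact_iff_ultrafilter_le_nhds]
  intro f hf
  obtain ⟨x, hxK, hx⟩ := hK.ultrafilter_le_nhds f
    (hf.trans (principal_mono.2 inter_subset_left))
  obtain ⟨y, hyL, hy⟩ := hL.ultrafilter_le_nhds f
    (hf.trans (principal_mono.2 inter_subset_right))
  by_cases hxy : x = y
  · subst hxy
    exact ⟨x, ⟨hxK, hyL⟩, hx⟩
  · exfalso
    have hd := h.disjoint_nhds (hKZ hxK) (hLZ hyL) hxy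
    have : (f : Filter X) ≤ ⊥ := hd.le_bot.trans' (le_inf hx hy)
    exact f.neBot.ne (le_bot_iff.1 this)

/-- Binary case: a neighbourhood of `K ∩ L` contains the intersection of neighbourhoods. -/
theorem SepOn.nhdsSet_inf_le (h : SepOn Z) {K L : Set X} (hK : IsCompact K) (hL : IsCompact L)
    (hKZ : K ⊆ Z) (hLZ : L ⊆ Z) : 𝓝ˢ K ⊓ 𝓝ˢ L ≤ 𝓝ˢ (K ∩ L) := by
  intro O hO
  obtain ⟨O', hO'o, hsub, hO'O⟩ := mem_nhdsSet_iff_exists.1 hO
  have hK' : IsCompact (K \ O') := hK.diff hO'o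
  have hL' : IsCompact (L \ O') := hL.diff hO'o
  have hdisj : Disjoint (K \ O') (L \ O') := by
    rw [Set.disjoint_left]
    rintro x ⟨hxK, hxO⟩ ⟨hxL, _⟩
    exact hxO (hsub ⟨hxK, hxL⟩)
  obtain ⟨A, B, hAo, hBo, hKA, hLB, hAB⟩ := h.exists_open_disjoint hK' hL'
    (sdiff_subset.trans hKZ) (sdiff_subset.trans hLZ) hdisj
  have h1 : A ∪ O' ∈ 𝓝ˢ K := by
    refine mem_nhdsSet_iff_exists.2 ⟨A ∪ O', hAo.union hO'o, ?_, le_rfl⟩
    intro x hx
    by_cases hxO : x ∈ O'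
    · exact Or.inr hxO
    · exact Or.inl (hKA ⟨hx, hxO⟩)
  have h2 : B ∪ O' ∈ 𝓝ˢ L := by
    refine mem_nhdsSet_iff_exists.2 ⟨B ∪ O', hBo.union hO'o, ?_, le_rfl⟩
    intro x hx
    by_cases hxO : x ∈ O'
    · exact Or.inr hxO
    · exact Or.inl (hLB ⟨hx, hxO⟩)
  refine Filter.mem_of_superset (Filter.inter_mem_inf h1 h2) ?_
  rintro x ⟨hx1 | hx1, hx2 | hx2⟩
  · exact (Set.disjoint_left.1 hAB hx1 hx2).elim
  · exact hO'O hx2
  · exact hO'O hx1
  · exact hO'O hx1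

/-- Finite case, relative to a compact `K₀ ⊆ Z`. -/
theorem SepOn.nhdsSet_biInf_le (h : SepOn Z) {κ : Type v} (S : Finset κ) (K : κ → Set X)
    (hK : ∀ l ∈ S, IsCompact (K l)) (hKZ : ∀ l ∈ S, K l ⊆ Z) :
    ∀ K₀ : Set X, IsCompact K₀ → K₀ ⊆ Z →
      IsCompact (K₀ ∩ ⋂ l ∈ S, K l) ∧ 𝓝ˢ K₀ ⊓ ⨅ l ∈ S, 𝓝ˢ (K l) ≤ 𝓝ˢ (K₀ ∩ ⋂ l ∈ S, K l) := by
  classical
  induction S using Finset.induction_on with
  | empty =>
    intro K₀ hK₀ _
    simp [hK₀]
  | insert a S ha ih =>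
    intro K₀ hK₀ hK₀Z
    have hKa := hK a (Finset.mem_insert_self a S)
    have hKaZ := hKZ a (Finset.mem_insert_self a S)
    have hc : IsCompact (K₀ ∩ K a) := h.isCompact_inter hK₀ hKa hK₀Z hKaZ
    obtain ⟨ih1, ih2⟩ := ih (fun l hl => hK l (Finset.mem_insert_of_mem hl))
      (fun l hl => hKZ l (Finset.mem_insert_of_mem hl)) (K₀ ∩ K a) hc
      (inter_subset_left.trans hK₀Z)
    have hset : K₀ ∩ ⋂ l ∈ insert a S, K l = (K₀ ∩ K a) ∩ ⋂ l ∈ S, K l := by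
      rw [Finset.set_biInter_insert, inter_assoc]
    have hfil : 𝓝ˢ K₀ ⊓ ⨅ l ∈ insert a S, 𝓝ˢ (K l) =
        (𝓝ˢ K₀ ⊓ 𝓝ˢ (K a)) ⊓ ⨅ l ∈ S, 𝓝ˢ (K l) := by
      rw [Finset.iInf_insert, inf_assoc]
    rw [hset, hfil]
    refine ⟨ih1, le_trans (inf_le_inf_right _ ?_) ih2⟩
    exact h.nhdsSet_inf_le hK₀ hKa hK₀Z hKaZ

/-- **Claim.** For finitely many compact subsets `K l ⊆ Z` (nonempty finite index type) and an
open `O` containing their intersection there are opens `V l ⊇ K l` with `⋂ V l ⊆ O`. -/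
theorem SepOn.exists_open_iInter_subset (h : SepOn Z) (hZ : IsCompact Z) {κ : Type v} [Finite κ]
    [Nonempty κ] (K : κ → Set X) (hK : ∀ l, IsCompact (K l)) (hKZ : ∀ l, K l ⊆ Z) {O : Set X}
    (hO : IsOpen O) (hKO : (⋂ l, K l) ⊆ O) :
    ∃ V : κ → Set X, (∀ l, IsOpen (V l)) ∧ (∀ l, K l ⊆ V l) ∧ (⋂ l, V l) ⊆ O := by
  classical
  have _ := Fintype.ofFinite κ
  obtain ⟨_, hle⟩ := h.nhdsSet_biInf_le (Finset.univ : Finset κ) K (fun l _ => hK l)
    (fun l _ => hKZ l) Z hZ le_rfl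
  have hl₀ : ∃ l₀ : κ, True := ⟨Classical.arbitrary κ, trivial⟩
  obtain ⟨l₀, -⟩ := hl₀
  have hZK : Z ∩ ⋂ l ∈ (Finset.univ : Finset κ), K l = ⋂ l, K l := by
    ext x
    simp only [Finset.mem_univ, iInter_true, mem_inter_iff, mem_iInter]
    exact ⟨fun hx => hx.2, fun hx => ⟨hKZ l₀ (hx l₀), hx⟩⟩
  have hinf : (⨅ l, 𝓝ˢ (K l)) ≤ 𝓝ˢ Z ⊓ ⨅ l ∈ (Finset.univ : Finset κ), 𝓝ˢ (K l) := by
    refine le_inf ((iInf_le _ l₀).trans (nhdsSet_mono (hKZ l₀))) ?_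
    simp
  have hOmem : O ∈ ⨅ l, 𝓝ˢ (K l) := by
    apply hinf
    apply hle
    rw [hZK]
    exact hO.mem_nhdsSet.2 hKO
  rw [Filter.mem_iInf_of_finite] at hOmem
  obtain ⟨T, hT, hOT⟩ := hOmem
  have hT' : ∀ l, ∃ U : Set X, IsOpen U ∧ K l ⊆ U ∧ U ⊆ T l := fun l =>
    mem_nhdsSet_iff_exists.1 (hT l)
  choose V hVo hKV hVT using hT'
  refine ⟨V, hVo, hKV, ?_⟩
  rw [hOT]
  exact iInter_mono hVT

/-- **Shrinking.** A finite open cover of a compact `Z` (with separated points) can be shrunk to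
a cover by compact subsets of `Z`. -/
theorem SepOn.exists_compact_shrink (h : SepOn Z) (hZ : IsCompact Z) {ι : Type v}
    (s : Finset ι) (U : ι → Set X) (hU : ∀ i, IsOpen (U i)) (hcov : Z ⊆ ⋃ i ∈ s, U i) :
    ∃ C : ι → Set X, (∀ i, IsCompact (C i)) ∧ (∀ i, C i ⊆ U i ∩ Z) ∧ (∀ i, i ∉ s → C i = ∅) ∧
      Z ⊆ ⋃ i ∈ s, C i := by
  classical
  have key : ∀ z ∈ Z, ∃ i ∈ s, ∃ A B : Set X, A ∈ 𝓝 z ∧ IsOpen B ∧ Z \ U i ⊆ B ∧
      Disjoint A B := by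
    intro z hz
    obtain ⟨i, hi⟩ := mem_iUnion.1 (hcov hz)
    obtain ⟨his, hzi⟩ := mem_iUnion.1 hi
    have hd := h.disjoint_nhds_nhdsSet hz (hZ.diff (hU i)) sdiff_subset
      (fun hzd : z ∈ Z \ U i => hzd.2 hzi)
    rw [Filter.disjoint_iff] at hd
    obtain ⟨A, hA, B, hB, hAB⟩ := hd
    obtain ⟨B', hB'o, hsub, hB'B⟩ := mem_nhdsSet_iff_exists.1 hB
    exact ⟨i, his, A, B', hA, hB'o, hsub, hAB.mono_right hB'B⟩
  choose ind hind A B hA hBo hBsub hAB using key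
  obtain ⟨F, hF⟩ := hZ.elim_nhds_subcover' A hA
  refine ⟨fun i => ⋃ z ∈ F.filter (fun z => ind z.1 z.2 = i), Z \ B z.1 z.2, ?_, ?_, ?_, ?_⟩
  · intro i
    exact Finset.isCompact_biUnion _ (fun z _ => hZ.diff (hBo z.1 z.2))
  · intro i x hx
    simp only [mem_iUnion, Finset.mem_filter] at hx
    obtain ⟨z, ⟨_, hzi⟩, hxZ, hxB⟩ := hx
    refine ⟨?_, hxZ⟩
    by_contra hxU
    exact hxB (hBsub z.1 z.2 ⟨hxZ, hzi ▸ hxU⟩)
  · intro i hi
    apply Set.eq_empty_of_forall_notMem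
    intro x hx
    simp only [mem_iUnion, Finset.mem_filter] at hx
    obtain ⟨z, ⟨_, hzi⟩, _⟩ := hx
    exact hi (hzi ▸ hind z.1 z.2)
  · intro x hx
    obtain ⟨z, hzF, hxA⟩ := mem_iUnion₂.1 (hF hx)
    refine mem_iUnion₂.2 ⟨ind z.1 z.2, hind z.1 z.2, ?_⟩
    simp only [mem_iUnion, Finset.mem_filter]
    exact ⟨z, ⟨hzF, rfl⟩, hx, fun hxB => Set.disjoint_left.1 (hAB z.1 z.2) hxA hxB⟩

/-- **Core lemma** for S7569/S7570: shrink a cover `U` of the compact `Z` to opens `V i ⊆ U i`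
containing compact pieces `C i` covering `Z`, with prescribed `(p+1)`-fold intersections. -/
theorem SepOn.core (h : SepOn Z) (hZ : IsCompact Z) {ι : Type v} (U : ι → Set X)
    (hU : ∀ i, IsOpen (U i)) (hcov : Z ⊆ ⋃ i, U i) (p : ℕ)
    (W : (Fin (p + 1) → ι) → Set X) (hWo : ∀ t, IsOpen (W t))
    (hWZ : ∀ t, W t ∩ Z = (⋂ l, U (t l)) ∩ Z) :
    ∃ C V : ι → Set X, (∀ i, IsCompact (C i)) ∧ (Z ⊆ ⋃ i, C i) ∧ (∀ i, C i ⊆ V i) ∧
      (∀ i, IsOpen (V i)) ∧ (∀ i, V i ⊆ U i) ∧ (∀ i, closure (V i) ∩ Z ⊆ U i) ∧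
      (∀ t : Fin (p + 1) → ι, (⋂ l, V (t l)) ⊆ W t) := by
  classical
  obtain ⟨s, hs⟩ := hZ.elim_finite_subcover U hU hcov
  obtain ⟨C, hCc, hCU, hCs, hCcov⟩ := h.exists_compact_shrink hZ s U hU hs
  -- opens `O t l ⊇ C (t l)` with `⋂ l, O t l ⊆ W t`
  have hO : ∀ t : Fin (p + 1) → ι, ∃ O : Fin (p + 1) → Set X, (∀ l, IsOpen (O l)) ∧
      (∀ l, C (t l) ⊆ O l) ∧ (⋂ l, O l) ⊆ W t := by
    intro t
    refine h.exists_open_iInter_subset hZ (fun l => C (t l)) (fun l => hCc _)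
      (fun l => (hCU _).trans inter_subset_right) (hWo t) ?_
    intro x hx
    have hxZ : x ∈ Z := ((hCU (t 0)) (mem_iInter.1 hx 0)).2
    have : x ∈ (⋂ l, U (t l)) ∩ Z :=
      ⟨mem_iInter.2 fun l => ((hCU (t l)) (mem_iInter.1 hx l)).1, hxZ⟩
    rw [← hWZ t] at this
    exact this.1
  choose O hOo hCO hOW using hO
  -- opens `A i ⊇ C i`, `B i ⊇ Z \ U i` disjoint
  have hAB : ∀ i, ∃ A B : Set X, IsOpen A ∧ IsOpen B ∧ C i ⊆ A ∧ Z \ U i ⊆ B ∧ Disjoint A B := by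
    intro i
    refine h.exists_open_disjoint (hCc i) (hZ.diff (hU i)) ((hCU i).trans inter_subset_right)
      sdiff_subset ?_
    rw [Set.disjoint_left]
    intro x hxC hxd
    exact hxd.2 ((hCU i) hxC).1
  choose A B hAo hBo hCA hZB hABd using hAB
  let T : Finset (Fin (p + 1) → ι) := Fintype.piFinset (fun _ => s)
  let G : ι → Set X := fun i => ⋂ t ∈ T, ⋂ l : Fin (p + 1), {x | t l = i → x ∈ O t l}
  have hGo : ∀ i, IsOpen (G i) := by
    intro i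
    refine isOpen_biInter_finset (fun t _ => isOpen_iInter_of_finite (fun l => ?_))
    by_cases htl : t l = i
    · simpa [htl] using hOo t l
    · simp [htl]
  have hCG : ∀ i, C i ⊆ G i := by
    intro i x hx
    simp only [G, mem_iInter, mem_ofPred_eq]
    intro t _ l htl
    exact hCO t l (htl ▸ hx)
  refine ⟨C, fun i => if i ∈ s then U i ∩ A i ∩ G i else ∅, hCc, ?_, ?_, ?_, ?_, ?_, ?_⟩
  · exact hCcov.trans (iUnion₂_subset fun i _ => subset_iUnion C i)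
  · intro i
    by_cases his : i ∈ s
    · simp only [his, if_true]
      exact fun x hx => ⟨⟨((hCU i) hx).1, hCA i hx⟩, hCG i hx⟩
    · simp [his, hCs i his]
  · intro i
    by_cases his : i ∈ s
    · simp only [his, if_true]
      exact ((hU i).inter (hAo i)).inter (hGo i)
    · simp [his]
  · intro i
    by_cases his : i ∈ s
    · simp only [his, if_true]
      exact fun x hx => hx.1.1
    · simp [his]
  · intro i
    by_cases his : i ∈ s
    · simp only [his, if_true]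
      rintro x ⟨hxcl, hxZ⟩
      by_contra hxU
      have hxB : x ∈ B i := hZB i ⟨hxZ, hxU⟩
      have hsub : U i ∩ A i ∩ G i ⊆ (B i)ᶜ := fun y hy hyB =>
        Set.disjoint_left.1 (hABd i) hy.1.2 hyB
      have hcl : closure (U i ∩ A i ∩ G i) ⊆ (B i)ᶜ :=
        closure_minimal hsub (hBo i).isClosed_compl
      exact hcl hxcl hxB
    · simp [his]
  · intro t x hx
    rw [mem_iInter] at hx
    by_cases hts : ∀ l, t l ∈ s
    · have htT : t ∈ T := Fintype.mem_piFinset.2 hts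
      apply hOW t
      rw [mem_iInter]
      intro l
      have hxl := hx l
      simp only [hts l, if_true] at hxl
      have hxG := hxl.2
      simp only [G, mem_iInter, mem_ofPred_eq] at hxG
      exact hxG t htT l rfl
    · push Not at hts
      obtain ⟨l, hl⟩ := hts
      have hxl := hx l
      simp only [hl, if_false] at hxl
      exact hxl.elim

end Groth.Agent.Lib.Helper58.Shrink
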