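import Mathlib
import Groth.Agent.Lib.Helper58.HenselPairUniq

set_option autoImplicit false

namespace Groth.Agent.Lib.Helper58.SmoothLift

open Groth.Agent.Lib.Helper58.HenselPair

universe u

section Ring

variable {A : Type u} [CommRing A] [HenselianLocalRing A]
variable {R : Type u} [CommRing R] [Algebra A R] [Algebra.Smooth A R]

/-- **Hensel's lemma for smooth algebras**: over a henselian local ring `A`, every `A`-algebra map
from a smooth `A`-algebra to the residue field lifts to an `A`-algebra map to `A`. -/
theorem exists_lift_of_smooth (σ : R →ₐ[A] IsLocalRing.ResidueField A) :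
    ∃ τ : R →ₐ[A] A, ∀ r, IsLocalRing.residue A (τ r) = σ r := by
  classical
  let k := IsLocalRing.ResidueField A
  have hp : (RingHom.ker σ.toRingHom).IsPrime := RingHom.ker_isPrime σ.toRingHom
  have hsm : Algebra.IsSmoothAt A (RingHom.ker σ.toRingHom) := by
    have := Algebra.smoothLocus_eq_univ (R := A) (A := R)
    have h2 : (⟨RingHom.ker σ.toRingHom, hp⟩ : PrimeSpectrum R) ∈ Algebra.smoothLocus A R := by
      rw [this]; trivial
    exact h2
  obtain ⟨f, hf, n, alg, tower, hse⟩ :=
    Algebra.IsSmoothAt.exists_isStandardEtale_mvPolynomial (R := A) (p := RingHom.ker σ.toRingHom)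
  have hσf : IsUnit (σ f) := by
    rw [isUnit_iff_ne_zero]
    exact fun h => hf ((RingHom.mem_ker).mpr h)
  -- extend `σ` to the localization
  let σf : Localization.Away f →ₐ[A] k :=
    IsLocalization.liftAlgHom (M := Submonoid.powers f) (f := σ) (by
      rintro ⟨_, m, rfl⟩
      show IsUnit (σ (f ^ m))
      rw [map_pow]
      exact hσf.pow m)
  have hσf' : ∀ r : R, σf (algebraMap R (Localization.Away f) r) = σ r := fun r => by
    simp [σf]
  -- choose lifts of the images of the variables
  choose a ha using fun i : Fin n => IsLocalRing.residue_surjective (R := A)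
    (σf (algebraMap (MvPolynomial (Fin n) A) (Localization.Away f) (MvPolynomial.X i)))
  let ev : MvPolynomial (Fin n) A →ₐ[A] A := MvPolynomial.aeval a
  let _ : Algebra (MvPolynomial (Fin n) A) A := ev.toRingHom.toAlgebra
  have hevalg : ∀ p : MvPolynomial (Fin n) A, algebraMap (MvPolynomial (Fin n) A) A p = ev p :=
    fun p => rfl
  have hcomm : ∀ p : MvPolynomial (Fin n) A,
      σf (algebraMap (MvPolynomial (Fin n) A) (Localization.Away f) p) =
        IsLocalRing.residue A (ev p) := by
    intro p
    let φ₁ : MvPolynomial (Fin n) A →ₐ[A] k :=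
      σf.comp (IsScalarTower.toAlgHom A (MvPolynomial (Fin n) A) (Localization.Away f))
    let φ₂ : MvPolynomial (Fin n) A →ₐ[A] k :=
      (IsScalarTower.toAlgHom A A k).comp ev
    have : φ₁ = φ₂ := by
      apply MvPolynomial.algHom_ext
      intro i
      simp only [φ₁, φ₂, AlgHom.comp_apply, IsScalarTower.coe_toAlgHom', ev, MvPolynomial.aeval_X]
      exact (ha i).symm
    exact AlgHom.congr_fun this p
  have hEt : Algebra.Etale (MvPolynomial (Fin n) A) (Localization.Away f) := inferInstance
  let σP : Localization.Away f →ₐ[MvPolynomial (Fin n) A] A ⧸ IsLocalRing.maximalIdeal A :=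
    { σf.toRingHom with
      commutes' := fun p => hcomm p }
  obtain ⟨τP, hτP⟩ := exists_etale_lift_rel (R := MvPolynomial (Fin n) A)
    (S := Localization.Away f) (C := A) (IsLocalRing.maximalIdeal A) σP
  have hτA : ∀ x : A, τP (algebraMap A (Localization.Away f) x) = x := by
    intro x
    rw [IsScalarTower.algebraMap_apply A (MvPolynomial (Fin n) A) (Localization.Away f),
      τP.commutes, hevalg]
    simp [ev]
  let τ : R →ₐ[A] A :=
    { (τP.toRingHom.comp (algebraMap R (Localization.Away f))) with
      commutes' := fun x => by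
        change τP (algebraMap R (Localization.Away f) (algebraMap A R x)) = x
        rw [← IsScalarTower.algebraMap_apply A R (Localization.Away f)]
        exact hτA x }
  refine ⟨τ, fun r => ?_⟩
  have := AlgHom.congr_fun hτP (algebraMap R (Localization.Away f) r)
  change IsLocalRing.residue A (τP (algebraMap R (Localization.Away f) r)) = σ r
  rw [← hσf' r]
  exact this

end Ring

end Groth.Agent.Lib.Helper58.SmoothLift
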