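import Mathlib

set_option autoImplicit false
set_option linter.unusedSectionVars false

namespace Groth.Agent.Lib.Helper58.TensorLocal

open Function IsLocalRing TensorProduct

universe u

variable {R A S K : Type u} [CommRing R] [IsLocalRing R] [CommRing A] [IsLocalRing A]
  [Algebra R A] [IsLocalHom (algebraMap R A)]
  [CommRing S] [IsLocalRing S] [Algebra R S] [Module.Finite R S]
  [Field K] [Algebra R K] [Algebra A K] [Algebra S K] [IsScalarTower R A K] [IsScalarTower R S K]

/-- The canonical map `A ⊗[R] S → K`. -/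
noncomputable def theta : A ⊗[R] S →ₐ[A] K :=
  Algebra.TensorProduct.lift (Algebra.ofId A K) (IsScalarTower.toAlgHom R S K)
    (fun _ _ => Commute.all _ _)

lemma theta_tmul (a : A) (s : S) :
    theta (R := R) (K := K) (a ⊗ₜ[R] s) = algebraMap A K a * algebraMap S K s := by
  simp [theta, Algebra.ofId_apply]

/-- Every element of `A ⊗[R] S` is congruent to `1 ⊗ s` modulo `m_A`, when `R → A` is surjective
on residue fields. -/
lemma exists_sub_one_tmul_mem (hres : Surjective (ResidueField.map (algebraMap R A)))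
    (x : A ⊗[R] S) :
    ∃ s : S, x - 1 ⊗ₜ[R] s ∈ (maximalIdeal A).map (algebraMap A (A ⊗[R] S)) := by
  induction x using TensorProduct.induction_on with
  | zero => exact ⟨0, by simp⟩
  | tmul a s =>
    obtain ⟨r', hr'⟩ := hres (residue A a)
    obtain ⟨r, rfl⟩ := residue_surjective r'
    rw [ResidueField.map_residue] at hr'
    have hmem : a - algebraMap R A r ∈ maximalIdeal A := by
      rw [← Ideal.Quotient.eq]
      exact hr'.symm
    refine ⟨r • s, ?_⟩
    have : a ⊗ₜ[R] s - 1 ⊗ₜ[R] (r • s) =
        algebraMap A (A ⊗[R] S) (a - algebraMap R A r) * (1 ⊗ₜ[R] s) := by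
      rw [Algebra.TensorProduct.algebraMap_apply, Algebra.TensorProduct.tmul_mul_tmul,
        Algebra.algebraMap_self, RingHom.id_apply, mul_one, one_mul, TensorProduct.sub_tmul,
        TensorProduct.tmul_smul, TensorProduct.smul_tmul', Algebra.smul_def, mul_one]
    rw [this]
    exact Ideal.mul_mem_right _ _ (Ideal.mem_map_of_mem _ hmem)
  | add x y hx hy =>
    obtain ⟨s, hs⟩ := hx
    obtain ⟨s', hs'⟩ := hy
    refine ⟨s + s', ?_⟩
    have : x + y - 1 ⊗ₜ[R] (s + s') = (x - 1 ⊗ₜ[R] s) + (y - 1 ⊗ₜ[R] s') := by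
      rw [TensorProduct.tmul_add]; abel
    rw [this]
    exact Ideal.add_mem _ hs hs'

lemma one_tmul_mem (s : S) (hs : s ∈ (maximalIdeal R).map (algebraMap R S)) :
    (1 : A) ⊗ₜ[R] s ∈ (maximalIdeal A).map (algebraMap A (A ⊗[R] S)) := by
  have h1 : (Algebra.TensorProduct.includeRight : S →ₐ[R] A ⊗[R] S) s ∈
      ((maximalIdeal R).map (algebraMap R S)).map
        (Algebra.TensorProduct.includeRight : S →ₐ[R] A ⊗[R] S).toRingHom :=
    Ideal.mem_map_of_mem _ hs
  rw [Ideal.map_map] at h1
  have h2 : ((Algebra.TensorProduct.includeRight : S →ₐ[R] A ⊗[R] S).toRingHom.comp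
      (algebraMap R S)) = (algebraMap A (A ⊗[R] S)).comp (algebraMap R A) := by
    ext r
    simp [Algebra.TensorProduct.algebraMap_apply, Algebra.algebraMap_eq_smul_one,
      TensorProduct.smul_tmul]
  rw [h2, ← Ideal.map_map] at h1
  refine Ideal.map_mono ?_ h1
  rw [Ideal.map_le_iff_le_comap]
  intro r hr
  exact (IsLocalRing.mem_maximalIdeal _).mpr (fun hu =>
    (IsLocalRing.mem_maximalIdeal _).mp hr (IsUnit.of_map (algebraMap R A) r hu))

variable (R A S K) in
theorem ker_theta (hres : Surjective (ResidueField.map (algebraMap R A)))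
    (hmS : (maximalIdeal R).map (algebraMap R S) = maximalIdeal S)
    (hA : ∀ a ∈ maximalIdeal A, algebraMap A K a = 0)
    (hkerS : ∀ s, algebraMap S K s = 0 → s ∈ maximalIdeal S) :
    RingHom.ker (theta (R := R) (A := A) (S := S) (K := K)) =
      (maximalIdeal A).map (algebraMap A (A ⊗[R] S)) := by
  apply le_antisymm
  · intro x hx
    rw [RingHom.mem_ker] at hx
    obtain ⟨s, hs⟩ := exists_sub_one_tmul_mem (S := S) hres x
    have hle : (maximalIdeal A).map (algebraMap A (A ⊗[R] S)) ≤
        RingHom.ker (theta (R := R) (A := A) (S := S) (K := K)) := by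
      rw [Ideal.map_le_iff_le_comap]
      intro a ha
      rw [Ideal.mem_comap, RingHom.mem_ker, AlgHom.commutes]
      exact hA a ha
    have h1 := hle hs
    rw [RingHom.mem_ker, map_sub, hx, zero_sub, neg_eq_zero, theta_tmul, map_one, one_mul] at h1
    have h2 := hkerS s h1
    rw [← hmS] at h2
    have h3 := one_tmul_mem (A := A) s h2
    have : x = (x - 1 ⊗ₜ[R] s) + 1 ⊗ₜ[R] s := by abel
    rw [this]
    exact Ideal.add_mem _ hs h3
  · rw [Ideal.map_le_iff_le_comap]
    intro a ha
    rw [Ideal.mem_comap, RingHom.mem_ker, AlgHom.commutes]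
    exact hA a ha

variable (R A S K) in
theorem theta_surjective (hSK : Surjective (algebraMap S K)) :
    Surjective (theta (R := R) (A := A) (S := S) (K := K)) := by
  intro k
  obtain ⟨s, rfl⟩ := hSK k
  exact ⟨1 ⊗ₜ[R] s, by rw [theta_tmul, map_one, one_mul]⟩

variable (R A S K) in
/-- `A ⊗[R] S` is local when `S` is a finite local `R`-algebra with `m_R S = m_S`, and `R → A`
is a local homomorphism inducing a surjection of residue fields; here `K` is a field receiving
compatible maps from `A` and `S`, the latter surjective with kernel `m_S`. -/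
theorem isLocalRing_tensor (hres : Surjective (ResidueField.map (algebraMap R A)))
    (hmS : (maximalIdeal R).map (algebraMap R S) = maximalIdeal S)
    (hA : ∀ a ∈ maximalIdeal A, algebraMap A K a = 0)
    (hSK : Surjective (algebraMap S K))
    (hkerS : ∀ s, algebraMap S K s = 0 → s ∈ maximalIdeal S) :
    IsLocalRing (A ⊗[R] S) := by
  have hker := ker_theta R A S K hres hmS hA hkerS
  have hmax : (RingHom.ker (theta (R := R) (A := A) (S := S) (K := K))).IsMaximal :=
    RingHom.ker_isMaximal_of_surjective _ (theta_surjective R A S K hSK)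
  refine IsLocalRing.of_unique_max_ideal ⟨_, hmax, fun M hM => ?_⟩
  have h1 : (M.comap (algebraMap A (A ⊗[R] S))).IsMaximal :=
    Ideal.isMaximal_comap_of_isIntegral_of_isMaximal M
  have h2 := IsLocalRing.eq_maximalIdeal h1
  have h3 : RingHom.ker (theta (R := R) (A := A) (S := S) (K := K)) ≤ M := by
    rw [hker, Ideal.map_le_iff_le_comap, ← h2]
  exact (hmax.eq_of_le hM.ne_top h3).symm

variable (R A S K) in
theorem maximalIdeal_tensor [IsLocalRing (A ⊗[R] S)]
    (hSK : Surjective (algebraMap S K)) :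
    maximalIdeal (A ⊗[R] S) = RingHom.ker (theta (R := R) (A := A) (S := S) (K := K)) :=
  (IsLocalRing.eq_maximalIdeal
    (RingHom.ker_isMaximal_of_surjective _ (theta_surjective R A S K hSK))).symm

variable (R A S K) in
/-- The residue field of `A ⊗[R] S` is `K`. -/
theorem nonempty_residueField_equiv [IsLocalRing (A ⊗[R] S)]
    (hSK : Surjective (algebraMap S K)) :
    ∃ α : ResidueField (A ⊗[R] S) ≃ₐ[A] K, ∀ x : A ⊗[R] S,
      α (residue _ x) = theta (R := R) (A := A) (S := S) (K := K) x := by
  have hmax := maximalIdeal_tensor R A S K hSK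
  let α₁ : ResidueField (A ⊗[R] S) →ₐ[A] K :=
    Ideal.Quotient.liftₐ (maximalIdeal (A ⊗[R] S)) (theta (R := R) (A := A) (S := S) (K := K))
      (fun x hx => by rw [hmax] at hx; exact hx)
  have hα₁ : ∀ x, α₁ (residue _ x) = theta (R := R) (A := A) (S := S) (K := K) x := fun x => rfl
  have hbij : Bijective α₁ := by
    refine ⟨(α₁ : ResidueField (A ⊗[R] S) →+* K).injective, fun k => ?_⟩
    obtain ⟨x, rfl⟩ := theta_surjective R A S K hSK k
    exact ⟨residue _ x, hα₁ x⟩
  exact ⟨AlgEquiv.ofBijective α₁ hbij, hα₁⟩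

end Groth.Agent.Lib.Helper58.TensorLocal
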