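import Mathlib
import Groth.Agent.Lib.Helper32.Rosenlicht.Domain

/-!
# Elements of `S ⊗[k] A` with a unit coefficient

`k` algebraically closed, `A` a f.g. `k`-domain, `S` any `k`-algebra.  If `f ∈ S ⊗[k] A` has a unit
coordinate w.r.t. a `k`-basis of `A`, then `f` is a non-zero-divisor and `(S ⊗[k] A)/(f)` is flat
over `S` (relative effective Cartier divisor).  Also a general lemma `FlatCoker.flat_coker`.
-/

set_option autoImplicit false
universe u
open TensorProduct

namespace Groth.Agent.Lib.Helper58.FlatCoker

variable {R : Type u} [CommRing R]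

/-- the multiplication map `J ⊗ F → F`. -/
noncomputable abbrev alpha (J : Ideal R) (F : Type u) [AddCommGroup F] [Module R F] :
    J ⊗[R] F →ₗ[R] F :=
  TensorProduct.lift ((LinearMap.lsmul R F).comp J.subtype)

lemma alpha_nat (J : Ideal R) {F G : Type u} [AddCommGroup F] [Module R F] [AddCommGroup G]
    [Module R G] (h : F →ₗ[R] G) (y : J ⊗[R] F) :
    alpha J G (LinearMap.lTensor J h y) = h (alpha J F y) := by
  induction y using TensorProduct.induction_on with
  | zero => simp
  | tmul j x => simp [alpha]
  | add x y hx hy => simp only [map_add, hx, hy]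

lemma alpha_mem (J : Ideal R) {F : Type u} [AddCommGroup F] [Module R F] (y : J ⊗[R] F) :
    alpha J F y ∈ (J • ⊤ : Submodule R F) := by
  induction y using TensorProduct.induction_on with
  | zero => simp
  | tmul j x =>
    simp only [alpha, TensorProduct.lift.tmul, LinearMap.coe_comp, Function.comp_apply,
      Submodule.subtype_apply, LinearMap.lsmul_apply]
    exact Submodule.smul_mem_smul j.2 Submodule.mem_top
  | add x y hx hy => rw [map_add]; exact Submodule.add_mem _ hx hy

lemma exists_alpha_eq (J : Ideal R) {F : Type u} [AddCommGroup F] [Module R F] (w : F)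
    (hw : w ∈ (J • ⊤ : Submodule R F)) : ∃ w' : J ⊗[R] F, alpha J F w' = w := by
  refine Submodule.smul_induction_on hw (fun j hj x _ => ?_) (fun x y hx hy => ?_)
  · exact ⟨(⟨j, hj⟩ : J) ⊗ₜ x, by simp [alpha]⟩
  · obtain ⟨x', hx'⟩ := hx
    obtain ⟨y', hy'⟩ := hy
    exact ⟨x' + y', by rw [map_add, hx', hy']⟩

lemma flat_iff_alpha {M : Type u} [AddCommGroup M] [Module R M] :
    Module.Flat R M ↔ ∀ J : Ideal R, Function.Injective (alpha J M) := by
  rw [Module.Flat.iff_rTensor_injective']
  refine forall_congr' fun J => ?_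
  have : alpha J M = (TensorProduct.lid R M).toLinearMap ∘ₗ LinearMap.rTensor M J.subtype := by
    apply TensorProduct.ext'
    intro j x
    simp [alpha]
  rw [this, LinearMap.coe_comp, LinearEquiv.coe_coe, EquivLike.comp_injective]

/-- If `F` is flat, `μ : F → F` is such that `μ w ∈ J F → w ∈ J F` for all ideals `J`
(i.e. `μ` stays injective modulo every ideal), then the cokernel of `μ` is flat. -/
theorem flat_coker {F M : Type u} [AddCommGroup F] [Module R F] [AddCommGroup M] [Module R M]
    [Module.Flat R F] (μ : F →ₗ[R] F) (π : F →ₗ[R] M) (hπ : Function.Surjective π)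
    (hex : ∀ v, π v = 0 → ∃ w, μ w = v) (hπμ : ∀ w, π (μ w) = 0)
    (hinj : ∀ (J : Ideal R) (w : F), μ w ∈ (J • ⊤ : Submodule R F) → w ∈ (J • ⊤ : Submodule R F)) :
    Module.Flat R M := by
  rw [flat_iff_alpha]
  intro J
  rw [injective_iff_map_eq_zero]
  intro x hx
  obtain ⟨y, rfl⟩ := LinearMap.lTensor_surjective J hπ x
  rw [alpha_nat] at hx
  obtain ⟨w, hw⟩ := hex _ hx
  have hw1 : w ∈ (J • ⊤ : Submodule R F) := hinj J w (hw ▸ alpha_mem J y)
  obtain ⟨w', hw'⟩ := exists_alpha_eq J w hw1
  have hF : Function.Injective (alpha J F) := flat_iff_alpha.mp inferInstance J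
  have hy : y = LinearMap.lTensor J μ w' := by
    apply hF
    rw [alpha_nat, hw', hw]
  rw [hy, ← LinearMap.comp_apply, ← LinearMap.lTensor_comp]
  have : π ∘ₗ μ = 0 := LinearMap.ext hπμ
  rw [this, LinearMap.lTensor_zero, LinearMap.zero_apply]

end Groth.Agent.Lib.Helper58.FlatCoker

namespace Groth.Agent.Lib.Helper58.UnitCoeff

variable {k : Type u} [Field k] {A : Type u} [CommRing A] [Algebra k A]
variable {ι : Type u} (b : Module.Basis ι k A)

/-- coordinates of `x ∈ S ⊗ A` w.r.t. the `S`-basis `1 ⊗ b i`. -/
noncomputable abbrev coord (S : Type u) [CommRing S] [Algebra k S] (x : S ⊗[k] A) : ι →₀ S :=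
  (Algebra.TensorProduct.basis S b).repr x

lemma coord_map {S S' : Type u} [CommRing S] [Algebra k S] [CommRing S'] [Algebra k S']
    (φ : S →ₐ[k] S') (x : S ⊗[k] A) (i : ι) :
    coord b S' (Algebra.TensorProduct.map φ (AlgHom.id k A) x) i = φ (coord b S x i) := by
  induction x using TensorProduct.induction_on with
  | zero => simp
  | tmul s a =>
    simp [coord, Algebra.TensorProduct.basis_repr_tmul]
  | add x y hx hy =>
    simp only [coord] at hx hy ⊢
    simp [map_add, hx, hy]

lemma eq_zero_of_coord {S : Type u} [CommRing S] [Algebra k S] (x : S ⊗[k] A)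
    (h : ∀ i, coord b S x i = 0) : x = 0 := by
  have : coord b S x = 0 := Finsupp.ext h
  exact (LinearEquiv.map_eq_zero_iff _).mp this

lemma coord_smul {S : Type u} [CommRing S] [Algebra k S] (t : S) (x : S ⊗[k] A) (i : ι) :
    coord b S (t • x) i = t * coord b S x i := by
  simp [coord]

/-- Key lemma: an element with a unit coordinate is a non-zero-divisor on `S ⊗[k] A`
(`k` algebraically closed, `A` a f.g. domain), for every `k`-algebra `S`. -/
theorem eq_zero_of_mul_eq_zero_aux [IsAlgClosed k] [IsDomain A] [Algebra.FiniteType k A] (n : ℕ) :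
    ∀ (S : Type u) [CommRing S] [Algebra k S] (f g : S ⊗[k] A),
      (∃ i, IsUnit (coord b S f i)) → f * g = 0 → (coord b S g).support.card ≤ n → g = 0 := by
  classical
  induction n with
  | zero =>
    intro S _ _ f g _ _ hn
    apply eq_zero_of_coord b
    intro i
    have : (coord b S g).support = ∅ := Finset.card_eq_zero.mp (Nat.le_zero.mp hn)
    rw [Finsupp.support_eq_empty] at this
    rw [this]; rfl
  | succ n ih =>
    intro S _ _ f g hf hfg hn
    by_contra hg
    obtain ⟨i0, hi0⟩ : ∃ i0, coord b S g i0 ≠ 0 := by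
      by_contra h
      push Not at h
      exact hg (eq_zero_of_coord b g h)
    set t := coord b S g i0 with ht
    -- pass to S / (t)
    let π : S →ₐ[k] S ⧸ Ideal.span {t} := Ideal.Quotient.mkₐ k (Ideal.span {t})
    have hπ : ∀ s, π s = 0 ↔ s ∈ Ideal.span {t} := fun s => Ideal.Quotient.eq_zero_iff_mem
    have h1 : Algebra.TensorProduct.map π (AlgHom.id k A) g = 0 := by
      apply ih (S ⧸ Ideal.span {t}) (Algebra.TensorProduct.map π (AlgHom.id k A) f)
      · obtain ⟨i, hi⟩ := hf
        exact ⟨i, by rw [coord_map]; exact hi.map π⟩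
      · rw [← map_mul, hfg, map_zero]
      · have hsub : (coord b (S ⧸ Ideal.span {t})
            (Algebra.TensorProduct.map π (AlgHom.id k A) g)).support ⊆
            (coord b S g).support.erase i0 := by
          intro i hi
          rw [Finsupp.mem_support_iff, coord_map] at hi
          rw [Finset.mem_erase, Finsupp.mem_support_iff]
          refine ⟨?_, fun h => hi (by rw [h, map_zero])⟩
          rintro rfl
          exact hi ((hπ _).mpr (Ideal.subset_span rfl))
        have := Finset.card_le_card hsub
        rw [Finset.card_erase_of_mem (Finsupp.mem_support_iff.mpr hi0)] at this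
        omega
    have h2 : ∀ i, ∃ u, coord b S g i = u * t := by
      intro i
      have := congrArg (fun x => coord b _ x i) h1
      simp only [coord_map] at this
      have h0 : π (coord b S g i) = 0 := by simpa using this
      obtain ⟨u, hu⟩ := Ideal.mem_span_singleton'.mp ((hπ _).mp h0)
      exact ⟨u, hu.symm⟩
    choose u hu using h2
    let u' : ι → S := fun i => if i = i0 then 1 else u i
    have hu' : ∀ i, coord b S g i = u' i * t := by
      intro i
      by_cases h : i = i0
      · subst h; simp [u', ht]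
      · simp [u', h, hu i]
    let c1 : ι →₀ S := (coord b S g).support.sum fun i => Finsupp.single i (u' i)
    have hc1 : ∀ i, c1 i = if i ∈ (coord b S g).support then u' i else 0 := by
      intro i
      simp only [c1, Finsupp.coe_finsetSum, Finset.sum_apply, Finsupp.single_apply]
      rw [Finset.sum_ite_eq']
    let g1 : S ⊗[k] A := (Algebra.TensorProduct.basis S b).repr.symm c1
    have hg1c : coord b S g1 = c1 := by simp [coord, g1]
    have hg1 : t • g1 = g := by
      apply (Algebra.TensorProduct.basis S b).repr.injective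
      ext i
      change coord b S (t • g1) i = coord b S g i
      rw [coord_smul, hg1c, hc1]
      split_ifs with h
      · rw [hu' i, mul_comm]
      · rw [Finsupp.mem_support_iff, not_not] at h
        rw [h, mul_zero]
    have hg1i0 : coord b S g1 i0 = 1 := by
      rw [hg1c, hc1, if_pos (Finsupp.mem_support_iff.mpr hi0)]
      simp [u']
    -- annihilator of t
    have h3 : ∀ l, t * coord b S (f * g1) l = 0 := by
      intro l
      rw [← coord_smul, ← mul_smul_comm, hg1, hfg]
      simp [coord]
    let 𝔞 : Ideal S := (Ideal.span {t}).annihilator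
    have h𝔞 : ∀ s, s * t = 0 → s ∈ 𝔞 := by
      intro s hs
      exact Submodule.mem_annihilator_span_singleton _ _ |>.mpr (by simpa using hs)
    have h𝔞ne : 𝔞 ≠ ⊤ := by
      intro h
      have : (1 : S) ∈ 𝔞 := h ▸ Submodule.mem_top
      have := (Submodule.mem_annihilator_span_singleton _ _).mp this
      exact hi0 (by simpa using this)
    obtain ⟨m, hm, h𝔞m⟩ := Ideal.exists_le_maximal 𝔞 h𝔞ne
    let _ := Ideal.Quotient.field m
    let φ : S →ₐ[k] S ⧸ m := Ideal.Quotient.mkₐ k m
    have : IsDomain ((S ⧸ m) ⊗[k] A) :=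
      Groth.Agent.Lib.Helper32.Rosenlicht.isDomain_tensor k (S ⧸ m) A
    have h4 : Algebra.TensorProduct.map φ (AlgHom.id k A) f *
        Algebra.TensorProduct.map φ (AlgHom.id k A) g1 = 0 := by
      rw [← map_mul]
      apply eq_zero_of_coord b
      intro l
      rw [coord_map]
      exact Ideal.Quotient.eq_zero_iff_mem.mpr (h𝔞m (h𝔞 _ (by rw [mul_comm]; exact h3 l)))
    rcases mul_eq_zero.mp h4 with h5 | h5
    · obtain ⟨i, hi⟩ := hf
      have := congrArg (fun x => coord b _ x i) h5
      simp only [coord_map] at this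
      have h6 : φ (coord b S f i) = 0 := by simpa using this
      exact (hi.map φ).ne_zero h6
    · have := congrArg (fun x => coord b _ x i0) h5
      simp only [coord_map] at this
      have h6 : φ (coord b S g1 i0) = 0 := by simpa using this
      rw [hg1i0, map_one] at h6
      exact one_ne_zero h6

theorem eq_zero_of_mul_eq_zero [IsAlgClosed k] [IsDomain A] [Algebra.FiniteType k A]
    {S : Type u} [CommRing S] [Algebra k S] (f g : S ⊗[k] A)
    (hf : ∃ i, IsUnit (coord b S f i)) (hfg : f * g = 0) : g = 0 :=
  eq_zero_of_mul_eq_zero_aux b _ S f g hf hfg le_rfl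

lemma mem_smul_top_iff {S : Type u} [CommRing S] [Algebra k S] (J : Ideal S) (x : S ⊗[k] A) :
    x ∈ (J • ⊤ : Submodule S (S ⊗[k] A)) ↔ ∀ i, coord b S x i ∈ J := by
  constructor
  · intro hx i
    refine Submodule.smul_induction_on hx (fun j hj y _ => ?_) (fun x y hx hy => ?_)
    · rw [coord_smul]; exact J.mul_mem_right _ hj
    · simp only [coord, map_add, Finsupp.add_apply] at hx hy ⊢
      exact J.add_mem hx hy
  · intro h
    rw [← (Algebra.TensorProduct.basis S b).linearCombination_repr x,
      Finsupp.linearCombination_apply]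
    refine Submodule.sum_mem _ fun i _ => ?_
    exact Submodule.smul_mem_smul (h i) Submodule.mem_top

theorem flat_quotient [IsAlgClosed k] [IsDomain A] [Algebra.FiniteType k A]
    {S : Type u} [CommRing S] [Algebra k S] (f : S ⊗[k] A) (hf : ∃ i, IsUnit (coord b S f i)) :
    Module.Flat S ((S ⊗[k] A) ⧸ Ideal.span {f}) := by
  refine Groth.Agent.Lib.Helper58.FlatCoker.flat_coker (R := S) (F := S ⊗[k] A) (LinearMap.mulLeft S f)
    (Ideal.Quotient.mkₐ S (Ideal.span {f})).toLinearMap Ideal.Quotient.mk_surjective ?_ ?_ ?_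
  · intro v hv
    have : v ∈ Ideal.span {f} := Ideal.Quotient.eq_zero_iff_mem.mp hv
    obtain ⟨w, hw⟩ := Ideal.mem_span_singleton'.mp this
    exact ⟨w, by rw [LinearMap.mulLeft_apply, mul_comm, hw]⟩
  · intro w
    exact Ideal.Quotient.eq_zero_iff_mem.mpr
      (Ideal.mem_span_singleton'.mpr ⟨w, by rw [LinearMap.mulLeft_apply, mul_comm]⟩)
  · intro J w hw
    rw [LinearMap.mulLeft_apply, mem_smul_top_iff b] at hw
    rw [mem_smul_top_iff b]
    let φ : S →ₐ[k] S ⧸ J := Ideal.Quotient.mkₐ k J
    have h1 : Algebra.TensorProduct.map φ (AlgHom.id k A) f *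
        Algebra.TensorProduct.map φ (AlgHom.id k A) w = 0 := by
      rw [← map_mul]
      apply eq_zero_of_coord b
      intro i
      rw [coord_map]
      exact Ideal.Quotient.eq_zero_iff_mem.mpr (hw i)
    have h2 := eq_zero_of_mul_eq_zero b _ _ (by
      obtain ⟨i, hi⟩ := hf
      exact ⟨i, by rw [coord_map]; exact hi.map φ⟩) h1
    intro i
    have := congrArg (fun x => coord b _ x i) h2
    simp only [coord_map] at this
    have h0 : φ (coord b S w i) = 0 := by simpa using this
    exact Ideal.Quotient.eq_zero_iff_mem.mp h0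

end Groth.Agent.Lib.Helper58.UnitCoeff
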