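import Groth.Agent.Lib.Helper74.VAFtSys

/-!
# D5 of helper74's S12689 call: every section of `Sym(F)` over an affine open comes from `Sym` of a
quasi-coherent finite type subobject (helper58).
-/

set_option autoImplicit false
universe u

open CategoryTheory CategoryTheory.Limits AlgebraicGeometry TopologicalSpace Opposite

noncomputable section

open Groth.Agent.Lib.Helper74.FtSub Groth.Agent.Lib.Helper74.VAFt

namespace Groth.Agent.Lib.Helper58.VAFtD5

open Groth.Agent.Lib.Helper74.SymQ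

theorem exists_lift_sym {Y : Scheme.{u}} {F : Y.Modules} (hFq : Coh.IsQCoh F)
    {𝒯 : RelProj.QCGrAlg Y} {jF : F ⟶ 𝒯.toModule} (h𝒯 : RelProj.IsGrSymAlg F 𝒯 jF)
    (hdir : IsDirected (FtSub F) (· ≤ ·)) (hne : Nonempty (FtSub F))
    (hmem : ∀ (U : Y.Opens) (_ : IsAffineOpen U) (m : Γ(F, U)),
      ∃ (a : FtSub F) (e : Γ(a.E, U)), (a.ι.app U) e = m)
    (U : Y.Opens) (hU : IsAffineOpen U) (x : 𝒯.presheaf.obj (op U)) :
    ∃ (a : FtSub F) (y : (sym a).presheaf.obj (op U)),
      ((φ h𝒯 a).hom.app (op U)).hom y = x := by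
  have : F.IsQuasicoherent := hFq
  have hf := isSymmetricAlgebra_of_isSymAlg h𝒯.1 U hU
  have key : ∀ (a c : FtSub F) (hac : a ≤ c) (y : (sym a).presheaf.obj (op U)),
      ((φ h𝒯 c).hom.app (op U)).hom (((t a c hac).hom.app (op U)).hom y) =
        ((φ h𝒯 a).hom.app (op U)).hom y := by
    intro a c hac y
    have := congrArg (fun ψ : (sym a).toQCAlg ⟶ 𝒯.toQCAlg => (ψ.hom.app (op U)).hom y)
      (hφt h𝒯 a c hac)
    exact this
  induction x using hf.induction with
  | algebraMap r =>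
    obtain ⟨a⟩ := hne
    refine ⟨a, ((sym a).str.app (op U)).hom r, ?_⟩
    have := congrArg (fun η => (η.app (op U)).hom r) (φ h𝒯 a).comm
    rw [algebraMap_algSect]
    exact this
  | ι m =>
    obtain ⟨a, e, he⟩ := hmem U hU m
    refine ⟨a, (symJ a).app U e, ?_⟩
    rw [φ_symJ, he]
    rfl
  | mul x x' hx hx' =>
    obtain ⟨a, y, rfl⟩ := hx
    obtain ⟨b, y', rfl⟩ := hx'
    obtain ⟨c, hac, hbc⟩ := hdir.directed a b
    refine ⟨c, ((t a c hac).hom.app (op U)).hom y * ((t b c hbc).hom.app (op U)).hom y', ?_⟩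
    rw [map_mul, key, key]
  | add x x' hx hx' =>
    obtain ⟨a, y, rfl⟩ := hx
    obtain ⟨b, y', rfl⟩ := hx'
    obtain ⟨c, hac, hbc⟩ := hdir.directed a b
    refine ⟨c, ((t a c hac).hom.app (op U)).hom y + ((t b c hbc).hom.app (op U)).hom y', ?_⟩
    rw [map_add, key, key]

end Groth.Agent.Lib.Helper58.VAFtD5
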