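import Mathlib

set_option autoImplicit false
set_option linter.style.haveILetI false
set_option linter.unusedSectionVars false
universe u

/-!
# Helper lemmas on valuation subrings: integral elements and rigidity of unramified algebras
-/

namespace Groth.Agent.Lib.Helper58.ValCore1

open Polynomial IsLocalRing TensorProduct

variable {E : Type*} [Field E] (W : ValuationSubring E)

/-- integral elements over a ring mapping into `W` lie in `W`. -/
lemma mem_of_isIntegral {A : Type*} [CommRing A] [Algebra A E]
    (hA : ∀ a : A, algebraMap A E a ∈ W) {x : E} (hx : IsIntegral A x) : x ∈ W := by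
  let f' : A →+* W := (algebraMap A E).codRestrict W.toSubring hA
  have hcomp : (algebraMap W E).comp f' = algebraMap A E := by
    ext a; rfl
  have h1 : (algebraMap W E).IsIntegralElem x := by
    apply RingHom.IsIntegralElem.of_comp (f := f')
    rw [hcomp]
    exact hx
  have h2 : IsIntegral W x := h1
  obtain ⟨y, hy⟩ := IsIntegrallyClosed.isIntegral_iff.mp h2
  rw [← hy]
  exact y.2

/-- rigidity: two algebra maps from an essentially finite type formally unramified algebra into
a valued field, with values in the valuation ring and congruent modulo its maximal ideal,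
are equal. -/
theorem algHom_ext_of_valuation_lt {A : Type*} [CommRing A] {V : Type*} [CommRing V] [Algebra A V]
    [Algebra.EssFiniteType A V] [Algebra.FormallyUnramified A V] [Algebra A E]
    (f₁ f₂ : V →ₐ[A] E) (h1 : ∀ x, W.valuation (f₁ x) ≤ 1)
    (h : ∀ x, W.valuation (f₂ x - f₁ x) < 1) : f₁ = f₂ := by
  obtain ⟨e, he, hsp⟩ : ∃ e, IsIdempotentElem e ∧ KaehlerDifferential.ideal A V = V ⊗[A] V ∙ e :=
    (Ideal.isIdempotentElem_iff_of_fg _ (KaehlerDifferential.ideal_fg A V)).mp <|
      (Ideal.cotangent_subsingleton_iff _).mp <| inferInstanceAs <| Subsingleton Ω[V⁄A]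
  let F : V ⊗[A] V →ₐ[A] E := Algebra.TensorProduct.lift f₁ f₂ fun _ _ => Commute.all _ _
  have hF : ∀ a b, F (a ⊗ₜ b) = f₁ a * f₂ b := fun a b => by simp [F]
  have hemem : e ∈ KaehlerDifferential.ideal A V := by
    rw [hsp]; exact Ideal.mem_span_singleton_self e
  have hG : ∀ x : V ⊗[A] V,
      W.valuation (F x - f₁ (Algebra.TensorProduct.lmul' A x)) < 1 := by
    intro x
    induction x with
    | zero => simp
    | tmul a b =>
      rw [hF, Algebra.TensorProduct.lmul'_apply_tmul, map_mul, ← mul_sub, map_mul]
      calc W.valuation (f₁ a) * W.valuation (f₂ b - f₁ b)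
          ≤ 1 * W.valuation (f₂ b - f₁ b) := mul_le_mul_left (h1 a) _
        _ = W.valuation (f₂ b - f₁ b) := one_mul _
        _ < 1 := h b
    | add x y hx hy =>
      have : F (x + y) - f₁ (Algebra.TensorProduct.lmul' A (x + y)) =
          (F x - f₁ (Algebra.TensorProduct.lmul' A x)) +
            (F y - f₁ (Algebra.TensorProduct.lmul' A y)) := by
        simp only [map_add]; ring
      rw [this]
      exact Valuation.map_add_lt _ hx hy
  have hFe_lt : W.valuation (F e) < 1 := by
    have := hG e
    rwa [(RingHom.mem_ker).1 hemem, map_zero, sub_zero] at this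
  have hFe_idem : IsIdempotentElem (F e) := he.map F
  have hFe : F e = 0 := by
    rcases IsIdempotentElem.iff_eq_zero_or_one.mp hFe_idem with h0 | h1'
    · exact h0
    · rw [h1', map_one] at hFe_lt
      exact absurd hFe_lt (lt_irrefl _)
  ext b
  have hb : (1 : V) ⊗ₜ[A] b - b ⊗ₜ[A] (1 : V) ∈ KaehlerDifferential.ideal A V :=
    KaehlerDifferential.one_smul_sub_smul_one_mem_ideal A b
  rw [hsp] at hb
  obtain ⟨x, hx⟩ := Ideal.mem_span_singleton'.mp hb
  have := congrArg F hx
  rw [map_mul, hFe, mul_zero, map_sub, hF, hF, map_one, map_one, one_mul, mul_one] at this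
  exact (sub_eq_zero.mp this.symm).symm

end Groth.Agent.Lib.Helper58.ValCore1
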