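import Mathlib

set_option autoImplicit false
set_option linter.style.haveILetI false
set_option linter.unusedSectionVars false
universe u

/-!
# A Newton polygon lemma for valuation subrings

If `z` is a root of a split polynomial all of whose other roots have a valuation different from
that of `z`, then `z` is, up to a unit of the valuation ring, a quotient of two consecutive
coefficients of the polynomial.
-/

namespace Groth.Agent.Lib.Helper58.ValNewton

open Polynomial IsLocalRing

variable {E : Type*} [Field E] (W : ValuationSubring E)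

lemma mem_maximalIdeal_of_valuation_lt_one {x : E} (hx : W.valuation x < 1) :
    ∃ w : W, (w : E) = x ∧ w ∈ maximalIdeal W := by
  have hxW : x ∈ W := (W.valuation_le_one_iff x).mp hx.le
  refine ⟨⟨x, hxW⟩, rfl, ?_⟩
  rw [W.valuation_lt_one_iff]
  exact hx

/-- the big roots. -/
lemma exists_big (z : E) (T : Multiset E) (h : ∀ ζ ∈ T, W.valuation z < W.valuation ζ) :
    ∃ G : W[X], G.map (residue W) = 1 ∧
      (T.map (fun ζ => (X - C ζ).comp (C z * X))).prod =
        C (T.map (fun ζ => -ζ)).prod * G.map W.subtype ∧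
      (T.map (fun ζ => -ζ)).prod ≠ 0 := by
  induction T using Multiset.induction_on with
  | empty => exact ⟨1, by simp, by simp, by simp⟩
  | cons ζ T ih =>
    obtain ⟨G, hG1, hG2, hG3⟩ := ih (fun ξ hξ => h ξ (Multiset.mem_cons_of_mem hξ))
    have hζ := h ζ (Multiset.mem_cons_self ζ T)
    have hζ0 : ζ ≠ 0 := by
      intro h0
      rw [h0, map_zero] at hζ
      exact not_lt_zero hζ
    have hv : W.valuation (z * ζ⁻¹) < 1 := by
      rw [map_mul, map_inv₀]
      have hpos : 0 < W.valuation ζ := lt_of_le_of_lt zero_le hζ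
      rw [← div_eq_mul_inv, div_lt_one₀ hpos]
      exact hζ
    obtain ⟨w, hw, hwm⟩ := mem_maximalIdeal_of_valuation_lt_one W hv
    refine ⟨(1 - C w * X) * G, ?_, ?_, ?_⟩
    · rw [Polynomial.map_mul, hG1, mul_one, Polynomial.map_sub, Polynomial.map_one,
        Polynomial.map_mul, Polynomial.map_C, Polynomial.map_X]
      have : residue W w = 0 := (residue_eq_zero_iff w).mpr hwm
      rw [this, map_zero, zero_mul, sub_zero]
    · rw [Multiset.map_cons, Multiset.prod_cons, hG2, Multiset.map_cons, Multiset.prod_cons,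
        Polynomial.map_mul, Polynomial.map_sub, Polynomial.map_one, Polynomial.map_mul,
        Polynomial.map_C, Polynomial.map_X]
      have hws : W.subtype w = z * ζ⁻¹ := hw
      rw [hws]
      simp only [sub_comp, X_comp, C_comp, map_mul, map_neg]
      have : (C z * X - C ζ : E[X]) = -C ζ * (1 - C z * C ζ⁻¹ * X) := by
        have hc : (C ζ * C ζ⁻¹ : E[X]) = 1 := by
          rw [← map_mul, mul_inv_cancel₀ hζ0, map_one]
        linear_combination (-(C z * X) : E[X]) * hc
      rw [this]
      ring
    · rw [Multiset.map_cons, Multiset.prod_cons]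
      exact mul_ne_zero (neg_ne_zero.mpr hζ0) hG3

/-- the small roots. -/
lemma exists_small (z : E) (hz : z ≠ 0) (T : Multiset E)
    (h : ∀ ζ ∈ T, W.valuation ζ < W.valuation z) :
    ∃ G : W[X], G.map (residue W) = X ^ (Multiset.card T) ∧
      (T.map (fun ζ => (X - C ζ).comp (C z * X))).prod =
        C (z ^ (Multiset.card T)) * G.map W.subtype := by
  induction T using Multiset.induction_on with
  | empty => exact ⟨1, by simp, by simp⟩
  | cons ζ T ih =>
    obtain ⟨G, hG1, hG2⟩ := ih (fun ξ hξ => h ξ (Multiset.mem_cons_of_mem hξ))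
    have hζ := h ζ (Multiset.mem_cons_self ζ T)
    have hv : W.valuation (ζ * z⁻¹) < 1 := by
      rw [map_mul, map_inv₀]
      have hpos : 0 < W.valuation z := lt_of_le_of_lt zero_le hζ
      rw [← div_eq_mul_inv, div_lt_one₀ hpos]
      exact hζ
    obtain ⟨w, hw, hwm⟩ := mem_maximalIdeal_of_valuation_lt_one W hv
    refine ⟨(X - C w) * G, ?_, ?_⟩
    · rw [Polynomial.map_mul, hG1, Polynomial.map_sub, Polynomial.map_X, Polynomial.map_C]
      have : residue W w = 0 := (residue_eq_zero_iff w).mpr hwm
      rw [this, map_zero, sub_zero, Multiset.card_cons, pow_succ, mul_comm]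
    · rw [Multiset.map_cons, Multiset.prod_cons, hG2, Multiset.card_cons,
        Polynomial.map_mul, Polynomial.map_sub, Polynomial.map_X, Polynomial.map_C]
      have hws : W.subtype w = ζ * z⁻¹ := hw
      rw [hws]
      simp only [sub_comp, X_comp, C_comp, map_mul, map_pow]
      have : (C z * X - C ζ : E[X]) = C z * (X - C ζ * C z⁻¹) := by
        have hc : (C z * C z⁻¹ : E[X]) = 1 := by
          rw [← map_mul, mul_inv_cancel₀ hz, map_one]
        linear_combination (C ζ : E[X]) * hc
      rw [this]
      ring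

/-- **Newton polygon lemma.** -/
theorem coeff_relation (z : E) (hz : z ≠ 0) (T₁ T₂ : Multiset E)
    (h₁ : ∀ ζ ∈ T₁, W.valuation z < W.valuation ζ)
    (h₂ : ∀ ζ ∈ T₂, W.valuation ζ < W.valuation z) (P : E[X])
    (hP : P = (X - C z) * (T₁.map (fun ζ => X - C ζ)).prod * (T₂.map (fun ζ => X - C ζ)).prod) :
    P.coeff (Multiset.card T₂) ≠ 0 ∧
      ∃ u : E, W.valuation u = 1 ∧
        P.coeff (Multiset.card T₂ + 1) * z = u * P.coeff (Multiset.card T₂) := by
  obtain ⟨G₁, hG₁r, hG₁, hc₁⟩ := exists_big W z T₁ h₁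
  obtain ⟨G₂, hG₂r, hG₂⟩ := exists_small W z hz T₂ h₂
  set s := Multiset.card T₂ with hs
  set c : E := z * (T₁.map (fun ζ => -ζ)).prod * z ^ s with hc
  have hc0 : c ≠ 0 := mul_ne_zero (mul_ne_zero hz hc₁) (pow_ne_zero _ hz)
  set G : W[X] := (X - 1) * G₁ * G₂ with hG
  have hGr : G.map (residue W) = (X - 1) * X ^ s := by
    rw [hG, Polynomial.map_mul, Polynomial.map_mul, hG₁r, hG₂r, Polynomial.map_sub,
      Polynomial.map_X, Polynomial.map_one, mul_one]
  have hcomp : P.comp (C z * X) = C c * G.map W.subtype := by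
    rw [hP, mul_comp, mul_comp, multiset_prod_comp, multiset_prod_comp, Multiset.map_map,
      Multiset.map_map]
    have e1 : (fun ζ : E => (X - C ζ : E[X]).comp (C z * X)) =
        ((fun p : E[X] => p.comp (C z * X)) ∘ fun ζ => X - C ζ) := rfl
    rw [← e1, hG₁, hG₂, hG, Polynomial.map_mul, Polynomial.map_mul, Polynomial.map_sub,
      Polynomial.map_X, Polynomial.map_one, hc]
    simp only [sub_comp, X_comp, C_comp, map_mul, map_pow]
    ring
  have hcoeff : ∀ i, P.coeff i * z ^ i = c * ((G.coeff i : W) : E) := by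
    intro i
    have := congrArg (fun p => Polynomial.coeff p i) hcomp
    simp only [comp_C_mul_X_coeff, coeff_C_mul, coeff_map] at this
    exact this
  -- the two coefficients are units
  have hunit : ∀ i, residue W (G.coeff i) ≠ 0 → W.valuation ((G.coeff i : W) : E) = 1 := by
    intro i hi
    have : IsUnit (G.coeff i) := by
      by_contra hnu
      exact hi ((residue_eq_zero_iff _).mpr hnu)
    exact (W.valuation_eq_one_iff _).mp this
  have hrs : residue W (G.coeff s) = -1 := by
    rw [← coeff_map, hGr, coeff_mul_X_pow', if_pos le_rfl, Nat.sub_self]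
    simp
  have hrs1 : residue W (G.coeff (s + 1)) = 1 := by
    rw [← coeff_map, hGr, coeff_mul_X_pow', if_pos (Nat.le_succ s), Nat.add_sub_cancel_left]
    simp [coeff_X_one, coeff_one]
  have hu_s := hunit s (by rw [hrs]; exact neg_ne_zero.mpr one_ne_zero)
  have hu_s1 := hunit (s + 1) (by rw [hrs1]; exact one_ne_zero)
  set gs : E := ((G.coeff s : W) : E) with hgs
  set gs1 : E := ((G.coeff (s + 1) : W) : E) with hgs1
  have hgs0 : gs ≠ 0 := by
    intro h0
    rw [h0, map_zero] at hu_s
    exact zero_ne_one hu_s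
  have hzs : z ^ s ≠ 0 := pow_ne_zero _ hz
  have h1 := hcoeff s
  have h2 := hcoeff (s + 1)
  refine ⟨?_, gs1 * gs⁻¹, ?_, ?_⟩
  · intro h0
    rw [h0, zero_mul] at h1
    exact mul_ne_zero hc0 hgs0 h1.symm
  · rw [map_mul, map_inv₀, hu_s, hu_s1, inv_one, mul_one]
  · have h3 : P.coeff (s + 1) * z * z ^ s = gs1 * gs⁻¹ * P.coeff s * z ^ s := by
      have e1 : P.coeff (s + 1) * z * z ^ s = c * gs1 := by rw [← h2]; ring
      have e2 : gs1 * gs⁻¹ * P.coeff s * z ^ s = gs1 * gs⁻¹ * (c * gs) := by rw [← h1]; ring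
      rw [e1, e2]
      field_simp
    exact mul_right_cancel₀ hzs h3

end Groth.Agent.Lib.Helper58.ValNewton
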