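import Mathlib
import Groth.Agent.Lib.Helper58.ValNewton
import Groth.Agent.Lib.Helper58.ValCore1

set_option autoImplicit false
set_option linter.style.haveILetI false
set_option linter.unusedSectionVars false
universe u

/-!
# Value groups of essentially étale local extensions of valuation rings with trivial residue
field extension
-/

namespace Groth.Agent.Lib.Helper58.ValCore2

open Polynomial IsLocalRing

section Setup

variable {A : Type u} [CommRing A]
  {V : Type u} [CommRing V] [IsLocalRing V] [Algebra A V]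
  {E : Type u} [Field E] [Algebra V E] [Algebra A E] [IsScalarTower A V E]
  (W : ValuationSubring E) (hW : ∀ x : V, algebraMap V E x ∈ W)
  (hloc : IsLocalHom ((algebraMap V E).codRestrict W.toSubring hW))

include hW in
lemma val_le_one (x : V) : W.valuation (algebraMap V E x) ≤ 1 :=
  (W.valuation_le_one_iff _).mpr (hW x)

include hloc in
lemma val_lt_one_iff (x : V) : x ∈ maximalIdeal V ↔ W.valuation (algebraMap V E x) < 1 := by
  set x' : W := (algebraMap V E).codRestrict W.toSubring hW x with hx'
  have hcoe : (x' : E) = algebraMap V E x := rfl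
  rw [← hcoe, ← W.valuation_lt_one_iff x']
  constructor
  · intro hx
    rw [mem_maximalIdeal, mem_nonunits_iff] at hx ⊢
    intro hu
    exact hx (hloc.map_nonunit x hu)
  · intro hx
    rw [mem_maximalIdeal, mem_nonunits_iff] at hx ⊢
    intro hu
    exact hx (hu.map _)

include hloc in
lemma val_eq_one_of_isUnit {x : V} (hx : IsUnit x) : W.valuation (algebraMap V E x) = 1 := by
  have h1 := val_le_one W hW x
  have h2 : ¬ W.valuation (algebraMap V E x) < 1 := by
    rw [← val_lt_one_iff W hW hloc]
    rw [mem_maximalIdeal, mem_nonunits_iff, not_not]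
    exact hx
  exact le_antisymm h1 (not_lt.mp h2)

include hloc in
lemma isUnit_of_val_eq_one {x : V} (hx : W.valuation (algebraMap V E x) = 1) : IsUnit x := by
  by_contra hnu
  have : x ∈ maximalIdeal V := hnu
  rw [val_lt_one_iff W hW hloc] at this
  rw [hx] at this
  exact lt_irrefl _ this

include hW in
lemma algebraMap_A_mem (a : A) : algebraMap A E a ∈ W := by
  rw [IsScalarTower.algebraMap_apply A V E]
  exact hW _

end Setup

section Finish

variable {A : Type u} [CommRing A] [IsDomain A] [ValuationRing A]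
  {V : Type u} [CommRing V] [IsLocalRing V] [Algebra A V]
  {E : Type u} [Field E] [Algebra V E] [Algebra A E] [IsScalarTower A V E]
  (W : ValuationSubring E) (hW : ∀ x : V, algebraMap V E x ∈ W)
  (hloc : IsLocalHom ((algebraMap V E).codRestrict W.toSubring hW))
  (hinj : Function.Injective (algebraMap V E))
  (hdvd : ∀ s t : V, s ∣ t ∨ t ∣ s)

include hloc hinj hdvd in
lemma finish_aux (z : V) (hz : z ≠ 0) (u : E) (hu : W.valuation u = 1) (c : A)
    (h : algebraMap V E z = u * algebraMap A E c) :
    ∃ (a : A) (w : Vˣ), z = w * algebraMap A V a := by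
  have hzE : algebraMap V E z ≠ 0 := fun h0 => hz (hinj (by rw [h0, map_zero]))
  have hcE : algebraMap V E (algebraMap A V c) ≠ 0 := by
    rw [← IsScalarTower.algebraMap_apply A V E]
    intro h0
    rw [h0, mul_zero] at h
    exact hzE h
  rw [IsScalarTower.algebraMap_apply A V E] at h
  rcases hdvd z (algebraMap A V c) with ⟨b, hb⟩ | ⟨b, hb⟩
  · -- alg c = z * b
    have h1 := congrArg (algebraMap V E) hb
    rw [map_mul, h] at h1
    have h2 : u * algebraMap V E b = 1 := by
      have : algebraMap V E (algebraMap A V c) * (u * algebraMap V E b) =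
          algebraMap V E (algebraMap A V c) * 1 := by
        calc algebraMap V E (algebraMap A V c) * (u * algebraMap V E b)
            = u * algebraMap V E (algebraMap A V c) * algebraMap V E b := by ring
          _ = algebraMap V E (algebraMap A V c) := h1.symm
          _ = algebraMap V E (algebraMap A V c) * 1 := (mul_one _).symm
      exact mul_left_cancel₀ hcE this
    have hvb : W.valuation (algebraMap V E b) = 1 := by
      have := congrArg W.valuation h2
      rwa [map_mul, hu, one_mul, map_one] at this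
    have hbu : IsUnit b := isUnit_of_val_eq_one W hW hloc hvb
    refine ⟨c, hbu.unit⁻¹, ?_⟩
    rw [hb, mul_comm z b, ← mul_assoc, IsUnit.val_inv_mul hbu, one_mul]
  · -- z = alg c * b
    have h1 := congrArg (algebraMap V E) hb
    rw [map_mul, h] at h1
    have h2 : algebraMap V E b = u := by
      have : algebraMap V E (algebraMap A V c) * algebraMap V E b =
          algebraMap V E (algebraMap A V c) * u := by
        rw [← h1]; ring
      exact mul_left_cancel₀ hcE this
    have hvb : W.valuation (algebraMap V E b) = 1 := by rw [h2, hu]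
    have hbu : IsUnit b := isUnit_of_val_eq_one W hW hloc hvb
    refine ⟨c, hbu.unit, ?_⟩
    rw [hb, mul_comm]
    rfl

variable {K : Type u} [Field K] [Algebra A K] [IsFractionRing A K] [Algebra K E]
  [IsScalarTower A K E]

include hloc hinj hdvd in
lemma finish (z : V) (hz : z ≠ 0) (u : E) (hu : W.valuation u = 1) (k : K)
    (h : algebraMap V E z = u * algebraMap K E k) :
    ∃ (a : A) (w : Vˣ), z = w * algebraMap A V a := by
  have hzE : algebraMap V E z ≠ 0 := fun h0 => hz (hinj (by rw [h0, map_zero]))
  obtain ⟨a₁, a₂, ha₂, rfl⟩ := IsFractionRing.div_surjective (A := A) k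
  have ha₂0 : algebraMap A K a₂ ≠ 0 :=
    IsFractionRing.to_map_ne_zero_of_mem_nonZeroDivisors ha₂
  rcases ValuationRing.cond a₁ a₂ with ⟨c, hc | hc⟩
  · -- a₁ * c = a₂ : k = 1 / c
    have ha₁0 : algebraMap A K a₁ ≠ 0 := by
      intro h0
      rw [h0, zero_div, map_zero, mul_zero] at h
      exact hzE h
    have hc0 : algebraMap A K c ≠ 0 := by
      intro h0
      rw [← hc, map_mul, h0, mul_zero] at ha₂0
      exact ha₂0 rfl
    have hk : algebraMap A K a₁ / algebraMap A K a₂ = (algebraMap A K c)⁻¹ := by
      rw [← hc, map_mul]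
      field_simp
    rw [hk, map_inv₀, ← IsScalarTower.algebraMap_apply A K E] at h
    have hcE : algebraMap A E c ≠ 0 := by
      rw [IsScalarTower.algebraMap_apply A K E]
      exact (_root_.map_ne_zero _).mpr hc0
    have h2 : algebraMap V E z * algebraMap V E (algebraMap A V c) = u := by
      rw [← IsScalarTower.algebraMap_apply A V E, h]
      field_simp
    have hv := congrArg W.valuation h2
    rw [map_mul, hu] at hv
    have hz1 : W.valuation (algebraMap V E z) = 1 := by
      have h1 := val_le_one W hW z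
      have h2' := val_le_one W hW (algebraMap A V c)
      by_contra hne
      have hlt : W.valuation (algebraMap V E z) < 1 := lt_of_le_of_ne h1 hne
      have : W.valuation (algebraMap V E z) * W.valuation (algebraMap V E (algebraMap A V c)) < 1 :=
        mul_lt_one_of_lt_of_le hlt h2'
      rw [hv] at this
      exact lt_irrefl _ this
    have hzu : IsUnit z := isUnit_of_val_eq_one W hW hloc hz1
    exact ⟨1, hzu.unit, by rw [map_one, mul_one]; rfl⟩
  · -- a₂ * c = a₁ : k = c
    have hk : algebraMap A K a₁ / algebraMap A K a₂ = algebraMap A K c := by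
      rw [← hc, map_mul]
      field_simp
    rw [hk, ← IsScalarTower.algebraMap_apply A K E] at h
    exact finish_aux W hW hloc hinj hdvd z hz u hu c h

end Finish

section Exponent

/-- a good exponent exists. -/
lemma exists_good_exponent {Γ₀ : Type*} [LinearOrderedCommGroupWithZero Γ₀] {ι' : Type*}
    [Finite ι'] (g r : ι' → Γ₀) (hg : ∀ i, g i ≠ 0) (hr0 : ∀ i, r i ≠ 0) (hr1 : ∀ i, r i < 1)
    (γ : Γ₀) : ∃ m : ℕ, ∀ i, g i * r i ^ m ≠ γ := by
  have hfin : ∀ i, {m : ℕ | g i * r i ^ m = γ}.Finite := by
    intro i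
    apply Set.Subsingleton.finite
    intro m hm n hn
    change g i * r i ^ m = γ at hm
    change g i * r i ^ n = γ at hn
    have h1 : r i ^ m = r i ^ n := by
      have : g i * r i ^ m = g i * r i ^ n := by rw [hm, hn]
      exact mul_left_cancel₀ (hg i) this
    exact (pow_right_strictAnti₀ (zero_lt_iff.mpr (hr0 i)) (hr1 i)).injective h1
  obtain ⟨m, hm⟩ := (Set.finite_iUnion hfin).exists_notMem
  refine ⟨m, fun i h => hm ?_⟩
  rw [Set.mem_iUnion]
  exact ⟨i, h⟩

end Exponent

section Main

set_option maxHeartbeats 1600000 in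
/-- **Value groups agree**: an essentially étale local extension `V` of a valuation ring `A`,
with trivial residue field extension, totally ordered divisibility, and which is a localization
of an integral `A`-algebra (Zariski's main theorem), has every nonzero element a unit multiple
of an element of `A`. -/
theorem exists_unit_mul
    (A : Type u) [CommRing A] [IsDomain A] [ValuationRing A]
    (V : Type u) [CommRing V] [IsDomain V] [IsLocalRing V] [Algebra A V]
    [IsLocalHom (algebraMap A V)]
    [Algebra.EssFiniteType A V] [Algebra.FormallyUnramified A V]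
    (hdvd : ∀ s t : V, s ∣ t ∨ t ∣ s)
    (htriv : ∀ x : V, ∃ a : A, x - algebraMap A V a ∈ maximalIdeal V)
    (hzmt : ∀ x : V, ∃ d t : V, IsIntegral A d ∧ IsIntegral A t ∧ IsUnit t ∧ x * t = d)
    (K K' : Type u) [Field K] [Field K'] [Algebra A K] [IsFractionRing A K]
    [Algebra V K'] [IsFractionRing V K'] [Algebra K K'] [Algebra A K'] [IsScalarTower A K K']
    [IsScalarTower A V K'] [FiniteDimensional K K'] [Algebra.IsSeparable K K']
    (s : V) (hs : s ≠ 0) : ∃ (a : A) (u : Vˣ), s = u * algebraMap A V a := by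
  classical
  let E := AlgebraicClosure K'
  have hinj : Function.Injective (algebraMap V E) := by
    rw [IsScalarTower.algebraMap_eq V K' E]
    exact (algebraMap K' E).injective.comp (IsFractionRing.injective V K')
  obtain ⟨W, hW, hloc⟩ := IsLocalRing.exists_factor_valuationRing (algebraMap V E)
  let ι : K' →ₐ[K] E := IsScalarTower.toAlgHom K K' E
  let jj : (K' →ₐ[K] E) → (V →ₐ[A] E) := fun τ =>
    (τ.restrictScalars A).comp (IsScalarTower.toAlgHom A V K')
  have hjj : ∀ τ x, jj τ x = τ (algebraMap V K' x) := fun τ x => rfl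
  have hjι : ∀ x, jj ι x = algebraMap V E x := fun x =>
    (IsScalarTower.algebraMap_apply V K' E x).symm
  have hA : ∀ a : A, algebraMap A E a ∈ W := algebraMap_A_mem W hW
  have C1 : ∀ τ (d : V), IsIntegral A d → jj τ d ∈ W := fun τ d hd =>
    ValCore1.mem_of_isIntegral W hA (hd.map (jj τ))
  have hAloc : ∀ a : A, algebraMap A V a ∈ maximalIdeal V ↔ a ∈ maximalIdeal A := by
    intro a
    simp only [mem_maximalIdeal, mem_nonunits_iff]
    exact not_congr ⟨fun h => isUnit_of_map_unit (algebraMap A V) a h, fun h => h.map _⟩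
  -- C2
  have C2 : ∀ τ : K' →ₐ[K] E, τ ≠ ι →
      ∃ y : V, IsIntegral A y ∧ IsUnit y ∧ W.valuation (jj τ y) < 1 := by
    intro τ hτ
    by_contra hno
    push Not at hno
    apply hτ
    let Int := integralClosure A V
    let gτ : Int →+* W := ((jj τ).toRingHom.comp Int.val.toRingHom).codRestrict W.toSubring
      (fun d => C1 τ d.1 d.2)
    have hgτ : ∀ d : Int, ((gτ d : W) : E) = jj τ d.1 := fun d => rfl
    let P₁ : Ideal Int := Ideal.comap gτ (maximalIdeal W)
    let P₂ : Ideal Int := Ideal.comap Int.val.toRingHom (maximalIdeal V)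
    have hP₁mem : ∀ d : Int, d ∈ P₁ ↔ W.valuation (jj τ d.1) < 1 := by
      intro d
      rw [Ideal.mem_comap, W.valuation_lt_one_iff, hgτ]
    have hP₂mem : ∀ d : Int, d ∈ P₂ ↔ d.1 ∈ maximalIdeal V := fun d => Iff.rfl
    have hle : P₁ ≤ P₂ := by
      intro d hd
      rw [hP₁mem] at hd
      rw [hP₂mem]
      by_contra hnm
      have hu : IsUnit d.1 := by
        rw [mem_maximalIdeal, mem_nonunits_iff, not_not] at hnm
        exact hnm
      exact absurd hd (not_lt.mpr (hno d.1 d.2 hu))
    haveI hP₁p : P₁.IsPrime := Ideal.comap_isPrime gτ _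
    haveI hP₂p : P₂.IsPrime := Ideal.comap_isPrime _ _
    have hcomap : P₁.comap (algebraMap A Int) = maximalIdeal A := by
      ext a
      rw [Ideal.mem_comap, hP₁mem]
      have e1 : jj τ ((algebraMap A Int a : Int) : V) = algebraMap V E (algebraMap A V a) := by
        have : ((algebraMap A Int a : Int) : V) = algebraMap A V a := rfl
        rw [this, AlgHom.commutes, IsScalarTower.algebraMap_apply A V E]
      rw [e1, ← val_lt_one_iff W hW hloc, hAloc]
    haveI hP₁m : P₁.IsMaximal :=
      Ideal.isMaximal_of_isIntegral_of_isMaximal_comap P₁ (by rw [hcomap]; infer_instance)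
    have hP₁₂ : P₁ = P₂ := Ideal.IsMaximal.eq_of_le hP₁m hP₂p.ne_top hle
    have hstar : ∀ d : V, IsIntegral A d →
        (d ∈ maximalIdeal V ↔ W.valuation (jj τ d) < 1) := by
      intro d hd
      have := hP₁mem ⟨d, hd⟩
      rw [hP₁₂, hP₂mem] at this
      exact this
    have hall : ∀ x : V, W.valuation (jj τ x) ≤ 1 ∧
        (x ∈ maximalIdeal V → W.valuation (jj τ x) < 1) := by
      intro x
      obtain ⟨d, t, hd, ht, htu, hxt⟩ := hzmt x
      have ht1 : W.valuation (jj τ t) = 1 := by
        have h1 : W.valuation (jj τ t) ≤ 1 := (W.valuation_le_one_iff _).mpr (C1 τ t ht)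
        have h2 : ¬ W.valuation (jj τ t) < 1 := by
          rw [← hstar t ht, mem_maximalIdeal, mem_nonunits_iff, not_not]
          exact htu
        exact le_antisymm h1 (not_lt.mp h2)
      have hval : W.valuation (jj τ x) = W.valuation (jj τ d) := by
        rw [← hxt, map_mul, map_mul, ht1, mul_one]
      refine ⟨?_, ?_⟩
      · rw [hval]; exact (W.valuation_le_one_iff _).mpr (C1 τ d hd)
      · intro hx
        rw [hval, ← hstar d hd, ← hxt]
        exact Ideal.mul_mem_right _ _ hx
    have hext : jj ι = jj τ := by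
      apply ValCore1.algHom_ext_of_valuation_lt W (jj ι) (jj τ)
      · intro x; rw [hjι]; exact val_le_one W hW x
      · intro x
        obtain ⟨a, ha⟩ := htriv x
        have e : jj τ x - jj ι x =
            jj τ (x - algebraMap A V a) - jj ι (x - algebraMap A V a) := by
          rw [map_sub, map_sub, AlgHom.commutes, AlgHom.commutes]; ring
        rw [e]
        apply Valuation.map_sub_lt
        · exact (hall _).2 ha
        · rw [hjι]; exact (val_lt_one_iff W hW hloc _).mp ha
    apply AlgHom.coe_ringHom_injective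
    apply IsLocalization.ringHom_ext (nonZeroDivisors V)
    ext x
    exact (DFunLike.congr_fun hext x).symm
  -- C3
  haveI : Fintype (K' →ₐ[K] E) := minpoly.AlgHom.fintype K K' E
  choose! yy hyy using C2
  let y : (K' →ₐ[K] E) → V := fun τ => if τ = ι then 1 else yy τ
  have hy_int : ∀ τ, IsIntegral A (y τ) := by
    intro τ
    by_cases h : τ = ι
    · simp only [y, if_pos h]; exact isIntegral_one
    · simp only [y, if_neg h]; exact (hyy τ h).1
  have hy_unit : ∀ τ, IsUnit (y τ) := by
    intro τ
    by_cases h : τ = ι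
    · simp only [y, if_pos h]; exact isUnit_one
    · simp only [y, if_neg h]; exact (hyy τ h).2.1
  have hy_lt : ∀ τ, τ ≠ ι → W.valuation (jj τ (y τ)) < 1 := by
    intro τ h
    simp only [y, if_neg h]; exact (hyy τ h).2.2
  set y₀ : V := ∏ τ, y τ with hy₀
  have hy₀_unit : IsUnit y₀ := IsUnit.prod_univ_iff.mpr hy_unit
  have hy₀_lt : ∀ τ, τ ≠ ι → W.valuation (jj τ y₀) < 1 := by
    intro τ h
    rw [hy₀, map_prod, map_prod, ← Finset.mul_prod_erase Finset.univ _ (Finset.mem_univ τ)]
    apply mul_lt_one_of_lt_of_le (hy_lt τ h)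
    apply Finset.prod_le_one'
    intro σ _
    exact (W.valuation_le_one_iff _).mpr (C1 τ (y σ) (hy_int σ))
  -- reduce to integral elements
  obtain ⟨d, t, hd, ht, htu, hst⟩ := hzmt s
  have hd0 : d ≠ 0 := by rw [← hst]; exact mul_ne_zero hs htu.ne_zero
  suffices h : ∃ (a : A) (u : Vˣ), d = u * algebraMap A V a by
    obtain ⟨a, u, hu⟩ := h
    refine ⟨a, u * htu.unit⁻¹, ?_⟩
    have : s = d * ((htu.unit⁻¹ : Vˣ) : V) := by
      rw [← hst, mul_assoc, IsUnit.mul_val_inv htu, mul_one]
    rw [this, hu, Units.val_mul]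
    ring
  -- choose the exponent
  have hgood : ∃ m : ℕ, ∀ τ : {τ : K' →ₐ[K] E // τ ≠ ι},
      W.valuation (jj τ.1 d) * W.valuation (jj τ.1 y₀) ^ m ≠ W.valuation (jj ι d) := by
    apply exists_good_exponent
    · intro τ
      have hτinj : Function.Injective (τ.1 : K' → E) := (τ.1 : K' →+* E).injective
      rw [Ne, map_eq_zero, hjj]
      intro h0
      apply hd0
      apply IsFractionRing.injective V K'
      apply hτinj
      rw [h0, map_zero, map_zero]
    · intro τ
      have hτinj : Function.Injective (τ.1 : K' → E) := (τ.1 : K' →+* E).injective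
      rw [Ne, map_eq_zero, hjj]
      intro h0
      apply hy₀_unit.ne_zero
      apply IsFractionRing.injective V K'
      apply hτinj
      rw [h0, map_zero, map_zero]
    · intro τ
      exact hy₀_lt τ.1 τ.2
  obtain ⟨m, hm⟩ := hgood
  set zV : V := d * y₀ ^ m with hzV
  have hzV0 : zV ≠ 0 := mul_ne_zero hd0 (pow_ne_zero _ hy₀_unit.ne_zero)
  have hm' : ∀ τ, τ ≠ ι → W.valuation (jj τ zV) ≠ W.valuation (jj ι zV) := by
    intro τ hτ
    have h1 := hm ⟨τ, hτ⟩
    have h2 : W.valuation (jj ι y₀) = 1 := by
      rw [hjι]; exact val_eq_one_of_isUnit W hW hloc hy₀_unit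
    rw [hzV, map_mul, map_mul, map_pow, map_pow, map_mul, map_mul, map_pow, map_pow, h2,
      one_pow, mul_one]
    exact h1
  set z : K' := algebraMap V K' zV with hz
  have hzint : IsIntegral K z := Algebra.IsIntegral.isIntegral z
  set P := minpoly K z with hPdef
  set Pm := P.map (algebraMap K E) with hPm
  have hsplit : Pm.Splits := IsAlgClosed.splits _
  have hmonic : Pm.Monic := (minpoly.monic hzint).map _
  have hprod : Pm = (Pm.roots.map (X - C ·)).prod := hsplit.eq_prod_roots_of_monic hmonic
  have hsep : Pm.Separable :=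
    Polynomial.Separable.map (f := algebraMap K E) (Algebra.IsSeparable.isSeparable K z)
  have hnodup : Pm.roots.Nodup := nodup_roots hsep
  have hzroot : ι z ∈ Pm.roots := by
    rw [mem_roots hmonic.ne_zero, IsRoot, hPm, eval_map, ← aeval_def,
      aeval_algHom_apply, minpoly.aeval, map_zero]
  obtain ⟨R', hR'⟩ := Multiset.exists_cons_of_mem hzroot
  have hnotin : ι z ∉ R' := by
    rw [hR'] at hnodup
    exact (Multiset.nodup_cons.mp hnodup).1
  have hroots : ∀ ζ ∈ R', W.valuation ζ ≠ W.valuation (ι z) := by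
    intro ζ hζ
    have hζroot : ζ ∈ Pm.roots := by rw [hR']; exact Multiset.mem_cons_of_mem hζ
    have haeval : aeval ζ (minpoly K z) = 0 := by
      rw [mem_roots hmonic.ne_zero, IsRoot, hPm, eval_map, ← aeval_def] at hζroot
      exact hζroot
    obtain ⟨τ, hτ⟩ := IntermediateField.exists_algHom_of_splits_of_aeval
      (fun x => ⟨Algebra.IsIntegral.isIntegral x, IsAlgClosed.splits _⟩) haeval
    have hτι : τ ≠ ι := by
      rintro rfl
      exact hnotin (hτ ▸ hζ)
    rw [← hτ]
    exact hm' τ hτι
  set T₁ := R'.filter (fun ζ => W.valuation (ι z) < W.valuation ζ) with hT₁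
  set T₂ := R'.filter (fun ζ => ¬ W.valuation (ι z) < W.valuation ζ) with hT₂
  have hT : T₁ + T₂ = R' := Multiset.filter_add_not _ _
  have h₁ : ∀ ζ ∈ T₁, W.valuation (ι z) < W.valuation ζ := fun ζ hζ =>
    (Multiset.mem_filter.mp hζ).2
  have h₂ : ∀ ζ ∈ T₂, W.valuation ζ < W.valuation (ι z) := by
    intro ζ hζ
    obtain ⟨hζR, hnlt⟩ := Multiset.mem_filter.mp hζ
    exact lt_of_le_of_ne (not_lt.mp hnlt) (hroots ζ hζR)
  have hPmeq : Pm = (X - C (ι z)) * (T₁.map (fun ζ => X - C ζ)).prod *
      (T₂.map (fun ζ => X - C ζ)).prod := by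
    conv_lhs => rw [hprod, hR', ← hT]
    rw [Multiset.map_cons, Multiset.prod_cons, Multiset.map_add, Multiset.prod_add, mul_assoc]
  have hιz0 : ι z ≠ 0 := by
    have hιinj : Function.Injective (ι : K' → E) := (ι : K' →+* E).injective
    intro h0
    apply hzV0
    apply IsFractionRing.injective V K'
    apply hιinj
    rw [← hz, h0, map_zero, map_zero]
  obtain ⟨hne, u, hu1, hrel⟩ := ValNewton.coeff_relation W (ι z) hιz0 T₁ T₂ h₁ h₂ Pm hPmeq
  set n := Multiset.card T₂ with hn
  have hc1 : Pm.coeff n = algebraMap K E (P.coeff n) := coeff_map _ _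
  have hc2 : Pm.coeff (n + 1) = algebraMap K E (P.coeff (n + 1)) := coeff_map _ _
  have hk₁ : algebraMap K E (P.coeff n) ≠ 0 := by rw [← hc1]; exact hne
  have hu0 : u ≠ 0 := by
    intro h0
    rw [h0, map_zero] at hu1
    exact zero_ne_one hu1
  have hk₂ : algebraMap K E (P.coeff (n + 1)) ≠ 0 := by
    intro h0
    rw [hc2, h0, zero_mul, hc1] at hrel
    exact mul_ne_zero hu0 hk₁ hrel.symm
  have hfinal : algebraMap V E zV = u * algebraMap K E (P.coeff n / P.coeff (n + 1)) := by
    have e1 : algebraMap V E zV = ι z := by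
      rw [hz]; exact IsScalarTower.algebraMap_apply V K' E zV
    rw [e1, map_div₀]
    rw [hc2, hc1] at hrel
    rw [mul_div_assoc', eq_div_iff hk₂, mul_comm]
    exact hrel
  obtain ⟨a, w, hw⟩ := finish (A := A) (K := K) W hW hloc hinj hdvd zV hzV0 u hu1 _ hfinal
  refine ⟨a, w * (hy₀_unit.unit ^ m)⁻¹, ?_⟩
  have : d = zV * (((hy₀_unit.unit ^ m)⁻¹ : Vˣ) : V) := by
    rw [hzV, mul_assoc]
    have : y₀ ^ m * (((hy₀_unit.unit ^ m)⁻¹ : Vˣ) : V) = 1 := by
      have e : y₀ ^ m = ((hy₀_unit.unit ^ m : Vˣ) : V) := by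
        rw [Units.val_pow_eq_pow_val, IsUnit.unit_spec]
      rw [e, Units.mul_inv]
    rw [this, mul_one]
  rw [this, hw, Units.val_mul]
  ring

end Main

end Groth.Agent.Lib.Helper58.ValCore2
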