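import Mathlib

set_option autoImplicit false
set_option linter.style.haveILetI false
set_option linter.unusedSectionVars false
universe u

/-!
# Essentially étale local algebras over a valuation ring are valuation rings

If `A → V` is essentially of finite type and formally unramified, then every `V`-module which is
flat over `A` is flat over `V` (it is a retract of `V ⊗[A] M`, via the separability idempotent).
Over a valuation ring `A` flat = torsion free, so every ideal of a flat such `V` is flat; for a
local ring this forces divisibility to be total.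
-/

namespace Groth.Agent.Lib.Helper58.ValEtale

open TensorProduct

section Retract

variable {A : Type*} [CommRing A] {V : Type*} [CommRing V] [Algebra A V]

/-- the separability idempotent of an essentially finite type, formally unramified algebra. -/
theorem exists_sep_idem [Algebra.EssFiniteType A V] [Algebra.FormallyUnramified A V] :
    ∃ e : V ⊗[A] V, Algebra.TensorProduct.lmul' A e = 1 ∧
      ∀ b : V, (b ⊗ₜ[A] (1 : V)) * e = ((1 : V) ⊗ₜ[A] b) * e := by
  obtain ⟨e, he, hsp⟩ : ∃ e, IsIdempotentElem e ∧ KaehlerDifferential.ideal A V = V ⊗[A] V ∙ e :=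
    (Ideal.isIdempotentElem_iff_of_fg _ (KaehlerDifferential.ideal_fg A V)).mp <|
      (Ideal.cotangent_subsingleton_iff _).mp <| inferInstanceAs <| Subsingleton Ω[V⁄A]
  have hemem : e ∈ KaehlerDifferential.ideal A V := by
    rw [hsp]; exact Ideal.mem_span_singleton_self e
  refine ⟨1 - e, ?_, ?_⟩
  · rw [map_sub, map_one, (RingHom.mem_ker).1 hemem, sub_zero]
  · intro b
    have h1 : (1 : V) ⊗ₜ[A] b - b ⊗ₜ[A] (1 : V) ∈ KaehlerDifferential.ideal A V :=
      KaehlerDifferential.one_smul_sub_smul_one_mem_ideal A b
    rw [hsp] at h1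
    obtain ⟨x, hx⟩ := Ideal.mem_span_singleton'.mp h1
    have h2 : ((1 : V) ⊗ₜ[A] b - b ⊗ₜ[A] (1 : V)) * (1 - e) = 0 := by
      rw [← hx, mul_assoc, mul_sub, mul_one, he.eq, sub_self, mul_zero]
    have h3 : ((1 : V) ⊗ₜ[A] b) * (1 - e) - (b ⊗ₜ[A] (1 : V)) * (1 - e) = 0 := by
      rw [← sub_mul]; exact h2
    exact (sub_eq_zero.mp h3).symm

variable (M : Type*) [AddCommGroup M] [Module A M] [Module V M] [IsScalarTower A V M]

/-- the multiplication map `V ⊗[A] M → M`. -/
noncomputable def rMap : V ⊗[A] M →ₗ[V] M :=
  TensorProduct.AlgebraTensorModule.lift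
    { toFun := fun b => (LinearMap.lsmul V M b).restrictScalars A
      map_add' := fun b c => by ext m; simp
      map_smul' := fun b c => by ext m; simp [mul_smul] }

@[simp]
lemma rMap_tmul (b : V) (m : M) : rMap (A := A) M (b ⊗ₜ[A] m) = b • m := by
  simp [rMap]

/-- `x ⊗ y ↦ x ⊗ (y • m)`. -/
noncomputable def phi (m : M) : V ⊗[A] V →ₗ[V] V ⊗[A] M :=
  TensorProduct.AlgebraTensorModule.lTensor V V
    ((LinearMap.toSpanSingleton V M m).restrictScalars A)

@[simp]
lemma phi_tmul (m : M) (x y : V) : phi (A := A) M m (x ⊗ₜ[A] y) = x ⊗ₜ[A] (y • m) := by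
  simp [phi]

lemma phi_add (m m' : M) (w : V ⊗[A] V) :
    phi (A := A) M (m + m') w = phi (A := A) M m w + phi (A := A) M m' w := by
  induction w with
  | zero => simp
  | tmul x y => simp [smul_add, tmul_add]
  | add w w' hw hw' => rw [map_add, hw, hw', map_add, map_add]; abel

lemma phi_smul (b : V) (m : M) (w : V ⊗[A] V) :
    phi (A := A) M (b • m) w = phi (A := A) M m (((1 : V) ⊗ₜ[A] b) * w) := by
  induction w with
  | zero => simp
  | tmul x y =>
    simp only [phi_tmul, Algebra.TensorProduct.tmul_mul_tmul, one_mul]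
    rw [← mul_smul, mul_comm]
  | add w w' hw hw' => rw [map_add, hw, hw', mul_add, map_add]

lemma phi_mul_left (b : V) (m : M) (w : V ⊗[A] V) :
    phi (A := A) M m ((b ⊗ₜ[A] (1 : V)) * w) = b • phi (A := A) M m w := by
  induction w with
  | zero => simp
  | tmul x y =>
    simp only [phi_tmul, Algebra.TensorProduct.tmul_mul_tmul, one_mul]
    rw [TensorProduct.smul_tmul', smul_eq_mul]
  | add w w' hw hw' => rw [mul_add, map_add, hw, hw', map_add, smul_add]

lemma rMap_phi (m : M) (w : V ⊗[A] V) :
    rMap (A := A) M (phi (A := A) M m w) = Algebra.TensorProduct.lmul' A w • m := by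
  induction w with
  | zero => simp
  | tmul x y =>
    simp only [phi_tmul, rMap_tmul, Algebra.TensorProduct.lmul'_apply_tmul]
    rw [mul_smul]
  | add w w' hw hw' => rw [map_add, map_add, hw, hw', map_add, add_smul]

/-- a module over an essentially finite type formally unramified `A`-algebra `V` which is flat
over `A` is flat over `V`. -/
theorem flat_of_flat_of_unramified [Algebra.EssFiniteType A V] [Algebra.FormallyUnramified A V]
    [Module.Flat A M] : Module.Flat V M := by
  obtain ⟨e, he1, he2⟩ := exists_sep_idem (A := A) (V := V)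
  let i : M →ₗ[V] V ⊗[A] M :=
    { toFun := fun m => phi (A := A) M m e
      map_add' := fun m m' => phi_add M m m' e
      map_smul' := fun b m => by
        simp only [RingHom.id_apply]
        rw [phi_smul, ← he2 b, phi_mul_left] }
  have hri : (rMap (A := A) M).comp i = LinearMap.id := by
    ext m
    simp only [LinearMap.comp_apply, LinearMap.id_apply]
    change rMap (A := A) M (phi (A := A) M m e) = m
    rw [rMap_phi, he1, one_smul]
  haveI : Module.Flat V (V ⊗[A] M) := inferInstance
  exact Module.Flat.of_retract i (rMap (A := A) M) hri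

end Retract

section Local

/-- in a local ring, if the ideal `(s, t)` is flat then `s ∣ t` or `t ∣ s`. -/
theorem dvd_or_dvd_of_flat_span {R : Type*} [CommRing R] [IsLocalRing R] (s t : R)
    [Module.Flat R (Ideal.span {s, t} : Ideal R)] : s ∣ t ∨ t ∣ s := by
  set I : Ideal R := Ideal.span {s, t} with hI
  have hs : s ∈ I := Ideal.subset_span (by simp)
  have ht : t ∈ I := Ideal.subset_span (by simp)
  let f : Fin 2 → R := ![t, -s]
  let x : Fin 2 → I := ![⟨s, hs⟩, ⟨t, ht⟩]
  have hrel : ∑ i, f i • x i = 0 := by
    rw [Fin.sum_univ_two]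
    apply Subtype.ext
    simp [f, x, mul_comm]
  obtain ⟨k, a, y, hxy, hfa⟩ := Module.Flat.isTrivialRelation_of_sum_smul_eq_zero hrel
  have h0 : ∀ j, t * a 0 j = s * a 1 j := by
    intro j
    have := hfa j
    rw [Fin.sum_univ_two] at this
    simp only [f, Matrix.cons_val_zero, Matrix.cons_val_one] at this
    linear_combination this
  by_cases hu0 : ∃ j, IsUnit (a 0 j)
  · obtain ⟨j, hj⟩ := hu0
    obtain ⟨u, hu⟩ := hj
    left
    refine ⟨a 1 j * ↑u⁻¹, ?_⟩
    have := h0 j
    rw [← hu] at this
    calc t = t * ↑u * ↑u⁻¹ := by rw [mul_assoc, Units.mul_inv, mul_one]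
      _ = s * a 1 j * ↑u⁻¹ := by rw [this]
      _ = s * (a 1 j * ↑u⁻¹) := by ring
  by_cases hu1 : ∃ j, IsUnit (a 1 j)
  · obtain ⟨j, hj⟩ := hu1
    obtain ⟨u, hu⟩ := hj
    right
    refine ⟨a 0 j * ↑u⁻¹, ?_⟩
    have := h0 j
    rw [← hu] at this
    calc s = s * ↑u * ↑u⁻¹ := by rw [mul_assoc, Units.mul_inv, mul_one]
      _ = t * a 0 j * ↑u⁻¹ := by rw [this]
      _ = t * (a 0 j * ↑u⁻¹) := by ring
  push Not at hu0 hu1
  -- all coefficients are in the maximal ideal, so `I ≤ m • I`
  right
  have hle : I ≤ IsLocalRing.maximalIdeal R • I := by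
    rw [hI, Ideal.span_le]
    intro z hz
    have hmem : ∀ i : Fin 2, ((x i : I) : R) ∈ IsLocalRing.maximalIdeal R • I := by
      intro i
      rw [hxy i]
      simp only [Submodule.coe_sum, Submodule.coe_smul, smul_eq_mul]
      refine Ideal.sum_mem _ fun j _ => ?_
      apply Submodule.smul_mem_smul
      · have : ¬ IsUnit (a i j) := by
          fin_cases i
          · exact hu0 j
          · exact hu1 j
        exact this
      · exact (y j).2
    rcases hz with rfl | hz
    · exact hmem 0
    · rw [Set.mem_singleton_iff] at hz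
      subst hz
      exact hmem 1
  have hfg : I.FG := by rw [hI]; exact Submodule.fg_span (Set.toFinite _)
  have hbot : I = ⊥ := Submodule.eq_bot_of_le_smul_of_le_jacobson_bot _ I hfg hle
    (IsLocalRing.maximalIdeal_le_jacobson _)
  have : s = 0 := by
    have := hs
    rw [hbot] at this
    exact this
  rw [this]
  exact dvd_zero t

end Local

section Valuation

/-- ideals of a flat algebra over a valuation ring are flat over the valuation ring. -/
theorem flat_ideal (A : Type*) [CommRing A] [IsDomain A] [ValuationRing A]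
    (V : Type*) [CommRing V] [Algebra A V] [Module.Flat A V] (I : Ideal V) :
    Module.Flat A I := by
  rw [Module.Flat.flat_iff_torsion_eq_bot_of_isBezout]
  rw [eq_bot_iff]
  intro x hx
  rw [Submodule.mem_torsion_iff] at hx
  obtain ⟨a, ha⟩ := hx
  have h1 : (a : A) • (x : V) = 0 := by
    have := congrArg (Subtype.val) ha
    exact this
  have h2 : (x : V) ∈ Submodule.torsion A V := by
    rw [Submodule.mem_torsion_iff]
    exact ⟨a, h1⟩
  rw [Module.Flat.torsion_eq_bot] at h2
  rw [Submodule.mem_bot] at h2 ⊢
  exact Subtype.ext h2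

/-- **Essentially étale local algebras over a valuation ring have totally ordered
divisibility.** -/
theorem dvd_total (A : Type*) [CommRing A] [IsDomain A] [ValuationRing A]
    (V : Type*) [CommRing V] [IsLocalRing V] [Algebra A V]
    [Algebra.EssFiniteType A V] [Algebra.FormallyUnramified A V] [Module.Flat A V] (s t : V) :
    s ∣ t ∨ t ∣ s := by
  haveI : Module.Flat A (Ideal.span {s, t} : Ideal V) := flat_ideal A V _
  haveI : Module.Flat V (Ideal.span {s, t} : Ideal V) :=
    flat_of_flat_of_unramified (A := A) (V := V) _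
  exact dvd_or_dvd_of_flat_span s t

end Valuation

end Groth.Agent.Lib.Helper58.ValEtale
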