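import Mathlib
import Groth.Agent.Lib.Helper58.ValEtale
import Groth.Agent.Lib.Helper58.ValCore2
import Groth.Agent.Lib.Helper87.HensLoc
import Groth.Agent.Lib.Helper87.EtaleNormal

set_option autoImplicit false
set_option linter.style.haveILetI false
set_option linter.unusedSectionVars false
universe u

/-!
# Local rings of pointed étale algebras over a valuation ring, trivial residue extension
-/

namespace Groth.Agent.Lib.Helper58.ValCore3

open Polynomial IsLocalRing Groth.Agent.Lib.Helper87.Hens

variable (A : Type u) [CommRing A] [IsDomain A] [ValuationRing A]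
  (Ω : Type u) [Field Ω] [Algebra A Ω] [IsLocalHom (algebraMap A Ω)]
  (B : Type u) [CommRing B] [Algebra A B] [Algebra.Etale A B] (φ : B →ₐ[A] Ω)

/-- the local ring of an étale algebra over a valuation ring is a domain. -/
theorem isDomain_loc : IsDomain (Loc φ) :=
  Groth.Agent.Lib.Helper87.EtNormal.isDomain_localization A (RingHom.ker φ)

/-- divisibility is total in the local ring of an étale algebra over a valuation ring. -/
theorem dvd_total_loc (s t : Loc φ) : s ∣ t ∨ t ∣ s :=
  Groth.Agent.Lib.Helper58.ValEtale.dvd_total A (Loc φ) s t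

/-- Zariski's main theorem for the local ring. -/
theorem zmt_loc (x : Loc φ) :
    ∃ d t : Loc φ, IsIntegral A d ∧ IsIntegral A t ∧ IsUnit t ∧ x * t = d := by
  have hZ : Algebra.ZariskisMainProperty A (RingHom.ker φ) :=
    Algebra.ZariskisMainProperty.of_finiteType (RingHom.ker φ)
  obtain ⟨r, hr, hrint, hrx⟩ := Algebra.zariskisMainProperty_iff.mp hZ
  obtain ⟨b, t₀, rfl⟩ := IsLocalization.exists_mk'_eq (RingHom.ker φ).primeCompl x
  obtain ⟨m, hm⟩ := hrx b
  obtain ⟨k, hk⟩ := hrx (t₀ : B)
  refine ⟨algebraMap B (Loc φ) (r ^ k * (r ^ m * b)),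
    algebraMap B (Loc φ) (r ^ m * (r ^ k * (t₀ : B))), ?_, ?_, ?_, ?_⟩
  · exact ((hrint.pow k).mul hm).algebraMap
  · exact ((hrint.pow m).mul hk).algebraMap
  · apply IsLocalization.map_units (Loc φ)
      (⟨r ^ m * (r ^ k * (t₀ : B)), ?_⟩ : (RingHom.ker φ).primeCompl)
    change r ^ m * (r ^ k * (t₀ : B)) ∉ RingHom.ker φ
    intro hmem
    rcases (Ideal.IsPrime.mem_or_mem inferInstance hmem) with h | h
    · exact hr (Ideal.IsPrime.mem_of_pow_mem inferInstance _ h)
    · rcases (Ideal.IsPrime.mem_or_mem inferInstance h) with h | h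
      · exact hr (Ideal.IsPrime.mem_of_pow_mem inferInstance _ h)
      · exact t₀.2 h
  · have h1 : IsLocalization.mk' (Loc φ) b t₀ * algebraMap B (Loc φ) (t₀ : B) =
        algebraMap B (Loc φ) b := IsLocalization.mk'_spec _ _ _
    rw [map_mul, map_mul, map_mul, map_mul]
    calc IsLocalization.mk' (Loc φ) b t₀ * (algebraMap B (Loc φ) (r ^ m) *
          (algebraMap B (Loc φ) (r ^ k) * algebraMap B (Loc φ) (t₀ : B)))
        = algebraMap B (Loc φ) (r ^ k) * (algebraMap B (Loc φ) (r ^ m) *
          (IsLocalization.mk' (Loc φ) b t₀ * algebraMap B (Loc φ) (t₀ : B))) := by ring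
      _ = _ := by rw [h1]

/-- trivial residue field extension. -/
theorem triv_loc (hΩ : Function.Surjective (algebraMap A Ω)) (x : Loc φ) :
    ∃ a : A, x - algebraMap A (Loc φ) a ∈ maximalIdeal (Loc φ) := by
  obtain ⟨a, ha⟩ := hΩ (Loc.ε φ x)
  refine ⟨a, ?_⟩
  rw [← Loc.ε_eq_zero_iff, map_sub, AlgHom.commutes, ha, sub_self]

/-- **Value groups agree** for the local rings of pointed étale algebras with trivial residue
field extension over a valuation ring. -/
theorem exists_unit_mul_loc (hΩ : Function.Surjective (algebraMap A Ω)) (s : Loc φ) (hs : s ≠ 0) :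
    ∃ (a : A) (u : (Loc φ)ˣ), s = u * algebraMap A (Loc φ) a := by
  haveI : IsDomain (Loc φ) := isDomain_loc A Ω B φ
  haveI : Module.FaithfullyFlat A (Loc φ) := Module.FaithfullyFlat.of_flat_of_isLocalHom
  haveI : FaithfulSMul A (Loc φ) := inferInstance
  let K := FractionRing A
  let K' := FractionRing (Loc φ)
  letI : Algebra K K' := FractionRing.liftAlgebra A K'
  haveI : IsScalarTower A K K' := FractionRing.isScalarTower_liftAlgebra A K'
  haveI : Algebra.FormallyUnramified (Loc φ) K' :=
    Algebra.FormallyUnramified.of_isLocalization (nonZeroDivisors (Loc φ))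
  haveI : Algebra.FormallyUnramified A K' := Algebra.FormallyUnramified.comp A (Loc φ) K'
  haveI : Algebra.FormallyUnramified K K' := Algebra.FormallyUnramified.of_restrictScalars A K K'
  haveI : Algebra.EssFiniteType (Loc φ) K' :=
    Algebra.EssFiniteType.of_isLocalization K' (nonZeroDivisors (Loc φ))
  haveI : Algebra.EssFiniteType A K' := Algebra.EssFiniteType.comp A (Loc φ) K'
  haveI : Algebra.EssFiniteType K K' := Algebra.EssFiniteType.of_comp A K K'
  haveI : Module.Finite K K' := Algebra.FormallyUnramified.finite_of_free K K'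
  haveI : Algebra.IsSeparable K K' := Algebra.FormallyUnramified.isSeparable K K'
  exact Groth.Agent.Lib.Helper58.ValCore2.exists_unit_mul A (Loc φ) (dvd_total_loc A Ω B φ)
    (triv_loc A Ω B φ hΩ) (zmt_loc A Ω B φ) K K' s hs

end Groth.Agent.Lib.Helper58.ValCore3
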