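import Mathlib
import Groth.Agent.Lib.Helper58.ValCore3
import Groth.Agent.Lib.Helper58.ValFinite
import Groth.Agent.Lib.Helper87.HensNormal
import Groth.Agent.Lib.Helper87.HensStrictProps
import Groth.Agent.Lib.Helper69.HensQFinite

set_option autoImplicit false
set_option linter.style.haveILetI false
set_option linter.unusedSectionVars false
universe u

/-!
# The local rings `H A Ω` over a valuation ring `A`
-/

namespace Groth.Agent.Lib.Helper58.ValHens

open IsLocalRing Groth.Agent.Lib.Helper87.Hens

/-- a domain all of whose nonzero elements are unit multiples of elements of a valuation ring is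
a valuation ring. -/
theorem valuationRing_of_exists_unit_mul (A : Type*) [CommRing A] [IsDomain A] [ValuationRing A]
    (T : Type*) [CommRing T] [IsDomain T] [Algebra A T]
    (h : ∀ s : T, s ≠ 0 → ∃ (a : A) (u : Tˣ), s = u * algebraMap A T a) : ValuationRing T := by
  rw [ValuationRing.iff_dvd_total]
  refine ⟨fun s t => ?_⟩
  by_cases hs : s = 0
  · right; rw [hs]; exact dvd_zero t
  by_cases ht : t = 0
  · left; rw [ht]; exact dvd_zero s
  obtain ⟨a, u, rfl⟩ := h s hs
  obtain ⟨b, w, rfl⟩ := h t ht
  rcases ValuationRing.dvd_total a b with hd | hd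
  · left
    exact (Units.mul_left_dvd).mpr ((map_dvd (algebraMap A T) hd).trans (Dvd.intro_left _ rfl))
  · right
    exact (Units.mul_left_dvd).mpr ((map_dvd (algebraMap A T) hd).trans (Dvd.intro_left _ rfl))

section H

variable (A : Type u) [CommRing A] [IsDomain A] [ValuationRing A]
  (Ω : Type u) [Field Ω] [Algebra A Ω] [IsLocalHom (algebraMap A Ω)]

/-- value groups agree for `H A Ω` when the residue field extension is trivial. -/
theorem H_exists_unit_mul (hΩ : Function.Surjective (algebraMap A Ω)) (s : H A Ω) (hs : s ≠ 0) :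
    ∃ (a : A) (u : (H A Ω)ˣ), s = u * algebraMap A (H A Ω) a := by
  obtain ⟨i, y, rfl⟩ := H.exists_of s
  have hy : y ≠ 0 := by
    rintro rfl
    exact hs (map_zero _)
  obtain ⟨a, u, hu⟩ := Groth.Agent.Lib.Helper58.ValCore3.exists_unit_mul_loc A Ω i.A i.pt hΩ y hy
  refine ⟨a, Units.map (H.of i).toRingHom.toMonoidHom u, ?_⟩
  rw [hu, map_mul, AlgHom.commutes]
  rfl

/-- over a henselian valuation ring, every element of `H A Ω` is a unit multiple of an element
of `A`. -/
theorem H_exists_unit_mul_of_henselian [HenselianLocalRing A] (s : H A Ω) :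
    ∃ (a : A) (u : (H A Ω)ˣ), s = u * algebraMap A (H A Ω) a := by
  obtain ⟨i, y, rfl⟩ := H.exists_of s
  haveI : (RingHom.ker i.pt).LiesOver (maximalIdeal A) := by
    constructor
    ext a
    rw [Ideal.under_def, Ideal.mem_comap, RingHom.mem_ker, AlgHom.commutes, mem_maximalIdeal,
      mem_nonunits_iff]
    constructor
    · intro ha
      by_contra h0
      exact ha (isUnit_of_map_unit (algebraMap A Ω) a (isUnit_iff_ne_zero.mpr h0))
    · intro h0 hu
      have := hu.map (algebraMap A Ω)
      rw [h0] at this
      exact not_isUnit_zero this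
  haveI : Algebra.FiniteType A i.A := inferInstance
  haveI : Module.Finite A (Loc i.pt) :=
    Groth.Agent.Lib.Helper69.HensQFinite.finite_atPrime_of_quasiFiniteAt A i.A (RingHom.ker i.pt)
  obtain ⟨a, u, hu⟩ := Groth.Agent.Lib.Helper58.ValFinite.exists_unit_mul_of_finite A (Loc i.pt)
    (Loc.map_maximalIdeal i.pt) y
  refine ⟨a, Units.map (H.of i).toRingHom.toMonoidHom u, ?_⟩
  rw [hu, map_mul, AlgHom.commutes]
  rfl

end H

section Strict

variable (A : Type u) [CommRing A] [IsDomain A] [ValuationRing A]

/-- the henselization `Hh A` of a valuation ring: value groups agree. -/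
theorem Hh_exists_unit_mul (x : Hh A) (hx : x ≠ 0) :
    ∃ (a : A) (u : (Hh A)ˣ), x = u * algebraMap A (Hh A) a :=
  H_exists_unit_mul A (ResidueField A) residue_surjective x hx

instance Hh_isDomain : IsDomain (Hh A) := H.isDomain

instance Hh_valuationRing : ValuationRing (Hh A) :=
  valuationRing_of_exists_unit_mul A (Hh A) (Hh_exists_unit_mul A)

variable (S : Type u) [CommRing S] [IsLocalRing S] [Algebra A S] [IsLocalHom (algebraMap A S)]
  [Hensel.IsStrictHenselization A S]

/-- **the strict henselization of a valuation ring: value groups agree.** -/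
theorem strict_exists_unit_mul (s : S) (hs : s ≠ 0) :
    ∃ (a : A) (u : Sˣ), s = u * algebraMap A S a := by
  have hShens : HenselianLocalRing S := Hensel.IsStrictHenselization.henselian A
  have hc : IsSepClosure (ResidueField A) (ResidueField S) :=
    Hensel.IsStrictHenselization.isSepClosure
  obtain ⟨g, hg, -⟩ := (isHenselization_Hh A).universal S (algebraMap A S) inferInstance
  letI : Algebra (Hh A) S := g.toAlgebra
  have hgalg : algebraMap (Hh A) S = g := rfl
  haveI : IsScalarTower A (Hh A) S := IsScalarTower.of_algebraMap_eq' hg.symm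
  haveI hloc : IsLocalHom (algebraMap (Hh A) S) := by
    have hle := maximalIdeal_le_comap_of_comp_eq (S := Hh A) H.map_maximalIdeal
      (algebraMap A S) g hg
    exact ((IsLocalRing.local_hom_TFAE g).out 0 3 rfl rfl).mpr hle
  haveI : Hensel.IsStrictHenselization (Hh A) S :=
    { henselian := hShens
      isSepClosure := by
        haveI := hc.separable
        haveI : IsSepClosed (ResidueField S) := hc.sep_closed
        haveI : Algebra.IsSeparable (ResidueField (Hh A)) (ResidueField S) :=
          Algebra.isSeparable_tower_top_of_isSeparable (ResidueField A) (ResidueField (Hh A))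
            (ResidueField S)
        exact ⟨inferInstance, inferInstance⟩
      universal := by
        intro T _ _ f _ τ hτ
        let f' : A →+* T := f.comp (algebraMap A (Hh A))
        haveI : IsLocalHom f' := RingHom.isLocalHom_comp _ _
        have hτ' : τ.comp (ResidueField.map (algebraMap A S)) = ResidueField.map f' := by
          ext a
          obtain ⟨a, rfl⟩ := residue_surjective a
          have h1 := congrArg (fun φ => φ (residue (Hh A) (algebraMap A (Hh A) a))) hτ
          simp only [RingHom.comp_apply, ResidueField.map_residue] at h1 ⊢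
          rw [← IsScalarTower.algebraMap_apply A (Hh A) S] at h1
          exact h1
        obtain ⟨G, ⟨hG1, hG2⟩, hGuniq⟩ :=
          Hensel.IsStrictHenselization.universal (R := A) (S := S) T f' τ hτ'
        refine ⟨G, ⟨?_, hG2⟩, ?_⟩
        · have hU := (isHenselization_Hh A).universal T f' inferInstance
          exact hU.unique (by
            rw [RingHom.comp_assoc, ← IsScalarTower.algebraMap_eq, hG1]) rfl
        · rintro G' ⟨hG'1, hG'2⟩
          apply hGuniq
          refine ⟨?_, hG'2⟩
          rw [IsScalarTower.algebraMap_eq A (Hh A) S, ← RingHom.comp_assoc, hG'1] }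
  obtain ⟨e⟩ := nonempty_algEquiv_Hsh (Hh A) S
  obtain ⟨a₀, u, hu⟩ := H_exists_unit_mul_of_henselian (Hh A) (Ωs (Hh A)) (e s)
  have ha₀ : a₀ ≠ 0 := by
    rintro rfl
    rw [map_zero, mul_zero] at hu
    exact hs ((map_eq_zero_iff e e.injective).mp hu)
  obtain ⟨a, u₀, hu₀⟩ := Hh_exists_unit_mul A a₀ ha₀
  refine ⟨a, Units.map e.symm.toRingEquiv.toRingHom.toMonoidHom u *
    Units.map (algebraMap (Hh A) S).toMonoidHom u₀, ?_⟩
  have h1 : s = e.symm (e s) := (e.symm_apply_apply s).symm
  rw [h1, hu, map_mul, AlgEquiv.commutes, hu₀, map_mul,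
    ← IsScalarTower.algebraMap_apply A (Hh A) S, Units.val_mul, mul_assoc]
  rfl

end Strict

end Groth.Agent.Lib.Helper58.ValHens
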