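import Mathlib
import Groth.Agent.Lib.Helper58.HenselPairZMT

/-!
# Zariski's main theorem for a finite open and closed part of the closed fibre
-/

set_option autoImplicit false
universe u

namespace Groth.Agent.Lib.Helper58.ZMTSplit

open Groth.Agent.Lib.Helper58.HenselPair

variable {A B : Type u} [CommRing A] [CommRing B] [Algebra A B]

/-- quasi-finiteness at a prime can be checked on a principal open neighbourhood. -/
theorem quasiFiniteAt_of_away (f : B) (𝔪 : Ideal B) [h𝔪 : 𝔪.IsPrime] (hf : f ∉ 𝔪)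
    (h : ∀ (M' : Ideal (Localization.Away f)) [M'.IsPrime],
      M'.comap (algebraMap B (Localization.Away f)) = 𝔪 → Algebra.QuasiFiniteAt A M') :
    Algebra.QuasiFiniteAt A 𝔪 := by
  have hdisj : Disjoint (Submonoid.powers f : Set B) (𝔪 : Set B) :=
    (Ideal.disjoint_powers_iff_notMem f h𝔪.isRadical).2 hf
  have hprime : (𝔪.map (algebraMap B (Localization.Away f))).IsPrime :=
    IsLocalization.isPrime_of_isPrime_disjoint (Submonoid.powers f) _ 𝔪 h𝔪 hdisj
  have hcomap : (𝔪.map (algebraMap B (Localization.Away f))).comap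
      (algebraMap B (Localization.Away f)) = 𝔪 :=
    IsLocalization.under_map_of_isPrime_disjoint (Submonoid.powers f) _ h𝔪 hdisj
  have hq := h (𝔪.map (algebraMap B (Localization.Away f))) hcomap
  let e := IsLocalization.localizationLocalizationAtPrimeIsoLocalization (Submonoid.powers f)
    (𝔪.map (algebraMap B (Localization.Away f)))
  have h2 : Algebra.QuasiFinite A (Localization.AtPrime
      ((𝔪.map (algebraMap B (Localization.Away f))).comap (algebraMap B (Localization.Away f)))) :=
    (Algebra.QuasiFinite.iff_of_algEquiv (e.restrictScalars A)).2 hq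
  have key : ∀ (𝔫 : Ideal B) [𝔫.IsPrime], 𝔫 = 𝔪 →
      Algebra.QuasiFinite A (Localization.AtPrime 𝔫) → Algebra.QuasiFiniteAt A 𝔪 := by
    intro 𝔫 _ h𝔫 hqf
    subst h𝔫
    exact hqf
  exact key _ hcomap h2

section Split

variable (I : Ideal A) (e : B ⧸ I.map (algebraMap A B))

/-- If the part of `B / I B` cut out by the idempotent `e` is finite over `A`, and `f` lifts `e`,
then `B_f / I B_f` is finite over `A`. -/
theorem finite_away_quotient (he : IsIdempotentElem e) (f : B)
    (hf : Ideal.Quotient.mk (I.map (algebraMap A B)) f = e)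
    (hfin : Module.Finite A ((B ⧸ I.map (algebraMap A B)) ⧸ Ideal.span {1 - e})) :
    Module.Finite A (Localization.Away f ⧸ I.map (algebraMap A (Localization.Away f))) := by
  let R := Localization.Away f
  let IR := I.map (algebraMap A R)
  let ψ : B →ₐ[A] R ⧸ IR := (Ideal.Quotient.mkₐ A IR).comp (IsScalarTower.toAlgHom A B R)
  have hψ : ∀ b, ψ b = Ideal.Quotient.mk IR (algebraMap B R b) := fun b => rfl
  have hJψ : ∀ x ∈ I.map (algebraMap A B), ψ x = 0 := by
    intro x hx
    rw [hψ, Ideal.Quotient.eq_zero_iff_mem]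
    have := Ideal.mem_map_of_mem (algebraMap B R) hx
    rw [Ideal.map_map, ← IsScalarTower.algebraMap_eq] at this
    exact this
  let ψ₁ : B ⧸ I.map (algebraMap A B) →ₐ[A] R ⧸ IR :=
    Ideal.Quotient.liftₐ (I.map (algebraMap A B)) ψ hJψ
  have hψ₁ : ∀ b, ψ₁ (Ideal.Quotient.mk (I.map (algebraMap A B)) b) = ψ b := fun b => rfl
  have hf1 : ψ f = 1 := by
    have hunit : IsUnit (ψ f) := by
      rw [hψ]
      exact (IsLocalization.Away.algebraMap_isUnit (S := R) f).map _
    have hidem : IsIdempotentElem (ψ f) := by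
      have h1 : f * f - f ∈ I.map (algebraMap A B) := by
        rw [← Ideal.Quotient.eq, map_mul, hf]
        exact he
      have := hJψ _ h1
      rw [map_sub, map_mul, sub_eq_zero] at this
      exact this
    exact (IsIdempotentElem.iff_eq_one_of_isUnit hunit).1 hidem
  have hψ₁e : ∀ x ∈ Ideal.span {1 - e}, ψ₁ x = 0 := by
    intro x hx
    obtain ⟨t, rfl⟩ := Ideal.mem_span_singleton'.mp hx
    rw [map_mul, map_sub, map_one, ← hf, hψ₁, hf1, sub_self, mul_zero]
  let ψ₂ : ((B ⧸ I.map (algebraMap A B)) ⧸ Ideal.span {1 - e}) →ₐ[A] R ⧸ IR :=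
    Ideal.Quotient.liftₐ (Ideal.span {1 - e}) ψ₁ hψ₁e
  have hψ₂ : ∀ b, ψ₂ (Ideal.Quotient.mk _ (Ideal.Quotient.mk (I.map (algebraMap A B)) b)) = ψ b :=
    fun b => rfl
  have hsurj : Function.Surjective ψ₂ := by
    intro y
    obtain ⟨r, rfl⟩ := Ideal.Quotient.mk_surjective y
    obtain ⟨⟨b, ⟨_, n, rfl⟩⟩, rfl⟩ := IsLocalization.mk'_surjective (Submonoid.powers f) r
    refine ⟨Ideal.Quotient.mk _ (Ideal.Quotient.mk (I.map (algebraMap A B)) b), ?_⟩
    rw [hψ₂, hψ]
    have h1 : algebraMap B R b =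
        IsLocalization.mk' R b (⟨f ^ n, n, rfl⟩ : Submonoid.powers f) * algebraMap B R f ^ n := by
      rw [← map_pow]
      exact (IsLocalization.mk'_spec' R b (⟨f ^ n, n, rfl⟩ : Submonoid.powers f)).symm ▸
        (mul_comm _ _)
    have h2 : Ideal.Quotient.mk IR (algebraMap B R f) = 1 := hf1
    rw [h1, map_mul, map_pow, h2, one_pow, mul_one]
  exact Module.Finite.of_surjective ψ₂.toLinearMap hsurj

/-- the ZMT elements together with the kernel of `B → (B / I B) / (1 - e)` generate the unit
ideal. -/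
theorem span_zmtSubmodule_sup_eq_top [Algebra.FiniteType A B] (he : IsIdempotentElem e)
    (hfin : Module.Finite A ((B ⧸ I.map (algebraMap A B)) ⧸ Ideal.span {1 - e})) :
    Ideal.span (zmtSubmodule A B : Set B) ⊔
      (Ideal.span {1 - e}).comap (Ideal.Quotient.mk (I.map (algebraMap A B))) = ⊤ := by
  obtain ⟨f, hf⟩ := Ideal.Quotient.mk_surjective e
  by_contra h
  obtain ⟨M, hM, hle⟩ := Ideal.exists_le_maximal _ h
  have hMp : M.IsPrime := hM.isPrime
  have hKM : (Ideal.span {1 - e}).comap (Ideal.Quotient.mk (I.map (algebraMap A B))) ≤ M :=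
    le_trans le_sup_right hle
  have hJM : I.map (algebraMap A B) ≤ M := by
    intro x hx
    apply hKM
    rw [Ideal.mem_comap, Ideal.Quotient.eq_zero_iff_mem.mpr hx]
    exact zero_mem _
  have hfM : f ∉ M := by
    intro hfM
    have h1 : (1 - f) ∈ M := by
      apply hKM
      rw [Ideal.mem_comap, map_sub, map_one, hf]
      exact Ideal.subset_span rfl
    have : (1 : B) ∈ M := by
      have := M.add_mem h1 hfM
      simpa using this
    exact hM.ne_top ((Ideal.eq_top_iff_one M).2 this)
  have _ : Module.Finite A (Localization.Away f ⧸ I.map (algebraMap A (Localization.Away f))) :=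
    finite_away_quotient I e he f hf hfin
  have _ : Algebra.FiniteType A (Localization.Away f) :=
    Algebra.FiniteType.trans (S := B) inferInstance inferInstance
  have hqf : Algebra.QuasiFiniteAt A M := by
    refine quasiFiniteAt_of_away f M hfM ?_
    intro M' hM' hcomap
    refine quasiFiniteAt_of_finite_quotient I (Localization.Away f) ⟨M', hM'⟩ ?_
    change I.map (algebraMap A (Localization.Away f)) ≤ M'
    rw [IsScalarTower.algebraMap_eq A B (Localization.Away f), ← Ideal.map_map,
      Ideal.map_le_iff_le_comap, hcomap]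
    exact hJM
  obtain ⟨r, hrM, hr, hr'⟩ := Algebra.zariskisMainProperty_iff.1
    (Algebra.ZariskisMainProperty.of_finiteType (R := A) M)
  exact hrM (hle (Ideal.mem_sup_left (Ideal.subset_span ⟨hr, hr'⟩)))

/-- There is an element `c` of the integral closure, congruent to `1` modulo the ZMT elements,
whose image in `(B / I B) / (1 - e)` vanishes. -/
theorem exists_zmt_elem [Algebra.FiniteType A B] (he : IsIdempotentElem e)
    (hfin : Module.Finite A ((B ⧸ I.map (algebraMap A B)) ⧸ Ideal.span {1 - e})) :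
    ∃ c : integralClosure A B, c - 1 ∈ zmtIdeal (A := A) B ∧
      Ideal.Quotient.mk (I.map (algebraMap A B)) (c : B) ∈ Ideal.span {1 - e} := by
  let C := integralClosure A B
  let Q := (B ⧸ I.map (algebraMap A B)) ⧸ Ideal.span {1 - e}
  let mkQ : B → Q := fun b => Ideal.Quotient.mk (Ideal.span {1 - e})
    (Ideal.Quotient.mk (I.map (algebraMap A B)) b)
  have hfinC : Module.Finite C Q := Module.Finite.of_restrictScalars_finite A C Q
  have hsmul : ∀ (z : C) (x : B), mkQ ((z : B) * x) = z • mkQ x := by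
    intro z x
    rfl
  have hkey : ∀ s ∈ Ideal.span (zmtSubmodule A B : Set B), ∀ x : B,
      mkQ (s * x) ∈ ((zmtIdeal (A := A) B) • (⊤ : Submodule C Q) : Submodule C Q) := by
    intro s hs
    refine Submodule.span_induction ?_ ?_ ?_ ?_ hs
    · intro z hz x
      have : mkQ (z * x) = (⟨z, hz.1⟩ : C) • mkQ x := hsmul ⟨z, hz.1⟩ x
      rw [this]
      exact Submodule.smul_mem_smul hz Submodule.mem_top
    · intro x
      have : mkQ (0 * x) = 0 := by simp only [mkQ, zero_mul, map_zero]
      rw [this]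
      exact Submodule.zero_mem _
    · intro s t _ _ hs ht x
      have : mkQ ((s + t) * x) = mkQ (s * x) + mkQ (t * x) := by
        simp only [mkQ, add_mul, map_add]
      rw [this]
      exact Submodule.add_mem _ (hs x) (ht x)
    · intro r s _ hs x
      have : r • s * x = s * (r * x) := by rw [smul_eq_mul]; ring
      rw [this]
      exact hs (r * x)
  have hle : (⊤ : Submodule C Q) ≤ (zmtIdeal (A := A) B) • (⊤ : Submodule C Q) := by
    intro n _
    obtain ⟨n', rfl⟩ := Ideal.Quotient.mk_surjective n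
    obtain ⟨x, rfl⟩ := Ideal.Quotient.mk_surjective n'
    have h1 : (1 : B) ∈ Ideal.span (zmtSubmodule A B : Set B) ⊔
        (Ideal.span {1 - e}).comap (Ideal.Quotient.mk (I.map (algebraMap A B))) := by
      rw [span_zmtSubmodule_sup_eq_top I e he hfin]; trivial
    obtain ⟨s, hs, ι, hι, hsum⟩ := Submodule.mem_sup.mp h1
    have : mkQ x = mkQ (s * x) := by
      have hx : x = s * x + ι * x := by rw [← add_mul, hsum, one_mul]
      have h0 : mkQ (ι * x) = 0 := by
        simp only [mkQ]
        rw [Ideal.Quotient.eq_zero_iff_mem, map_mul]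
        exact Ideal.mul_mem_right _ _ hι
      have h2 : mkQ (s * x + ι * x) = mkQ (s * x) + mkQ (ι * x) := by
        simp only [mkQ, map_add]
      rw [← hx, h0, add_zero] at h2
      exact h2
    change mkQ x ∈ _
    rw [this]
    exact hkey s hs x
  obtain ⟨c, hc1, hc0⟩ := Submodule.exists_sub_one_mem_and_smul_eq_zero_of_fg_of_le_smul
    (zmtIdeal (A := A) B) (⊤ : Submodule C Q) (Module.Finite.fg_top) hle
  refine ⟨c, hc1, ?_⟩
  have := hc0 (mkQ 1) Submodule.mem_top
  rw [← hsmul, mul_one] at this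
  exact Ideal.Quotient.eq_zero_iff_mem.mp this

/-- multiplying an element of `I B` by a power of a ZMT element lands in `I B'`, with `B'` the
integral closure. -/
theorem exists_pow_mul_mem_map (u : B) (hu : u ∈ zmtSubmodule A B) :
    ∀ y ∈ I.map (algebraMap A B), ∃ k : ℕ,
      ∃ s ∈ I.map (algebraMap A (integralClosure A B)), (s : B) = u ^ k * y := by
  let u' : integralClosure A B := ⟨u, hu.1⟩
  intro y hy
  refine Submodule.span_induction ?_ ?_ ?_ ?_ hy
  · rintro _ ⟨a, ha, rfl⟩
    exact ⟨0, algebraMap A (integralClosure A B) a, Ideal.mem_map_of_mem _ ha,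
      by rw [pow_zero, one_mul]; rfl⟩
  · exact ⟨0, 0, zero_mem _, by simp⟩
  · rintro y z _ _ ⟨k, s, hs, hsy⟩ ⟨l, t, ht, htz⟩
    refine ⟨k + l, u' ^ l * s + u' ^ k * t,
      Ideal.add_mem _ (Ideal.mul_mem_left _ _ hs) (Ideal.mul_mem_left _ _ ht), ?_⟩
    change u ^ l * (s : B) + u ^ k * (t : B) = _
    rw [hsy, htz, pow_add]; ring
  · rintro r y _ ⟨k, s, hs, hsy⟩
    obtain ⟨m, hm⟩ := hu.2 r
    refine ⟨k + m, (⟨u ^ m * r, hm⟩ : integralClosure A B) * s, Ideal.mul_mem_left _ _ hs, ?_⟩
    change (u ^ m * r) * (s : B) = _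
    rw [hsy, pow_add, smul_eq_mul]; ring

/-- **Lifting an idempotent with finite part to the integral closure.** -/
theorem exists_idempotent_lift_integralClosure [Algebra.FiniteType A B] (he : IsIdempotentElem e)
    (hfin : Module.Finite (A ⧸ I) ((B ⧸ Ideal.map (algebraMap A B) I) ⧸ Ideal.span {1 - e})) :
    ∃ g : integralClosure A B,
      IsIdempotentElem (Ideal.Quotient.mk (Ideal.map (algebraMap A (integralClosure A B)) I) g) ∧
      Ideal.Quotient.mk (Ideal.map (algebraMap A B) I) (g : B) = e ∧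
      Function.Bijective (algebraMap (Localization.Away g)
        (Localization (Algebra.algebraMapSubmonoid B (Submonoid.powers g)))) := by
  have hfinA : Module.Finite A ((B ⧸ I.map (algebraMap A B)) ⧸ Ideal.span {1 - e}) :=
    Module.Finite.trans (A ⧸ I) _
  obtain ⟨c, hc1, hcK⟩ := exists_zmt_elem I e he hfinA
  obtain ⟨f, hf⟩ := Ideal.Quotient.mk_surjective e
  let C := integralClosure A B
  let u : C := 1 - c
  have huz : u ∈ zmtIdeal (A := A) B := by
    have := (zmtIdeal (A := A) B).neg_mem hc1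
    have h2 : -(c - 1) = u := by simp only [u]; ring
    rw [h2] at this
    exact this
  have hu : (u : B) ∈ zmtSubmodule A B := huz
  have huB : (u : B) = 1 - (c : B) := rfl
  have hcf : (c : B) * f ∈ I.map (algebraMap A B) := by
    obtain ⟨t, ht⟩ := Ideal.mem_span_singleton'.mp hcK
    rw [← Ideal.Quotient.eq_zero_iff_mem, map_mul, ← ht, hf, mul_assoc]
    have : (1 - e) * e = 0 := by rw [sub_mul, one_mul, he.eq, sub_self]
    rw [this, mul_zero]
  obtain ⟨m₀, hm₀⟩ := hu.2 f
  obtain ⟨k, s, hs, hsk⟩ := exists_pow_mul_mem_map I (u : B) hu _ hcf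
  let w : C := ⟨(u : B) ^ m₀ * f, hm₀⟩
  let g : C := u ^ (k + 1) * w
  have hgB : (g : B) = (u : B) ^ (k + 1) * ((u : B) ^ m₀ * f) := rfl
  have hgz : g ∈ zmtIdeal (A := A) B :=
    Ideal.mul_mem_right _ _ (Ideal.pow_mem_of_mem _ huz _ (Nat.succ_pos k))
  have hue : Ideal.Quotient.mk (I.map (algebraMap A B)) (u : B) * e = e := by
    rw [huB, map_sub, map_one, sub_mul, one_mul, ← hf, ← map_mul,
      Ideal.Quotient.eq_zero_iff_mem.mpr hcf, sub_zero]
  have hupow : ∀ n : ℕ, Ideal.Quotient.mk (I.map (algebraMap A B)) (u : B) ^ n * e = e := by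
    intro n
    induction n with
    | zero => rw [pow_zero, one_mul]
    | succ n ih => rw [pow_succ, mul_assoc, hue, ih]
  have hge : Ideal.Quotient.mk (I.map (algebraMap A B)) (g : B) = e := by
    rw [hgB, map_mul, map_mul, map_pow, map_pow, hf, hupow, hupow]
  have hcg : c * g ∈ I.map (algebraMap A C) := by
    have h : c * g = u ^ (m₀ + 1) * s := by
      apply Subtype.ext
      change (c : B) * ((u : B) ^ (k + 1) * ((u : B) ^ m₀ * f)) = (u : B) ^ (m₀ + 1) * (s : B)
      rw [hsk]; ring
    rw [h]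
    exact Ideal.mul_mem_left _ _ hs
  have hug : Ideal.Quotient.mk (I.map (algebraMap A C)) u *
      Ideal.Quotient.mk (I.map (algebraMap A C)) g = Ideal.Quotient.mk (I.map (algebraMap A C)) g := by
    have h0 : Ideal.Quotient.mk (I.map (algebraMap A C)) (c * g) = 0 :=
      Ideal.Quotient.eq_zero_iff_mem.mpr hcg
    change Ideal.Quotient.mk (I.map (algebraMap A C)) (1 - c) * _ = _
    rw [map_sub, map_one, sub_mul, one_mul, ← map_mul, h0, sub_zero]
  have hupg : ∀ n : ℕ, Ideal.Quotient.mk (I.map (algebraMap A C)) u ^ n *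
      Ideal.Quotient.mk (I.map (algebraMap A C)) g = Ideal.Quotient.mk (I.map (algebraMap A C)) g := by
    intro n
    induction n with
    | zero => rw [pow_zero, one_mul]
    | succ n ih => rw [pow_succ, mul_assoc, hug, ih]
  have hgg : (g : B) * g - g ∈ I.map (algebraMap A B) := by
    rw [← Ideal.Quotient.eq, map_mul, hge]
    exact he
  obtain ⟨k', s', hs', hsk'⟩ := exists_pow_mul_mem_map I (u : B) hu _ hgg
  have hidem : IsIdempotentElem (Ideal.Quotient.mk (I.map (algebraMap A C)) g) := by
    have h1 : u ^ k' * (g * g - g) = s' := Subtype.ext hsk'.symm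
    have h2 : Ideal.Quotient.mk (I.map (algebraMap A C)) (u ^ k' * (g * g - g)) = 0 := by
      rw [h1]
      exact Ideal.Quotient.eq_zero_iff_mem.mpr hs'
    rw [map_mul, map_sub, map_mul, map_pow, mul_sub, ← mul_assoc, hupg, sub_eq_zero] at h2
    exact h2
  refine ⟨g, hidem, hge, ?_, ?_⟩
  · exact localizationAlgebra_injective _ _ Subtype.val_injective
  · intro y
    obtain ⟨⟨b, ⟨t, ht⟩⟩, rfl⟩ :=
      IsLocalization.mk'_surjective (Algebra.algebraMapSubmonoid B (Submonoid.powers g)) y
    obtain ⟨g', hg', rfl⟩ := Submonoid.mem_map.mp ht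
    obtain ⟨n, rfl⟩ := hg'
    obtain ⟨j, hj⟩ := hgz.2 b
    refine ⟨IsLocalization.mk' _ (⟨(g : B) ^ j * b, hj⟩ : C)
      (⟨g ^ (n + j), n + j, rfl⟩ : Submonoid.powers g), ?_⟩
    rw [localizationAlgebraMap_def, IsLocalization.map_mk', IsLocalization.mk'_eq_iff_eq]
    congr 1
    change (g : B) ^ n * ((g : B) ^ j * b) = (g : B) ^ (n + j) * b
    rw [pow_add]; ring

end Split

end Groth.Agent.Lib.Helper58.ZMTSplit
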